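import Cfsg.Agent.Lib.Fusion.AlperinGroup
import Cfsg.Agent.S0131
import Cfsg.Prelude.Def_Transfer
import Mathlib.GroupTheory.Focal

/-!
Normal p-complements: basic API, Frobenius' criterion (via Alperin's fusion theorem and the focal
subgroup theorem).
-/

namespace CfsgLib.NPC

open scoped commutatorElement

universe u

variable {G : Type u} [Group G] {p : ℕ}

/-- `N` is a normal p-complement: normal, of order prime to `p`, with index a power of `p`. -/
def IsNPC (p : ℕ) (N : Subgroup G) : Prop :=
  N.Normal ∧ Nat.Coprime (Nat.card N) p ∧ ∃ k : ℕ, N.index = p ^ k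

variable [Finite G] [hp : Fact p.Prime]

theorem hasNormalPComplement_iff :
    Cfsg.HasNormalPComplement p G ↔ ∃ N : Subgroup G, IsNPC p N := by
  constructor
  · rintro ⟨P, N, hN, hc⟩
    obtain ⟨k, hk⟩ := IsPGroup.iff_card.1 P.isPGroup'
    refine ⟨N, hN, ?_, k, by rw [← hk, hc.symm.index_eq_card]⟩
    rw [← hc.index_eq_card, Nat.coprime_comm]
    exact (Nat.Prime.coprime_iff_not_dvd hp.out).2 P.not_dvd_index
  · rintro ⟨N, hN, hco, k, hk⟩
    obtain ⟨P⟩ : Nonempty (Sylow p G) := inferInstance
    refine ⟨P, N, hN, Subgroup.isComplement'_of_coprime ?_ ?_⟩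
    · have h1 := Subgroup.card_mul_index N
      rw [hk] at h1
      have h2 := Sylow.card_eq_multiplicity P
      have h3 : (Nat.card G).factorization p = k := by
        rw [← h1, Nat.factorization_mul Nat.card_pos.ne' (pow_ne_zero _ hp.out.ne_zero),
          Finsupp.add_apply, hp.out.factorization_pow, Finsupp.single_eq_same,
          Nat.factorization_eq_zero_of_not_dvd ((Nat.Prime.coprime_iff_not_dvd hp.out).1 hco.symm),
          zero_add]
      rw [h2, h3, ← h1]
    · obtain ⟨j, hj⟩ := IsPGroup.iff_card.1 P.isPGroup'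
      rw [hj]
      exact Nat.Coprime.pow_right j hco

/-- Elements of order prime to `p` lie in a normal subgroup of p-power index. -/
theorem mem_of_coprime {N : Subgroup G} [N.Normal] {k : ℕ} (hk : N.index = p ^ k) {g : G}
    (hg : Nat.Coprime (orderOf g) p) : g ∈ N := by
  obtain ⟨j, hj⟩ := exists_pow_eq_self_of_coprime (hg.symm.pow_left k)
  rw [← hj, ← hk]
  exact N.pow_mem (N.pow_index_mem g) j

theorem mem_iff_coprime {N : Subgroup G} (hN : IsNPC p N) {g : G} :
    g ∈ N ↔ Nat.Coprime (orderOf g) p := by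
  obtain ⟨hn, hco, k, hk⟩ := hN
  exact ⟨fun hg => hco.coprime_dvd_left (Subgroup.orderOf_dvd_natCard _ hg), fun hg => mem_of_coprime hk hg⟩

/-- A normal p-complement restricts to every subgroup. -/
theorem isNPC_subgroupOf {N : Subgroup G} (hN : IsNPC p N) (H : Subgroup G) :
    IsNPC p (N.subgroupOf H) := by
  obtain ⟨hn, hco, k, hk⟩ := hN
  refine ⟨inferInstance, ?_, ?_⟩
  · refine hco.coprime_dvd_left ?_
    rw [← Nat.card_congr ((N.subgroupOf H).equivMapOfInjective _ H.subtype_injective).toEquiv.symm,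
      Subgroup.subgroupOf_map_subtype]
    exact Subgroup.card_dvd_of_le inf_le_left
  · obtain ⟨j, _, hj⟩ := (Nat.dvd_prime_pow hp.out).1 (hk ▸ Subgroup.relIndex_dvd_index_of_normal N H)
    exact ⟨j, hj⟩

theorem hasNormalPComplement_subgroup (h : Cfsg.HasNormalPComplement p G) (H : Subgroup G) :
    Cfsg.HasNormalPComplement p H := by
  obtain ⟨N, hN⟩ := hasNormalPComplement_iff.1 h
  exact hasNormalPComplement_iff.2 ⟨_, isNPC_subgroupOf hN H⟩

theorem hasNormalPComplement_of_le {H K : Subgroup G} (hHK : H ≤ K)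
    (h : Cfsg.HasNormalPComplement p K) : Cfsg.HasNormalPComplement p H := by
  obtain ⟨N, hN⟩ := hasNormalPComplement_iff.1 (hasNormalPComplement_subgroup h (H.subgroupOf K))
  let e := Subgroup.subgroupOfEquivOfLe hHK
  refine hasNormalPComplement_iff.2 ⟨N.map e.toMonoidHom, hN.1.map _ e.surjective, ?_, ?_⟩
  · rw [Nat.card_congr (N.equivMapOfInjective _ e.injective).toEquiv.symm]; exact hN.2.1
  · obtain ⟨k, hk⟩ := hN.2.2
    exact ⟨k, by rw [← hk]; exact Subgroup.index_map_equiv N e⟩

/-- Transport along an isomorphism. -/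
theorem hasNormalPComplement_of_equiv {H : Type*} [Group H] [Finite H] (e : G ≃* H)
    (h : Cfsg.HasNormalPComplement p G) : Cfsg.HasNormalPComplement p H := by
  obtain ⟨N, hN, hco, k, hk⟩ := hasNormalPComplement_iff.1 h
  refine hasNormalPComplement_iff.2 ⟨N.map e.toMonoidHom, hN.map _ e.surjective, ?_, k, ?_⟩
  · rw [Nat.card_congr (N.equivMapOfInjective _ e.injective).toEquiv.symm]; exact hco
  · rw [← hk]; exact Subgroup.index_map_equiv N e

/-- Having a normal p-complement passes to quotients. -/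
theorem hasNormalPComplement_of_surjective {H : Type*} [Group H] [Finite H] (f : G →* H)
    (hf : Function.Surjective f) (h : Cfsg.HasNormalPComplement p G) :
    Cfsg.HasNormalPComplement p H := by
  obtain ⟨N, hN, hco, k, hk⟩ := hasNormalPComplement_iff.1 h
  obtain ⟨j, _, hj⟩ := (Nat.dvd_prime_pow hp.out).1 (hk ▸ Subgroup.index_map_dvd N hf)
  exact hasNormalPComplement_iff.2
    ⟨N.map f, hN.map _ hf, hco.coprime_dvd_left (Subgroup.card_map_dvd N f), j, hj⟩

/-- If a normal subgroup of p-power index has a normal p-complement, so does the group. -/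
theorem hasNormalPComplement_of_normal (M : Subgroup G) [M.Normal] {k : ℕ} (hk : M.index = p ^ k)
    (h : Cfsg.HasNormalPComplement p M) : Cfsg.HasNormalPComplement p G := by
  obtain ⟨N, hN⟩ := hasNormalPComplement_iff.1 h
  have hmem : ∀ g : G, g ∈ N.map M.subtype ↔ g ∈ M ∧ Nat.Coprime (orderOf g) p := by
    intro g
    constructor
    · rintro ⟨x, hx, rfl⟩
      exact ⟨x.2, by rw [Subgroup.coe_subtype, Subgroup.orderOf_coe]; exact (mem_iff_coprime hN).1 hx⟩
    · rintro ⟨hg, hc⟩
      exact ⟨⟨g, hg⟩, (mem_iff_coprime hN).2 (by rwa [← Subgroup.orderOf_coe]), rfl⟩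
  refine hasNormalPComplement_iff.2 ⟨N.map M.subtype, ⟨fun x hx g => ?_⟩, ?_, ?_⟩
  · rw [hmem] at hx ⊢
    refine ⟨‹M.Normal›.conj_mem x hx.1 g, ?_⟩
    rw [show g * x * g⁻¹ = MulAut.conj g x from (MulAut.conj_apply g x).symm, MulEquiv.orderOf_eq]
    exact hx.2
  · rw [Nat.card_congr (N.equivMapOfInjective _ M.subtype_injective).toEquiv.symm]; exact hN.2.1
  · obtain ⟨j, hj⟩ := hN.2.2
    exact ⟨j + k, by rw [Subgroup.index_map_subtype, hj, hk, pow_add]⟩

/-- If every p'-element normalizing a p-subgroup centralizes it, fusion in `P` is controlled by `P`. -/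
theorem exists_conj_of_criterion (P : Sylow p G)
    (h : ∀ Q : Subgroup G, Q ≤ (P : Subgroup G) → ∀ g ∈ Subgroup.normalizer (Q : Set G),
      Nat.Coprime (orderOf g) p → g ∈ Subgroup.centralizer (Q : Set G))
    (a g : G) (ha : a ∈ (P : Subgroup G)) (hag : g⁻¹ * a * g ∈ (P : Subgroup G)) :
    ∃ y ∈ (P : Subgroup G), y⁻¹ * a * y = g⁻¹ * a * g := by
  have hch := CfsgLib.AlperinGroup.alperin P {a} g (Set.singleton_subset_iff.2 ha) (by rw [Set.image_singleton]; exact Set.singleton_subset_iff.2 hag)
  clear hag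
  have main : ∀ (A : Set G) (g : G), CfsgLib.AlperinGroup.Chain P A g → A ⊆ (P : Set G) →
      ∀ a ∈ A, ∃ y ∈ (P : Subgroup G), y⁻¹ * a * y = g⁻¹ * a * g := by
    intro A g hch
    induction hch with
    | one A => intro _ a _; exact ⟨1, one_mem _, by simp⟩
    | cons A x k Q hA ht hx _ ih =>
      intro _ a haA
      set D := (P : Subgroup G) ⊓ (Q : Subgroup G) with hD
      set N := Subgroup.normalizer (D : Set G) with hN
      set S := (P : Subgroup G) ⊓ N with hS
      set C := Subgroup.centralizer (D : Set G) with hC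
      have hCN : C ≤ N := Subgroup.centralizer_le_normalizer _
      have hCn : (C.subgroupOf N).Normal := by
        refine ⟨fun c hc n => ?_⟩
        rw [Subgroup.mem_subgroupOf, hC, Subgroup.mem_centralizer_iff] at hc ⊢
        intro d hd
        have hd' : (n : G)⁻¹ * d * (n : G) ∈ D := by
          have := (Subgroup.mem_normalizer_iff.1 (inv_mem n.2) d).1 hd
          rwa [inv_inv] at this
        calc d * ((n : G) * (c : G) * (n : G)⁻¹)
            = (n : G) * (((n : G)⁻¹ * d * (n : G)) * (c : G)) * (n : G)⁻¹ := by group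
          _ = (n : G) * ((c : G) * ((n : G)⁻¹ * d * (n : G))) * (n : G)⁻¹ := by rw [hc _ hd']
          _ = ((n : G) * (c : G) * (n : G)⁻¹) * d := by group
      have hsup : C.subgroupOf N ⊔ S.subgroupOf N = ⊤ := by
        rw [← Subgroup.index_eq_one]
        have h1 : ¬ p ∣ (C.subgroupOf N ⊔ S.subgroupOf N).index := fun hd =>
          ht.1 (hd.trans (Subgroup.index_dvd_of_le le_sup_right))
        -- the quotient by the centralizer is a p-group
        have hq : IsPGroup p (N ⧸ C.subgroupOf N) := by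
          intro q
          obtain ⟨n, rfl⟩ := QuotientGroup.mk'_surjective _ q
          refine ⟨(orderOf n).factorization p, ?_⟩
          rw [← map_pow, QuotientGroup.mk'_apply, QuotientGroup.eq_one_iff, Subgroup.mem_subgroupOf]
          set e := p ^ (orderOf n).factorization p
          have hco : Nat.Coprime (orderOf (n ^ e)) p := by
            rw [orderOf_pow, Nat.gcd_eq_right (Nat.ordProj_dvd _ p)]
            exact (Nat.coprime_ordCompl hp.out (orderOf_pos n).ne').symm
          exact h D inf_le_left ((n ^ e : N) : G) (n ^ e : N).2 (by rwa [Subgroup.orderOf_coe])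
        obtain ⟨m, hm⟩ := IsPGroup.iff_card.1 hq
        obtain ⟨j, _, hj⟩ := (Nat.dvd_prime_pow hp.out).1
          ((Subgroup.index_dvd_of_le (le_sup_left : C.subgroupOf N ≤ C.subgroupOf N ⊔ S.subgroupOf N)).trans (dvd_of_eq hm))
        rcases Nat.eq_zero_or_pos j with h0 | h0
        · rw [hj, h0, pow_zero]
        · exact absurd (hj ▸ dvd_pow_self p h0.ne') h1
      obtain ⟨c, hc, s, hs, hcs⟩ := Subgroup.mem_sup_of_normal_left.1
        (hsup ▸ Subgroup.mem_top (⟨x, hx⟩ : N) : (⟨x, hx⟩ : N) ∈ C.subgroupOf N ⊔ S.subgroupOf N)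
      have hxeq : x = (c : G) * (s : G) := by
        have := congrArg Subtype.val hcs; simpa using this.symm
      have haD : a ∈ D := hA haA
      have hax : x⁻¹ * a * x = (s : G)⁻¹ * a * (s : G) := by
        have hca : a * (c : G) = (c : G) * a :=
          Subgroup.mem_centralizer_iff.1 (Subgroup.mem_subgroupOf.1 hc) a haD
        calc x⁻¹ * a * x = (s : G)⁻¹ * (c : G)⁻¹ * (a * (c : G)) * (s : G) := by rw [hxeq]; group
          _ = (s : G)⁻¹ * a * (s : G) := by rw [hca]; group
      have hsub : (fun a => x⁻¹ * a * x) '' A ⊆ (P : Set G) := by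
        rintro _ ⟨b, hb, rfl⟩
        have := (Subgroup.mem_normalizer_iff.1 (inv_mem hx) b).1 (hA hb)
        rw [inv_inv] at this
        exact this.1
      obtain ⟨y, hy, hye⟩ := ih hsub (x⁻¹ * a * x) ⟨a, haA, rfl⟩
      refine ⟨(s : G) * y, mul_mem (Subgroup.mem_subgroupOf.1 hs).1 hy, ?_⟩
      calc ((s : G) * y)⁻¹ * a * ((s : G) * y) = y⁻¹ * ((s : G)⁻¹ * a * (s : G)) * y := by group
        _ = k⁻¹ * (x⁻¹ * a * x) * k := by rw [← hax, hye]
        _ = (x * k)⁻¹ * a * (x * k) := by group
  exact main {a} g hch (Set.singleton_subset_iff.2 ha) a rfl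

omit [Finite G] hp in
theorem frobenius_criterion_aux (p : ℕ) [hp : Fact p.Prime] : ∀ (n : ℕ) (G : Type u) [Group G]
    [Finite G], Nat.card G = n →
    (∀ Q : Subgroup G, IsPGroup p Q → ∀ g ∈ Subgroup.normalizer (Q : Set G),
      Nat.Coprime (orderOf g) p → g ∈ Subgroup.centralizer (Q : Set G)) →
    Cfsg.HasNormalPComplement p G := by
  intro n
  induction n using Nat.strong_induction_on with
  | _ n ih =>
    intro G _ _ hn h
    obtain ⟨P⟩ : Nonempty (Sylow p G) := inferInstance
    by_cases hP : (P : Subgroup G) = ⊥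
    · refine hasNormalPComplement_iff.2 ⟨⊤, inferInstance, ?_, 0, by simp⟩
      rw [Subgroup.card_top, Nat.coprime_comm, Nat.Prime.coprime_iff_not_dvd hp.out,
        ← Subgroup.index_bot, ← hP]
      exact P.not_dvd_index
    have hfoc : commutator G ⊓ (P : Subgroup G) = ⁅(P : Subgroup G), (P : Subgroup G)⁆ := by
      rw [Subgroup.commutator_inf_eq_focalSubgroup]
      refine le_antisymm ?_ (Subgroup.commutator_le_focalSubgroup _)
      rw [Subgroup.focalSubgroup_def, Subgroup.closure_le]
      rintro _ ⟨hmem, x, hx, u, rfl⟩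
      have hconj : u * x⁻¹ * u⁻¹ ∈ (P : Subgroup G) := by
        have := mul_mem (inv_mem hx) hmem
        simpa [commutatorElement_def, mul_assoc] using this
      obtain ⟨y, hy, hye⟩ := exists_conj_of_criterion P
        (fun Q hQ => h Q (P.isPGroup'.to_le hQ)) x⁻¹ u⁻¹ (inv_mem hx) (by rwa [inv_inv])
      have he : ⁅x, u⁆ = ⁅x, y⁻¹⁆ := by
        rw [inv_inv] at hye
        calc ⁅x, u⁆ = x * (u * x⁻¹ * u⁻¹) := by rw [commutatorElement_def]; group
          _ = x * (y⁻¹ * x⁻¹ * y) := by rw [hye]
          _ = ⁅x, y⁻¹⁆ := by rw [commutatorElement_def]; group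
      rw [SetLike.mem_coe, he]
      exact Subgroup.commutator_mem_commutator hx (inv_mem hy)
    obtain ⟨M, hM, hMP, hsup⟩ := (Cfsg.Agent.S0131.result P).2 hfoc
    obtain ⟨k, hk⟩ : ∃ k, M.index = p ^ k := by
      have h1 : M.index ∣ Nat.card P := by
        have : M.relIndex (P : Subgroup G) = M.index := by
          rw [← Subgroup.relIndex_sup_right (H := (P : Subgroup G)) (K := M), sup_comm, hsup,
            Subgroup.relIndex_top_right]
        rw [← this]
        exact Subgroup.index_dvd_card _
      obtain ⟨e, he⟩ := IsPGroup.iff_card.1 P.isPGroup'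
      rw [he] at h1
      obtain ⟨j, _, hj⟩ := (Nat.dvd_prime_pow hp.out).1 h1
      exact ⟨j, hj⟩
    refine hasNormalPComplement_of_normal M hk (ih (Nat.card M) ?_ M rfl ?_)
    · rw [← hn]
      by_contra hge
      have hMtop : M = ⊤ := Subgroup.eq_top_of_le_card M (not_lt.1 hge)
      rw [hMtop, top_inf_eq] at hMP
      -- `P = P'` is impossible
      have hnt : Nontrivial (P : Subgroup G) := (Subgroup.nontrivial_iff_ne_bot _).2 hP
      have hsol : Group.IsNilpotent (P : Subgroup G) := P.isPGroup'.isNilpotent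
      have hPP : commutator (P : Subgroup G) = ⊤ := by
        apply Subgroup.map_injective (P : Subgroup G).subtype_injective
        rw [Subgroup.map_subtype_commutator, ← hMP, ← MonoidHom.range_eq_map, Subgroup.range_subtype]
      have hall : ∀ i, (⊤ : Subgroup (P : Subgroup G)).lowerCentralSeries i = ⊤ := by
        intro i
        induction i with
        | zero => rfl
        | succ i ihi => rw [Subgroup.lowerCentralSeries_succ, ihi, ← commutator_def, hPP]
      obtain ⟨i, hi⟩ := Subgroup.nilpotent_iff_lowerCentralSeries.1 hsol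
      exact bot_ne_top (hi.symm.trans (hall i))
    · intro Q hQ g hg hco
      have h1 := h (Q.map M.subtype) (hQ.map _) (g : G)
        (Subgroup.le_normalizer_map M.subtype (Subgroup.mem_map_of_mem _ hg))
        (by rwa [Subgroup.orderOf_coe])
      rw [Subgroup.mem_centralizer_iff] at h1 ⊢
      exact fun q hq => Subtype.ext (h1 q ⟨q, hq, rfl⟩)

/-- **Frobenius' criterion**: if every p'-element normalizing a p-subgroup centralizes it, there is
a normal p-complement. -/
theorem frobenius_criterion
    (h : ∀ Q : Subgroup G, IsPGroup p Q → ∀ g ∈ Subgroup.normalizer (Q : Set G),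
      Nat.Coprime (orderOf g) p → g ∈ Subgroup.centralizer (Q : Set G)) :
    Cfsg.HasNormalPComplement p G :=
  frobenius_criterion_aux p _ G rfl h

/-- A p'-element normalizing a p-subgroup `Q` centralizes it if `N(Q)` has a normal p-complement. -/
theorem mem_centralizer_of_hasNormalPComplement {Q : Subgroup G} (hQ : IsPGroup p Q)
    (h : Cfsg.HasNormalPComplement p (Subgroup.normalizer (Q : Set G))) {g : G}
    (hg : g ∈ Subgroup.normalizer (Q : Set G)) (hco : Nat.Coprime (orderOf g) p) :
    g ∈ Subgroup.centralizer (Q : Set G) := by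
  set N := Subgroup.normalizer (Q : Set G)
  obtain ⟨K, hK⟩ := hasNormalPComplement_iff.1 h
  have hgK : (⟨g, hg⟩ : N) ∈ K := (mem_iff_coprime hK).2 ((Subgroup.orderOf_coe (⟨g, hg⟩ : N)).symm ▸ hco)
  have hKn := hK.1
  have hQn : (Q.subgroupOf N).Normal :=
    (Subgroup.normal_subgroupOf_iff_le_normalizer Subgroup.le_normalizer).2 le_rfl
  rw [Subgroup.mem_centralizer_iff]
  intro q hq
  have hqQ : (⟨q, Subgroup.le_normalizer hq⟩ : N) ∈ Q.subgroupOf N := Subgroup.mem_subgroupOf.2 hq
  have hdis : K ⊓ Q.subgroupOf N = ⊥ := by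
    rw [← disjoint_iff, Subgroup.disjoint_def]
    intro z hzK hzQ
    obtain ⟨j, hj⟩ := hQ ⟨(z : G), Subgroup.mem_subgroupOf.1 hzQ⟩
    rw [← orderOf_eq_one_iff]
    refine Nat.eq_one_of_dvd_coprimes (Nat.Coprime.pow_right j ((mem_iff_coprime hK).1 hzK)) dvd_rfl
      (orderOf_dvd_of_pow_eq_one (Subtype.ext (by simpa using congrArg Subtype.val hj)))
  have := Subgroup.commute_of_normal_of_disjoint K (Q.subgroupOf N) hKn hQn (disjoint_iff.2 hdis) _ _ hgK hqQ
  exact (congrArg Subtype.val this.eq).symm

/-- Local form of Frobenius' criterion. -/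
theorem frobenius_local
    (h : ∀ Q : Subgroup G, IsPGroup p Q → Q ≠ ⊥ →
      Cfsg.HasNormalPComplement p (Subgroup.normalizer (Q : Set G))) :
    Cfsg.HasNormalPComplement p G := by
  refine frobenius_criterion fun Q hQ g hg hco => ?_
  by_cases hQb : Q = ⊥
  · subst hQb
    rw [Subgroup.mem_centralizer_iff]
    intro q hq
    rw [SetLike.mem_coe, Subgroup.mem_bot] at hq
    subst hq; simp
  · exact mem_centralizer_of_hasNormalPComplement hQ (h Q hQ hQb) hg hco

end CfsgLib.NPC
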