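import Cfsg.Agent.Lib.Fusion.SmallFix
import Cfsg.Agent.Lib.Transfer.Critical

/-!
Every finite `p`-group has a characteristic subgroup all of whose elements have order dividing `p`
(dividing `4` when `p = 2`) on which the coprime automorphisms act faithfully.
-/

set_option autoImplicit false

namespace CfsgLib.Fusion.SmallFix

open CfsgLib.Fusion.Stability
open scoped commutatorElement

universe u

theorem isSmall_mul_of_class_two {p : ℕ} [hp : Fact p.Prime] {H : Type*} [Group H]
    (hc : ∀ x y : H, ⁅y, x⁆ ∈ Subgroup.center H) (hpow : ∀ x : H, x ^ p ∈ Subgroup.center H)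
    {x y : H} (hx : IsSmall p x) (hy : IsSmall p y) : IsSmall p (x * y) := by
  have hcoll := CfsgLib.PGroup.mul_pow_collect x y 1 1 (one_mem _) (one_mem _)
    (by rw [one_mul, Subgroup.mem_center_iff.1 (hc x y) x])
    (by rw [one_mul, Subgroup.mem_center_iff.1 (hc x y) y])
  have hcp : ⁅y, x⁆ ^ p = 1 := by
    rw [← CfsgLib.PGroup.commutator_pow_left y x (Subgroup.mem_center_iff.1 (hc x y) y) p]
    exact commutatorElement_eq_one_iff_commute.2 (Subgroup.mem_center_iff.1 (hpow y) x).symm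
  rcases hp.out.eq_two_or_odd' with rfl | hodd
  · have h4 : ∀ z : H, IsSmall 2 z → z ^ 4 = 1 := by
      rintro z (h | ⟨-, h⟩)
      · rw [show (4 : ℕ) = 2 * 2 from rfl, pow_mul, h, one_pow]
      · exact h
    refine Or.inr ⟨rfl, ?_⟩
    rw [hcoll 4, h4 x hx, h4 y hy, show Nat.choose 4 2 = 2 * 3 from rfl, pow_mul, hcp]
    simp
  · have h1 : ∀ z : H, IsSmall p z → z ^ p = 1 := by
      rintro z (h | ⟨rfl, -⟩)
      · exact h
      · exact absurd hodd (by decide)
    obtain ⟨k, hk⟩ : p ∣ p.choose 2 := by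
      refine hp.out.dvd_choose_self (by norm_num) ?_
      rcases hodd with ⟨m, rfl⟩
      have := hp.out.two_le
      omega
    refine Or.inl ?_
    rw [hcoll p, h1 x hx, h1 y hy, hk, pow_mul, hcp]
    simp

theorem exists_small_characteristic {p : ℕ} [Fact p.Prime] {G : Type u} [Group G] [Finite G]
    (hG : IsPGroup p G) : ∃ D : Subgroup G, D.Characteristic ∧ (∀ x ∈ D, IsSmall p x) ∧
      ∀ a : MulAut G, (orderOf a).Coprime p → (∀ x ∈ D, a x = x) → a = 1 := by
  obtain ⟨H, hH, hΦ, hcomm, hcen⟩ := CfsgLib.Transfer.exists_critical hG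
  have hc : ∀ x y : H, ⁅y, x⁆ ∈ Subgroup.center H := fun x y => Subgroup.mem_center_iff.2 fun z =>
    Subtype.ext (Subgroup.mem_centralizer_iff.1
      (hcomm (Subgroup.commutator_mem_commutator y.2 (Subgroup.mem_top _))).2 z z.2)
  have hpow : ∀ x : H, x ^ p ∈ Subgroup.center H := fun x => Subgroup.mem_center_iff.2 fun z =>
    Subtype.ext (Subgroup.mem_centralizer_iff.1
      (hΦ ⟨_, CfsgLib.PGroup.pow_mem_frattini (hG.to_subgroup H) x, rfl⟩) z z.2)
  let D : Subgroup G :=
    { carrier := {x | x ∈ H ∧ IsSmall p x}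
      one_mem' := ⟨H.one_mem, Or.inl (one_pow p)⟩
      mul_mem' := by
        rintro x y ⟨hx, hxs⟩ ⟨hy, hys⟩
        exact ⟨H.mul_mem hx hy, isSmall_coe.2 (isSmall_mul_of_class_two hc hpow
          (isSmall_coe.1 (show IsSmall p ((⟨x, hx⟩ : H) : G) from hxs))
          (isSmall_coe.1 (show IsSmall p ((⟨y, hy⟩ : H) : G) from hys)))⟩
      inv_mem' := by
        rintro x ⟨hx, hxs⟩
        exact ⟨H.inv_mem hx, by simpa [IsSmall, inv_pow, inv_eq_one] using hxs⟩ }
  refine ⟨D, Subgroup.characteristic_iff_le_comap.2 fun e x hx =>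
    ⟨Subgroup.characteristic_iff_le_comap.1 hH e hx.1, isSmall_map e.toMonoidHom hx.2⟩,
    fun x hx => hx.2, fun a ha hfix => ?_⟩
  have hfixH : ∀ x ∈ H, a x = x :=
    fix_of_fix_small hG a ha H (fun x hx => Subgroup.characteristic_iff_le_comap.1 hH a hx)
      fun x hx hs => hfix x ⟨hx, hs⟩
  refine MulEquiv.ext fun x => eq_self_of_disp_fixed hG a ha (hfixH _ (hcen ?_))
  refine Subgroup.mem_centralizer_iff.2 fun h hh => ?_
  have hmem : x * h * x⁻¹ ∈ H := (Subgroup.normal_of_characteristic H).conj_mem h hh x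
  have h1 := hfixH _ hmem
  rw [map_mul, map_mul, map_inv, hfixH h hh] at h1
  show h * (x⁻¹ * a x) = x⁻¹ * a x * h
  calc h * (x⁻¹ * a x) = x⁻¹ * (x * h * x⁻¹) * a x := by simp [mul_assoc]
    _ = x⁻¹ * (a x * h * (a x)⁻¹) * a x := by rw [h1]
    _ = _ := by simp [mul_assoc]

end CfsgLib.Fusion.SmallFix
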