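import Mathlib.GroupTheory.Sylow
import Mathlib.GroupTheory.GroupAction.ConjAct
import Mathlib.Algebra.Group.Hom.End
import Mathlib.GroupTheory.Commutator.Basic
import Mathlib.Tactic.NoncommRing
import Mathlib.Tactic.Group
import Mathlib.Tactic.Abel

/-!
A quadratically acting element centralizes an abelian p'-group of automorphisms it normalizes
(p odd).
-/

namespace CfsgLib.QuadAbelian

open scoped commutatorElement IsMulCommutative

section Ring

variable {R : Type*} [Ring R] {p : ℕ}

theorem two_mul_cancel (hp : Odd p) (hR : (p : R) = 0) {a : R} (h : a + a = 0) : a = 0 := by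
  obtain ⟨j, hj⟩ := hp
  have hj' : (j : R) + j = -1 := by
    have : ((2 * j + 1 : ℕ) : R) = 0 := by rw [← hj]; exact hR
    push_cast at this
    rw [two_mul] at this
    exact eq_neg_of_add_eq_zero_left this
  have h1 : (j : R) * (a + a) = 0 := by rw [h, mul_zero]
  rw [mul_add, ← add_mul, hj', neg_one_mul, neg_eq_zero] at h1
  exact h1

/-- The key computation: a quadratic unit commutes with `k` if `k` commutes with its conjugates by
that unit and the commutator has order prime to `p`. -/
theorem units_commute (hp : Odd p) (hR : (p : R) = 0) (x k : Rˣ)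
    (hx : ((x : R) - 1) * ((x : R) - 1) = 0) (h1 : Commute k (x * k * x⁻¹))
    (h2 : Commute k (x⁻¹ * k * x)) (m : ℕ) (hm : Nat.Coprime m p)
    (hy : (x * k * x⁻¹ * k⁻¹) ^ m = 1) : x * k = k * x := by
  set n : R := (x : R) - 1 with hn
  have hxv : (x : R) = 1 + n := by rw [hn]; abel
  have hxi : ((x⁻¹ : Rˣ) : R) = 1 - n := by
    refine (Units.mul_right_inj x).1 ?_
    rw [Units.mul_inv, hxv]
    calc (1 : R) = 1 - n * n := by rw [hx, sub_zero]
      _ = (1 + n) * (1 - n) := by noncomm_ring
  clear_value n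
  set c : R := n * k - k * n with hc
  clear_value c
  have e1 : ((x * k * x⁻¹ : Rˣ) : R) = k + (c - n * k * n) := by
    rw [Units.val_mul, Units.val_mul, hxi, hxv, hc]; noncomm_ring
  have e2 : ((x⁻¹ * k * x : Rˣ) : R) = k - (c + n * k * n) := by
    rw [Units.val_mul, Units.val_mul, hxi, hxv, hc]; noncomm_ring
  have f1 : (k : R) * (c - n * k * n) = (c - n * k * n) * k := by
    have := congrArg Units.val h1.eq
    rw [Units.val_mul (k : Rˣ), Units.val_mul _ k, e1, mul_add, add_mul] at this
    exact add_left_cancel this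
  have f2 : (k : R) * (c + n * k * n) = (c + n * k * n) * k := by
    have := congrArg Units.val h2.eq
    rw [Units.val_mul (k : Rˣ), Units.val_mul _ k, e2, mul_sub, sub_mul, sub_right_inj] at this
    exact this
  have hkc : (k : R) * c = c * k := by
    rw [← sub_eq_zero]
    apply two_mul_cancel hp hR
    calc ((k : R) * c - c * k) + ((k : R) * c - c * k)
        = ((k : R) * (c - n * k * n) - (c - n * k * n) * k) +
          ((k : R) * (c + n * k * n) - (c + n * k * n) * k) := by noncomm_ring
      _ = 0 := by rw [f1, f2, sub_self, sub_self, add_zero]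
  have hkk : n * (k : R) * k = (k : R) * n * k + (k : R) * n * k - k * k * n := by
    have : (k : R) * (n * k - k * n) = (n * k - k * n) * k := by rw [← hc]; exact hkc
    calc n * (k : R) * k = (n * k - k * n) * k + (k : R) * n * k := by noncomm_ring
      _ = (k : R) * (n * k - k * n) + (k : R) * n * k := by rw [this]
      _ = _ := by noncomm_ring
  have hc2 : c * c = 0 := by
    apply two_mul_cancel hp hR
    have a1 : n * (k : R) * k * n = (k : R) * n * k * n + (k : R) * n * k * n := by
      calc n * (k : R) * k * n = ((k : R) * n * k + (k : R) * n * k - k * k * n) * n := by rw [hkk]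
        _ = (k : R) * n * k * n + (k : R) * n * k * n - k * k * (n * n) := by noncomm_ring
        _ = _ := by rw [hx, mul_zero, sub_zero]
    have a2 : n * (k : R) * k * n = n * k * n * k + n * k * n * k := by
      have : n * (n * (k : R) * k) = n * ((k : R) * n * k + (k : R) * n * k - k * k * n) := by rw [hkk]
      have h0 : n * (n * (k : R) * k) = 0 := by
        rw [← mul_assoc, ← mul_assoc, hx, zero_mul, zero_mul]
      rw [h0] at this
      calc n * (k : R) * k * n = n * (k : R) * k * n + n * ((k : R) * n * k + (k : R) * n * k - k * k * n) := by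
            rw [← this, add_zero]
        _ = _ := by noncomm_ring
    calc c * c + c * c = (n * k * n * k + n * k * n * k) + ((k : R) * n * k * n + (k : R) * n * k * n)
          - (n * k * k * n + n * k * k * n) - ((k : R) * (n * n) * k + (k : R) * (n * n) * k) := by
          rw [hc]; noncomm_ring
      _ = 0 := by rw [hx, ← a2, ← a1]; simp
  have hcn : c * n = n * k * n := by
    rw [hc, sub_mul, mul_assoc (k : R) n n, hx, mul_zero, sub_zero]
  have hnc : n * c = - (n * k * n) := by
    rw [hc, mul_sub, ← mul_assoc, hx, zero_mul, zero_sub, mul_assoc]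
  set M : R := c - n * k * n with hM
  clear_value M
  have hM2 : M * M = 0 := by
    have b1 : c * (n * k * n) = 0 := by rw [← hcn, ← mul_assoc, hc2, zero_mul]
    have b2 : (n * k * n) * c = 0 := by
      rw [← neg_eq_zero, ← neg_mul, ← hnc, mul_assoc, hc2, mul_zero]
    have b3 : (n * k * n) * (n * k * n) = 0 := by
      calc (n * k * n) * (n * k * n) = n * k * (n * n) * (k * n) := by noncomm_ring
        _ = 0 := by rw [hx]; simp
    rw [hM, sub_mul, mul_sub, mul_sub, hc2, b1, b2, b3]; simp
  set y : Rˣ := x * k * x⁻¹ * k⁻¹ with hydef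
  set N : R := M * ((k⁻¹ : Rˣ) : R) with hNdef
  have hN2 : N * N = 0 := by
    have hcom : ((k⁻¹ : Rˣ) : R) * M = M * ((k⁻¹ : Rˣ) : R) :=
      ((show Commute (k : R) M from f1).units_inv_left).eq
    calc N * N = M * (((k⁻¹ : Rˣ) : R) * M) * ((k⁻¹ : Rˣ) : R) := by rw [hNdef]; simp only [mul_assoc]
      _ = M * M * (((k⁻¹ : Rˣ) : R) * ((k⁻¹ : Rˣ) : R)) := by rw [hcom]; simp only [mul_assoc]
      _ = 0 := by rw [hM2, zero_mul]
  have hyv : (y : R) = 1 + N := by
    rw [hydef, Units.val_mul (x * k * x⁻¹), e1, add_mul, Units.mul_inv, hNdef, hM]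
  have hpow : ∀ j : ℕ, (y : R) ^ j = 1 + (j : R) * N := by
    intro j
    induction j with
    | zero => simp
    | succ j ih =>
      rw [pow_succ, ih, hyv, Nat.cast_succ]
      calc (1 + (j : R) * N) * (1 + N) = 1 + ((j : R) + 1) * N + (j : R) * (N * N) := by noncomm_ring
        _ = _ := by rw [hN2, mul_zero, add_zero]
  have hyp : y ^ p = 1 := by
    apply Units.ext
    rw [Units.val_pow_eq_pow_val, hpow, hR, zero_mul, add_zero, Units.val_one]
  have hy1 : y = 1 := by
    rw [← orderOf_eq_one_iff]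
    exact Nat.eq_one_of_dvd_coprimes hm (orderOf_dvd_of_pow_eq_one hy) (orderOf_dvd_of_pow_eq_one hyp)
  rwa [hydef, mul_inv_eq_one, mul_inv_eq_iff_eq_mul] at hy1

end Ring

/-- Automorphisms of an abelian group as endomorphisms of the additive group. -/
def toAddEnd (V : Type*) [CommGroup V] : MulAut V →* AddMonoid.End (Additive V) where
  toFun a := MonoidHom.toAdditive a.toMonoidHom
  map_one' := rfl
  map_mul' _ _ := rfl

theorem toAddEnd_injective (V : Type*) [CommGroup V] : Function.Injective (toAddEnd V) := by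
  intro a b h
  ext v
  exact congrArg (fun f : AddMonoid.End (Additive V) => Additive.toMul (f (Additive.ofMul v))) h

/-- A quadratic automorphism of an elementary abelian p-group (p odd) commutes with `k` provided
`k` commutes with its conjugates and the commutator has order prime to `p`. -/
theorem mulAut_commute {V : Type*} [CommGroup V] {p : ℕ} (hp : Odd p) (hV : ∀ v : V, v ^ p = 1)
    (x k : MulAut V) (hq : ∀ v : V, x (x v * v⁻¹) = x v * v⁻¹)
    (h1 : Commute k (x * k * x⁻¹)) (h2 : Commute k (x⁻¹ * k * x)) (m : ℕ) (hm : Nat.Coprime m p)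
    (hy : (x * k * x⁻¹ * k⁻¹) ^ m = 1) : x * k = k * x := by
  let ψ : MulAut V →* (AddMonoid.End (Additive V))ˣ := (toAddEnd V).toHomUnits
  have hval : ∀ (a : MulAut V) (v : V),
      Additive.toMul ((ψ a : AddMonoid.End (Additive V)) (Additive.ofMul v)) = a v := fun _ _ => rfl
  have hR : (p : AddMonoid.End (Additive V)) = 0 := by
    refine AddMonoidHom.ext fun v => ?_
    rw [← nsmul_one]
    show p • v = 0
    exact hV (Additive.toMul v)
  have hq' : ((ψ x : AddMonoid.End (Additive V)) - 1) * ((ψ x : AddMonoid.End (Additive V)) - 1) = 0 := by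
    refine AddMonoidHom.ext fun v => ?_
    show Additive.ofMul (x (x (Additive.toMul v) / Additive.toMul v) / (x (Additive.toMul v) / Additive.toMul v)) = 0
    rw [div_eq_mul_inv (x (Additive.toMul v)), hq, div_self']
    rfl
  have := units_commute hp hR (ψ x) (ψ k) hq' (by rw [← map_inv, ← map_mul, ← map_mul]; exact h1.map ψ)
    (by rw [← map_inv, ← map_mul, ← map_mul]; exact h2.map ψ) m hm
    (by rw [← map_inv, ← map_inv, ← map_mul, ← map_mul, ← map_mul, ← map_pow, hy, map_one])
  rw [← map_mul, ← map_mul] at this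
  exact toAddEnd_injective V (congrArg Units.val this)

variable {G : Type*} [Group G]

/-- Group form: if `a` acts quadratically on the elementary abelian section `V / W` on which `Q`
acts trivially, and `K / Q` is an abelian p'-group normalized by `a`, then `⁅a, k⁆` acts trivially
on `V / W` for all `k ∈ K`. -/
theorem commutator_acts_trivially {p : ℕ} (hp : Odd p) {Q K V W : Subgroup G} [K.Normal] [W.Normal]
    [V.Normal] {m : ℕ} (hm : Nat.Coprime m p) (hKm : ∀ k ∈ K, k ^ m ∈ Q)
    (hKab : ∀ k ∈ K, ∀ l ∈ K, ⁅k, l⁆ ∈ Q)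
    (hVab : ∀ u ∈ V, ∀ v ∈ V, ⁅u, v⁆ ∈ W) (hVp : ∀ v ∈ V, v ^ p ∈ W)
    (hQV : ∀ q ∈ Q, ∀ v ∈ V, ⁅q, v⁆ ∈ W) {a : G}
    (ha : ∀ v ∈ V, ⁅a, ⁅a, v⁆⁆ ∈ W) {k : G} (hk : k ∈ K) :
    ∀ v ∈ V, ⁅⁅a, k⁆, v⁆ ∈ W := by
  set π := QuotientGroup.mk' W
  set V' := V.map π with hV'
  have hV'n : V'.Normal := ‹V.Normal›.map _ (QuotientGroup.mk'_surjective W)
  have hW : ∀ g : G, g ∈ W → π g = 1 := fun g hg => (QuotientGroup.eq_one_iff g).2 hg
  have hcomm : IsMulCommutative V' := by
    refine IsMulCommutative.of_setLike_mul_comm ?_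
    rintro _ ⟨u, hu, rfl⟩ _ ⟨v, hv, rfl⟩
    rw [← commutatorElement_eq_one_iff_mul_comm, ← map_commutatorElement]
    exact hW _ (hVab u hu v hv)
  let ρ : G →* MulAut V' := (MulAut.conjNormal (H := V')).comp π
  have hρ : ∀ (g : G) (v : V'), ((ρ g v : V') : G ⧸ W) = π g * v * (π g)⁻¹ := fun g v => by
    simp [ρ, MulAut.conjNormal_apply]
  have hker : ∀ g : G, (∀ v ∈ V, ⁅g, v⁆ ∈ W) ↔ ρ g = 1 := by
    intro g
    constructor
    · intro h
      ext ⟨v', v, hv, rfl⟩
      rw [hρ, MulAut.one_apply]
      show π g * π v * (π g)⁻¹ = π v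
      rw [← mul_inv_eq_one, ← map_inv, ← map_inv, ← map_mul, ← map_mul, ← map_mul]
      exact hW _ (h v hv)
    · intro h v hv
      have h1 := hρ g ⟨π v, v, hv, rfl⟩
      rw [h, MulAut.one_apply] at h1
      rw [← QuotientGroup.eq_one_iff, ← QuotientGroup.mk'_apply (N := W), commutatorElement_def,
        map_mul, map_mul, map_mul, map_inv, map_inv, mul_inv_eq_one]
      exact h1.symm
  have hρQ : ∀ q ∈ Q, ρ q = 1 := fun q hq => (hker q).1 (hQV q hq)
  have hKc : ∀ u ∈ K, ∀ l ∈ K, Commute (ρ u) (ρ l) := fun u hu l hl => by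
    show ρ u * ρ l = ρ l * ρ u
    rw [← commutatorElement_eq_one_iff_mul_comm, ← map_commutatorElement]
    exact hρQ _ (hKab u hu l hl)
  have hKn := ‹K.Normal›
  have hyK : a * k * a⁻¹ * k⁻¹ ∈ K := mul_mem (hKn.conj_mem k hk a) (inv_mem hk)
  refine (hker _).2 ?_
  rw [map_commutatorElement, commutatorElement_eq_one_iff_mul_comm]
  refine mulAut_commute hp ?_ (ρ a) (ρ k) ?_ ?_ ?_ m hm ?_
  · rintro ⟨v', v, hv, rfl⟩
    apply Subtype.ext
    show (π v) ^ p = 1
    rw [← map_pow]
    exact hW _ (hVp v hv)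
  · rintro ⟨v', v, hv, rfl⟩
    apply Subtype.ext
    have hd : π a * π v * (π a)⁻¹ * (π v)⁻¹ = π ⁅a, v⁆ := by
      rw [map_commutatorElement, commutatorElement_def]
    rw [hρ, Subgroup.coe_mul, hρ, Subgroup.coe_inv]
    show π a * (π a * π v * (π a)⁻¹ * (π v)⁻¹) * (π a)⁻¹ = π a * π v * (π a)⁻¹ * (π v)⁻¹
    rw [hd, ← mul_inv_eq_one, ← map_inv, ← map_inv, ← map_mul, ← map_mul, ← map_mul]
    exact hW _ (ha v hv)
  · rw [← map_inv, ← map_mul, ← map_mul]
    exact hKc k hk _ (hKn.conj_mem k hk a)
  · rw [← map_inv, ← map_mul, ← map_mul]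
    exact hKc k hk _ (by simpa using hKn.conj_mem k hk a⁻¹)
  · rw [← map_inv, ← map_inv, ← map_mul, ← map_mul, ← map_mul, ← map_pow]
    exact hρQ _ (hKm _ hyK)

end CfsgLib.QuadAbelian
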