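import Cfsg.Agent.Lib.PLocal.Families
import Cfsg.Agent.Lib.PGroup.Basic
import Cfsg.Agent.Lib.PGroup.PowerMap
import Mathlib.GroupTheory.Sylow

/-!
The heart of Glauberman's ZJ theorem, for the FULL centre of the subgroup generated by the abelian
(`e = 0`) or elementary abelian (`e = p`) subgroups of largest order of a Sylow p-subgroup:
under a p-stability hypothesis its intersection with every normal p-subgroup is normal.
-/

namespace CfsgLib.ZJCenter

open CfsgLib.PLoc
open scoped commutatorElement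

variable {G : Type*} [Group G] {p : ℕ}

/-- `Z(J_e(P))`, as a subgroup of `G`. -/
def zj (e : ℕ) (P : Subgroup G) : Subgroup G :=
  joinMaxAb e P ⊓ Subgroup.centralizer (joinMaxAb e P : Set G)

/-- The p-stability condition needed for the ZJ theorem. -/
def Stable (p : ℕ) (P : Subgroup G) : Prop :=
  ∀ B : Subgroup G, B.Normal → B ≤ P → (∀ b ∈ B, b ^ p = 1) → ∀ a ∈ P,
    (∀ b ∈ B, ⁅a, ⁅a, b⁆⁆ = 1) → ∃ K : Subgroup G, K.Normal ∧ a ∈ K ∧
      ∀ k ∈ K, ∃ j : ℕ, k ^ p ^ j ∈ Subgroup.centralizer (B : Set G)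

theorem isMaxAb_map {H : Type*} [Group H] {f : G →* H} (hf : Function.Injective f) {e : ℕ}
    {D A : Subgroup G} (hA : IsMaxAb e D A) : IsMaxAb e (D.map f) (A.map f) := by
  have := hA.comm
  refine ⟨Subgroup.map_mono hA.le, Subgroup.map_isMulCommutative A (f := f), ?_, fun B hB hBc hBe => ?_⟩
  · rintro _ ⟨a, ha, rfl⟩
    rw [← map_pow, hA.exp a ha, map_one]
  · haveI := hBc
    have hBr : B ≤ f.range := hB.trans (MonoidHom.range_eq_map f ▸ Subgroup.map_mono le_top)
    have hB' : (B.comap f).map f = B := Subgroup.map_comap_eq_self hBr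
    rw [← hB', Subgroup.card_map_of_injective hf, Subgroup.card_map_of_injective hf]
    refine hA.max _ ((Subgroup.comap_mono hB).trans (Subgroup.comap_map_eq_self_of_injective hf D).le) ?_
      fun a ha => hf (by rw [map_pow, map_one]; exact hBe _ ha)
    refine IsMulCommutative.of_setLike_mul_comm fun a ha b hb => hf ?_
    rw [map_mul, map_mul]
    exact setLike_mul_comm (s := B) ha hb

theorem isMaxAb_of_map {H : Type*} [Group H] {f : G →* H} (hf : Function.Injective f) {e : ℕ}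
    {D A : Subgroup G} (hA : IsMaxAb e (D.map f) (A.map f)) : IsMaxAb e D A := by
  have := hA.comm
  refine ⟨(Subgroup.map_le_map_iff_of_injective hf).1 hA.le, ?_, ?_, fun B hB hBc hBe => ?_⟩
  · refine IsMulCommutative.of_setLike_mul_comm fun a ha b hb => hf ?_
    rw [map_mul, map_mul]
    exact setLike_mul_comm (s := A.map f) (Subgroup.mem_map_of_mem f ha) (Subgroup.mem_map_of_mem f hb)
  · intro a ha
    exact hf (by rw [map_pow, map_one]; exact hA.exp _ (Subgroup.mem_map_of_mem f ha))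
  · haveI := hBc
    rw [← Subgroup.card_map_of_injective hf, ← Subgroup.card_map_of_injective hf]
    refine hA.max _ (Subgroup.map_mono hB) (Subgroup.map_isMulCommutative B (f := f)) ?_
    rintro _ ⟨b, hb, rfl⟩
    rw [← map_pow, hBe b hb, map_one]

theorem joinMaxAb_map {H : Type*} [Group H] {f : G →* H} (hf : Function.Injective f) (e : ℕ)
    (D : Subgroup G) : (joinMaxAb e D).map f = joinMaxAb e (D.map f) := by
  rw [joinMaxAb, (Subgroup.gc_map_comap f).l_sSup, joinMaxAb]
  refine le_antisymm (iSup₂_le fun A hA => le_sSup (isMaxAb_map hf hA)) (sSup_le fun B hB => ?_)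
  have hBr : B ≤ f.range := hB.le.trans (MonoidHom.range_eq_map f ▸ Subgroup.map_mono le_top)
  have hB' : (B.comap f).map f = B := Subgroup.map_comap_eq_self hBr
  rw [← hB']
  exact le_iSup₂_of_le (B.comap f) (isMaxAb_of_map hf (hB'.symm ▸ hB)) le_rfl

theorem centralizer_map_inf {H : Type*} [Group H] {f : G →* H} (hf : Function.Injective f)
    (A : Subgroup G) : (A ⊓ Subgroup.centralizer (A : Set G)).map f =
      A.map f ⊓ Subgroup.centralizer (A.map f : Set H) := by
  ext x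
  constructor
  · rintro ⟨a, ⟨ha, hc⟩, rfl⟩
    refine ⟨Subgroup.mem_map_of_mem f ha, Subgroup.mem_centralizer_iff.2 ?_⟩
    rintro _ ⟨b, hb, rfl⟩
    rw [← map_mul, ← map_mul, Subgroup.mem_centralizer_iff.1 hc b hb]
  · rintro ⟨⟨a, ha, rfl⟩, hc⟩
    refine ⟨a, ⟨ha, Subgroup.mem_centralizer_iff.2 fun b hb => hf ?_⟩, rfl⟩
    rw [map_mul, map_mul]
    exact Subgroup.mem_centralizer_iff.1 hc _ (Subgroup.mem_map_of_mem f hb)

theorem zj_map {H : Type*} [Group H] {f : G →* H} (hf : Function.Injective f) (e : ℕ)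
    (D : Subgroup G) : (zj e D).map f = zj e (D.map f) := by
  rw [zj, centralizer_map_inf hf, joinMaxAb_map hf, zj]

theorem zj_le (e : ℕ) (D : Subgroup G) : zj e D ≤ D := inf_le_left.trans (joinMaxAb_le e D)

theorem mem_normalizer_of_conj_eq {W : Subgroup G} {g : G}
    (h : W.map (MulAut.conj g).toMonoidHom = W) : g ∈ Subgroup.normalizer (W : Set G) := by
  rw [Subgroup.mem_normalizer_iff]
  intro x
  constructor
  · intro hx
    rw [← h]
    exact ⟨x, hx, rfl⟩
  · intro hx
    rw [← h] at hx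
    obtain ⟨y, hy, hyx⟩ := hx
    rwa [← (MulAut.conj g).injective hyx]

theorem conj_eq_of_mem_normalizer {W : Subgroup G} {g : G}
    (h : g ∈ Subgroup.normalizer (W : Set G)) : W.map (MulAut.conj g).toMonoidHom = W := by
  ext x
  constructor
  · rintro ⟨y, hy, rfl⟩
    exact (Subgroup.mem_normalizer_iff.1 h y).1 hy
  · intro hx
    refine ⟨g⁻¹ * x * g, ?_, by simp [mul_assoc]⟩
    have := (Subgroup.mem_normalizer_iff.1 (inv_mem h) x).1 hx
    rwa [inv_inv] at this

theorem normalizer_le_normalizer_zj (e : ℕ) (D : Subgroup G) :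
    Subgroup.normalizer (D : Set G) ≤ Subgroup.normalizer (zj e D : Set G) := fun g hg => by
  apply mem_normalizer_of_conj_eq
  rw [zj_map (MulAut.conj g).injective, conj_eq_of_mem_normalizer hg]

variable [Finite G] [hp : Fact p.Prime]

theorem zj_ne_bot {e : ℕ} (he : e = 0 ∨ e = p) {D : Subgroup G} (hD : IsPGroup p D) (hne : D ≠ ⊥) :
    zj e D ≠ ⊥ := by
  have : Nontrivial D := (Subgroup.nontrivial_iff_ne_bot D).2 hne
  obtain ⟨z, hz, hzc, hzo⟩ := CfsgLib.PGroup.exists_central_orderOf_eq hD (⊤ : Subgroup D) top_ne_bot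
  have hze : (z : G) ^ e = 1 := by
    rcases he with rfl | rfl
    · exact pow_zero _
    · rw [← Subgroup.coe_pow, orderOf_dvd_iff_pow_eq_one.1 hzo.dvd, Subgroup.coe_one]
  obtain ⟨A, hA⟩ := exists_isMaxAb e D
  have hzcomm : ∀ a ∈ D, a * (z : G) = (z : G) * a := fun a ha =>
    congrArg Subtype.val (Subgroup.mem_center_iff.1 hzc ⟨a, ha⟩)
  intro h
  have hmem : (z : G) ∈ zj e D :=
    ⟨le_joinMaxAb hA (mem_of_commute hA z.2 hze fun a ha => hzcomm a (hA.le ha)),
      Subgroup.mem_centralizer_iff.2 fun a ha => hzcomm a (joinMaxAb_le e D ha)⟩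
  rw [h, Subgroup.mem_bot] at hmem
  rw [Subtype.ext (a1 := z) (a2 := 1) (by simpa using hmem), orderOf_one] at hzo
  exact hp.out.ne_one hzo.symm

/-- A normal subgroup which is a p-group modulo a normal subgroup `C` is covered by `C` and its
intersection with a Sylow p-subgroup. -/
theorem le_sup_sylow_inf (P : Sylow p G) (N C : Subgroup G) [N.Normal] [C.Normal]
    (h : ∀ k ∈ N, ∃ j : ℕ, k ^ p ^ j ∈ C) : N ≤ C ⊔ ((P : Subgroup G) ⊓ N) := by
  set M : Subgroup N := C.subgroupOf N ⊔ ((P : Subgroup G) ⊓ N).subgroupOf N with hM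
  suffices hM1 : M = ⊤ by
    intro k hk
    have hk' : (⟨k, hk⟩ : N) ∈ M := hM1 ▸ Subgroup.mem_top _
    obtain ⟨c, hc, s, hs, hcs⟩ := Subgroup.mem_sup_of_normal_left.1 hk'
    have : k = (c : G) * (s : G) := (congrArg Subtype.val hcs).symm
    rw [this]
    exact Subgroup.mul_mem_sup hc hs
  rw [← Subgroup.index_eq_one]
  have h1 : ¬ p ∣ M.index := by
    intro hd
    apply P.not_dvd_index
    have h2 := hd.trans (Subgroup.index_dvd_of_le (le_sup_right : _ ≤ M))
    rw [Subgroup.inf_subgroupOf_right] at h2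
    exact h2.trans (CfsgLib.PGroup.relIndex_dvd_index_normal_right (P : Subgroup G) N)
  have hq : IsPGroup p (N ⧸ C.subgroupOf N) := by
    intro q
    obtain ⟨n, rfl⟩ := QuotientGroup.mk'_surjective _ q
    obtain ⟨j, hj⟩ := h n n.2
    refine ⟨j, ?_⟩
    rw [← map_pow, QuotientGroup.mk'_apply, QuotientGroup.eq_one_iff, Subgroup.mem_subgroupOf]
    exact hj
  obtain ⟨i, hi⟩ := IsPGroup.iff_card.1 hq
  obtain ⟨j, _, hj⟩ := (Nat.dvd_prime_pow hp.out).1
    ((Subgroup.index_dvd_of_le (le_sup_left : C.subgroupOf N ≤ M)).trans (dvd_of_eq hi))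
  rcases Nat.eq_zero_or_pos j with h0 | h0
  · rw [hj, h0, pow_zero]
  · exact absurd (hj ▸ dvd_pow_self p h0.ne') h1

/-- Thompson–Glauberman: if the normal subgroup `B` (elements of order dividing `p`) does not
normalize the member `A`, then some member has larger intersection with `B`. -/
theorem exists_larger (hp2 : p ≠ 2) {P : Subgroup G} (hP : IsPGroup p P) {e : ℕ} {B A : Subgroup G} [B.Normal]
    (hBP : B ≤ P) (hA : IsMaxAb e P A) (hBA : ⁅B, B⁆ ≤ A)
    (hnot : ¬ B ≤ Subgroup.normalizer (A : Set G)) :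
    ∃ A' : Subgroup G, IsMaxAb e P A' ∧ ¬ B ≤ A' ∧
      Nat.card (A ⊓ B : Subgroup G) < Nat.card (A' ⊓ B : Subgroup G) := by
  set S := P with hS
  have hinj := S.subtype_injective
  have hAmap : (A.subgroupOf S).map S.subtype = A := Subgroup.map_subgroupOf_eq_of_le hA.le
  have hBmap : (B.subgroupOf S).map S.subtype = B := Subgroup.map_subgroupOf_eq_of_le hBP
  have htop : (⊤ : Subgroup S).map S.subtype = S := by rw [← MonoidHom.range_eq_map, Subgroup.range_subtype]
  have hA' : IsMaxAb e (⊤ : Subgroup S) (A.subgroupOf S) := by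
    apply isMaxAb_of_map hinj
    rw [htop, hAmap]; exact hA
  have hBA' : ⁅B.subgroupOf S, B.subgroupOf S⁆ ≤ A.subgroupOf S := by
    rw [← Subgroup.map_le_map_iff_of_injective hinj, Subgroup.map_commutator, hBmap, hAmap]
    exact hBA
  have hnot' : ¬ B.subgroupOf S ≤ Subgroup.normalizer ((A.subgroupOf S : Subgroup S) : Set S) := by
    intro h
    apply hnot
    rw [← hBmap, ← hAmap]
    exact (Subgroup.map_mono h).trans (Subgroup.le_normalizer_map S.subtype)
  obtain ⟨A₁, h1, -, h3, h4⟩ := replacement_step hP hp2 hA' hBA' hnot'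
  refine ⟨A₁.map S.subtype, ?_, fun h => h3 ?_, ?_⟩
  · have := isMaxAb_map hinj h1
    rwa [htop] at this
  · rw [← hBmap] at h
    exact (Subgroup.map_le_map_iff_of_injective hinj).1 h
  · conv_lhs => rw [← hAmap, ← hBmap, ← Subgroup.map_inf _ _ _ hinj, Subgroup.card_map_of_injective hinj]
    conv_rhs => rw [← hBmap, ← Subgroup.map_inf _ _ _ hinj, Subgroup.card_map_of_injective hinj]
    by_contra hle
    exact h4.ne (Subgroup.eq_of_le_of_card_ge h4.le (not_lt.1 hle))

/-- `D` is strongly closed in `P` with respect to `G`. -/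
def StronglyClosedIn (P D : Subgroup G) : Prop :=
  D ≤ P ∧ ∀ d ∈ D, ∀ g : G, g * d * g⁻¹ ∈ P → g * d * g⁻¹ ∈ D

omit [Finite G] in
theorem stronglyClosedIn_self (P : Subgroup G) : StronglyClosedIn P P :=
  ⟨le_rfl, fun _ _ _ h => h⟩

/-- The normalizer of `P` normalizes a strongly closed subgroup, and so does the normalizer of the
intersection with a normal subgroup. -/
theorem StronglyClosedIn.normalizer_le {P D : Subgroup G} (h : StronglyClosedIn P D) (L : Subgroup G)
    [hL : L.Normal] : Subgroup.normalizer ((P ⊓ L : Subgroup G) : Set G) ≤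
      Subgroup.normalizer ((D ⊓ L : Subgroup G) : Set G) := fun g hg =>
  Subgroup.mem_normalizer_fintype fun d hd =>
    ⟨h.2 d hd.1 g ((Subgroup.mem_normalizer_iff.1 hg d).1 ⟨h.1 hd.1, hd.2⟩).1, hL.conj_mem d hd.2 g⟩

/-- **Glauberman's ZJ theorem, core**, relative to a strongly closed subgroup `D`:
`Z(J_e(D)) ⊓ B` is normal for every normal subgroup `B` inside `D`. -/
theorem zj_inf_normal_rel (hp2 : p ≠ 2) (P : Sylow p G) {e : ℕ} (he : e = 0 ∨ e = p)
    (hst : Stable p (P : Subgroup G)) {D : Subgroup G} (hD : StronglyClosedIn (P : Subgroup G) D) :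
    ∀ B : Subgroup G, B.Normal → B ≤ D → (zj e D ⊓ B).Normal := by
  intro B
  induction B using (wellFounded_lt (α := Subgroup G)).induction with
  | h B ih =>
  intro hBn hBD
  have hBP : B ≤ (P : Subgroup G) := hBD.trans hD.1
  set Z := zj e D with hZ
  set T := Z ⊓ B with hT
  by_contra hTn
  have hpp := hp.out
  have hne : B ≠ ⊥ := by
    intro h
    apply hTn
    have : T = ⊥ := by rw [hT, h, inf_bot_eq]
    rw [this]; infer_instance
  -- `B` is generated by conjugates of `T`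
  have hgen : Subgroup.normalClosure (T : Set G) = B := by
    have hle : Subgroup.normalClosure (T : Set G) ≤ B :=
      Subgroup.normalClosure_le_normal fun x hx => hx.2
    by_contra hne'
    have h1 := ih _ (lt_of_le_of_ne hle hne') Subgroup.normalClosure_normal (hle.trans hBD)
    have h2 : Z ⊓ Subgroup.normalClosure (T : Set G) = T := by
      refine le_antisymm (inf_le_inf_left _ hle) (le_inf inf_le_left ?_)
      exact fun x hx => Subgroup.subset_normalClosure hx
    exact hTn (h2 ▸ h1)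
  have hPD : (P : Subgroup G) ≤ Subgroup.normalizer (D : Set G) := fun g hg =>
    Subgroup.mem_normalizer_fintype fun d hd => hD.2 d hd g
      ((P : Subgroup G).mul_mem ((P : Subgroup G).mul_mem hg (hD.1 hd)) ((P : Subgroup G).inv_mem hg))
  have hPZ : (P : Subgroup G) ≤ Subgroup.normalizer (Z : Set G) :=
    hPD.trans (normalizer_le_normalizer_zj e _)
  have hPT : ∀ g ∈ (P : Subgroup G), ∀ t ∈ T, g * t * g⁻¹ ∈ T := fun g hg t ht =>
    ⟨(Subgroup.mem_normalizer_iff.1 (hPZ hg) t).1 ht.1, hBn.conj_mem t ht.2 g⟩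
  -- the Frattini subgroup of `B`
  set W := (frattini B).map B.subtype with hWdef
  have hWn : W.Normal := inferInstance
  have hBp : IsPGroup p B := P.isPGroup'.to_le hBP
  have hWpow : ∀ b ∈ B, b ^ p ∈ W := fun b hb =>
    ⟨(⟨b, hb⟩ : B) ^ p, CfsgLib.PGroup.pow_mem_frattini hBp _, rfl⟩
  have hWcomm : ∀ b ∈ B, ∀ c ∈ B, ⁅b, c⁆ ∈ W := fun b hb c hc =>
    ⟨⁅(⟨b, hb⟩ : B), ⟨c, hc⟩⁆, CfsgLib.PGroup.commutator_le_frattini hBp
      (CfsgLib.PGroup.commutatorElement_mem_commutator' _ _), rfl⟩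
  have hWlt : W < B := by
    have : Nontrivial B := (Subgroup.nontrivial_iff_ne_bot B).2 hne
    refine lt_of_le_of_ne (Subgroup.map_subtype_le _) fun h => CfsgLib.PGroup.frattini_ne_top (G := B) ?_
    rwa [← (Subgroup.map_injective B.subtype_injective).eq_iff, ← MonoidHom.range_eq_map,
      Subgroup.range_subtype]
  set W1 := Z ⊓ W with hW1
  have hW1n : W1.Normal := ih W hWlt hWn (hWlt.le.trans hBD)
  have hTcomm : ∀ u ∈ Z, ∀ v ∈ Z, u * v = v * u := fun u hu v hv =>
    Subgroup.mem_centralizer_iff.1 hv.2 u hu.1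
  have hW1B : ∀ w ∈ W1, ∀ b ∈ B, w * b = b * w := by
    intro w hw b hb
    have hle : Subgroup.normalClosure (T : Set G) ≤ Subgroup.centralizer (W1 : Set G) :=
      Subgroup.normalClosure_le_normal fun t ht =>
        Subgroup.mem_centralizer_iff.2 fun v hv => hTcomm v hv.1 t ht.1
    exact Subgroup.mem_centralizer_iff.1 (hle (hgen ▸ hb)) w hw
  have hBB : ∀ b ∈ B, ∀ c ∈ B, ⁅b, c⁆ ∈ W1 := by
    -- elements of `T` are central in `B` modulo `W1`
    let Cm : Subgroup G := (Subgroup.centralizer ((B.map (QuotientGroup.mk' W1) : Subgroup (G ⧸ W1)) :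
      Set (G ⧸ W1))).comap (QuotientGroup.mk' W1)
    have hCn : Cm.Normal := by
      have := hBn.map (QuotientGroup.mk' W1) (QuotientGroup.mk'_surjective W1)
      exact Subgroup.normal_centralizer.comap _
    have hTC : Subgroup.normalClosure (T : Set G) ≤ Cm := by
      refine Subgroup.normalClosure_le_normal fun t ht => ?_
      rw [SetLike.mem_coe, Subgroup.mem_comap, Subgroup.mem_centralizer_iff]
      rintro _ ⟨c, hc, rfl⟩
      rw [← commutatorElement_eq_one_iff_mul_comm, ← map_commutatorElement, QuotientGroup.mk'_apply,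
        QuotientGroup.eq_one_iff]
      refine ⟨?_, hWcomm c hc t ht.2⟩
      have := mul_mem (hPT c (hBP hc) t ht) (inv_mem ht)
      exact this.1
    intro b hb c hc
    have hb' : b ∈ Cm := hTC (hgen ▸ hb)
    have h2 := Subgroup.mem_centralizer_iff.1 hb' _ (Subgroup.mem_map_of_mem _ hc)
    rw [← QuotientGroup.eq_one_iff, ← QuotientGroup.mk'_apply (N := W1), map_commutatorElement,
      commutatorElement_eq_one_iff_mul_comm]
    exact h2.symm
  have hzero : ∀ x ∈ B, ∀ y ∈ B, ∀ z ∈ B, ⁅z, ⁅y, x⁆⁆ = 1 := fun x hx y hy z hz =>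
    commutatorElement_eq_one_iff_mul_comm.2 (hW1B _ (hBB y hy x hx) z hz).symm
  have hpZ : ∀ t ∈ T, t ^ p ∈ W1 := fun t ht => ⟨pow_mem ht.1 p, hWpow t ht.2⟩
  have hc1 : ∀ t ∈ T, ∀ c ∈ B, ⁅t, c⁆ ^ p = 1 := by
    intro t ht c hc
    rw [← CfsgLib.PGroup.commutator_pow_left t c
      (hW1B _ (hBB t ht.2 c hc) t ht.2).symm p, commutatorElement_eq_one_iff_mul_comm]
    exact hW1B _ (hpZ t ht) c hc
  have hBBp : ∀ b ∈ B, ∀ c ∈ B, ⁅b, c⁆ ^ p = 1 := by
    -- the elements `b` with `⁅b, c⁆ ^ p = 1` for all `c` form a normal subgroup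
    let M : Subgroup G :=
      { carrier := {b | b ∈ B ∧ ∀ c ∈ B, ⁅b, c⁆ ^ p = 1}
        one_mem' := ⟨one_mem B, fun c _ => by simp⟩
        mul_mem' := by
          rintro u v ⟨hu, hu'⟩ ⟨hv, hv'⟩
          refine ⟨mul_mem hu hv, fun c hc => ?_⟩
          have h1 := hW1B _ (hBB v hv c hc)
          have he : ⁅u * v, c⁆ = ⁅v, c⁆ * ⁅u, c⁆ := by
            calc ⁅u * v, c⁆ = u * ⁅v, c⁆ * u⁻¹ * ⁅u, c⁆ := by simp only [commutatorElement_def]; group
              _ = ⁅v, c⁆ * ⁅u, c⁆ := by rw [← h1 u hu, mul_inv_cancel_right]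
          rw [he, Commute.mul_pow (h1 _ (hWlt.le (hBB u hu c hc).2)), hu' c hc, hv' c hc, one_mul]
        inv_mem' := by
          rintro u ⟨hu, hu'⟩
          refine ⟨inv_mem hu, fun c hc => ?_⟩
          have he : ⁅u⁻¹, c⁆ = u⁻¹ * ⁅u, c⁆⁻¹ * u⁻¹⁻¹ := by simp only [commutatorElement_def]; group
          rw [he, conj_pow, inv_pow, hu' c hc]; simp }
    have hMn : M.Normal := ⟨fun b hb g => ⟨hBn.conj_mem b hb.1 g, fun c hc => by
      have he : ⁅g * b * g⁻¹, c⁆ = g * ⁅b, g⁻¹ * c * g⁆ * g⁻¹ := by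
        simp only [commutatorElement_def]; group
      have hc' : g⁻¹ * c * g ∈ B := by simpa using hBn.conj_mem c hc g⁻¹
      rw [he, conj_pow, hb.2 _ hc']; simp⟩⟩
    have hle : Subgroup.normalClosure (T : Set G) ≤ M :=
      Subgroup.normalClosure_le_normal fun t ht => ⟨ht.2, hc1 t ht⟩
    exact fun b hb c hc => (hle (hgen ▸ hb)).2 c hc
  have hpow : ∀ x ∈ B, ∀ y ∈ B, (x * y) ^ p = x ^ p * y ^ p := fun x hx y hy =>
    CfsgLib.PGroup.mul_pow_prime_eq hpp x y (by rw [hzero x hx y hy x hx]; exact one_mem _)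
      (by rw [hzero x hx y hy y hy]; exact one_mem _) (hBBp y hy x hx)
      (Or.inl ⟨hp2, hzero x hx y hy x hx, hzero x hx y hy y hy⟩)
  have hBpow : ∀ b ∈ B, b ^ p ∈ W1 := by
    let M : Subgroup G :=
      { carrier := {b | b ∈ B ∧ b ^ p ∈ W1}
        one_mem' := ⟨one_mem B, by simp⟩
        mul_mem' := fun {u v} hu hv => ⟨mul_mem hu.1 hv.1, by
          rw [hpow u hu.1 v hv.1]; exact mul_mem hu.2 hv.2⟩
        inv_mem' := fun {u} hu => ⟨inv_mem hu.1, by rw [inv_pow]; exact inv_mem hu.2⟩ }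
    have hMn : M.Normal := ⟨fun b hb g => ⟨hBn.conj_mem b hb.1 g, by
      rw [conj_pow]; exact hW1n.conj_mem _ hb.2 g⟩⟩
    have hle : Subgroup.normalClosure (T : Set G) ≤ M :=
      Subgroup.normalClosure_le_normal fun t ht => ⟨ht.2, hpZ t ht⟩
    exact fun b hb => (hle (hgen ▸ hb)).2
  -- elements of order dividing p
  let B1 : Subgroup G :=
    { carrier := {b | b ∈ B ∧ b ^ p = 1}
      one_mem' := ⟨one_mem B, one_pow p⟩
      mul_mem' := fun {u v} hu hv => ⟨mul_mem hu.1 hv.1, by rw [hpow u hu.1 v hv.1, hu.2, hv.2, one_mul]⟩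
      inv_mem' := fun {u} hu => ⟨inv_mem hu.1, by rw [inv_pow, hu.2, inv_one]⟩ }
  have hB1n : B1.Normal := ⟨fun b hb g => ⟨hBn.conj_mem b hb.1 g, by rw [conj_pow, hb.2]; simp⟩⟩
  have hB1B : B1 ≤ B := fun b hb => hb.1
  have hexp : ∀ x : G, x ^ p = 1 → x ^ e = 1 := fun x hx => by
    rcases he with rfl | rfl
    exacts [pow_zero x, hx]
  have hW1A : ∀ A, IsMaxAb e D A → ∀ w ∈ W1, w ^ p = 1 → w ∈ A := fun A hA w hw hwp =>
    mem_of_commute hA (hBD (hWlt.le hw.2)) (hexp w hwp) fun a ha =>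
      Subgroup.mem_centralizer_iff.1 hw.1.2 a (le_joinMaxAb hA ha)
  -- the largest normal subgroup normalizing `T`
  set L := (Subgroup.normalizer (T : Set G)).normalCore with hL
  have hLT : ∀ g ∈ L, ∀ t ∈ T, g * t * g⁻¹ ∈ T := fun g hg t ht =>
    (Subgroup.mem_normalizer_iff.1 (Subgroup.normalCore_le _ hg) t).1 ht
  have hPL : IsPGroup p (((P : Subgroup G) ⊓ L).subgroupOf L) :=
    (P.isPGroup'.to_le inf_le_left).of_equiv (Subgroup.subgroupOfEquivOfLe inf_le_right).symm
  have hidx : ¬ p ∣ (((P : Subgroup G) ⊓ L).subgroupOf L).index := fun hd => by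
    rw [Subgroup.inf_subgroupOf_right] at hd
    exact P.not_dvd_index (hd.trans (CfsgLib.PGroup.relIndex_dvd_index_normal_right (P : Subgroup G) L))
  have hfrat : Subgroup.normalizer (((P : Subgroup G) ⊓ L : Subgroup G) : Set G) ⊔ L = ⊤ := by
    have := Sylow.normalizer_sup_eq_top (hPL.toSylow hidx)
    rwa [show ((hPL.toSylow hidx : Sylow p L) : Subgroup L).map L.subtype = (P : Subgroup G) ⊓ L from
      Subgroup.map_subgroupOf_eq_of_le inf_le_right] at this
  have hcent : ∀ A, IsMaxAb e D A → A ≤ L → ∀ b ∈ B, ∀ a ∈ A, a * b = b * a := by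
    intro A hA hAL b hb a ha
    have hconj : Group.conjugatesOfSet (T : Set G) ⊆ (Subgroup.centralizer (A : Set G) : Set G) := by
      intro x hx
      obtain ⟨t, ht, htx⟩ := Group.mem_conjugatesOfSet_iff.1 hx
      obtain ⟨g, rfl⟩ := isConj_iff.1 htx
      have hg : g ∈ (Subgroup.normalizer (((P : Subgroup G) ⊓ L : Subgroup G) : Set G) ⊔ L) :=
        hfrat ▸ Subgroup.mem_top g
      obtain ⟨u, hu, l, hl, rfl⟩ := Subgroup.mem_sup_of_normal_right.1 hg
      rw [SetLike.mem_coe, Subgroup.mem_centralizer_iff]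
      intro a' ha'
      have ht' := hLT l hl t ht
      -- the conjugate of `A` by `u` is again a member
      have hAu : IsMaxAb e D (A.map (MulAut.conj u⁻¹).toMonoidHom) := by
        have h1 := isMaxAb_map (f := (MulAut.conj u⁻¹).toMonoidHom) (MulAut.conj u⁻¹).injective hA
        refine ⟨?_, h1.comm, h1.exp, fun C hC hCc hCe => ?_⟩
        · rintro _ ⟨x, hx, rfl⟩
          have := (Subgroup.mem_normalizer_iff.1 (hD.normalizer_le L (inv_mem hu)) x).1 ⟨hA.le hx, hAL hx⟩
          rw [inv_inv] at this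
          simp only [MulEquiv.coe_toMonoidHom, MulAut.conj_apply, inv_inv]
          exact this.1
        · rw [Subgroup.card_map_of_injective (MulAut.conj u⁻¹).injective]
          exact hA.max C hC hCc hCe
      have hmem : u⁻¹ * a' * u ∈ A.map (MulAut.conj u⁻¹).toMonoidHom := ⟨a', ha', by simp⟩
      have hcom := Subgroup.mem_centralizer_iff.1 ht'.1.2 _ (le_joinMaxAb hAu hmem)
      calc a' * (u * l * t * (u * l)⁻¹) = u * ((u⁻¹ * a' * u) * (l * t * l⁻¹)) * u⁻¹ := by group
        _ = u * ((l * t * l⁻¹) * (u⁻¹ * a' * u)) * u⁻¹ := by rw [hcom]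
        _ = (u * l * t * (u * l)⁻¹) * a' := by group
    have : B ≤ Subgroup.centralizer (A : Set G) := by
      rw [← hgen]
      exact (Subgroup.closure_le _).2 hconj
    exact Subgroup.mem_centralizer_iff.1 (this hb) a ha
  -- some member is not contained in `L`
  have hJL : ∃ A, IsMaxAb e D A ∧ ¬ A ≤ L := by
    by_contra h
    push Not at h
    obtain ⟨A₀, hA₀⟩ := exists_isMaxAb e D
    apply hTn
    have hTcen : ∀ A, IsMaxAb e D A → ∀ b ∈ B, ∀ a ∈ A, a * b = b * a := fun A hA =>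
      hcent A hA (h A hA)
    -- members are preserved by `N(P ⊓ L)`, so this normalizer fixes `Z`
    have hN : Subgroup.normalizer (((P : Subgroup G) ⊓ L : Subgroup G) : Set G) ≤
        Subgroup.normalizer (Z : Set G) := by
      refine (hD.normalizer_le L).trans ?_
      have hJeq : joinMaxAb e (D ⊓ L) = joinMaxAb e D := by
        refine le_antisymm (sSup_le fun A hA => ?_) (sSup_le fun A hA => ?_)
        · refine le_joinMaxAb ⟨hA.le.trans inf_le_left, hA.comm, hA.exp, fun C hC hCc hCe => ?_⟩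
          exact (hA₀.max C hC hCc hCe).trans (hA.max A₀ (le_inf hA₀.le (h A₀ hA₀)) hA₀.comm hA₀.exp)
        · exact le_joinMaxAb ⟨le_inf hA.le (h A hA), hA.comm, hA.exp,
            fun C hC => hA.max C (hC.trans inf_le_left)⟩
      have := normalizer_le_normalizer_zj e (D ⊓ L)
      rwa [zj, hJeq, ← zj] at this
    have hgT : ∀ g : G, ∀ t ∈ T, g * t * g⁻¹ ∈ T := by
      intro g t ht
      have hg : g ∈ (Subgroup.normalizer (((P : Subgroup G) ⊓ L : Subgroup G) : Set G) ⊔ L) :=
        hfrat ▸ Subgroup.mem_top g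
      obtain ⟨u, hu, l, hl, rfl⟩ := Subgroup.mem_sup_of_normal_right.1 hg
      have ht' := hLT l hl t ht
      refine ⟨?_, hBn.conj_mem t ht.2 _⟩
      have := (Subgroup.mem_normalizer_iff.1 (hN hu) _).1 ht'.1
      simpa [mul_assoc] using this
    exact ⟨fun t ht g => hgT g t ht⟩
  obtain ⟨A, ⟨hA, hAL⟩, hmax⟩ := Set.exists_max_image {A | IsMaxAb e D A ∧ ¬ A ≤ L}
    (fun A => Nat.card (A ⊓ B1 : Subgroup G)) (Set.toFinite _) hJL
  have hB1P : B1 ≤ (P : Subgroup G) := hB1B.trans hBP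
  have hB1D : B1 ≤ D := hB1B.trans hBD
  have hB1A : ⁅B1, B1⁆ ≤ A := Subgroup.commutator_le.2 fun b hb c hc =>
    hW1A A hA _ (hBB b hb.1 c hc.1) (hBBp b hb.1 c hc.1)
  have hnorm : B1 ≤ Subgroup.normalizer (A : Set G) := by
    by_contra hnot
    obtain ⟨A', hA', hnB, hcard⟩ := exists_larger hp2 (P.isPGroup'.to_le hD.1) hB1D hA hB1A hnot
    have hA'L : A' ≤ L := by
      by_contra hA'L
      exact absurd (hmax A' ⟨hA', hA'L⟩) (not_le.2 hcard)
    apply hnB
    intro b hb
    exact mem_of_commute hA' (hB1D hb) (hexp b hb.2) fun a ha => hcent A' hA' hA'L b hb.1 a ha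
  -- every element of `A` lies in `L`
  apply hAL
  intro a ha
  have hquad : ∀ b ∈ B1, ⁅a, ⁅a, b⁆⁆ = 1 := by
    intro b hb
    have h1 : ⁅a, b⁆ ∈ A := by
      have := mul_mem ha ((Subgroup.mem_normalizer_iff.1 (hnorm hb) a⁻¹).1 (inv_mem ha))
      simpa [commutatorElement_def, mul_assoc] using this
    rw [commutatorElement_eq_one_iff_mul_comm]
    have := hA.comm
    exact setLike_mul_comm (s := A) ha h1
  obtain ⟨K0, hK0n, haK0, hK0⟩ := hst B1 hB1n hB1P (fun b hb => hb.2) a (hD.1 (hA.le ha)) hquad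
  -- elements of `K0` acting trivially on `B / B1`
  let K' : Subgroup G :=
    { carrier := {g | g ∈ K0 ∧ ∀ b ∈ B, ⁅g, b⁆ ∈ B1}
      one_mem' := ⟨one_mem K0, fun b _ => by simp⟩
      mul_mem' := by
        rintro u v ⟨hu, hu'⟩ ⟨hv, hv'⟩
        refine ⟨mul_mem hu hv, fun b hb => ?_⟩
        have he : ⁅u * v, b⁆ = u * ⁅v, b⁆ * u⁻¹ * ⁅u, b⁆ := by simp only [commutatorElement_def]; group
        rw [he]
        exact mul_mem (hB1n.conj_mem _ (hv' b hb) u) (hu' b hb)
      inv_mem' := by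
        rintro u ⟨hu, hu'⟩
        refine ⟨inv_mem hu, fun b hb => ?_⟩
        have he : ⁅u⁻¹, b⁆ = u⁻¹ * ⁅u, b⁆⁻¹ * u⁻¹⁻¹ := by simp only [commutatorElement_def]; group
        rw [he]
        exact hB1n.conj_mem _ (inv_mem (hu' b hb)) u⁻¹ }
  have hK'n : K'.Normal := ⟨fun k hk g => ⟨hK0n.conj_mem k hk.1 g, fun b hb => by
    have he : ⁅g * k * g⁻¹, b⁆ = g * ⁅k, g⁻¹ * b * g⁆ * g⁻¹ := by
      simp only [commutatorElement_def]; group
    rw [he]
    exact hB1n.conj_mem _ (hk.2 _ (by simpa using hBn.conj_mem b hb g⁻¹)) g⟩⟩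
  have haK' : a ∈ K' := by
    refine ⟨haK0, fun b hb => ⟨mul_mem (hBn.conj_mem b hb a) (inv_mem hb), ?_⟩⟩
    rw [commutatorElement_def, hpow _ (hBn.conj_mem b hb a) _ (inv_mem hb), conj_pow, inv_pow,
      mul_inv_eq_one]
    have h1 : a * b ^ p = b ^ p * a :=
      Subgroup.mem_centralizer_iff.1 (hBpow b hb).1.2 a (le_joinMaxAb hA ha)
    rw [h1, mul_inv_cancel_right]
  have hK'p : ∀ k ∈ K', ∃ j : ℕ, k ^ p ^ j ∈ Subgroup.centralizer (B : Set G) := by
    intro k hk
    obtain ⟨j, hj⟩ := hK0 k hk.1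
    refine ⟨j + 1, Subgroup.mem_centralizer_iff.2 fun b hb => ?_⟩
    set m := k ^ p ^ j with hm
    have hmK : m ∈ K' := pow_mem hk _
    set d := ⁅m, b⁆ with hd
    have hdB : d ∈ B1 := hmK.2 b hb
    have hdm : d * m = m * d := Subgroup.mem_centralizer_iff.1 hj d hdB
    have hi : ∀ i : ℕ, m ^ i * b = d ^ i * b * m ^ i := by
      intro i
      induction i with
      | zero => simp
      | succ i ihi =>
        have hmd : m * d ^ i = d ^ i * m := ((show Commute d m from hdm).pow_left i).symm.eq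
        calc m ^ (i + 1) * b = m * (m ^ i * b) := by rw [pow_succ', mul_assoc]
          _ = (m * d ^ i) * b * m ^ i := by rw [ihi]; simp only [mul_assoc]
          _ = d ^ i * (m * b) * m ^ i := by rw [hmd]; simp only [mul_assoc]
          _ = d ^ i * ((d * b) * m) * m ^ i := by rw [hd, commutatorElement_def]; group
          _ = d ^ (i + 1) * b * m ^ (i + 1) := by rw [pow_succ d, pow_succ' m]; simp only [mul_assoc]
    rw [pow_succ, pow_mul, ← hm, hi p, hdB.2, one_mul]
  have hK'T : K' ≤ L := by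
    refine Subgroup.normal_le_normalCore.2 ?_
    have hTN : ∀ g : G, (∀ t ∈ T, g * t * g⁻¹ ∈ T) → g ∈ Subgroup.normalizer (T : Set G) :=
      fun g hg => Subgroup.mem_normalizer_fintype fun t ht => hg t ht
    refine (le_sup_sylow_inf P K' (Subgroup.centralizer (B : Set G)) hK'p).trans (sup_le ?_ ?_)
    · intro g hg
      refine hTN g fun t ht => ?_
      rwa [← Subgroup.mem_centralizer_iff.1 hg t ht.2, mul_inv_cancel_right]
    · exact fun g hg => hTN g (hPT g hg.1)
  exact hK'T haK'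

/-- **Glauberman's ZJ theorem, core**: `Z(J_e(P)) ⊓ B` is normal for every normal p-subgroup `B`. -/
theorem zj_inf_normal (hp2 : p ≠ 2) (P : Sylow p G) {e : ℕ} (he : e = 0 ∨ e = p)
    (hst : Stable p (P : Subgroup G)) :
    ∀ B : Subgroup G, B.Normal → B ≤ (P : Subgroup G) → (zj e (P : Subgroup G) ⊓ B).Normal :=
  zj_inf_normal_rel hp2 P he hst (stronglyClosedIn_self _)

end CfsgLib.ZJCenter
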