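import Cfsg.Agent.Lib.Fusion.FrobeniusCriterion
import Cfsg.Agent.Lib.Fusion.QuadraticAbelian
import Cfsg.Agent.Lib.Fusion.ZJCenter
import Cfsg.Agent.Lib.PLocal.Constrained
import Cfsg.Agent.Lib.Solvable.CoprimeAction
import Cfsg.Agent.Lib.PLocal.ZJFactorization
import Cfsg.Agent.Lib.Transfer.PResidual

/-!
The Glauberman–Thompson normal p-complement theorem, for the centre of the subgroup generated by
the abelian (`e = 0`) or elementary abelian (`e = p`) subgroups of largest order.
-/

namespace CfsgLib.GlaubermanThompson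

open CfsgLib.ZJCenter CfsgLib.NPC
open scoped commutatorElement

universe u

variable {G : Type u} [Group G] {p : ℕ}

/-- The elements inducing the identity on `V / W`. -/
def trivOn (V W : Subgroup G) [hW : W.Normal] : Subgroup G where
  carrier := {g | ∀ v ∈ V, ⁅g, v⁆ ∈ W}
  one_mem' := fun v _ => by simp
  mul_mem' := by
    intro a b ha hb v hv
    have he : ⁅a * b, v⁆ = a * ⁅b, v⁆ * a⁻¹ * ⁅a, v⁆ := by simp only [commutatorElement_def]; group
    rw [he]
    exact mul_mem (hW.conj_mem _ (hb v hv) a) (ha v hv)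
  inv_mem' := by
    intro a ha v hv
    have he : ⁅a⁻¹, v⁆ = a⁻¹ * ⁅a, v⁆⁻¹ * a⁻¹⁻¹ := by simp only [commutatorElement_def]; group
    rw [he]
    exact hW.conj_mem _ (inv_mem (ha v hv)) a⁻¹

theorem mem_trivOn {V W : Subgroup G} [W.Normal] {g : G} :
    g ∈ trivOn V W ↔ ∀ v ∈ V, ⁅g, v⁆ ∈ W :=
  Iff.rfl

instance trivOn_normal (V W : Subgroup G) [hV : V.Normal] [hW : W.Normal] : (trivOn V W).Normal := by
  refine ⟨fun x hx g v hv => ?_⟩
  have he : ⁅g * x * g⁻¹, v⁆ = g * ⁅x, g⁻¹ * v * g⁆ * g⁻¹ := by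
    simp only [commutatorElement_def]; group
  rw [he]
  exact hW.conj_mem _ (hx _ (by simpa using hV.conj_mem v hv g⁻¹)) g

theorem pow_mul_of_commutator_commute {m b d : G} (hd : d = ⁅m, b⁆) (hdm : Commute d m) (i : ℕ) :
    m ^ i * b = d ^ i * b * m ^ i := by
  induction i with
  | zero => simp
  | succ i ih =>
    have hmd : m * d ^ i = d ^ i * m := (hdm.pow_left i).symm.eq
    calc m ^ (i + 1) * b = m * (m ^ i * b) := by rw [pow_succ', mul_assoc]
      _ = (m * d ^ i) * b * m ^ i := by rw [ih]; simp only [mul_assoc]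
      _ = d ^ i * (m * b) * m ^ i := by rw [hmd]; simp only [mul_assoc]
      _ = d ^ i * ((d * b) * m) * m ^ i := by rw [hd, commutatorElement_def]; group
      _ = d ^ (i + 1) * b * m ^ (i + 1) := by rw [pow_succ d, pow_succ' m]; simp only [mul_assoc]

variable [Finite G] [hp : Fact p.Prime]

theorem exists_pow_coprime (x : G) : ∃ j : ℕ, Nat.Coprime (orderOf (x ^ p ^ j)) p := by
  refine ⟨(orderOf x).factorization p, ?_⟩
  rw [orderOf_pow, Nat.gcd_eq_right (Nat.ordProj_dvd _ p)]
  exact (Nat.coprime_ordCompl hp.out (orderOf_pos x).ne').symm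

omit [Finite G] hp in
theorem eq_one_of_coprime_of_pow {g : G} {j : ℕ} (hg : g ^ p ^ j = 1)
    (hco : Nat.Coprime (orderOf g) p) : g = 1 :=
  orderOf_eq_one_iff.1
    (Nat.eq_one_of_dvd_coprimes (hco.pow_right j) dvd_rfl (orderOf_dvd_of_pow_eq_one hg))

/-- A nontrivial p-subgroup normal subgroup strictly contains its commutator with a p-subgroup
containing it. -/
theorem commutator_ne_self {Q V : Subgroup G} [V.Normal] (hQ : IsPGroup p Q) (hVQ : V ≤ Q) (hV : V ≠ ⊥) :
    ⁅Q, V⁆ ≠ V := by
  intro h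
  apply hV
  have hsol : Group.IsNilpotent Q := hQ.isNilpotent
  set V' := V.subgroupOf Q
  have hV' : ⁅(⊤ : Subgroup Q), V'⁆ = V' := by
    apply Subgroup.map_injective Q.subtype_injective
    rw [Subgroup.map_commutator, ← MonoidHom.range_eq_map, Subgroup.range_subtype,
      Subgroup.map_subgroupOf_eq_of_le hVQ, h]
  obtain ⟨i, hi⟩ := Subgroup.nilpotent_iff_lowerCentralSeries.1 hsol
  have hall : ∀ i, V' ≤ (⊤ : Subgroup Q).lowerCentralSeries i := by
    intro i
    induction i with
    | zero => exact le_top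
    | succ i ih =>
      rw [Subgroup.lowerCentralSeries_succ]
      conv_lhs => rw [← hV', Subgroup.commutator_comm]
      exact Subgroup.commutator_mono ih le_rfl
  have := hall i
  rw [hi, le_bot_iff, Subgroup.subgroupOf_eq_bot] at this
  rwa [disjoint_iff, inf_eq_left.2 hVQ] at this

/-- The heart of the Glauberman–Thompson theorem: the configuration of a minimal counterexample
does not occur. -/
theorem normal_zj_of_config (hp2 : p ≠ 2) {e : ℕ} (he : e = 0 ∨ e = p) (P : Sylow p G)
    {Q : Subgroup G} [Q.Normal] (hQP : Q ≤ (P : Subgroup G))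
    (hQmax : ∀ N : Subgroup G, N.Normal → IsPGroup p N → N ≤ Q)
    (hpc : ∀ N : Subgroup G, N.Normal → (Nat.card N).Coprime p → N = ⊥)
    (hprop : ∀ H : Subgroup G, (P : Subgroup G) ≤ H → H ≠ ⊤ → Cfsg.HasNormalPComplement p H)
    {K : Subgroup G} [K.Normal] {n : ℕ} (hK : K.index = p ^ n) (hQK : Q ≤ K) (hne : K ≠ Q)
    (hco : (Nat.card (K.map (QuotientGroup.mk' Q))).Coprime p)
    {D : Subgroup G} (hD : StronglyClosedIn (P : Subgroup G) D) :
    (zj e D).Normal := by
  have hpp := hp.out
  have hodd : Odd p := hpp.odd_of_ne_two hp2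
  set f := QuotientGroup.mk' Q with hf
  have hfQ : ∀ x, f x = 1 ↔ x ∈ Q := fun x => QuotientGroup.eq_one_iff x
  have hQp : IsPGroup p Q := P.isPGroup'.to_le hQP
  set m := Nat.card (K.map f) with hm
  have hKm : ∀ x ∈ K, x ^ m ∈ Q := fun x hx => by
    rw [← hfQ, map_pow]
    have := pow_card_eq_one' (G := K.map f) (x := ⟨f x, Subgroup.mem_map_of_mem f hx⟩)
    exact congrArg Subtype.val this
  -- p-elements of `K` lie in `Q`
  have hKel : ∀ x ∈ K, ∀ j : ℕ, x ^ p ^ j = 1 → x ∈ Q := by
    intro x hx j hj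
    rw [← hfQ]
    refine eq_one_of_coprime_of_pow (j := j) (by rw [← map_pow, hj, map_one]) (hco.coprime_dvd_left ?_)
    exact Subgroup.orderOf_dvd_natCard _ (Subgroup.mem_map_of_mem f hx)
  have hPK : ∀ x ∈ (P : Subgroup G), x ∈ K → x ∈ Q := fun x hx hxK => by
    obtain ⟨j, hj⟩ := P.isPGroup' ⟨x, hx⟩
    exact hKel x hxK j (congrArg Subtype.val hj)
  have hKP : K ⊔ (P : Subgroup G) = ⊤ := by
    rw [← Subgroup.index_eq_one]
    obtain ⟨j, _, hj⟩ := (Nat.dvd_prime_pow hpp).1
      ((Subgroup.index_dvd_of_le (le_sup_left : K ≤ K ⊔ (P : Subgroup G))).trans (dvd_of_eq hK))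
    rcases Nat.eq_zero_or_pos j with h0 | h0
    · rw [hj, h0, pow_zero]
    · exact absurd ((hj ▸ dvd_pow_self p h0.ne').trans (Subgroup.index_dvd_of_le le_sup_right))
        P.not_dvd_index
  have hKco : ∀ g : G, Nat.Coprime (orderOf g) p → g ∈ K := fun g hg => mem_of_coprime hK hg
  -- `C_K(Q) ≤ Q`
  set M := Subgroup.centralizer (Q : Set G) ⊓ K with hM
  have hMn : M.Normal := inferInstance
  have hMQ : M ≤ Q := by
    obtain ⟨N, hN⟩ := hasNormalPComplement_iff.1 (frobenius_criterion (G := M) (p := p)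
      (fun R hR g _ _ => Subgroup.mem_centralizer_iff.2 fun r hr => Subtype.ext (by
        obtain ⟨j, hj⟩ := hR ⟨r, hr⟩
        have hrQ : (r : G) ∈ Q :=
          hKel r r.2.2 j (congrArg Subtype.val (congrArg Subtype.val hj))
        exact Subgroup.mem_centralizer_iff.1 g.2.1 r hrQ)))
    have hNn : (N.map M.subtype).Normal := by
      refine ⟨?_⟩
      rintro _ ⟨x, hx, rfl⟩ g
      refine ⟨⟨g * (x : G) * g⁻¹, hMn.conj_mem x x.2 g⟩, (mem_iff_coprime hN).2 ?_, rfl⟩
      rw [← Subgroup.orderOf_coe]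
      change Nat.Coprime (orderOf (g * (x : G) * g⁻¹)) p
      rw [show g * (x : G) * g⁻¹ = MulAut.conj g (x : G) from
        (MulAut.conj_apply g _).symm, MulEquiv.orderOf_eq, Subgroup.orderOf_coe]
      exact (mem_iff_coprime hN).1 hx
    have hN1 : N = ⊥ := (Subgroup.map_eq_bot_iff_of_injective _ M.subtype_injective).1
      (hpc _ hNn (by rw [Subgroup.card_map_of_injective M.subtype_injective]; exact hN.2.1))
    obtain ⟨i, hi⟩ := hN.2.2
    rw [hN1, Subgroup.index_bot] at hi
    exact hQmax M hMn (IsPGroup.of_card hi)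
  -- p'-elements centralizing `Q` are trivial
  have hfree : ∀ g ∈ Subgroup.centralizer (Q : Set G), Nat.Coprime (orderOf g) p → g = 1 := by
    intro g hg hgo
    obtain ⟨j, hj⟩ := hQp ⟨g, hMQ ⟨hg, hKco g hgo⟩⟩
    exact eq_one_of_coprime_of_pow (congrArg Subtype.val hj) hgo
  -- irreducibility
  have hirr : ∀ R : Subgroup G, Q ≤ R → R ≤ K →
      (P : Subgroup G) ≤ Subgroup.normalizer (R : Set G) → R = Q ∨ R = K := by
    intro R hQR hRK hPR
    by_cases hH : R ⊔ (P : Subgroup G) = ⊤
    · right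
      have hRn : R.Normal := by
        rw [← Subgroup.normalizer_eq_top_iff, ← top_le_iff, ← hH]
        exact sup_le Subgroup.le_normalizer hPR
      refine le_antisymm hRK fun x hx => ?_
      obtain ⟨r, hr, y, hy, rfl⟩ := Subgroup.mem_sup_of_normal_left.1 (hH ▸ Subgroup.mem_top x :
        x ∈ R ⊔ (P : Subgroup G))
      have hyK : y ∈ K := by simpa using mul_mem (inv_mem (hRK hr)) hx
      exact mul_mem hr (hQR (hPK y hy hyK))
    · left
      refine le_antisymm (fun x hx => ?_) hQR
      set H := R ⊔ (P : Subgroup G) with hHdef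
      obtain ⟨j, hj⟩ := exists_pow_coprime (p := p) x
      have hgH : x ^ p ^ j ∈ H := le_sup_left (a := R) (pow_mem hx _)
      have h1 := mem_centralizer_of_hasNormalPComplement (p := p) (Q := Q.subgroupOf H)
        (hQp.of_equiv (Subgroup.subgroupOfEquivOfLe (hQR.trans le_sup_left)).symm)
        (hasNormalPComplement_subgroup (hprop H le_sup_right hH) _)
        (g := ⟨x ^ p ^ j, hgH⟩) (by rw [Subgroup.normalizer_eq_top]; exact Subgroup.mem_top _)
        (by rw [← Subgroup.orderOf_coe]; exact hj)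
      have hc : x ^ p ^ j ∈ Subgroup.centralizer (Q : Set G) :=
        Subgroup.mem_centralizer_iff.2 fun q hq => congrArg Subtype.val
          (Subgroup.mem_centralizer_iff.1 h1 ⟨q, hQR.trans le_sup_left hq⟩
            (Subgroup.mem_subgroupOf.2 hq))
      exact hKel x (hRK hx) j (hfree _ hc hj)
  have hirrN : ∀ R : Subgroup G, R.Normal → Q ≤ R → R ≤ K → R = Q ∨ R = K := fun R hR h1 h2 =>
    hirr R h1 h2 (by rw [Subgroup.normalizer_eq_top_iff.2 hR]; exact le_top)
  -- `K / Q` is abelian
  have hKab : ∀ a ∈ K, ∀ b ∈ K, ⁅a, b⁆ ∈ Q := by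
    set Kb := K.map f with hKb
    have hKbn : Kb.Normal := Subgroup.Normal.map inferInstance f (QuotientGroup.mk'_surjective Q)
    have hKb1 : Kb ≠ ⊥ := fun h => hne (le_antisymm (fun x hx => (hfQ x).1 (by
      have h1 : f x ∈ Kb := Subgroup.mem_map_of_mem f hx
      rwa [h, Subgroup.mem_bot] at h1)) hQK)
    have hm1 : m ≠ 1 := fun h => hKb1 (Subgroup.eq_bot_of_card_eq _ h)
    obtain ⟨q, hq, hqd⟩ := Nat.exists_prime_and_dvd hm1
    have : Fact q.Prime := ⟨hq⟩
    set Pb := (P : Subgroup G).map f with hPb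
    have hPbp : IsPGroup p Pb := P.isPGroup'.map f
    obtain ⟨i, hi⟩ := IsPGroup.iff_card.1 hPbp
    have hnil : Group.IsNilpotent Pb := hPbp.isNilpotent
    obtain ⟨S, hS⟩ := CfsgLib.Solvable.exists_invariant_sylow (A := Pb) (K := Kb)
      (by rw [Subgroup.normalizer_eq_top]; exact le_top) (by rw [hi]; exact hco.symm.pow_left i)
      (Or.inl inferInstance) q
    set Sb := (S : Subgroup Kb).map Kb.subtype with hSb
    have hSbK : Sb ≤ Kb := Subgroup.map_subtype_le _
    have hSb1 : Sb ≠ ⊥ := fun h => S.ne_bot_of_dvd_card hqd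
      ((Subgroup.map_eq_bot_iff_of_injective _ Kb.subtype_injective).1 h)
    have hQker : Q = f.ker := (QuotientGroup.ker_mk' Q).symm
    have hcK : Kb.comap f = K := by
      rw [hKb, Subgroup.comap_map_eq, ← hQker, sup_eq_left.2 hQK]
    have hSK : Kb = Sb := by
      rcases hirr (Sb.comap f) (fun x hx => by
          rw [Subgroup.mem_comap, (hfQ x).2 hx]; exact one_mem _)
          (hcK ▸ Subgroup.comap_mono hSbK) (fun x hx => by
          rw [← Subgroup.comap_normalizer_eq_of_surjective _ (QuotientGroup.mk'_surjective Q)]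
          exact hS (Subgroup.mem_map_of_mem f hx)) with h | h
      · exfalso
        apply hSb1
        have := congrArg (Subgroup.map f) h
        rwa [Subgroup.map_comap_eq_self_of_surjective (QuotientGroup.mk'_surjective Q),
          (Subgroup.map_eq_bot_iff Q).2 hQker.le] at this
      · rw [hKb, ← h, Subgroup.map_comap_eq_self_of_surjective (QuotientGroup.mk'_surjective Q)]
    have hKq : IsPGroup q Kb := by rw [hSK]; exact S.isPGroup'.map _
    have : Nontrivial Kb := (Subgroup.nontrivial_iff_ne_bot _).2 hKb1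
    rcases hirrN (Q ⊔ ⁅K, K⁆) inferInstance le_sup_left
        (sup_le hQK (Subgroup.commutator_le_right K K)) with h | h
    · exact fun a ha b hb =>
        h ▸ (le_sup_right : _ ≤ Q ⊔ ⁅K, K⁆) (Subgroup.commutator_mem_commutator ha hb)
    · exfalso
      apply CfsgLib.PGroup.frattini_ne_top (G := Kb)
      apply top_le_iff.1
      refine le_trans (le_of_eq ?_) (CfsgLib.PGroup.commutator_le_frattini hKq)
      apply Subgroup.map_injective Kb.subtype_injective
      rw [Subgroup.map_subtype_commutator, ← MonoidHom.range_eq_map, Subgroup.range_subtype]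
      conv_lhs => rw [hKb, ← h]
      rw [Subgroup.map_sup, Subgroup.map_commutator, (Subgroup.map_eq_bot_iff Q).2 hQker.le,
        bot_sup_eq]
  -- elements of `P` centralizing `K / Q` lie in `Q`
  have hcentQ : ∀ a ∈ (P : Subgroup G), (∀ k ∈ K, ⁅a, k⁆ ∈ Q) → a ∈ Q := by
    intro a ha hak
    set X := (P : Subgroup G) ⊓ trivOn K Q with hX
    have hXn : X.Normal := by
      rw [← Subgroup.normalizer_eq_top_iff, ← top_le_iff, ← hKP]
      refine sup_le (fun k hk => ?_) (fun g hg => ?_)
      · refine Subgroup.mem_normalizer_fintype fun x hx => ?_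
        have hq : k * x * k⁻¹ * x⁻¹ ∈ Q := by
          have := inv_mem (hx.2 k hk)
          rwa [commutatorElement_inv, commutatorElement_def] at this
        refine ⟨?_, (trivOn_normal K Q).conj_mem x hx.2 k⟩
        have := (P : Subgroup G).mul_mem (hQP hq) hx.1
        rwa [inv_mul_cancel_right] at this
      · exact Subgroup.mem_normalizer_fintype fun x hx =>
          ⟨(P : Subgroup G).mul_mem ((P : Subgroup G).mul_mem hg hx.1) ((P : Subgroup G).inv_mem hg),
            (trivOn_normal K Q).conj_mem x hx.2 g⟩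
    exact hQmax X hXn (P.isPGroup'.to_le inf_le_left) ⟨ha, hak⟩
  -- `p`-stability
  have hst : Stable p (P : Subgroup G) := by
    intro B hBn hBP hBexp a ha haB
    by_cases haQ : a ∈ Q
    · refine ⟨Q, inferInstance, haQ, fun k hk => ?_⟩
      obtain ⟨j, hj⟩ := hQp ⟨k, hk⟩
      refine ⟨j, ?_⟩
      rw [show k ^ p ^ j = 1 from congrArg Subtype.val hj]
      exact one_mem _
    have hBQ : B ≤ Q := hQmax B hBn (P.isPGroup'.to_le hBP)
    have main : ∀ V : Subgroup G, V.Normal → V ≤ B →
        ∀ g ∈ K, ∃ j : ℕ, g ^ p ^ j ∈ Subgroup.centralizer (V : Set G) := by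
      intro V
      induction V using (wellFounded_lt (α := Subgroup G)).induction with
      | h V ih =>
      intro hVn hVB g hg
      by_cases hV : V = ⊥
      · refine ⟨0, Subgroup.mem_centralizer_iff.2 fun v hv => ?_⟩
        rw [hV, SetLike.mem_coe, Subgroup.mem_bot] at hv
        simp [hv]
      have hVQ : V ≤ Q := hVB.trans hBQ
      set W := ⁅Q, V⁆ with hW
      have hWn : W.Normal := Subgroup.commutator_normal Q V
      have hWV : W < V := lt_of_le_of_ne (Subgroup.commutator_le_right Q V) (commutator_ne_self hQp hVQ hV)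
      rcases hirrN (K ⊓ trivOn V W) inferInstance
          (le_inf hQK fun q hq v hv => Subgroup.commutator_mem_commutator hq hv) inf_le_left with h | h
      · exfalso
        apply haQ
        refine hcentQ a ha fun k hk => ?_
        rw [← h]
        refine ⟨?_, CfsgLib.QuadAbelian.commutator_acts_trivially hodd hco hKm hKab
          (fun u hu v hv => Subgroup.commutator_mem_commutator (hVQ hu) hv)
          (fun v hv => by rw [hBexp v (hVB hv)]; exact one_mem _)
          (fun q hq v hv => Subgroup.commutator_mem_commutator hq hv)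
          (fun v hv => by rw [haB v (hVB hv)]; exact one_mem _) hk⟩
        exact K.mul_mem (‹K.Normal›.conj_mem k hk a) (K.inv_mem hk)
      · obtain ⟨j, hj⟩ := ih W hWV hWn (hWV.le.trans hVB) g hg
        refine ⟨j + 1, Subgroup.mem_centralizer_iff.2 fun v hv => ?_⟩
        have hgK : g ^ p ^ j ∈ K ⊓ trivOn V W := by rw [h]; exact pow_mem hg _
        have hd : ⁅g ^ p ^ j, v⁆ ∈ W := hgK.2 v hv
        rw [pow_succ, pow_mul, pow_mul_of_commutator_commute rfl
          (Subgroup.mem_centralizer_iff.1 hj _ hd) p, hBexp _ (hVB (hWV.le hd)), one_mul]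
    refine ⟨⊤, inferInstance, Subgroup.mem_top a, fun k _ => ?_⟩
    obtain ⟨j, hj⟩ := main B hBn le_rfl (k ^ p ^ n) (hK ▸ K.pow_index_mem k)
    exact ⟨n + j, by rwa [pow_add, pow_mul]⟩
  -- `Z ≤ Q`
  set Z := zj e D with hZ
  have hPD : (P : Subgroup G) ≤ Subgroup.normalizer (D : Set G) := fun g hg =>
    Subgroup.mem_normalizer_fintype fun d hd => hD.2 d hd g
      ((P : Subgroup G).mul_mem ((P : Subgroup G).mul_mem hg (hD.1 hd)) ((P : Subgroup G).inv_mem hg))
  have hZQ : Z ≤ Q := by
    intro z hz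
    set W := (frattini Q).map Q.subtype with hW
    have hWn : W.Normal := inferInstance
    have hQW : ∀ q ∈ Q, ∀ v ∈ Q, ⁅q, v⁆ ∈ W := fun q hq v hv =>
      ⟨⁅(⟨q, hq⟩ : Q), ⟨v, hv⟩⁆, CfsgLib.PGroup.commutator_le_frattini hQp
        (CfsgLib.PGroup.commutatorElement_mem_commutator' _ _), rfl⟩
    have hquad : ∀ v ∈ Q, ⁅z, ⁅z, v⁆⁆ ∈ W := by
      intro v hv
      have h1 : ⁅z, v⁆ ∈ Z := by
        have hvN : v ∈ Subgroup.normalizer (Z : Set G) :=
          normalizer_le_normalizer_zj e _ (hPD (hQP hv))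
        have := mul_mem hz ((Subgroup.mem_normalizer_iff.1 hvN z⁻¹).1 (inv_mem hz))
        simpa [commutatorElement_def, mul_assoc] using this
      rw [commutatorElement_eq_one_iff_mul_comm.2 (Subgroup.mem_centralizer_iff.1 h1.2 z hz.1)]
      exact one_mem _
    rcases hirrN (K ⊓ trivOn Q W) inferInstance (le_inf hQK hQW) inf_le_left with h | h
    · refine hcentQ z (hD.1 (zj_le e _ hz)) fun k hk => ?_
      rw [← h]
      refine ⟨?_, CfsgLib.QuadAbelian.commutator_acts_trivially hodd hco hKm hKab hQW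
        (fun v hv => ⟨(⟨v, hv⟩ : Q) ^ p, CfsgLib.PGroup.pow_mem_frattini hQp _, rfl⟩)
        hQW hquad hk⟩
      exact K.mul_mem (‹K.Normal›.conj_mem k hk z) (K.inv_mem hk)
    · exfalso
      apply hne
      refine le_antisymm (fun x hx => ?_) hQK
      obtain ⟨j, hj⟩ := exists_pow_coprime (p := p) x
      obtain ⟨i, hi⟩ := IsPGroup.iff_card.1 (hQp.to_subgroup (frattini Q) |>.map Q.subtype)
      have hc : Subgroup.zpowers (x ^ p ^ j) ≤ Subgroup.centralizer (Q : Set G) := by
        apply CfsgLib.Solvable.le_centralizer_of_trivial_on_frattini_quotient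
        · rw [Nat.card_zpowers, ← Subgroup.card_map_of_injective Q.subtype_injective, hi]
          exact hj.pow_right i
        · intro y hy v hv
          have hyT : y ∈ trivOn Q W := by
            refine Subgroup.zpowers_le.2 ?_ hy
            exact (h.symm ▸ pow_mem hx _ : x ^ p ^ j ∈ K ⊓ trivOn Q W).2
          exact hyT v hv
      exact hKel x hx j (hfree _ (hc (Subgroup.mem_zpowers _)) hj)
  have hQDn : (Q ⊓ D).Normal := ⟨fun x hx g => ⟨‹Q.Normal›.conj_mem x hx.1 g,
    hD.2 x hx.2 g (hQP (‹Q.Normal›.conj_mem x hx.1 g))⟩⟩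
  have := zj_inf_normal_rel hp2 P he hst hD (Q ⊓ D) hQDn inf_le_right
  rwa [← hZ, inf_eq_left.2 (le_inf hZQ (zj_le e D))] at this

theorem npc_of_top (h : Cfsg.HasNormalPComplement p (⊤ : Subgroup G)) :
    Cfsg.HasNormalPComplement p G :=
  hasNormalPComplement_of_equiv Subgroup.topEquiv h

theorem npc_map {H : Type*} [Group H] [Finite H] (f : G →* H) (N : Subgroup G)
    (h : Cfsg.HasNormalPComplement p N) : Cfsg.HasNormalPComplement p (N.map f) :=
  hasNormalPComplement_of_surjective (f.subgroupMap N) (f.subgroupMap_surjective N) h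

/-- The normalizer condition passes back along an injective homomorphism. -/
theorem npc_normalizer_of_map {H : Type*} [Group H] [Finite H] (f : H →* G)
    (hf : Function.Injective f) (X : Subgroup H)
    (h : Cfsg.HasNormalPComplement p (Subgroup.normalizer (X.map f : Set G))) :
    Cfsg.HasNormalPComplement p (Subgroup.normalizer (X : Set H)) :=
  hasNormalPComplement_of_equiv ((Subgroup.normalizer (X : Set H)).equivMapOfInjective f hf).symm
    (hasNormalPComplement_of_le (Subgroup.le_normalizer_map f) h)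

omit [Finite G] hp in
/-- `zj` commutes with maps injective on the subgroup. -/
theorem zj_map_of_injOn {H : Type*} [Group H] {f : G →* H} (e : ℕ) (D : Subgroup G)
    (hf : Function.Injective (f.comp D.subtype)) : (zj e D).map f = zj e (D.map f) := by
  have h1 := zj_map D.subtype_injective e ⊤
  have h2 := zj_map hf e ⊤
  rw [← MonoidHom.range_eq_map, Subgroup.range_subtype] at h1
  rw [← Subgroup.map_map, ← Subgroup.map_map, h1, ← MonoidHom.range_eq_map, Subgroup.range_subtype] at h2
  exact h2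

omit [Finite G] hp in
/-- Strong closure is carried along by a surjection with a covering condition. -/
theorem stronglyClosedIn_map {H : Type*} [Group H] (f : G →* H) (hf : Function.Surjective f)
    {P D : Subgroup G} (hD : StronglyClosedIn P D)
    (hlift : ∀ d ∈ D, ∀ g : G, f (g * d * g⁻¹) ∈ P.map f →
      ∃ g' : G, g' * d * g'⁻¹ ∈ P ∧ f (g' * d * g'⁻¹) = f (g * d * g⁻¹)) :
    StronglyClosedIn (P.map f) (D.map f) := by
  refine ⟨Subgroup.map_mono hD.1, ?_⟩
  rintro _ ⟨d, hd, rfl⟩ y hy
  obtain ⟨g, rfl⟩ := hf y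
  rw [← map_mul, ← map_inv, ← map_mul] at hy ⊢
  obtain ⟨g', hg', he⟩ := hlift d hd g hy
  rw [← he]
  exact Subgroup.mem_map_of_mem f (hD.2 d hd g' hg')

omit [Finite G] hp in
theorem stronglyClosedIn_conj {P D : Subgroup G} (hD : StronglyClosedIn P D) (g : G) :
    StronglyClosedIn (P.map (MulAut.conj g).toMonoidHom) (D.map (MulAut.conj g).toMonoidHom) :=
  stronglyClosedIn_map _ (MulAut.conj g).surjective hD fun d _ x hx => ⟨x, by
    obtain ⟨y, hy, hye⟩ := hx
    rwa [(MulAut.conj g).injective hye] at hy, rfl⟩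

omit [Finite G] hp in
theorem stronglyClosedIn_subgroupOf {P D S : Subgroup G} (H : Subgroup G) (hSH : S ≤ H) (hSP : S ≤ P)
    (hD : StronglyClosedIn P D) :
    StronglyClosedIn (S.subgroupOf H) ((D ⊓ S).subgroupOf H) :=
  ⟨Subgroup.comap_mono inf_le_right, fun d hd g hg => ⟨hD.2 _ hd.1 g (hSP hg), hg⟩⟩

omit [Finite G] hp in
theorem npc_of_normalizer_zj_aux (p : ℕ) [hp : Fact p.Prime] (hp2 : p ≠ 2) (e : ℕ)
    (he : e = 0 ∨ e = p) : ∀ (n : ℕ) (G : Type u) [Group G] [Finite G], Nat.card G = n →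
    ∀ (P : Sylow p G) (D : Subgroup G), StronglyClosedIn (P : Subgroup G) D →
    Cfsg.HasNormalPComplement p (Subgroup.normalizer (zj e D : Set G)) →
    Cfsg.HasNormalPComplement p G := by
  intro n
  induction n using Nat.strong_induction_on with
  | _ n ih =>
  intro G _ _ hn P D hD hN
  have hpp := hp.out
  by_contra hG
  have hNtop : Subgroup.normalizer (zj e D : Set G) ≠ ⊤ := fun h => by
    rw [h] at hN
    exact hG (npc_of_top hN)
  have hnotn : ¬ D.Normal := fun h => hNtop (by
    rw [eq_top_iff, ← Subgroup.normalizer_eq_top_iff.2 h]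
    exact normalizer_le_normalizer_zj e _)
  have hDne : D ≠ ⊥ := fun h => hnotn (by rw [h]; infer_instance)
  have hPD : (P : Subgroup G) ≤ Subgroup.normalizer (D : Set G) := fun g hg =>
    Subgroup.mem_normalizer_fintype fun d hd => hD.2 d hd g
      ((P : Subgroup G).mul_mem ((P : Subgroup G).mul_mem hg (hD.1 hd)) ((P : Subgroup G).inv_mem hg))
  -- subgroups
  have hsub : ∀ (H : Subgroup G) (S : Sylow p H), H ≠ ⊤ → ∀ D' : Subgroup H,
      StronglyClosedIn (S : Subgroup H) D' →
      Cfsg.HasNormalPComplement p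
        (Subgroup.normalizer (zj e (D'.map H.subtype) : Set G)) →
      Cfsg.HasNormalPComplement p H := by
    intro H S hH D' hD' hS
    refine ih (Nat.card H) ?_ H rfl S D' hD' (npc_normalizer_of_map H.subtype H.subtype_injective _ ?_)
    · rw [← hn]
      by_contra hge
      exact hH (Subgroup.eq_top_of_le_card H (not_lt.1 hge))
    · rwa [zj_map H.subtype_injective]
  have hprop : ∀ H : Subgroup G, (P : Subgroup G) ≤ H → H ≠ ⊤ → Cfsg.HasNormalPComplement p H := by
    intro H hPH hH
    refine hsub H (P.subtype hPH) hH ((D ⊓ (P : Subgroup G)).subgroupOf H) ?_ ?_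
    · rw [Sylow.coe_subtype]
      exact stronglyClosedIn_subgroupOf H hPH le_rfl hD
    · rwa [inf_eq_left.2 hD.1, Subgroup.map_subgroupOf_eq_of_le (hD.1.trans hPH)]
  -- a nontrivial normal p-subgroup
  obtain ⟨Q0, hQ0p, hQ0ne, hQ0n⟩ : ∃ Q0 : Subgroup G, IsPGroup p Q0 ∧ Q0 ≠ ⊥ ∧ Q0.Normal := by
    have hbad : {R : Subgroup G | IsPGroup p R ∧ R ≠ ⊥ ∧
        ¬ Cfsg.HasNormalPComplement p (Subgroup.normalizer (R : Set G))}.Nonempty := by
      by_contra hc
      apply hG
      refine frobenius_local fun R hR hRne => ?_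
      by_contra hR'
      exact hc ⟨R, hR, hRne, hR'⟩
    obtain ⟨R, ⟨hR, hRne, hR'⟩, hmax⟩ := Set.exists_max_image _
      (fun R : Subgroup G => (Nat.card (Subgroup.normalizer (R : Set G))).factorization p)
      (Set.toFinite _) hbad
    set H := Subgroup.normalizer (R : Set G) with hHdef
    refine ⟨R, hR, hRne, Subgroup.normalizer_eq_top_iff.1 ?_⟩
    by_contra hH
    obtain ⟨S⟩ : Nonempty (Sylow p H) := inferInstance
    set S' := (S : Subgroup H).map H.subtype with hS'
    have hS'p : IsPGroup p S' := S.isPGroup'.map _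
    have hS'H : S' ≤ H := Subgroup.map_subtype_le _
    have hS'S : S'.subgroupOf H = (S : Subgroup H) :=
      Subgroup.comap_map_eq_self_of_injective H.subtype_injective _
    have hRS : R ≤ S' := by
      have h0 : R.subgroupOf H ≤ (S : Subgroup H) :=
        (hR.of_equiv (Subgroup.subgroupOfEquivOfLe Subgroup.le_normalizer).symm).le_sylow_of_normal S
      have h1 := Subgroup.map_mono (f := H.subtype) h0
      rwa [Subgroup.map_subgroupOf_eq_of_le Subgroup.le_normalizer] at h1
    obtain ⟨T, hT⟩ := hS'p.exists_le_sylow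
    obtain ⟨w, hw⟩ := MulAction.exists_smul_eq G P T
    set DT := D.map (MulAut.conj w).toMonoidHom with hDT
    have hPT : (P : Subgroup G).map (MulAut.conj w).toMonoidHom = (T : Subgroup G) :=
      congrArg Sylow.toSubgroup hw
    have hDTsc : StronglyClosedIn (T : Subgroup G) DT := hPT ▸ stronglyClosedIn_conj hD w
    have hNT : Cfsg.HasNormalPComplement p (Subgroup.normalizer (zj e DT : Set G)) := by
      refine npc_normalizer_of_map (MulAut.conj w⁻¹).toMonoidHom (MulAut.conj w⁻¹).injective _ ?_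
      rw [zj_map (MulAut.conj w⁻¹).injective, hDT, Subgroup.map_map,
        show (MulAut.conj w⁻¹).toMonoidHom.comp (MulAut.conj w).toMonoidHom = MonoidHom.id G from
          MonoidHom.ext fun x => by simp [mul_assoc], Subgroup.map_id]
      exact hN
    apply hR'
    refine hsub H S hH ((DT ⊓ S').subgroupOf H)
      (hS'S ▸ stronglyClosedIn_subgroupOf H hS'H hT hDTsc) ?_
    rw [Subgroup.map_subgroupOf_eq_of_le (inf_le_right.trans hS'H)]
    by_cases hTS : S' = (T : Subgroup G)
    · rwa [hTS, inf_eq_left.2 hDTsc.1]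
    · by_contra hbadS
      set U := (T : Subgroup G) ⊓ Subgroup.normalizer (S' : Set G) with hU
      have hlt : S' < U :=
        CfsgLib.PLoc.lt_inf_normalizer_of_pgroup T.isPGroup' (lt_of_le_of_ne hT hTS)
      have hTDT : (T : Subgroup G) ≤ Subgroup.normalizer (DT : Set G) := fun g hg =>
        Subgroup.mem_normalizer_fintype fun d hd => hDTsc.2 d hd g
          ((T : Subgroup G).mul_mem ((T : Subgroup G).mul_mem hg (hDTsc.1 hd)) ((T : Subgroup G).inv_mem hg))
      have hUN : U ≤ Subgroup.normalizer (zj e (DT ⊓ S') : Set G) :=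
        (le_inf (inf_le_left.trans hTDT) inf_le_right).trans
          (Subgroup.inf_normalizer_le_normalizer_inf.trans (normalizer_le_normalizer_zj e _))
      -- `Z(T)` lies in `S'`, so `DT ⊓ S'` is nontrivial
      have hne : DT ⊓ S' ≠ ⊥ := by
        have hDTne : DT ≠ ⊥ := fun h => hDne
          ((Subgroup.map_eq_bot_iff_of_injective _ (MulAut.conj w).injective).1 h)
        have hn' : (DT.subgroupOf (T : Subgroup G)).Normal :=
          (Subgroup.normal_subgroupOf_iff_le_normalizer hDTsc.1).2 hTDT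
        have hb : DT.subgroupOf (T : Subgroup G) ≠ ⊥ := fun h => hDTne (by
          rw [← Subgroup.map_subgroupOf_eq_of_le hDTsc.1, h, Subgroup.map_bot])
        obtain ⟨z, hz, hzc, hzo⟩ := CfsgLib.PGroup.exists_central_orderOf_eq T.isPGroup' _ hb
        intro hbot
        have hzS : (z : G) ∈ S' := by
          have hzH : (z : G) ∈ H := Subgroup.centralizer_le_normalizer _
            (Subgroup.mem_centralizer_iff.2 fun r hr =>
              congrArg Subtype.val (Subgroup.mem_center_iff.1 hzc ⟨r, hT (hRS hr)⟩))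
          have heq : ((T : Subgroup G) ⊓ H).subgroupOf H = (S : Subgroup H) := S.3
            ((T.isPGroup'.to_le inf_le_left).of_equiv (Subgroup.subgroupOfEquivOfLe inf_le_right).symm)
            (fun x hx => Subgroup.mem_subgroupOf.2
              ⟨hT (Subgroup.mem_map_of_mem H.subtype hx), x.2⟩)
          exact ⟨⟨(z : G), hzH⟩, heq.le (Subgroup.mem_subgroupOf.2 ⟨z.2, hzH⟩), rfl⟩
        have h1 : (z : G) ∈ DT ⊓ S' := ⟨hz, hzS⟩
        rw [hbot, Subgroup.mem_bot] at h1
        rw [show z = 1 from Subtype.ext h1, orderOf_one] at hzo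
        exact hpp.ne_one hzo.symm
      have hZp : IsPGroup p (DT ⊓ S' : Subgroup G) := hS'p.to_le inf_le_right
      have h1 := hmax (zj e (DT ⊓ S')) ⟨hZp.to_le (zj_le e _), zj_ne_bot he hZp hne, hbadS⟩
      obtain ⟨i, hi⟩ := IsPGroup.iff_card.1 (T.isPGroup'.to_le (inf_le_left : U ≤ _))
      have h2 : i ≤ (Nat.card (Subgroup.normalizer (zj e (DT ⊓ S') : Set G))).factorization p :=
        (hpp.pow_dvd_iff_le_factorization Nat.card_pos.ne').1 (hi ▸ Subgroup.card_dvd_of_le hUN)
      have h3 : (Nat.card H).factorization p < i := by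
        have h4 : Nat.card S' < Nat.card U :=
          lt_of_not_ge fun hge => hlt.ne (Subgroup.eq_of_le_of_card_ge hlt.le hge)
        rw [hS', Subgroup.card_map_of_injective H.subtype_injective, S.card_eq_multiplicity, hi] at h4
        exact (Nat.pow_lt_pow_iff_right hpp.one_lt).1 h4
      omega
  set Q := (P : Subgroup G).normalCore with hQdef
  have hQP : Q ≤ (P : Subgroup G) := Subgroup.normalCore_le _
  have hQn : Q.Normal := Subgroup.normalCore_normal _
  have hQmax : ∀ N : Subgroup G, N.Normal → IsPGroup p N → N ≤ Q := fun N hNn hNp =>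
    Subgroup.normal_le_normalCore.2 (hNp.le_sylow_of_normal P)
  have hQ0Q : Q0 ≤ Q := hQmax Q0 hQ0n hQ0p
  have hQne : Q ≠ ⊥ := fun h => hQ0ne (le_bot_iff.1 (hQ0Q.trans h.le))
  have hDQ : ¬ D ≤ Q := fun h => hnotn ⟨fun d hd g =>
    hD.2 d hd g (hQP (hQn.conj_mem d (h hd) g))⟩
  -- no normal p'-subgroup
  have hpc : ∀ N : Subgroup G, N.Normal → (Nat.card N).Coprime p → N = ⊥ := by
    intro N hNn hco
    by_contra hNne
    apply hG
    refine CfsgLib.Transfer.hasNormalPComplement_of_quotient N
      ((Nat.Prime.coprime_iff_not_dvd hpp).1 hco.symm) ?_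
    have hlt : Nat.card (G ⧸ N) < n := by
      rw [← hn, ← Subgroup.card_mul_index N, ← Subgroup.index_eq_card]
      exact lt_mul_left (Nat.pos_of_ne_zero Subgroup.index_ne_zero_of_finite)
        (Subgroup.one_lt_card_iff_ne_bot N |>.2 hNne)
    have hsurj := QuotientGroup.mk'_surjective N
    have hinj : Function.Injective ((QuotientGroup.mk' N).comp D.subtype) := by
      rw [injective_iff_map_eq_one]
      intro x hx
      rw [MonoidHom.comp_apply, QuotientGroup.mk'_apply, QuotientGroup.eq_one_iff] at hx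
      obtain ⟨j, hj⟩ := P.isPGroup'.to_le hD.1 x
      exact eq_one_of_coprime_of_pow hj (hco.coprime_dvd_left
        (by rw [← Subgroup.orderOf_coe]; exact Subgroup.orderOf_dvd_natCard _ hx))
    refine ih _ hlt (G ⧸ N) rfl (P.mapSurjective hsurj) (D.map (QuotientGroup.mk' N)) ?_ ?_
    · rw [Sylow.coe_mapSurjective]
      refine stronglyClosedIn_map _ hsurj hD fun d hd g hg => ?_
      -- `g d g⁻¹` lies in `P N`, whose Sylow subgroup is `P`
      set J := ((P : Subgroup G).map (QuotientGroup.mk' N)).comap (QuotientGroup.mk' N) with hJ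
      have hPJ : (P : Subgroup G) ≤ J := Subgroup.le_comap_map _ _
      have hJsup : J = (P : Subgroup G) ⊔ N := by
        rw [hJ, Subgroup.comap_map_eq, QuotientGroup.ker_mk']
      have hcyc : IsPGroup p (Subgroup.zpowers (g * d * g⁻¹)) := by
        refine ((P.isPGroup'.to_le hD.1).map (MulAut.conj g).toMonoidHom).to_le ?_
        rw [Subgroup.zpowers_le]
        exact ⟨d, hd, rfl⟩
      have hgJ : g * d * g⁻¹ ∈ J := hg
      obtain ⟨S, hS⟩ := IsPGroup.exists_le_sylow (P := (Subgroup.zpowers (g * d * g⁻¹)).subgroupOf J)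
        (hcyc.of_equiv (Subgroup.subgroupOfEquivOfLe (Subgroup.zpowers_le.2 hgJ)).symm)
      obtain ⟨j, hj⟩ := MulAction.exists_smul_eq J S (P.subtype hPJ)
      obtain ⟨n₁, hn₁, u, hu, hju⟩ := Subgroup.mem_sup_of_normal_right.1 (hJsup.le j.2)
      have h1 : (⟨g * d * g⁻¹, hgJ⟩ : J) ∈ (S : Subgroup J) :=
        hS (Subgroup.mem_subgroupOf.2 (Subgroup.mem_zpowers _))
      have h2 : j * ⟨g * d * g⁻¹, hgJ⟩ * j⁻¹ ∈ (P.subtype hPJ : Subgroup J) := by
        rw [← hj, Sylow.coe_subgroup_smul]
        exact ⟨_, h1, rfl⟩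
      rw [Sylow.coe_subtype, Subgroup.mem_subgroupOf] at h2
      push_cast at h2
      rw [← hju] at h2
      have h3 := (P : Subgroup G).mul_mem ((P : Subgroup G).mul_mem
        ((P : Subgroup G).inv_mem hn₁) h2) hn₁
      refine ⟨u * g, by convert h3 using 1; group, ?_⟩
      have hu1 : QuotientGroup.mk' N u = 1 := (QuotientGroup.eq_one_iff u).2 hu
      simp only [map_mul, map_inv, mul_inv_rev, hu1, one_mul, inv_one, mul_one]
    · rw [← zj_map_of_injOn e _ hinj,
        CfsgLib.PLoc.normalizer_map_eq hsurj (by rwa [QuotientGroup.ker_mk'])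
          ((P.isPGroup'.to_le hD.1).to_le (zj_le e _))]
      exact npc_map _ _ hN
  have hQP' : Q ≠ (P : Subgroup G) := fun h => hDQ (h.symm ▸ hD.1)
  -- the quotient by `Q` has a normal p-complement
  set f := QuotientGroup.mk' Q with hf
  have hsurj := QuotientGroup.mk'_surjective Q
  have hker : f.ker = Q := QuotientGroup.ker_mk' Q
  set Db := D.map f with hDb
  have hDbne : Db ≠ ⊥ := fun h => hDQ (by rw [hDb, Subgroup.map_eq_bot_iff, hker] at h; exact h)
  have hDbsc : StronglyClosedIn ((P : Subgroup G).map f) Db :=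
    stronglyClosedIn_map f hsurj hD fun d hd g hg => ⟨g, by
      have h1 : g * d * g⁻¹ ∈ ((P : Subgroup G).map f).comap f := hg
      rwa [Subgroup.comap_map_eq, hker, sup_eq_left.2 hQP] at h1, rfl⟩
  have hZb : Cfsg.HasNormalPComplement p (G ⧸ Q) := by
    have hlt : Nat.card (G ⧸ Q) < n := by
      rw [← hn, ← Subgroup.card_mul_index Q, ← Subgroup.index_eq_card]
      exact lt_mul_left (Nat.pos_of_ne_zero Subgroup.index_ne_zero_of_finite)
        (Subgroup.one_lt_card_iff_ne_bot Q |>.2 hQne)
    refine ih _ hlt (G ⧸ Q) rfl (P.mapSurjective hsurj) Db (by rw [Sylow.coe_mapSurjective]; exact hDbsc) ?_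
    have hDbp : IsPGroup p Db := (P.isPGroup'.to_le hD.1).map f
    set Zb := zj e Db with hZbdef
    set X := Zb.comap f with hXdef
    have hPX : (P : Subgroup G) ≤ Subgroup.normalizer (X : Set G) := fun x hx => by
      rw [hXdef, ← Subgroup.comap_normalizer_eq_of_surjective _ hsurj]
      exact normalizer_le_normalizer_zj e _
        (Subgroup.le_normalizer_map f (Subgroup.mem_map_of_mem f (hPD hx)))
    have hXp : IsPGroup p X := (hDbp.to_le (zj_le e _)).comap_of_ker_isPGroup f
      (by rw [hker]; exact P.isPGroup'.to_le hQP)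
    have hNX : Subgroup.normalizer (X : Set G) ≠ ⊤ := fun h => by
      have hXQ : X ≤ Q := hQmax X (Subgroup.normalizer_eq_top_iff.1 h) hXp
      apply zj_ne_bot he hDbp hDbne
      rw [← hZbdef, ← Subgroup.map_comap_eq_self_of_surjective hsurj Zb, ← hXdef, eq_bot_iff]
      exact (Subgroup.map_mono hXQ).trans ((Subgroup.map_eq_bot_iff Q).2 hker.ge).le
    have h1 := npc_map f _ (hprop _ hPX hNX)
    rwa [hXdef, ← Subgroup.comap_normalizer_eq_of_surjective _ hsurj,
      Subgroup.map_comap_eq_self_of_surjective hsurj] at h1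
  obtain ⟨Kb, hKbn, hKbco, k, hkk⟩ := hasNormalPComplement_iff.1 hZb
  set K := Kb.comap f with hKdef
  have hKidx : K.index = p ^ k := by rw [hKdef, Subgroup.index_comap_of_surjective _ hsurj, hkk]
  have hQK : Q ≤ K := hker ▸ Subgroup.ker_le_comap f Kb
  have hKQ : K ≠ Q := fun h => by
    apply hQP'
    refine le_antisymm hQP fun x hx => ?_
    have hKb : Kb = ⊥ := by
      rw [← Subgroup.map_comap_eq_self_of_surjective hsurj Kb, ← hKdef, h]
      exact (Subgroup.map_eq_bot_iff Q).2 hker.ge
    rw [hKb, Subgroup.index_bot] at hkk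
    have htopp : IsPGroup p (⊤ : Subgroup G) := by
      have := (IsPGroup.of_card (p := p) (n := k) (G := (⊤ : Subgroup (G ⧸ Q)))
        (by rw [Subgroup.card_top, hkk])).comap_of_ker_isPGroup f
          (by rw [hker]; exact P.isPGroup'.to_le hQP)
      rwa [Subgroup.comap_top] at this
    exact hQmax ⊤ inferInstance htopp (Subgroup.mem_top x)
  have hKn : K.Normal := hKbn.comap f
  apply hNtop
  rw [Subgroup.normalizer_eq_top_iff]
  refine normal_zj_of_config hp2 he P hQP hQmax hpc hprop hKidx hQK hKQ ?_ hD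
  rwa [hKdef, ← hf, Subgroup.map_comap_eq_self_of_surjective hsurj]

/-- **Glauberman–Thompson**, relative to a strongly closed subgroup `D`. -/
theorem hasNormalPComplement_of_normalizer_zj_rel (hp2 : p ≠ 2) {e : ℕ} (he : e = 0 ∨ e = p)
    (P : Sylow p G) {D : Subgroup G} (hD : StronglyClosedIn (P : Subgroup G) D)
    (h : Cfsg.HasNormalPComplement p (Subgroup.normalizer (zj e D : Set G))) :
    Cfsg.HasNormalPComplement p G :=
  npc_of_normalizer_zj_aux p hp2 e he _ G rfl P D hD h

/-- **Glauberman–Thompson**: for odd `p`, a group has a normal p-complement as soon as the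
normalizer of `Z(J(P))` has one. -/
theorem hasNormalPComplement_of_normalizer_zj (hp2 : p ≠ 2) {e : ℕ} (he : e = 0 ∨ e = p)
    (P : Sylow p G)
    (h : Cfsg.HasNormalPComplement p (Subgroup.normalizer (zj e (P : Subgroup G) : Set G))) :
    Cfsg.HasNormalPComplement p G :=
  hasNormalPComplement_of_normalizer_zj_rel hp2 he P (stronglyClosedIn_self _) h

end CfsgLib.GlaubermanThompson
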