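import Cfsg.Agent.Lib.Fusion.Saturation

/-!
# Centric subgroups

Maps agreeing on a centric subgroup differ by conjugation by an element of its centre.
-/

set_option autoImplicit false

namespace CfsgLib.Fusion

open Cfsg Cfsg.FusionSystem

variable {Ω : Type*} [Group Ω] {S : Subgroup Ω} {F : Cfsg.FusionSystem S}
variable {P Q R : Subgroup Ω} {p : ℕ}

theorem IsFIso.apply_mem_centralizer {e : P ≃* Q} {c : P}
    (hc : (c : Ω) ∈ Subgroup.centralizer (P : Set Ω)) :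
    (e c : Ω) ∈ Subgroup.centralizer (Q : Set Ω) := by
  rw [Subgroup.mem_centralizer_iff]
  intro y hy
  have h1 : e.symm ⟨y, hy⟩ * c = c * e.symm ⟨y, hy⟩ :=
    Subtype.ext (Subgroup.mem_centralizer_iff.1 hc _ (e.symm ⟨y, hy⟩).2)
  have h2 := congrArg (fun t => (e t : Ω)) h1
  simpa only [map_mul, MulEquiv.apply_symm_apply, Subgroup.coe_mul] using h2

theorem isCentric_of_isConj (hP : F.IsCentric P) (h : F.IsConj P Q) : F.IsCentric Q :=
  ⟨isConj_le_right h, fun _ hR => hP.2 _ (isConj_trans h hR)⟩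

theorem centralizerIn_le_of_isCentric (hP : F.IsCentric P) : centralizerIn S P ≤ P :=
  hP.2 P (isConj_refl F hP.1)

/-- Overgroups of centric subgroups are centric. -/
theorem isCentric_mono (hP : F.IsCentric P) (hPQ : P ≤ Q) (hQS : Q ≤ S) : F.IsCentric Q := by
  refine ⟨hQS, fun R hR => ?_⟩
  obtain ⟨φ, hφ, rfl⟩ := hR
  have h1 : F.IsConj P ((P.subgroupOf Q).map φ) :=
    ⟨_, restrict_mem hφ hPQ, range_comp_inclusion hPQ⟩
  have hle : (P.subgroupOf Q).map φ ≤ φ.range := Subgroup.map_le_range _ _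
  refine le_trans ?_ ((hP.2 _ h1).trans hle)
  exact inf_le_inf_left _ (Subgroup.centralizer_le hle)

theorem isFullyCentralized_of_isCentric [Finite S] (hP : F.IsCentric P) :
    F.IsFullyCentralized P := by
  refine ⟨hP.1, fun Q hQ => ?_⟩
  obtain ⟨e, he⟩ := exists_iso_of_isConj (isConj_symm hQ)
  have hC : centralizerIn S Q ≤ Q := hP.2 Q hQ
  have : Finite (centralizerIn S P) := finite_of_le (centralizerIn_le S P)
  refine Nat.card_le_card_of_injective
    (fun c : centralizerIn S Q => (⟨e ⟨c, hC c.2⟩, hP.1 (e _).2,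
      IsFIso.apply_mem_centralizer (e := e) (c := ⟨c, hC c.2⟩) c.2.2⟩ : centralizerIn S P)) ?_
  intro a b hab
  have h1 := e.injective (Subtype.ext (congrArg (fun t : centralizerIn S P => (t : Ω)) hab))
  exact Subtype.ext (Subtype.ext_iff.1 h1 :)

theorem isReceptive_of_isCentric [Finite S] [Fact p.Prime] (hS : IsPGroup p S)
    (hF : F.IsSaturated p) (hP : F.IsCentric P) : F.IsReceptive P :=
  isReceptive_of_isFullyCentralized hS hF (isFullyCentralized_of_isCentric hP)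

/-- A self-centralizing fully centralized subgroup is centric. -/
theorem isCentric_of_isFullyCentralized [Finite S] [Fact p.Prime] (hS : IsPGroup p S)
    (hF : F.IsSaturated p) (hP : F.IsFullyCentralized P) (hC : centralizerIn S P ≤ P) :
    F.IsCentric P := by
  refine ⟨hP.1, fun Q hQ => ?_⟩
  obtain ⟨e, he⟩ := exists_iso_of_isConj (isConj_symm hQ)
  have hext : Q ⊔ centralizerIn S Q ≤ extender S Q (P.subtype.comp e.toMonoidHom) :=
    sup_le (le_extender he.le_left fun x => map_mem he x) (centralizerIn_le_extender _)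
  have hR : Q ⊔ centralizerIn S Q ≤ normalizerIn S Q :=
    sup_le (le_normalizerIn he.le_left) (centralizerIn_le_normalizerIn S Q)
  obtain ⟨ψ, hψ, -, hag⟩ := he.exists_extension (isReceptive_of_isFullyCentralized hS hF hP)
    (le_sup_left (b := centralizerIn S Q)) hR
    fun g hg => (mem_extender_iff_congr e (fun _ => rfl) (hR hg).1 (hR hg).2).1 (hext hg)
  intro c hc
  have hmem : ψ ⟨c, le_sup_right (a := Q) hc⟩ ∈ P := hC ⟨map_mem hψ _,
    (map_mem_centralizer_iff_of_extends le_sup_left hag _ (centralizer_le_normalizer Q hc.2)).2 hc.2⟩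
  have h1 := hag (e.symm ⟨_, hmem⟩)
  rw [MulEquiv.apply_symm_apply] at h1
  have h2 := Subtype.ext_iff.1 (hom_inj hψ h1)
  have h3 : ((e.symm ⟨_, hmem⟩ : Q) : Ω) = c := h2
  rw [← h3]
  exact (e.symm ⟨_, hmem⟩).2

/-- A map fixing a normal centric subgroup pointwise is conjugation by an element of its centre. -/
theorem eq_conj_of_fix_centric_normal [Finite S] [Fact p.Prime] (hS : IsPGroup p S)
    (hF : F.IsSaturated p) (hQ : F.IsCentric Q) {φ : P →* Ω} (hφ : φ ∈ F.Hom P) (hQP : Q ≤ P)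
    (hPQ : P ≤ Subgroup.normalizer (Q : Set Ω)) (hfix : ∀ x : P, (x : Ω) ∈ Q → φ x = x) :
    ∃ z ∈ Q, z ∈ Subgroup.centralizer (Q : Set Ω) ∧ ∀ x : P, φ x = z * x * z⁻¹ := by
  have hPS : P ≤ S := dom_le hφ
  have : Finite P := finite_of_le hPS
  have : Finite (MulAut P) := finite_mulAut
  have hd : ∀ x : P, (x : Ω)⁻¹ * φ x ∈ Q := by
    intro x
    refine centralizerIn_le_of_isCentric hQ ⟨S.mul_mem (S.inv_mem (hPS x.2)) (map_mem hφ x), ?_⟩
    show (x : Ω)⁻¹ * φ x ∈ Subgroup.centralizer (Q : Set Ω)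
    rw [Subgroup.mem_centralizer_iff]
    intro q hq
    have h1 : (x : Ω) * q * (x : Ω)⁻¹ ∈ Q := conj_mem_of_mem_normalizer (hPQ x.2) hq
    have h2 : φ x * q * (φ x)⁻¹ = (x : Ω) * q * (x : Ω)⁻¹ := by
      have := hfix (x * ⟨q, hQP hq⟩ * x⁻¹) h1
      rw [map_mul, map_mul, map_inv, hfix ⟨q, hQP hq⟩ hq] at this
      exact this
    rw [mul_inv_eq_iff_eq_mul] at h2
    calc q * ((x : Ω)⁻¹ * φ x) = (x : Ω)⁻¹ * ((x : Ω) * q * (x : Ω)⁻¹ * φ x) := by simp [mul_assoc]
      _ = (x : Ω)⁻¹ * (φ x * q) := by rw [h2]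
      _ = (x : Ω)⁻¹ * φ x * q := (mul_assoc _ _ _).symm
  obtain ⟨α, hα, hαφ⟩ := exists_aut hφ (range_eq_of_le (hom_inj hφ) fun x => by
    simpa using P.mul_mem x.2 (hQP (hd x)))
  have hαfix : ∀ x : P, (x : Ω) ∈ Q → α x = x := fun x hx => Subtype.ext ((hαφ x).trans (hfix x hx))
  -- `α` is a `p`-element
  have hαp : IsPGroup p (Subgroup.zpowers (⟨α, hα⟩ : F.autGroup P)) := by
    have : Finite Q := finite_of_le hQ.1
    obtain ⟨k, hk⟩ := IsPGroup.iff_card.1 (isPGroup_of_le hS hQ.1)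
    refine IsPGroup.of_card_dvd_pow (n := k) ?_
    rw [Nat.card_zpowers, orderOf_dvd_iff_pow_eq_one]
    refine Subtype.ext (MulEquiv.ext fun x => ?_)
    show (α ^ p ^ k) x = x
    have hdx : ((x⁻¹ * α x : P) : Ω) ∈ Q := by
      simpa [hαφ] using hd x
    have hn : ∀ n : ℕ, (α ^ n) x = x * (x⁻¹ * α x) ^ n := by
      intro n
      induction n with
      | zero => simp
      | succ n ih =>
        rw [pow_succ', MulAut.mul_apply, ih, map_mul, map_pow, hαfix _ hdx, pow_succ']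
        simp [mul_assoc]
    rw [hn]
    have h0 : (⟨_, hdx⟩ : Q) ^ p ^ k = 1 := hk ▸ pow_card_eq_one'
    have : (x⁻¹ * α x) ^ p ^ k = 1 := Subtype.ext (by
      simpa using congrArg (fun t : Q => (t : Ω)) h0)
    rw [this, mul_one]
  -- move `P` to a fully automized conjugate
  obtain ⟨R, hPR, hR⟩ := exists_isFullyNormalized F hPS
  obtain ⟨e₀, he₀⟩ := exists_iso_of_isConj hPR
  obtain ⟨-, T, hT⟩ := isFullyAutomized_of_isFullyNormalized hS hF hR
  have : Finite R := finite_of_le hR.1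
  have : Finite (MulAut R) := finite_mulAut
  obtain ⟨γ, hγ⟩ := exists_conj_le_sylow T (IsPGroup.map hαp he₀.autEquiv.toMonoidHom)
  let e : P ≃* R := e₀.trans ((γ : MulAut R) : R ≃* R)
  have he : IsFIso F e := he₀.trans ((mem_autGroup_iff hR.1).1 γ.2)
  have hmem : MulAut.congr e α ∈ autInducedBy S R := by
    have := hγ (he₀.autEquiv ⟨α, hα⟩) ⟨_, Subgroup.mem_zpowers _, rfl⟩
    rw [hT, Subgroup.mem_subgroupOf] at this
    have heq : MulAut.congr e α = (γ : MulAut R) * MulAut.congr e₀ α * (γ : MulAut R)⁻¹ :=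
      MulEquiv.ext fun x => rfl
    rw [heq]
    exact this
  obtain ⟨g, hgR, hgS, hgeq⟩ := exists_eq_conjAut hmem
  have hg : ∀ x : P, (e (α x) : Ω) = g * (e x : Ω) * g⁻¹ := fun x => by
    have := congrArg (fun a : MulAut R => ((a (e x) : R) : Ω)) hgeq
    simpa only [congr_apply, MulEquiv.symm_apply_apply, conjAut_apply] using this
  -- the image of `Q` is centric, so it contains `g`
  have hconj : F.IsConj Q ((Q.subgroupOf P).map (R.subtype.comp e.toMonoidHom)) :=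
    ⟨_, restrict_mem he hQP, range_comp_inclusion hQP⟩
  have hgQ : g ∈ (Q.subgroupOf P).map (R.subtype.comp e.toMonoidHom) := by
    refine hQ.2 _ hconj ⟨hgS, ?_⟩
    show g ∈ Subgroup.centralizer _
    rw [Subgroup.mem_centralizer_iff]
    intro y hy
    obtain ⟨x, hx, hxQ, rfl⟩ := mem_map_subgroupOf.1 hy
    have := hg ⟨x, hx⟩
    rw [hαfix _ hxQ, eq_mul_inv_iff_mul_eq] at this
    exact this
  obtain ⟨z, hzP, hzQ, hze⟩ := mem_map_subgroupOf.1 hgQ
  have hzx : ∀ x : P, φ x = z * x * z⁻¹ := by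
    intro x
    have h1 : e (α x) = e (⟨z, hzP⟩ * x * ⟨z, hzP⟩⁻¹) := Subtype.ext (by
      rw [hg, ← hze, map_mul, map_mul, map_inv]
      rfl)
    have h2 := congrArg (fun t : P => (t : Ω)) (e.injective h1)
    simpa [hαφ] using h2
  refine ⟨z, hzQ, ?_, hzx⟩
  rw [Subgroup.mem_centralizer_iff]
  intro q hq
  have := hzx ⟨q, hQP hq⟩
  rw [hfix _ hq, eq_mul_inv_iff_mul_eq] at this
  exact this

/-- A map fixing a centric subgroup pointwise is conjugation by an element of its centre. -/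
theorem eq_conj_of_fix_centric [Finite S] [Fact p.Prime] (hS : IsPGroup p S)
    (hF : F.IsSaturated p) (hQ : F.IsCentric Q) {φ : P →* Ω} (hφ : φ ∈ F.Hom P) (hQP : Q ≤ P)
    (hfix : ∀ x : P, (x : Ω) ∈ Q → φ x = x) :
    ∃ z ∈ Q, z ∈ Subgroup.centralizer (Q : Set Ω) ∧ ∀ x : P, φ x = z * x * z⁻¹ := by
  obtain ⟨n, hn⟩ : ∃ n, Nat.card P ≤ Nat.card Q + n := ⟨_, Nat.le_add_left _ _⟩
  induction n using Nat.strong_induction_on generalizing Q φ with
  | _ n ih =>
    have hPS : P ≤ S := dom_le hφ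
    have : Finite P := finite_of_le hPS
    rcases eq_or_lt_of_le hQP with rfl | hlt
    · exact ⟨1, one_mem _, one_mem _, fun x => by simpa using hfix x x.2⟩
    set Q₁ := normalizerIn P Q
    have hQ₁P : Q₁ ≤ P := normalizerIn_le P Q
    have hQQ₁ : Q ≤ Q₁ := le_normalizerIn hQP
    obtain ⟨z, hzQ, hzC, hz⟩ := eq_conj_of_fix_centric_normal hS hF hQ (restrict_mem hφ hQ₁P)
      hQQ₁ inf_le_right fun x hx => hfix ⟨x, hQ₁P x.2⟩ hx
    have hzS : z ∈ S := hQ.1 hzQ
    have hcard : Nat.card Q < Nat.card Q₁ := by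
      have : Finite Q₁ := finite_of_le (hQ₁P.trans hPS)
      exact lt_of_not_ge fun hge => (lt_normalizerIn (isPGroup_of_le hS hPS) hlt).ne
        (Subgroup.eq_of_le_of_card_ge hQQ₁ hge)
    have hle : Nat.card Q₁ ≤ Nat.card P :=
      Nat.card_le_card_of_injective _ (Subgroup.inclusion_injective hQ₁P)
    obtain ⟨w, hwQ₁, hwC, hw⟩ := ih (Nat.card P - Nat.card Q₁) (by omega)
      (isCentric_mono hQ hQQ₁ (hQ₁P.trans hPS)) (conj_comp_mem hφ (S.inv_mem hzS)) hQ₁P
      (fun x hx => by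
        show z⁻¹ * φ x * z⁻¹⁻¹ = x
        have hzx : φ x = z * x * z⁻¹ := hz ⟨x, hx⟩
        rw [hzx]
        simp [mul_assoc]) (by omega)
    have hwC' : w ∈ Subgroup.centralizer (Q : Set Ω) := Subgroup.centralizer_le hQQ₁ hwC
    have hwQ : w ∈ Q := centralizerIn_le_of_isCentric hQ ⟨hPS (hQ₁P hwQ₁), hwC'⟩
    refine ⟨z * w, Q.mul_mem hzQ hwQ, mul_mem hzC hwC', fun x => ?_⟩
    have h1 : z⁻¹ * φ x * z⁻¹⁻¹ = w * x * w⁻¹ := hw x
    calc φ x = z * (z⁻¹ * φ x * z⁻¹⁻¹) * z⁻¹ := by simp [mul_assoc]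
      _ = z * (w * x * w⁻¹) * z⁻¹ := by rw [h1]
      _ = z * w * x * (z * w)⁻¹ := by simp [mul_assoc]

/-- Two maps agreeing on a centric subgroup differ by conjugation by an element of its centre. -/
theorem eq_comp_conj_of_eq_on_centric [Finite S] [Fact p.Prime] (hS : IsPGroup p S)
    (hF : F.IsSaturated p) (hQ : F.IsCentric Q) (hQP : Q ≤ P) {φ φ' : P →* Ω}
    (hφ : φ ∈ F.Hom P) (hφ' : φ' ∈ F.Hom P) (h : ∀ x : P, (x : Ω) ∈ Q → φ x = φ' x) :
    ∃ z : P, (z : Ω) ∈ Q ∧ (z : Ω) ∈ Subgroup.centralizer (Q : Set Ω) ∧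
      ∀ y : P, φ' y = φ (z * y * z⁻¹) := by
  obtain ⟨e, he, hex⟩ := exists_iso hφ rfl
  have hψ : φ'.comp e.symm.toMonoidHom ∈ F.Hom φ.range :=
    mem_of_comp he.symm hφ' (fun y => (e.symm y).2) _ fun _ => rfl
  obtain ⟨w, hwQ, hwC, hw⟩ := eq_conj_of_fix_centric hS hF
    (isCentric_of_isConj hQ ⟨_, restrict_mem hφ hQP, range_comp_inclusion hQP⟩) hψ
    (Subgroup.map_le_range _ _) fun y hy => by
      obtain ⟨x, hx, hxQ, hxy⟩ := mem_map_subgroupOf.1 hy
      have hy' : y = e ⟨x, hx⟩ := Subtype.ext (hxy.symm.trans (hex _).symm)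
      show φ' (e.symm y) = y
      rw [hy', MulEquiv.symm_apply_apply, ← h _ hxQ, hex]
  obtain ⟨z, hz, hzQ, rfl⟩ := mem_map_subgroupOf.1 hwQ
  refine ⟨⟨z, hz⟩, hzQ, ?_, fun y => ?_⟩
  · rw [Subgroup.mem_centralizer_iff]
    intro q hq
    have h1 := Subgroup.mem_centralizer_iff.1 hwC (φ ⟨q, hQP hq⟩)
      (apply_mem_map_subgroupOf _ hq)
    rw [← map_mul, ← map_mul] at h1
    exact Subtype.ext_iff.1 (hom_inj hφ h1)
  · have h1 : φ' (e.symm (e y)) = φ ⟨z, hz⟩ * (e y : Ω) * (φ ⟨z, hz⟩)⁻¹ := hw (e y)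
    rw [MulEquiv.symm_apply_apply, hex] at h1
    rw [h1, map_mul, map_mul, map_inv]

end CfsgLib.Fusion
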