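import Cfsg.Agent.Lib.Fusion.Basic

/-!
# Normalizer and centralizer systems as terms
-/

set_option autoImplicit false

namespace CfsgLib.Fusion

open Cfsg Cfsg.FusionSystem

variable {Ω : Type*} [Group Ω] {S : Subgroup Ω} {P Q R : Subgroup Ω}

/-- A map defined on `P ⊔ Q` sends it into `R` as soon as it sends `P` and `Q` into `R`. -/
theorem forall_mem_of_sup {φ : ↥(P ⊔ Q) →* Ω}
    (hP : ∀ x : P, φ (Subgroup.inclusion le_sup_left x) ∈ R)
    (hQ : ∀ x : Q, φ (Subgroup.inclusion le_sup_right x) ∈ R) (x : ↥(P ⊔ Q)) : φ x ∈ R := by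
  have hle : P ⊔ Q ≤ (R.comap φ).map (P ⊔ Q).subtype :=
    sup_le (fun y hy => ⟨⟨y, le_sup_left (b := Q) hy⟩, hP ⟨y, hy⟩, rfl⟩)
      (fun y hy => ⟨⟨y, le_sup_right (a := P) hy⟩, hQ ⟨y, hy⟩, rfl⟩)
  obtain ⟨y, hy, hyx⟩ := hle x.2
  obtain rfl : y = x := Subtype.ext hyx
  exact hy

theorem mem_of_map_subgroupOf_sup_eq {φ : ↥(P ⊔ Q) →* Ω}
    (h : (Q.subgroupOf (P ⊔ Q)).map φ = Q) (x : Q) :
    φ (Subgroup.inclusion le_sup_right x) ∈ Q := by
  have := apply_mem_map_subgroupOf (P := Q) (φ := φ) (Subgroup.inclusion le_sup_right x) x.2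
  rwa [h] at this

/-- The normalizer fusion system `N_F(Q)`. -/
def normalizerSystem (F : Cfsg.FusionSystem S) (Q : Subgroup Ω) (hQ : Q ≤ S) :
    Cfsg.FusionSystem (normalizerIn S Q) where
  Hom P := F.normalizerHom Q P
  le_of_mem h := ⟨h.2.1, h.2.2.1⟩
  injective_of_mem h := F.injective_of_mem h.1
  conj_mem := by
    intro P g hP hg
    have hPS : P ≤ S := hP.trans (normalizerIn_le S Q)
    refine ⟨F.conj_mem hPS hg.1, hP, fun x => ?_, conjHom (P ⊔ Q) g,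
      F.conj_mem (sup_le hPS hQ) hg.1, fun x => rfl, ?_⟩
    · exact (normalizerIn S Q).mul_mem ((normalizerIn S Q).mul_mem hg (hP x.2))
        ((normalizerIn S Q).inv_mem hg)
    · ext y
      rw [mem_map_subgroupOf]
      constructor
      · rintro ⟨x, hx, hxQ, rfl⟩
        exact conj_mem_of_mem_normalizer hg.2 hxQ
      · intro hy
        have hy' : g⁻¹ * y * g ∈ Q := (Subgroup.mem_normalizer_iff''.1 hg.2 y).1 hy
        refine ⟨g⁻¹ * y * g, le_sup_right (a := P) hy', hy', ?_⟩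
        show g * (g⁻¹ * y * g) * g⁻¹ = y
        simp [mul_assoc]
  comp_mem := by
    rintro P R φ ψ ⟨hφ, hPN, hφN, φ', hφ', hag₁, hQ₁⟩ ⟨hψ, hRN, hψN, ψ', hψ', hag₂, hQ₂⟩ h
    have hmem : ∀ x, φ' x ∈ R ⊔ Q :=
      forall_mem_of_sup (fun x => by rw [hag₁]; exact le_sup_left (b := Q) (h x))
        (fun x => le_sup_right (a := R) (mem_of_map_subgroupOf_sup_eq hQ₁ x))
    refine ⟨F.comp_mem hφ hψ h, hPN, fun x => hψN _, _, F.comp_mem hφ' hψ' hmem, fun x => ?_, ?_⟩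
    · show ψ' ⟨φ' (Subgroup.inclusion le_sup_left x), _⟩ = ψ ⟨φ x, h x⟩
      rw [← hag₂]
      congr 1
      exact Subtype.ext (hag₁ x)
    · ext y
      rw [mem_map_subgroupOf]
      constructor
      · rintro ⟨x, hx, hxQ, rfl⟩
        have hxQ' : φ' ⟨x, hx⟩ ∈ Q := by
          have := apply_mem_map_subgroupOf (φ := φ') ⟨x, hx⟩ hxQ
          rwa [hQ₁] at this
        have := apply_mem_map_subgroupOf (φ := ψ') ⟨φ' ⟨x, hx⟩, hmem _⟩ hxQ'
        rwa [hQ₂] at this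
      · intro hy
        rw [← hQ₂] at hy
        obtain ⟨z, hz, hzQ, rfl⟩ := mem_map_subgroupOf.1 hy
        rw [← hQ₁] at hzQ
        obtain ⟨x, hx, hxQ, rfl⟩ := mem_map_subgroupOf.1 hzQ
        exact ⟨x, hx, hxQ, rfl⟩
  inv_mem := by
    rintro P φ ⟨hφ, hPN, hφN, φ', hφ', hag₁, hQ₁⟩
    obtain ⟨ψ, hψ, hinv⟩ := F.inv_mem hφ
    obtain ⟨ψ', hψ', hinv'⟩ := F.inv_mem hφ'
    have hle : φ.range ⊔ Q ≤ φ'.range := by
      refine sup_le ?_ ?_
      · rintro _ ⟨x, rfl⟩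
        exact ⟨_, hag₁ x⟩
      · exact hQ₁.symm.le.trans (Subgroup.map_le_range _ _)
    have key : ∀ (x : ↥(P ⊔ Q)) (hx : φ' x ∈ φ.range ⊔ Q),
        ψ'.comp (Subgroup.inclusion hle) ⟨φ' x, hx⟩ = x := fun x _ => hinv' x
    refine ⟨ψ, ⟨hψ, ?_, ?_, _, restrict_mem hψ' hle, ?_, ?_⟩, hinv⟩
    · rintro _ ⟨x, rfl⟩
      exact hφN x
    · rintro ⟨_, x, rfl⟩
      rw [hinv]
      exact hPN x.2
    · rintro ⟨_, x, rfl⟩
      rw [hinv]
      have := key (Subgroup.inclusion le_sup_left x) (by rw [hag₁]; exact le_sup_left (b := Q) ⟨x, rfl⟩)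
      simp only [hag₁] at this
      exact this
    · ext y
      rw [mem_map_subgroupOf]
      constructor
      · rintro ⟨x, hx, hxQ, rfl⟩
        rw [← hQ₁] at hxQ
        obtain ⟨z, hz, hzQ, rfl⟩ := mem_map_subgroupOf.1 hxQ
        rw [key]
        exact hzQ
      · intro hy
        have hy' : φ' ⟨y, le_sup_right (a := P) hy⟩ ∈ Q := by
          have := apply_mem_map_subgroupOf (φ := φ') ⟨y, le_sup_right (a := P) hy⟩ hy
          rwa [hQ₁] at this
        exact ⟨_, le_sup_right (a := φ.range) hy', hy', key _ _⟩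

theorem isNormalizerSystem_normalizerSystem (F : Cfsg.FusionSystem S) (Q : Subgroup Ω) (hQ : Q ≤ S) :
    F.IsNormalizerSystem Q (normalizerSystem F Q hQ) := fun _ => rfl

/-- The centralizer fusion system `C_F(Q)`. -/
def centralizerSystem (F : Cfsg.FusionSystem S) (Q : Subgroup Ω) (hQ : Q ≤ S) :
    Cfsg.FusionSystem (centralizerIn S Q) where
  Hom P := F.centralizerHom Q P
  le_of_mem h := ⟨h.2.1, h.2.2.1⟩
  injective_of_mem h := F.injective_of_mem h.1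
  conj_mem := by
    intro P g hP hg
    have hPS : P ≤ S := hP.trans (centralizerIn_le S Q)
    refine ⟨F.conj_mem hPS hg.1, hP, fun x => ?_, conjHom (P ⊔ Q) g,
      F.conj_mem (sup_le hPS hQ) hg.1, fun x => rfl, fun x => ?_⟩
    · exact (centralizerIn S Q).mul_mem ((centralizerIn S Q).mul_mem hg (hP x.2))
        ((centralizerIn S Q).inv_mem hg)
    · show g * (x : Ω) * g⁻¹ = x
      rw [← Subgroup.mem_centralizer_iff.1 hg.2 x x.2, mul_inv_cancel_right]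
  comp_mem := by
    rintro P R φ ψ ⟨hφ, hPN, hφN, φ', hφ', hag₁, hQ₁⟩ ⟨hψ, hRN, hψN, ψ', hψ', hag₂, hQ₂⟩ h
    have hmem : ∀ x, φ' x ∈ R ⊔ Q :=
      forall_mem_of_sup (fun x => by rw [hag₁]; exact le_sup_left (b := Q) (h x))
        (fun x => by rw [hQ₁]; exact le_sup_right (a := R) x.2)
    refine ⟨F.comp_mem hφ hψ h, hPN, fun x => hψN _, _, F.comp_mem hφ' hψ' hmem, fun x => ?_,
      fun x => ?_⟩
    · show ψ' ⟨φ' (Subgroup.inclusion le_sup_left x), _⟩ = ψ ⟨φ x, h x⟩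
      rw [← hag₂]
      congr 1
      exact Subtype.ext (hag₁ x)
    · show ψ' ⟨φ' (Subgroup.inclusion le_sup_right x), _⟩ = x
      refine Eq.trans ?_ (hQ₂ x)
      congr 1
      exact Subtype.ext (hQ₁ x)
  inv_mem := by
    rintro P φ ⟨hφ, hPN, hφN, φ', hφ', hag₁, hQ₁⟩
    obtain ⟨ψ, hψ, hinv⟩ := F.inv_mem hφ
    obtain ⟨ψ', hψ', hinv'⟩ := F.inv_mem hφ'
    have hle : φ.range ⊔ Q ≤ φ'.range := by
      refine sup_le ?_ fun y hy => ⟨_, hQ₁ ⟨y, hy⟩⟩
      rintro _ ⟨x, rfl⟩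
      exact ⟨_, hag₁ x⟩
    have key : ∀ (x : ↥(P ⊔ Q)) (hx : φ' x ∈ φ.range ⊔ Q),
        ψ'.comp (Subgroup.inclusion hle) ⟨φ' x, hx⟩ = x := fun x _ => hinv' x
    refine ⟨ψ, ⟨hψ, ?_, ?_, _, restrict_mem hψ' hle, ?_, fun x => ?_⟩, hinv⟩
    · rintro _ ⟨x, rfl⟩
      exact hφN x
    · rintro ⟨_, x, rfl⟩
      rw [hinv]
      exact hPN x.2
    · rintro ⟨_, x, rfl⟩
      rw [hinv]
      have := key (Subgroup.inclusion le_sup_left x) (by rw [hag₁]; exact le_sup_left (b := Q) ⟨x, rfl⟩)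
      simp only [hag₁] at this
      exact this
    · have := key (Subgroup.inclusion le_sup_right x) (by rw [hQ₁]; exact le_sup_right (a := φ.range) x.2)
      simp only [hQ₁] at this
      exact this

theorem isCentralizerSystem_centralizerSystem (F : Cfsg.FusionSystem S) (Q : Subgroup Ω) (hQ : Q ≤ S) :
    F.IsCentralizerSystem Q (centralizerSystem F Q hQ) := fun _ => rfl

end CfsgLib.Fusion
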