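import Mathlib.GroupTheory.Transfer
import Mathlib.GroupTheory.Sylow
import Mathlib.Algebra.GroupWithZero.Units.Fintype
import Mathlib.Tactic.Group

/-!
The Thompson transfer lemma.
-/

namespace CfsgLib.ThompsonTransfer

open Subgroup MulAction

variable {G : Type*} [Group G]

/-- The sign homomorphism of a subgroup of index two. -/
noncomputable def indexTwoSign (Q : Subgroup G) (hQ : Q.index = 2) : G →* ℤˣ :=
  letI := Classical.decPred (· ∈ Q)
  { toFun := fun g => if g ∈ Q then 1 else -1
    map_one' := if_pos Q.one_mem
    map_mul' := fun a b => by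
      have h := Subgroup.mul_mem_iff_of_index_two hQ (a := a) (b := b)
      by_cases ha : a ∈ Q <;> by_cases hb : b ∈ Q <;> simp [h, ha, hb] }

theorem indexTwoSign_eq_neg_one {Q : Subgroup G} (hQ : Q.index = 2) {g : G} (hg : g ∉ Q) :
    indexTwoSign Q hQ g = -1 := by
  simp [indexTwoSign, hg]

/-- If `Q ≤ P` has index 2 in `P`, `P` has odd index in `G` and no conjugate of the involution `u`
lies in `Q`, then `u` lies outside some normal subgroup of index 2. -/
theorem exists_normal_index_two [Finite G] (P Q : Subgroup G) (hPi : Odd P.index)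
    (hQi : Q.relIndex P = 2) (u : G) (hu : u ^ 2 = 1) (hno : ∀ g : G, g * u * g⁻¹ ∉ Q) :
    ∃ M : Subgroup G, M.Normal ∧ M.index = 2 ∧ u ∉ M := by
  classical
  let φ : P →* ℤˣ := indexTwoSign (Q.subgroupOf P) hQi
  let f : G →* ℤˣ := MonoidHom.transfer φ
  have hfu : f u = -1 := by
    let := P.fintypeQuotientOfFiniteIndex
    show MonoidHom.transfer φ u = -1
    rw [MonoidHom.transfer_eq_prod_quotient_orbitRel_zpowers_quot]
    have hterm : ∀ q : Quotient (orbitRel (zpowers u) (G ⧸ P)),
        φ ⟨q.out.out⁻¹ * u ^ Function.minimalPeriod (u • ·) q.out * q.out.out,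
            QuotientGroup.out_conj_pow_minimalPeriod_mem P u q.out⟩ =
          (-1 : ℤˣ) ^ Function.minimalPeriod (u • ·) q.out := by
      intro q
      have hper : Function.IsPeriodicPt (u • ·) 2 q.out := by
        show (u • ·)^[2] q.out = q.out
        rw [smul_iterate]
        simp [hu]
      rcases (Nat.dvd_prime Nat.prime_two).1 hper.minimalPeriod_dvd with h | h
      · refine (indexTwoSign_eq_neg_one hQi ?_).trans (by rw [h, pow_one])
        rw [Subgroup.mem_subgroupOf]
        show q.out.out⁻¹ * u ^ Function.minimalPeriod (u • ·) q.out * q.out.out ∉ Q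
        rw [h, pow_one]
        have := hno (q.out.out)⁻¹
        rwa [inv_inv] at this
      · have h1 : (⟨q.out.out⁻¹ * u ^ Function.minimalPeriod (u • ·) q.out * q.out.out,
            QuotientGroup.out_conj_pow_minimalPeriod_mem P u q.out⟩ : P) = 1 := by
          apply Subtype.ext
          show q.out.out⁻¹ * u ^ Function.minimalPeriod (u • ·) q.out * q.out.out = 1
          rw [h, hu, mul_one, inv_mul_cancel]
        exact ((congrArg φ h1).trans (map_one φ)).trans (by rw [h, neg_one_sq])
    rw [Finset.prod_congr rfl (fun q _ => hterm q), Finset.prod_pow_eq_pow_sum,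
      ← index_eq_sum_minimalPeriod P u]
    exact hPi.neg_one_pow
  refine ⟨f.ker, inferInstance, ?_, ?_⟩
  · have hsurj : Function.Surjective f := by
      intro z
      rcases Int.units_eq_one_or z with rfl | rfl
      · exact ⟨1, map_one f⟩
      · exact ⟨u, hfu⟩
    rw [Subgroup.index, Nat.card_congr (QuotientGroup.quotientKerEquivOfSurjective f hsurj).toEquiv,
      Nat.card_eq_fintype_card, Fintype.card_units_int]
  · rw [MonoidHom.mem_ker, hfu]
    decide

end CfsgLib.ThompsonTransfer
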