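import Cfsg.Agent.Lib.Fusion.Basic

/-!
# Saturated fusion systems

Receptive and fully automized subgroups, the Sylow and extension axioms, and the
characterisations of saturation.
-/

set_option autoImplicit false

namespace CfsgLib.Fusion

open Cfsg Cfsg.FusionSystem

variable {Ω : Type*} [Group Ω] {S : Subgroup Ω} {F : Cfsg.FusionSystem S}
variable {P Q R : Subgroup Ω} {p : ℕ}

/-- A `p`-subgroup is conjugate into a given Sylow `p`-subgroup. -/
theorem exists_conj_le_sylow {G : Type*} [Group G] [Finite G] [Fact p.Prime] (T : Sylow p G)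
    {U : Subgroup G} (hU : IsPGroup p U) :
    ∃ g : G, ∀ u ∈ U, g * u * g⁻¹ ∈ (T : Subgroup G) := by
  obtain ⟨R, hR⟩ := hU.exists_le_sylow
  obtain ⟨g, hg⟩ := MulAction.exists_smul_eq G R T
  refine ⟨g, fun u hu => ?_⟩
  have : g * u * g⁻¹ ∈ (↑(g • R) : Set G) := by
    rw [Sylow.coe_smul]
    exact ⟨u, hR hu, rfl⟩
  rw [hg] at this
  exact this

theorem finite_mulAut {G : Type*} [Group G] [Finite G] : Finite (MulAut G) :=
  Finite.of_injective (fun e : MulAut G => (e : G → G)) DFunLike.coe_injective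

theorem isPGroup_autInducedBy (hS : IsPGroup p S) (P : Subgroup Ω) :
    IsPGroup p (autInducedBy S P) := by
  rw [autInducedBy_eq_map]
  exact IsPGroup.map (IsPGroup.comap_subtype hS) _

theorem isPGroup_of_le (hS : IsPGroup p S) (hP : P ≤ S) : IsPGroup p P := hS.to_le hP

/-- If a map extends `e : P ≃* Q`, it transports conjugation by an element normalizing `P` to
conjugation by its image. -/
theorem congr_conjAut_of_extends {ψ : R →* Ω} {e : P ≃* Q} (hPR : P ≤ R)
    (h : ∀ x : P, ψ ⟨x, hPR x.2⟩ = (e x : Ω)) {g : Ω} (hgR : g ∈ R)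
    (hg : g ∈ Subgroup.normalizer (P : Set Ω)) (y : Q) :
    ((MulAut.congr e (conjAut P g hg) y : Q) : Ω) = ψ ⟨g, hgR⟩ * (y : Ω) * (ψ ⟨g, hgR⟩)⁻¹ := by
  rw [congr_apply]
  have h1 := h (conjAut P g hg (e.symm y))
  have h2 := h (e.symm y)
  rw [MulEquiv.apply_symm_apply] at h2
  rw [← h1]
  have : (⟨(conjAut P g hg (e.symm y) : P), hPR (conjAut P g hg (e.symm y)).2⟩ : R) =
      ⟨g, hgR⟩ * ⟨(e.symm y : Ω), hPR (e.symm y).2⟩ * ⟨g, hgR⟩⁻¹ := Subtype.ext rfl
  rw [this, map_mul, map_mul, map_inv, h2]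

theorem map_mem_normalizer_of_extends {ψ : R →* Ω} {e : P ≃* Q} (hPR : P ≤ R)
    (h : ∀ x : P, ψ ⟨x, hPR x.2⟩ = (e x : Ω)) {g : Ω} (hgR : g ∈ R)
    (hg : g ∈ Subgroup.normalizer (P : Set Ω)) :
    ψ ⟨g, hgR⟩ ∈ Subgroup.normalizer (Q : Set Ω) :=
  mem_normalizer_of_forall (congr_conjAut_of_extends hPR h hgR hg)

theorem congr_conjAut_eq_of_extends {ψ : R →* Ω} {e : P ≃* Q} (hPR : P ≤ R)
    (h : ∀ x : P, ψ ⟨x, hPR x.2⟩ = (e x : Ω)) {g : Ω} (hgR : g ∈ R)
    (hg : g ∈ Subgroup.normalizer (P : Set Ω)) :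
    MulAut.congr e (conjAut P g hg) =
      conjAut Q (ψ ⟨g, hgR⟩) (map_mem_normalizer_of_extends hPR h hgR hg) :=
  MulEquiv.ext fun y => Subtype.ext (congr_conjAut_of_extends hPR h hgR hg y)

theorem map_mem_centralizer_iff_of_extends {ψ : R →* Ω} {e : P ≃* Q} (hPR : P ≤ R)
    (h : ∀ x : P, ψ ⟨x, hPR x.2⟩ = (e x : Ω)) {g : Ω} (hgR : g ∈ R)
    (hg : g ∈ Subgroup.normalizer (P : Set Ω)) :
    ψ ⟨g, hgR⟩ ∈ Subgroup.centralizer (Q : Set Ω) ↔ g ∈ Subgroup.centralizer (P : Set Ω) := by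
  rw [← conjAut_eq_one_iff (map_mem_normalizer_of_extends hPR h hgR hg), ← conjAut_eq_one_iff hg,
    ← congr_conjAut_eq_of_extends hPR h hgR hg]
  exact EmbeddingLike.map_eq_one_iff

/-! ### Extensions given by receptivity -/

/-- An isomorphism of the system onto a receptive subgroup extends to every group of elements whose
action is transported into `Aut_S(Q)`. -/
theorem IsFIso.exists_extension {e : P ≃* Q} (he : IsFIso F e) (hQ : F.IsReceptive Q)
    (hPR : P ≤ R) (hR : R ≤ normalizerIn S P)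
    (hact : ∀ g (hg : g ∈ R), MulAut.congr e (conjAut P g (hR hg).2) ∈ autInducedBy S Q) :
    ∃ ψ ∈ F.Hom R, (∀ x : R, ψ x ∈ normalizerIn S Q) ∧
      ∀ x : P, ψ ⟨x, hPR x.2⟩ = (e x : Ω) := by
  obtain ⟨ψ, hψ, hext⟩ := hQ.2 P _ he (range_subtype_comp e)
  have hle : R ≤ extender S P (Q.subtype.comp e.toMonoidHom) := fun g hg =>
    (mem_extender_iff_congr e (fun _ => rfl) (hR hg).1 (hR hg).2).2 (hact g hg)
  have hag : ∀ x : P, ψ.comp (Subgroup.inclusion hle) ⟨x, hPR x.2⟩ = (e x : Ω) := fun x =>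
    hext x x.2 (hle (hPR x.2))
  exact ⟨_, restrict_mem hψ hle,
    fun x => ⟨map_mem (restrict_mem hψ hle) x, map_mem_normalizer_of_extends hPR hag x.2 (hR x.2).2⟩,
    hag⟩

theorem isFullyCentralized_of_isReceptive [Finite S] (hP : F.IsReceptive P) :
    F.IsFullyCentralized P := by
  refine ⟨hP.1, fun Q hQ => ?_⟩
  obtain ⟨e, he⟩ := exists_iso_of_isConj (isConj_symm hQ)
  have hR : Q ⊔ centralizerIn S Q ≤ normalizerIn S Q :=
    sup_le (le_normalizerIn he.le_left) (centralizerIn_le_normalizerIn S Q)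
  have hext : Q ⊔ centralizerIn S Q ≤ extender S Q (P.subtype.comp e.toMonoidHom) :=
    sup_le (le_extender he.le_left fun x => map_mem he x) (centralizerIn_le_extender _)
  obtain ⟨ψ, hψ, -, hag⟩ := he.exists_extension hP (le_sup_left (b := centralizerIn S Q)) hR
    (fun g hg => (mem_extender_iff_congr e (fun _ => rfl) (hR hg).1 (hR hg).2).1 (hext hg))
  have : Finite (centralizerIn S P) := finite_of_le (centralizerIn_le S P)
  refine Nat.card_le_card_of_injective
    (fun c : centralizerIn S Q => (⟨ψ ⟨c, le_sup_right (a := Q) c.2⟩, map_mem hψ _,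
      (map_mem_centralizer_iff_of_extends le_sup_left hag _
        (centralizer_le_normalizer Q c.2.2)).2 c.2.2⟩ : centralizerIn S P)) ?_
  intro a b hab
  exact Subtype.ext (Subtype.ext_iff.1 (hom_inj hψ (Subtype.ext_iff.1 hab)) :)

/-- Transport into a fully automized receptive subgroup: S5079. -/
theorem exists_normalizer_map_of_fullyAutomized_receptive [Finite S] [Fact p.Prime]
    (hS : IsPGroup p S) (h₁ : F.IsFullyAutomized p P) (h₂ : F.IsReceptive P) (hQ : F.IsConj Q P) :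
    ∃ e : Q ≃* P, IsFIso F e ∧ ∃ ψ ∈ F.Hom (normalizerIn S Q),
      (∀ x, ψ x ∈ normalizerIn S P) ∧
      ∀ x : Q, ψ ⟨x, le_normalizerIn (isConj_le_left hQ) x.2⟩ = (e x : Ω) := by
  have hPS : P ≤ S := h₁.1
  obtain ⟨e, he⟩ := exists_iso_of_isConj hQ
  have : Finite P := finite_of_le hPS
  have : Finite (MulAut P) := finite_mulAut
  obtain ⟨T, hT⟩ := h₁.2
  let U : Subgroup (F.autGroup P) :=
    ((autInducedBy S Q).map (MulAut.congr e).toMonoidHom).subgroupOf (F.autGroup P)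
  have hU : IsPGroup p U :=
    IsPGroup.comap_subtype (IsPGroup.map (isPGroup_autInducedBy hS Q) _)
  obtain ⟨β, hβ⟩ := exists_conj_le_sylow T hU
  have hβiso : IsFIso F ((β : MulAut P) : P ≃* P) := (mem_autGroup_iff hPS).1 β.2
  let e' : Q ≃* P := e.trans ((β : MulAut P) : P ≃* P)
  have he' : IsFIso F e' := he.trans hβiso
  refine ⟨e', he', he'.exists_extension h₂ (le_normalizerIn he.le_left) le_rfl fun g hg => ?_⟩
  have hmem : MulAut.congr e (conjAut Q g hg.2) ∈ F.autGroup P :=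
    he.congr_mem (autInducedBy_le_autGroup F he.le_left (conjAut_mem_autInducedBy hg.1 hg.2))
  have := hβ ⟨_, hmem⟩ ⟨_, conjAut_mem_autInducedBy hg.1 hg.2, rfl⟩
  rw [hT, Subgroup.mem_subgroupOf] at this
  have heq : MulAut.congr e' (conjAut Q g hg.2) =
      (β : MulAut P) * MulAut.congr e (conjAut Q g hg.2) * (β : MulAut P)⁻¹ :=
    MulEquiv.ext fun x => rfl
  rw [heq]
  exact this

theorem isFullyNormalized_of_fullyAutomized_receptive [Finite S] [Fact p.Prime]
    (hS : IsPGroup p S) (h₁ : F.IsFullyAutomized p P) (h₂ : F.IsReceptive P) :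
    F.IsFullyNormalized P := by
  refine ⟨h₁.1, fun Q hQ => ?_⟩
  obtain ⟨e, -, ψ, hψ, hψN, -⟩ :=
    exists_normalizer_map_of_fullyAutomized_receptive hS h₁ h₂ (isConj_symm hQ)
  have : Finite (normalizerIn S P) := finite_of_le (normalizerIn_le S P)
  exact Nat.card_le_card_of_injective (fun x => (⟨ψ x, hψN x⟩ : normalizerIn S P))
    fun a b hab => hom_inj hψ (Subtype.ext_iff.1 hab)

/-- Receptivity transfers back along an extension whose image contains `C_S(Q)`. -/
theorem isReceptive_of_extension {e : P ≃* Q} (he : IsFIso F e) (hQ : F.IsReceptive Q)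
    {ψ : normalizerIn S P →* Ω} (hψ : ψ ∈ F.Hom (normalizerIn S P))
    (hag : ∀ x : P, ψ ⟨x, le_normalizerIn he.le_left x.2⟩ = (e x : Ω))
    (hC : centralizerIn S Q ≤ ψ.range) : F.IsReceptive P := by
  refine ⟨he.le_left, fun R φ hφ hr => ?_⟩
  obtain ⟨f, hf, hfφ⟩ := exists_iso hφ hr
  have hφ' : ∀ x : R, φ x = (f x : Ω) := fun x => (hfφ x).symm
  have hR : extender S R φ ≤ normalizerIn S R := extender_le_normalizerIn φ
  have hact : ∀ g (hg : g ∈ extender S R φ), ∃ (h : Ω) (hh : h ∈ normalizerIn S P),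
      MulAut.congr (f.trans e) (conjAut R g (hR hg).2) =
        conjAut Q (ψ ⟨h, hh⟩)
          (map_mem_normalizer_of_extends (le_normalizerIn he.le_left) hag hh hh.2) := by
    intro g hg
    obtain ⟨h, hhN, hhS, heq⟩ :=
      exists_eq_conjAut ((mem_extender_iff_congr f hφ' (hR hg).1 (hR hg).2).1 hg)
    refine ⟨h, ⟨hhS, hhN⟩, ?_⟩
    rw [← congr_conjAut_eq_of_extends (le_normalizerIn he.le_left) hag (g := h) ⟨hhS, hhN⟩ hhN,
      ← heq]
    rfl
  obtain ⟨χ, hχ, -, hχag⟩ := (hf.trans he).exists_extension hQ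
    (le_extender hf.le_left fun x => map_mem hφ x) hR fun g hg => by
      obtain ⟨h, hh, heq⟩ := hact g hg
      rw [heq]
      exact conjAut_mem_autInducedBy (map_mem hψ _) _
  have hrange : ∀ x, χ x ∈ ψ.range := by
    rintro ⟨g, hg⟩
    obtain ⟨h, hh, heq⟩ := hact g hg
    have hPR : R ≤ extender S R φ := le_extender hf.le_left fun x => map_mem hφ x
    rw [congr_conjAut_eq_of_extends (R := extender S R φ) hPR hχag hg (hR hg).2] at heq
    have hc : (ψ ⟨h, hh⟩)⁻¹ * χ ⟨g, hg⟩ ∈ centralizerIn S Q := by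
      refine ⟨S.mul_mem (S.inv_mem (map_mem hψ _)) (map_mem hχ _), ?_⟩
      show (ψ ⟨h, hh⟩)⁻¹ * χ ⟨g, hg⟩ ∈ Subgroup.centralizer (Q : Set Ω)
      rw [Subgroup.mem_centralizer_iff]
      intro y hy
      have h0 := congrArg (fun α : MulAut Q => ((α ⟨y, hy⟩ : Q) : Ω)) heq
      have h1 : χ ⟨g, hg⟩ * y * (χ ⟨g, hg⟩)⁻¹ = ψ ⟨h, hh⟩ * y * (ψ ⟨h, hh⟩)⁻¹ := h0
      have h2 : χ ⟨g, hg⟩ * y = ψ ⟨h, hh⟩ * y * (ψ ⟨h, hh⟩)⁻¹ * χ ⟨g, hg⟩ :=
        mul_inv_eq_iff_eq_mul.1 h1
      calc y * ((ψ ⟨h, hh⟩)⁻¹ * χ ⟨g, hg⟩)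
          = (ψ ⟨h, hh⟩)⁻¹ * (ψ ⟨h, hh⟩ * y * (ψ ⟨h, hh⟩)⁻¹ * χ ⟨g, hg⟩) := by simp [mul_assoc]
        _ = (ψ ⟨h, hh⟩)⁻¹ * (χ ⟨g, hg⟩ * y) := by rw [h2]
        _ = (ψ ⟨h, hh⟩)⁻¹ * χ ⟨g, hg⟩ * y := (mul_assoc _ _ _).symm
    have := ψ.range.mul_mem (⟨⟨h, hh⟩, rfl⟩ : ψ ⟨h, hh⟩ ∈ ψ.range) (hC hc)
    simpa using this
  obtain ⟨ψ', hψ', hinv⟩ := F.inv_mem hψ
  refine ⟨_, F.comp_mem hχ hψ' hrange, fun x hP hN => ?_⟩
  show ψ' ⟨χ ⟨x, hN⟩, hrange _⟩ = φ ⟨x, hP⟩
  have h1 : χ ⟨x, hN⟩ = ψ ⟨f ⟨x, hP⟩, le_normalizerIn he.le_left (f ⟨x, hP⟩).2⟩ :=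
    (hχag ⟨x, hP⟩).trans (hag (f ⟨x, hP⟩)).symm
  have h2 : (⟨χ ⟨x, hN⟩, hrange _⟩ : ψ.range) =
      ⟨ψ ⟨f ⟨x, hP⟩, le_normalizerIn he.le_left (f ⟨x, hP⟩).2⟩, ⟨_, rfl⟩⟩ := Subtype.ext h1
  rw [h2, hinv]
  exact hfφ _

/-! ### Choices in a conjugacy class -/

theorem exists_isFullyNormalized [Finite S] (F : Cfsg.FusionSystem S) (hP : P ≤ S) :
    ∃ Q, F.IsConj P Q ∧ F.IsFullyNormalized Q := by
  obtain ⟨n, ⟨Q, hQ, rfl⟩, hmax⟩ : ∃ n ∈ {n | ∃ Q, F.IsConj P Q ∧ Nat.card (normalizerIn S Q) = n},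
      ∀ m ∈ {n | ∃ Q, F.IsConj P Q ∧ Nat.card (normalizerIn S Q) = n}, m ≤ n := by
    have hfin : {n | ∃ Q, F.IsConj P Q ∧ Nat.card (normalizerIn S Q) = n}.Finite := by
      refine (Set.finite_Iic (Nat.card S)).subset ?_
      rintro _ ⟨Q, -, rfl⟩
      exact Nat.card_le_card_of_injective _
        (Subgroup.inclusion_injective (normalizerIn_le S Q))
    obtain ⟨n, hn⟩ := hfin.exists_maximal ⟨_, P, isConj_refl F hP, rfl⟩
    exact ⟨n, hn.1, fun m hm => le_of_not_gt fun hlt => absurd (hn.2 hm hlt.le) (not_le_of_gt hlt)⟩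
  exact ⟨Q, hQ, isConj_le_right hQ, fun R hR => hmax _ ⟨R, isConj_trans hQ hR, rfl⟩⟩

theorem isFullyNormalized_top [Finite S] (F : Cfsg.FusionSystem S) : F.IsFullyNormalized S :=
  ⟨le_rfl, fun Q hQ => by rw [isConj_top_eq hQ]⟩

theorem normalizerIn_top (S : Subgroup Ω) : normalizerIn S S = S :=
  inf_eq_left.2 Subgroup.le_normalizer

/-! ### Consequences of saturation -/

/-- In a saturated system, every map onto a fully normalized subgroup can be chosen to extend to a map of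
the whole normalizer. -/
theorem exists_normalizer_map_sat_aux [Finite S] [Fact p.Prime] (hS : IsPGroup p S)
    (hF : F.IsSaturated p) (hP : F.IsFullyNormalized P) :
    ∃ (Q : Subgroup Ω) (e : P ≃* Q), IsFIso F e ∧ F.IsFullyAutomized p Q ∧ F.IsReceptive Q ∧
      ∃ ψ : normalizerIn S P →* Ω, ψ ∈ F.Hom (normalizerIn S P) ∧ ψ.range = normalizerIn S Q ∧
        ∀ x : P, ψ ⟨x, le_normalizerIn hP.1 x.2⟩ = (e x : Ω) := by
  obtain ⟨Q, hPQ, hQa, hQr⟩ := hF P hP.1
  obtain ⟨e, he, ψ, hψ, hψN, hag⟩ :=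
    exists_normalizer_map_of_fullyAutomized_receptive hS hQa hQr hPQ
  have : Finite (normalizerIn S Q) := finite_of_le (normalizerIn_le S Q)
  exact ⟨Q, e, he, hQa, hQr, ψ, hψ, Subgroup.eq_of_le_of_card_ge
    (by rintro _ ⟨x, rfl⟩; exact hψN x)
    ((hP.2 Q hPQ).trans (Nat.card_congr (MonoidHom.ofInjective (hom_inj hψ)).toEquiv).le), hag⟩

theorem isFullyAutomized_of_isFullyNormalized [Finite S] [Fact p.Prime] (hS : IsPGroup p S)
    (hF : F.IsSaturated p) (hP : F.IsFullyNormalized P) : F.IsFullyAutomized p P := by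
  obtain ⟨Q, e, he, hQa, -, ψ, hψ, hrange, hag⟩ := exists_normalizer_map_sat_aux hS hF hP
  obtain ⟨T, hT⟩ := hQa.2
  refine ⟨hP.1, T.comapOfInjective he.autEquiv.toMonoidHom he.autEquiv.injective
    (fun x _ => he.autEquiv.surjective x), ?_⟩
  show (T : Subgroup (F.autGroup Q)).comap he.autEquiv.toMonoidHom = _
  rw [hT]
  ext α
  show MulAut.congr e (α : MulAut P) ∈ autInducedBy S Q ↔ (α : MulAut P) ∈ autInducedBy S P
  constructor
  · intro hα
    obtain ⟨k, hk, hkS, heq⟩ := exists_eq_conjAut hα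
    obtain ⟨⟨g, hg⟩, hgk⟩ : k ∈ ψ.range := hrange ▸ ⟨hkS, hk⟩
    have : (α : MulAut P) = conjAut P g hg.2 := by
      apply (MulAut.congr e).injective
      rw [heq, congr_conjAut_eq_of_extends (le_normalizerIn hP.1) hag hg hg.2]
      simp only [hgk]
    rw [this]
    exact conjAut_mem_autInducedBy hg.1 hg.2
  · intro hα
    obtain ⟨g, hg, hgS, heq⟩ := exists_eq_conjAut hα
    rw [heq, congr_conjAut_eq_of_extends (le_normalizerIn hP.1) hag (g := g) ⟨hgS, hg⟩ hg]
    exact conjAut_mem_autInducedBy (map_mem hψ _) _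

theorem isReceptive_of_isFullyNormalized [Finite S] [Fact p.Prime] (hS : IsPGroup p S)
    (hF : F.IsSaturated p) (hP : F.IsFullyNormalized P) : F.IsReceptive P := by
  obtain ⟨Q, e, he, -, hQr, ψ, hψ, hrange, hag⟩ := exists_normalizer_map_sat_aux hS hF hP
  exact isReceptive_of_extension he hQr hψ hag
    ((centralizerIn_le_normalizerIn S Q).trans hrange.ge)

theorem isFullyCentralized_of_isFullyNormalized [Finite S] [Fact p.Prime] (hS : IsPGroup p S)
    (hF : F.IsSaturated p) (hP : F.IsFullyNormalized P) : F.IsFullyCentralized P :=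
  isFullyCentralized_of_isReceptive (isReceptive_of_isFullyNormalized hS hF hP)

/-- In a saturated system, a subgroup conjugate to a fully normalized one has a map of its normalizer into
the normalizer of that one, carrying it onto it. -/
theorem exists_normalizer_map [Finite S] [Fact p.Prime] (hS : IsPGroup p S)
    (hF : F.IsSaturated p) (hQ : F.IsFullyNormalized Q) (hPQ : F.IsConj P Q) :
    ∃ e : P ≃* Q, IsFIso F e ∧ ∃ ψ ∈ F.Hom (normalizerIn S P),
      (∀ x, ψ x ∈ normalizerIn S Q) ∧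
      ∀ x : P, ψ ⟨x, le_normalizerIn (isConj_le_left hPQ) x.2⟩ = (e x : Ω) :=
  exists_normalizer_map_of_fullyAutomized_receptive hS
    (isFullyAutomized_of_isFullyNormalized hS hF hQ)
    (isReceptive_of_isFullyNormalized hS hF hQ) hPQ

theorem isReceptive_of_isFullyCentralized [Finite S] [Fact p.Prime] (hS : IsPGroup p S)
    (hF : F.IsSaturated p) (hP : F.IsFullyCentralized P) : F.IsReceptive P := by
  obtain ⟨Q, hPQ, hQ⟩ := exists_isFullyNormalized F hP.1
  obtain ⟨e, he, ψ, hψ, -, hag⟩ := exists_normalizer_map hS hF hQ hPQ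
  refine isReceptive_of_extension he (isReceptive_of_isFullyNormalized hS hF hQ) hψ hag ?_
  have hle : centralizerIn S P ≤ normalizerIn S P := centralizerIn_le_normalizerIn S P
  have h1 : ((centralizerIn S P).subgroupOf (normalizerIn S P)).map ψ ≤ centralizerIn S Q := by
    intro y hy
    obtain ⟨c, hc, hcC, rfl⟩ := mem_map_subgroupOf.1 hy
    exact ⟨map_mem hψ _,
      (map_mem_centralizer_iff_of_extends (le_normalizerIn hP.1) hag hc hc.2).2 hcC.2⟩
  have : Finite (centralizerIn S Q) := finite_of_le (centralizerIn_le S Q)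
  have h2 := Subgroup.eq_of_le_of_card_ge h1 <| by
    rw [Subgroup.card_map_of_injective (hom_inj hψ),
      Nat.card_congr (Subgroup.subgroupOfEquivOfLe hle).toEquiv]
    exact hP.2 Q hPQ
  rw [← h2]
  exact Subgroup.map_le_range _ _

theorem isSaturated_iff_sylow_extension [Finite S] [Fact p.Prime] (hS : IsPGroup p S) :
    F.IsSaturated p ↔
      ((∀ P, F.IsFullyNormalized P → F.IsFullyCentralized P ∧ F.IsFullyAutomized p P) ∧
        (∀ P, F.IsFullyCentralized P → F.IsReceptive P)) := by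
  refine ⟨fun hF => ⟨fun P hP => ⟨isFullyCentralized_of_isFullyNormalized hS hF hP,
    isFullyAutomized_of_isFullyNormalized hS hF hP⟩,
    fun P hP => isReceptive_of_isFullyCentralized hS hF hP⟩, fun ⟨h1, h2⟩ P hP => ?_⟩
  obtain ⟨Q, hPQ, hQ⟩ := exists_isFullyNormalized F hP
  exact ⟨Q, hPQ, (h1 Q hQ).2, h2 Q (h1 Q hQ).1⟩

/-- The key step of the criterion: fully normalized subgroups are fully automized. -/
theorem isFullyAutomized_of_receptive [Finite S] [Fact p.Prime] (hS : IsPGroup p S)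
    (hFS : F.IsFullyAutomized p S) (hrec : ∀ P, F.IsFullyNormalized P → F.IsReceptive P) :
    ∀ (n : ℕ) (P : Subgroup Ω), F.IsFullyNormalized P → Nat.card S ≤ Nat.card P + n →
      F.IsFullyAutomized p P := by
  intro n
  induction n using Nat.strong_induction_on with
  | _ n ih =>
    intro P hP hn
    have hPS : P ≤ S := hP.1
    rcases eq_or_lt_of_le hPS with rfl | hlt
    · exact hFS
    have : Finite P := finite_of_le hPS
    have : Finite (MulAut P) := finite_mulAut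
    set A := (autInducedBy S P).subgroupOf (F.autGroup P) with hA
    have hAp : IsPGroup p A := IsPGroup.comap_subtype (isPGroup_autInducedBy hS P)
    obtain ⟨T, hT⟩ := hAp.exists_le_sylow
    refine ⟨hPS, T, ?_⟩
    by_contra hne
    change (T : Subgroup (F.autGroup P)) ≠ A at hne
    have hAT : A < (T : Subgroup (F.autGroup P)) := lt_of_le_of_ne hT (Ne.symm hne)
    obtain ⟨α, ⟨hαT, hαN⟩, hαA⟩ :=
      SetLike.exists_of_lt (lt_normalizerIn (S := (T : Subgroup (F.autGroup P))) T.2 hAT)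
    set N := normalizerIn S P with hNdef
    have hPN : P ≤ N := le_normalizerIn hPS
    have hNS : N ≤ S := normalizerIn_le S P
    have : Finite N := finite_of_le hNS
    have : Finite (MulAut N) := finite_mulAut
    have hαiso : IsFIso F ((α : MulAut P) : P ≃* P) := (mem_autGroup_iff hPS).1 α.2
    obtain ⟨ψ, hψ, hψN, hag⟩ := hαiso.exists_extension (hrec P hP) hPN le_rfl fun g hg => by
      have hmem : (⟨conjAut P g hg.2,
          autInducedBy_le_autGroup F hPS (conjAut_mem_autInducedBy hg.1 hg.2)⟩ :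
            F.autGroup P) ∈ A := conjAut_mem_autInducedBy (P := P) hg.1 hg.2
      exact (conj_mem_of_mem_normalizer hαN hmem :)
    obtain ⟨β, hβ, hβψ⟩ := exists_aut hψ (range_eq_of_le (hom_inj hψ) hψN)
    -- the pair (β, α) restricts compatibly, hence so do all powers
    have hpow : ∀ (m : ℕ) (x : P),
        ((β ^ m) ⟨x, hPN x.2⟩ : Ω) = (((α : MulAut P) ^ m) x : P) := by
      intro m
      induction m with
      | zero => intro x; simp
      | succ m ihm =>
        intro x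
        rw [pow_succ', pow_succ', MulAut.mul_apply, MulAut.mul_apply]
        have e1 : (β ^ m) ⟨x, hPN x.2⟩ =
            ⟨(((α : MulAut P) ^ m) x : P), hPN (((α : MulAut P) ^ m) x).2⟩ := Subtype.ext (ihm x)
        rw [e1, hβψ, hag]
    -- replace β by a power of p-power order
    obtain ⟨j, hj⟩ := IsPGroup.iff_orderOf.1 T.2 ⟨α, hαT⟩
    rw [Subgroup.orderOf_mk] at hj
    obtain ⟨k, m, hm, hord⟩ := Nat.exists_eq_pow_mul_and_not_dvd (orderOf_pos β).ne' p
      (Fact.out : p.Prime).ne_one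
    have hαm : α ^ m ∉ A := by
      intro hmem
      obtain ⟨i, hi⟩ := exists_pow_eq_self_of_coprime (x := α) (n := m) (by
        rw [hj]
        exact ((Fact.out : p.Prime).coprime_iff_not_dvd.2 hm).symm.pow_right j)
      exact hαA (hi ▸ A.pow_mem hmem i)
    have hβp : IsPGroup p (Subgroup.zpowers (⟨β ^ m, pow_mem hβ m⟩ : F.autGroup N)) := by
      refine IsPGroup.of_card_dvd_pow (n := k) ?_
      rw [Nat.card_zpowers, orderOf_dvd_iff_pow_eq_one]
      refine Subtype.ext ?_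
      show (β ^ m) ^ p ^ k = 1
      rw [← pow_mul, mul_comm, ← hord, pow_orderOf_eq_one]
    -- move N to a fully normalized conjugate, fully automized by induction
    obtain ⟨R, hNR, hR⟩ := exists_isFullyNormalized F hNS
    obtain ⟨χ₀, hχ₀⟩ := exists_iso_of_isConj hNR
    have hcard : Nat.card P < Nat.card R := by
      rw [← isConj_card_eq hNR]
      exact lt_of_not_ge fun hge =>
        (lt_normalizerIn hS hlt).ne (Subgroup.eq_of_le_of_card_ge hPN hge)
    have hRS : R ≤ S := hR.1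
    have : Finite R := finite_of_le hRS
    have : Finite (MulAut R) := finite_mulAut
    have hcardS : Nat.card R ≤ Nat.card S :=
      Nat.card_le_card_of_injective _ (Subgroup.inclusion_injective hRS)
    obtain ⟨-, TR, hTR⟩ := ih (Nat.card S - Nat.card R) (by omega) R hR (by omega)
    obtain ⟨γ, hγ⟩ := exists_conj_le_sylow TR (IsPGroup.map hβp hχ₀.autEquiv.toMonoidHom)
    let χ : N ≃* R := χ₀.trans ((γ : MulAut R) : R ≃* R)
    have hχ : IsFIso F χ := hχ₀.trans ((mem_autGroup_iff hRS).1 γ.2)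
    have hmem : MulAut.congr χ (β ^ m) ∈ autInducedBy S R := by
      have := hγ (hχ₀.autEquiv ⟨β ^ m, pow_mem hβ m⟩) ⟨_, Subgroup.mem_zpowers _, rfl⟩
      rw [hTR, Subgroup.mem_subgroupOf] at this
      have heq : MulAut.congr χ (β ^ m) =
          (γ : MulAut R) * MulAut.congr χ₀ (β ^ m) * (γ : MulAut R)⁻¹ :=
        MulEquiv.ext fun x => rfl
      rw [heq]
      exact this
    obtain ⟨s, hsN, hsS, hseq⟩ := exists_eq_conjAut hmem
    -- the image P' of P
    set ψ' : N →* Ω := R.subtype.comp χ.toMonoidHom with hψ'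
    set P' := (P.subgroupOf N).map ψ' with hP'
    have hPP' : F.IsConj P P' :=
      ⟨ψ'.comp (Subgroup.inclusion hPN), restrict_mem hχ hPN, range_comp_inclusion hPN⟩
    have hP'mem : ∀ y : Ω, y ∈ P' ↔ ∃ x : P, ((χ ⟨x, hPN x.2⟩ : R) : Ω) = y := by
      intro y
      rw [hP', mem_map_subgroupOf]
      constructor
      · rintro ⟨x, hx, hxP, rfl⟩
        exact ⟨⟨x, hxP⟩, rfl⟩
      · rintro ⟨x, rfl⟩
        exact ⟨x, hPN x.2, x.2, rfl⟩
    have hsmap : ∀ x : P, s * ((χ ⟨x, hPN x.2⟩ : R) : Ω) * s⁻¹ =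
        ((χ ⟨(((α : MulAut P) ^ m) x : P), hPN (((α : MulAut P) ^ m) x).2⟩ : R) : Ω) := by
      intro x
      rw [← conjAut_apply hsN, ← hseq, congr_apply, MulEquiv.symm_apply_apply]
      congr 1
      congr 1
      exact Subtype.ext (hpow m x)
    have hsP' : s ∈ normalizerIn S P' := by
      refine ⟨hsS, Subgroup.mem_normalizer_iff.2 fun y => ?_⟩
      rw [hP'mem, hP'mem]
      constructor
      · rintro ⟨x, rfl⟩
        exact ⟨((α : MulAut P) ^ m) x, (hsmap x).symm⟩
      · rintro ⟨x, hx⟩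
        refine ⟨((α : MulAut P) ^ m)⁻¹ x, ?_⟩
        have := hsmap (((α : MulAut P) ^ m)⁻¹ x)
        rw [MulAut.apply_inv_self, hx] at this
        exact mul_left_cancel (mul_right_cancel this)
    have hRP' : R ≤ normalizerIn S P' := by
      intro y hy
      refine ⟨hRS hy, ?_⟩
      have hn := map_mem_normalizer_of_extends (ψ := ψ')
        (e := restrictIso χ hPN (Q' := P') (by
          intro z hz
          obtain ⟨x, rfl⟩ := (hP'mem z).1 hz
          exact (χ _).2) (fun x => by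
            rw [hP'mem]
            exact ⟨fun ⟨x', hx'⟩ => by
              have := Subtype.ext_iff.1 (χ.injective (Subtype.ext hx'))
              exact this ▸ x'.2, fun hx => ⟨⟨x, hx⟩, rfl⟩⟩))
        hPN (fun x => rfl) (g := χ.symm ⟨y, hy⟩) (χ.symm ⟨y, hy⟩).2 (χ.symm ⟨y, hy⟩).2.2
      simpa [hψ'] using hn
    have : Finite (normalizerIn S P') := finite_of_le (normalizerIn_le S P')
    have hRN : R = normalizerIn S P' := Subgroup.eq_of_le_of_card_ge hRP'
      ((hP.2 P' hPP').trans (isConj_card_eq hNR).le)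
    have hsR : s ∈ R := hRN ▸ hsP'
    refine hαm ?_
    show ((α ^ m : F.autGroup P) : MulAut P) ∈ autInducedBy S P
    refine mem_autInducedBy_iff.2 ⟨(χ.symm ⟨s, hsR⟩ : N), hNS (χ.symm ⟨s, hsR⟩).2, fun x => ?_⟩
    have h3 : (β ^ m) ⟨x, hPN x.2⟩ = χ.symm ⟨s, hsR⟩ * ⟨x, hPN x.2⟩ * (χ.symm ⟨s, hsR⟩)⁻¹ := by
      apply χ.injective
      apply Subtype.ext
      rw [map_mul, map_mul, map_inv, MulEquiv.apply_symm_apply]
      have := congrArg (fun a : MulAut R => ((a (χ ⟨x, hPN x.2⟩) : R) : Ω)) hseq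
      simp only [congr_apply, MulEquiv.symm_apply_apply, conjAut_apply] at this
      exact this
    have h4 := hpow m x
    rw [h3] at h4
    exact h4.symm

theorem isSaturated_iff_top_automized_receptive [Finite S] [Fact p.Prime] (hS : IsPGroup p S) :
    F.IsSaturated p ↔ (F.IsFullyAutomized p S ∧ ∀ P, F.IsFullyNormalized P → F.IsReceptive P) := by
  refine ⟨fun hF => ⟨isFullyAutomized_of_isFullyNormalized hS hF (isFullyNormalized_top F),
    fun P hP => isReceptive_of_isFullyNormalized hS hF hP⟩, fun ⟨h1, h2⟩ P hP => ?_⟩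
  obtain ⟨Q, hPQ, hQ⟩ := exists_isFullyNormalized F hP
  exact ⟨Q, hPQ, isFullyAutomized_of_receptive hS h1 h2 (Nat.card S) Q hQ (by omega), h2 Q hQ⟩

end CfsgLib.Fusion
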