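import Cfsg.Agent.Lib.Fusion.Normal
import Cfsg.Agent.Lib.Transfer.PResidual

/-!
# The hyperfocal subgroup

Modulo the hyperfocal subgroup every map of a saturated system is a conjugation by an element of `S`.
-/

set_option autoImplicit false

namespace CfsgLib.Fusion

open Cfsg Cfsg.FusionSystem

variable {Ω : Type*} [Group Ω] {S : Subgroup Ω} {F : Cfsg.FusionSystem S} {p : ℕ}
variable {P Q : Subgroup Ω}

theorem mem_hyperfocal_of_pResidual (hP : P ≤ S) {α : F.autGroup P}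
    (hα : α ∈ pResidual p (F.autGroup P)) (x : P) :
    (x : Ω)⁻¹ * ((α : MulAut P) x : P) ∈ F.hyperfocalSubgroup p :=
  Subgroup.subset_closure ⟨P, α, x, hP, hα, rfl⟩

theorem hyperfocalSubgroup_le_S (F : Cfsg.FusionSystem S) (p : ℕ) : F.hyperfocalSubgroup p ≤ S := by
  refine (Subgroup.closure_le _).2 ?_
  rintro _ ⟨P, α, x, hP, -, rfl⟩
  exact S.mul_mem (S.inv_mem (hP x.2)) (hP ((α : MulAut P) x).2)

theorem IsFIso.autEquiv_mem_pResidual {e : P ≃* Q} (he : IsFIso F e) {α : F.autGroup P}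
    (hα : α ∈ pResidual p (F.autGroup P)) : he.autEquiv α ∈ pResidual p (F.autGroup Q) :=
  (CfsgLib.Transfer.map_pResidual_equiv he.autEquiv).le ⟨α, hα, rfl⟩

theorem hyperfocalSubgroup_conj_mem (F : Cfsg.FusionSystem S) (p : ℕ) {s : Ω} (hs : s ∈ S) {y : Ω}
    (hy : y ∈ F.hyperfocalSubgroup p) : s * y * s⁻¹ ∈ F.hyperfocalSubgroup p := by
  suffices F.hyperfocalSubgroup p ≤ (F.hyperfocalSubgroup p).comap (MulAut.conj s).toMonoidHom from
    this hy
  refine (Subgroup.closure_le _).2 ?_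
  rintro _ ⟨P, α, x, hP, hα, rfl⟩
  let e : P ≃* P.map (MulAut.conj s).toMonoidHom := (MulAut.conj s).subgroupMap P
  have he : IsFIso F e := mem_of_eq_conj hP hs _ fun _ => rfl
  have h1 := mem_hyperfocal_of_pResidual he.le_right (he.autEquiv_mem_pResidual hα) (e x)
  rw [he.autEquiv_apply, congr_apply, MulEquiv.symm_apply_apply] at h1
  show s * ((x : Ω)⁻¹ * ((α : MulAut P) x : P)) * s⁻¹ ∈ F.hyperfocalSubgroup p
  have h2 : (s * (x : Ω) * s⁻¹)⁻¹ * (s * ((α : MulAut P) x : P) * s⁻¹) ∈ F.hyperfocalSubgroup p := h1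
  simpa [mul_assoc] using h2

theorem hyperfocalSubgroup_normal_in (F : Cfsg.FusionSystem S) (p : ℕ) :
    S ≤ Subgroup.normalizer ((F.hyperfocalSubgroup p : Subgroup Ω) : Set Ω) :=
  Subgroup.le_normalizer_iff.2 fun _ hs _ hy => hyperfocalSubgroup_conj_mem F p hs hy

/-- The maps congruent to a conjugation modulo `H`. -/
def modSystem (F : Cfsg.FusionSystem S) (H : Subgroup Ω)
    (hH : ∀ s ∈ S, ∀ y ∈ H, s * y * s⁻¹ ∈ H) : Cfsg.FusionSystem S where
  Hom P := {φ | φ ∈ F.Hom P ∧ ∃ s ∈ S, ∀ x : P, (s * (x : Ω) * s⁻¹)⁻¹ * φ x ∈ H}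
  le_of_mem h := F.le_of_mem h.1
  injective_of_mem h := F.injective_of_mem h.1
  conj_mem := by
    intro P g hP hg
    refine ⟨F.conj_mem hP hg, g, hg, fun x => ?_⟩
    rw [conjHom_apply, inv_mul_cancel]
    exact H.one_mem
  comp_mem := by
    rintro P R φ ψ ⟨hφ, s, hs, hφs⟩ ⟨hψ, t, ht, hψt⟩ h
    refine ⟨F.comp_mem hφ hψ h, t * s, S.mul_mem ht hs, fun x => ?_⟩
    show (t * s * (x : Ω) * (t * s)⁻¹)⁻¹ * ψ ⟨φ x, h x⟩ ∈ H
    have h1 := H.mul_mem (hH t ht _ (hφs x)) (hψt ⟨φ x, h x⟩)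
    simpa [mul_assoc] using h1
  inv_mem := by
    rintro P φ ⟨hφ, s, hs, hφs⟩
    obtain ⟨ψ, hψ, hinv⟩ := F.inv_mem hφ
    refine ⟨ψ, ⟨hψ, s⁻¹, S.inv_mem hs, ?_⟩, hinv⟩
    rintro ⟨_, x, rfl⟩
    rw [hinv]
    have h1 := hH s⁻¹ (S.inv_mem hs) _ (H.inv_mem (hφs x))
    simpa [mul_assoc] using h1

/-- Modulo the hyperfocal subgroup every map is conjugation by an element of `S`. -/
theorem exists_conj_mod_hyperfocal [Finite S] [Fact p.Prime] (hS : IsPGroup p S) (hF : F.IsSaturated p)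
    {φ : P →* Ω} (hφ : φ ∈ F.Hom P) :
    ∃ s ∈ S, ∀ x : P, (s * (x : Ω) * s⁻¹)⁻¹ * φ x ∈ F.hyperfocalSubgroup p := by
  set E := modSystem F (F.hyperfocalSubgroup p) fun s hs y hy => hyperfocalSubgroup_conj_mem F p hs hy
  have hle := alperin hS hF E fun R hR α hα => by
    have hn : F.IsFullyNormalized R := by
      rcases hR with rfl | hR
      exacts [isFullyNormalized_top F, hR.2.1]
    have hRS : R ≤ S := hn.1
    have : Finite R := finite_of_le hRS
    have : Finite (MulAut R) := finite_mulAut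
    obtain ⟨-, T, hT⟩ := isFullyAutomized_of_isFullyNormalized hS hF hn
    have htop := CfsgLib.Transfer.pResidual_sup_of_sylow T
    have hmem : (⟨α, hα⟩ : F.autGroup R) ∈
        (↑(pResidual p (F.autGroup R) ⊔ (T : Subgroup (F.autGroup R))) : Set _) := by
      rw [htop]; trivial
    rw [Subgroup.normal_mul] at hmem
    obtain ⟨β, hβ, t, ht, hβt⟩ := hmem
    have ht' : (t : MulAut R) ∈ autInducedBy S R := by
      have : t ∈ (T : Subgroup (F.autGroup R)) := ht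
      rwa [hT] at this
    obtain ⟨g, hgS, hg⟩ := mem_autInducedBy_iff.1 ht'
    refine (mem_autGroup_iff_hom hRS).2 ⟨(mem_autGroup_iff_hom hRS).1 hα, g, hgS, fun x => ?_⟩
    have h1 := mem_hyperfocal_of_pResidual hRS hβ ((t : MulAut R) x)
    rw [← hg x]
    have h2 : α x = (β : MulAut R) ((t : MulAut R) x) :=
      (congrArg (fun γ : F.autGroup R => (γ : MulAut R) x) hβt).symm
    show ((t : MulAut R) x : Ω)⁻¹ * (α x : R) ∈ _
    rw [h2]
    exact h1
  exact (hle P hφ).2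

/-- The hyperfocal subgroup is strongly closed. -/
theorem stronglyClosed_hyperfocal [Finite S] [Fact p.Prime] (hS : IsPGroup p S)
    (hF : F.IsSaturated p) : F.StronglyClosed (F.hyperfocalSubgroup p) := by
  refine ⟨hyperfocalSubgroup_le_S F p, fun R hR φ hφ x => ?_⟩
  obtain ⟨s, hs, h⟩ := exists_conj_mod_hyperfocal hS hF hφ
  have := (F.hyperfocalSubgroup p).mul_mem (hyperfocalSubgroup_conj_mem F p hs (hR x.2)) (h x)
  rwa [mul_inv_cancel_left] at this

/-- `foc(F) = hyp(F) [S,S]`. -/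
theorem focal_eq_hyperfocal_sup [Finite S] [Fact p.Prime] (hS : IsPGroup p S) (hF : F.IsSaturated p) :
    F.focalSubgroup = F.hyperfocalSubgroup p ⊔ ⁅(S : Subgroup Ω), (S : Subgroup Ω)⁆ := by
  refine le_antisymm ((Subgroup.closure_le _).2 ?_) (sup_le ((Subgroup.closure_le _).2 ?_) ?_)
  · rintro _ ⟨P, φ, x, hφ, rfl⟩
    obtain ⟨s, hs, h⟩ := exists_conj_mod_hyperfocal hS hF hφ
    have h1 : (x : Ω)⁻¹ * (s * x * s⁻¹) ∈ ⁅(S : Subgroup Ω), (S : Subgroup Ω)⁆ := by
      have := Subgroup.commutator_mem_commutator (S.inv_mem (dom_le hφ x.2)) hs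
      simpa [commutatorElement_def, mul_assoc] using this
    have h2 := (F.hyperfocalSubgroup p ⊔ ⁅(S : Subgroup Ω), (S : Subgroup Ω)⁆).mul_mem
      (Subgroup.mem_sup_right h1) (Subgroup.mem_sup_left (h x))
    rw [mul_assoc, mul_inv_cancel_left] at h2
    exact h2
  · rintro _ ⟨P, α, x, hP, -, rfl⟩
    exact Subgroup.subset_closure ⟨P, _, x, (mem_autGroup_iff_hom hP).1 α.2, rfl⟩
  · rw [Subgroup.commutator_le]
    intro a ha b hb
    exact Subgroup.subset_closure ⟨S, conjHom S b, ⟨a⁻¹, S.inv_mem ha⟩, F.conj_mem le_rfl hb,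
      by simp [commutatorElement_def, conjHom_apply, mul_assoc]⟩

end CfsgLib.Fusion
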