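import Cfsg.Agent.Lib.Fusion.Normal
import Mathlib.GroupTheory.OrderOfElement

/-!
Stability groups: automorphisms of coprime order stabilizing a series are trivial; a strongly
closed subgroup with a central series of strongly closed subgroups is normal in the system.
-/

set_option autoImplicit false

namespace CfsgLib.Fusion.Stability

open Cfsg Cfsg.FusionSystem CfsgLib.Fusion

/-- A coprime automorphism moving `x` by a fixed element fixes `x`. -/
theorem eq_self_of_disp_fixed {G : Type*} [Group G] [Finite G] {p : ℕ} [Fact p.Prime]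
    (hG : IsPGroup p G) (α : MulAut G) (hα : (orderOf α).Coprime p) {x : G}
    (h : α (x⁻¹ * α x) = x⁻¹ * α x) : α x = x := by
  have hpow : ∀ j : ℕ, (α ^ j) x = x * (x⁻¹ * α x) ^ j := by
    intro j
    induction j with
    | zero => simp
    | succ j ih =>
      rw [pow_succ', MulAut.mul_apply, ih, map_mul, map_pow, h, pow_succ', ← mul_assoc,
        mul_inv_cancel_left]
  have h1 := hpow (orderOf α)
  rw [pow_orderOf_eq_one, MulAut.one_apply] at h1
  have hn : (x⁻¹ * α x) ^ orderOf α = 1 := mul_left_cancel (h1.symm.trans (mul_one x).symm)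
  obtain ⟨k, hk⟩ := hG (x⁻¹ * α x)
  have h2 := Nat.dvd_gcd (orderOf_dvd_of_pow_eq_one hn) (orderOf_dvd_of_pow_eq_one hk)
  rw [Nat.Coprime.gcd_eq_one (Nat.Coprime.pow_right k hα), Nat.dvd_one, orderOf_eq_one_iff] at h2
  exact (inv_mul_eq_one.1 h2).symm

/-- A coprime automorphism stabilizing a series is trivial on it. -/
theorem eq_self_of_series {G : Type*} [Group G] [Finite G] {p : ℕ} [Fact p.Prime]
    (hG : IsPGroup p G) (α : MulAut G) (hα : (orderOf α).Coprime p) (M : ℕ → Subgroup G) (n : ℕ)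
    (hn : M n = ⊥) (hd : ∀ i < n, ∀ x ∈ M i, x⁻¹ * α x ∈ M (i + 1)) :
    ∀ i ≤ n, ∀ x ∈ M i, α x = x := by
  suffices h : ∀ j i, i + j = n → ∀ x ∈ M i, α x = x from fun i hi => h (n - i) i (by omega)
  intro j
  induction j with
  | zero =>
    intro i hi x hx
    rw [show i = n by omega, hn, Subgroup.mem_bot] at hx
    rw [hx, map_one]
  | succ j ih =>
    intro i hi x hx
    exact eq_self_of_disp_fixed hG α hα (ih (i + 1) (by omega) _ (hd i (by omega) x hx))

/-- A group all of whose elements of order prime to `p` are trivial is a `p`-group. -/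
theorem isPGroup_of_coprime_eq_one {A : Type*} [Group A] [Finite A] {p : ℕ} [Fact p.Prime]
    (h : ∀ a : A, (orderOf a).Coprime p → a = 1) : IsPGroup p A := by
  intro a
  obtain ⟨k, m, hm, hord⟩ := Nat.exists_eq_pow_mul_and_not_dvd (orderOf_pos a).ne' p
    (Fact.out : p.Prime).ne_one
  refine ⟨k, h _ ?_⟩
  refine Nat.Coprime.coprime_dvd_left ?_ ((Fact.out : p.Prime).coprime_iff_not_dvd.2 hm).symm
  rw [orderOf_dvd_iff_pow_eq_one, ← pow_mul, ← hord, pow_orderOf_eq_one]

variable {Ω : Type*} [Group Ω] {S : Subgroup Ω} {F : Cfsg.FusionSystem S}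
variable {P R : Subgroup Ω} {p : ℕ}

/-- displacements of `P` under a map lie in `K`, for the elements lying in `L` -/
def DispIn (P L K : Subgroup Ω) (α : MulAut P) : Prop :=
  ∀ x : P, (x : Ω) ∈ L → ((x⁻¹ * α x : P) : Ω) ∈ K

theorem aut_mem (hL : F.StronglyClosed R) (hP : P ≤ S) {α : MulAut P} (hα : α ∈ F.autGroup P)
    {x : P} (hx : (x : Ω) ∈ R) : ((α x : P) : Ω) ∈ R :=
  stronglyClosed_apply_mem hL ((mem_autGroup_iff_hom hP).1 hα) x hx

theorem dispIn_mul (hP : P ≤ S) {L K : Subgroup Ω} (hL : F.StronglyClosed L) {α β : MulAut P}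
    (hβ : β ∈ F.autGroup P) (h1 : DispIn P L K α) (h2 : DispIn P L K β) :
    DispIn P L K (α * β) := by
  intro x hx
  have := K.mul_mem (h2 x hx) (h1 (β x) (aut_mem hL hP hβ hx))
  rw [← Subgroup.coe_mul] at this
  simpa [mul_assoc] using this

theorem dispIn_inv (hP : P ≤ S) {L K : Subgroup Ω} (hL : F.StronglyClosed L) {α : MulAut P}
    (hα : α ∈ F.autGroup P) (h : DispIn P L K α) : DispIn P L K α⁻¹ := by
  intro x hx
  have := K.inv_mem (h (α⁻¹ x) (aut_mem hL hP (inv_mem hα) hx))
  rw [← Subgroup.coe_inv] at this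
  simpa [mul_assoc] using this

theorem dispIn_conj (hP : P ≤ S) {L K : Subgroup Ω} (hL : F.StronglyClosed L)
    (hK : F.StronglyClosed K) {α γ : MulAut P} (hγ : γ ∈ F.autGroup P) (h : DispIn P L K α) :
    DispIn P L K (γ * α * γ⁻¹) := by
  intro x hx
  have h1 := aut_mem hK hP hγ (h (γ⁻¹ x) (aut_mem hL hP (inv_mem hγ) hx))
  simpa using h1

/-- A strongly closed subgroup with a central series of strongly closed subgroups is normal. -/
theorem isNormal_of_series [Finite S] [Fact p.Prime] (hS : IsPGroup p S) (hF : F.IsSaturated p)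
    (L : ℕ → Subgroup Ω) (n : ℕ) (hsc : ∀ i ≤ n, F.StronglyClosed (L i)) (hn : L n = ⊥)
    (hc : ∀ i < n, ∀ r ∈ L 0, ∀ x ∈ L i, x⁻¹ * (r * x * r⁻¹) ∈ L (i + 1)) :
    F.IsNormal (L 0) := by
  refine (isNormal_iff_centric_radical hS hF).2 ⟨hsc 0 (Nat.zero_le n), fun P hPc hPr => ?_⟩
  have hPS : P ≤ S := hPc.1
  have : Finite P := finite_of_le hPS
  have : Finite (MulAut P) := finite_mulAut
  have hR := hsc 0 (Nat.zero_le n)
  have hRn := stronglyClosed_le_normalizer hR
  have hSc : F.StronglyClosed S := ⟨le_rfl, fun R _ φ hφ x => map_mem hφ x⟩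
  refine le_of_normalizer_inf_le hS hPS hR.1 hRn fun g hg hgN => ?_
  let B : Subgroup (F.autGroup P) :=
    { carrier := {α | DispIn P S (L 0) α ∧ ∀ i < n, DispIn P (L i) (L (i + 1)) α}
      mul_mem' := fun {α β} hα hβ => ⟨dispIn_mul hPS hSc β.2 hα.1 hβ.1,
        fun i hi => dispIn_mul hPS (hsc i hi.le) β.2 (hα.2 i hi) (hβ.2 i hi)⟩
      one_mem' := by
        refine ⟨fun x _ => ?_, fun i _ x _ => ?_⟩ <;> simp
      inv_mem' := fun {α} hα => ⟨dispIn_inv hPS hSc α.2 hα.1,
        fun i hi => dispIn_inv hPS (hsc i hi.le) α.2 (hα.2 i hi)⟩ }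
  have hBn : B.Normal := ⟨fun α hα γ => ⟨dispIn_conj hPS hSc hR γ.2 hα.1,
    fun i hi => dispIn_conj hPS (hsc i hi.le) (hsc (i + 1) hi) γ.2 (hα.2 i hi)⟩⟩
  have hBp : IsPGroup p B := by
    refine isPGroup_of_coprime_eq_one fun α hα => ?_
    have hord : (orderOf ((α : F.autGroup P) : MulAut P)).Coprime p := by
      rw [Subgroup.orderOf_coe, Subgroup.orderOf_coe]; exact hα
    have hPp := isPGroup_of_le hS hPS
    have hfix := eq_self_of_series hPp _ hord (fun i => (L i).subgroupOf P) n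
      (by show (L n).subgroupOf P = ⊥; rw [hn, Subgroup.bot_subgroupOf])
      (fun i hi x hx => α.2.2 i hi x hx) 0 (Nat.zero_le n)
    refine Subtype.ext (Subtype.ext (MulEquiv.ext fun x => ?_))
    exact eq_self_of_disp_fixed hPp _ hord (hfix _ (α.2.1 x (hPS x.2)))
  have hle : B.map (F.autGroup P).subtype ≤ Cfsg.Inn P :=
    (Subgroup.map_mono (CfsgLib.Solvable.le_pCore hBn hBp)).trans hPr.2.le
  refine mem_of_conjAut_mem_inn (centralizerIn_le_of_isCentric hPc) hPS (hR.1 hg) hgN (hle ?_)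
  refine ⟨⟨conjAut P g hgN,
    autInducedBy_le_autGroup F hPS (conjAut_mem_autInducedBy (hR.1 hg) hgN)⟩, ⟨?_, ?_⟩, rfl⟩
  · intro x hx
    show (x : Ω)⁻¹ * (g * x * g⁻¹) ∈ L 0
    have h1 : (x : Ω)⁻¹ * g * x ∈ L 0 :=
      (Subgroup.mem_normalizer_iff''.1 (hRn hx) g).1 hg
    have := (L 0).mul_mem h1 ((L 0).inv_mem hg)
    simpa [mul_assoc] using this
  · intro i hi x hx
    exact hc i hi g hg x hx

/-- An abelian strongly closed subgroup is normal. -/
theorem isNormal_of_abelian [Finite S] [Fact p.Prime] (hS : IsPGroup p S) (hF : F.IsSaturated p)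
    (hR : F.StronglyClosed R) (hab : ∀ x ∈ R, ∀ y ∈ R, x * y = y * x) : F.IsNormal R := by
  refine isNormal_of_series hS hF (fun i => if i = 0 then R else ⊥) 1 (fun i hi => ?_) rfl ?_
  · interval_cases i
    · exact hR
    · refine ⟨bot_le, fun T hT φ hφ x => ?_⟩
      have hx : x = 1 := Subtype.ext (Subgroup.mem_bot.1 (hT x.2))
      show φ x ∈ (⊥ : Subgroup Ω)
      rw [hx, map_one]
      exact one_mem _
  · intro i hi r hr x hx
    obtain rfl : i = 0 := by omega
    simp only [if_pos, Nat.zero_add, Nat.one_ne_zero, if_false, Subgroup.mem_bot] at hr hx ⊢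
    rw [hab r hr x hx]
    simp

/-- If every map between subgroups of `R` is the restriction of an automorphism of `R` then `R` is
normal in the system. -/
theorem isNormal_of_restrictions [Finite S] [Fact p.Prime] (hS : IsPGroup p S)
    (hF : F.IsSaturated p) (hRS : R ≤ S)
    (h : ∀ (P : Subgroup Ω) (hP : P ≤ R) (φ : P →* Ω), φ ∈ F.Hom P →
      ∃ β : MulAut R, ∀ x : P, φ x = ((β ⟨x, hP x.2⟩ : R) : Ω)) : F.IsNormal R := by
  have : Finite R := finite_of_le hRS
  obtain ⟨n, hn⟩ := (Subgroup.isNilpotent_iff_lowerCentralSeries R).1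
    (isPGroup_of_le hS hRS).isNilpotent
  have hle : ∀ i, R.lowerCentralSeries i ≤ R := fun i => R.lowerCentralSeries_antitone (Nat.zero_le i)
  have key := isNormal_of_series hS hF R.lowerCentralSeries n (fun i _ => ?_) hn ?_
  · exact key
  · refine ⟨(hle i).trans hRS, fun T hT φ hφ x => ?_⟩
    obtain ⟨β, hβ⟩ := h T (hT.trans (hle i)) φ hφ
    have hx : (x : Ω) ∈ R.lowerCentralSeries i := hT x.2
    rw [← R.top_subtype_lowerCentralSeries i] at hx
    obtain ⟨y, hy, hyx⟩ := hx
    rw [hβ]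
    refine (R.top_subtype_lowerCentralSeries i).le ⟨β y, ?_, by
      show ((β y : R) : Ω) = _
      congr 2
      exact Subtype.ext hyx⟩
    have := (Subgroup.characteristic_iff_map_eq.1
      (inferInstance : ((⊤ : Subgroup R).lowerCentralSeries i).Characteristic)) β
    exact this.le ⟨y, hy, rfl⟩
  · intro i _ r hr x hx
    have h1 := Subgroup.commutator_mem_commutator (H₁ := R.lowerCentralSeries i) (H₂ := R)
      (inv_mem hx) (show r ∈ R from hr)
    rw [commutatorElement_def, inv_inv] at h1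
    simpa [Subgroup.lowerCentralSeries_succ, mul_assoc] using h1

end CfsgLib.Fusion.Stability
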