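import Mathlib.GroupTheory.Sylow
import Mathlib.GroupTheory.Nilpotent
import Mathlib.GroupTheory.Subgroup.Centralizer
import Cfsg.Prelude.Def_FusionSystem

/-!
# Fusion systems: elementary calculus of maps

API for `Cfsg.FusionSystem`: restriction, composition, inverses, isomorphisms of the system,
`autGroup`, `autInducedBy`, `centralizerIn`, `normalizerIn` and `extender`.
-/

set_option autoImplicit false

namespace CfsgLib.Fusion

open Cfsg Cfsg.FusionSystem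

variable {Ω : Type*} [Group Ω] {S : Subgroup Ω} {F : Cfsg.FusionSystem S}
variable {P Q R : Subgroup Ω}

theorem conjHom_apply (P : Subgroup Ω) (g : Ω) (x : P) : conjHom P g x = g * (x : Ω) * g⁻¹ := rfl

theorem dom_le {φ : P →* Ω} (hφ : φ ∈ F.Hom P) : P ≤ S := (F.le_of_mem hφ).1

theorem map_mem {φ : P →* Ω} (hφ : φ ∈ F.Hom P) (x : P) : φ x ∈ S := (F.le_of_mem hφ).2 x

theorem range_le {φ : P →* Ω} (hφ : φ ∈ F.Hom P) : φ.range ≤ S := by
  rintro _ ⟨x, rfl⟩
  exact map_mem hφ x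

theorem hom_inj {φ : P →* Ω} (hφ : φ ∈ F.Hom P) : Function.Injective φ := F.injective_of_mem hφ

/-- A homomorphism that agrees with conjugation by an element of `S` is a map of the system. -/
theorem mem_of_eq_conj (hP : P ≤ S) {g : Ω} (hg : g ∈ S) (χ : P →* Ω)
    (h : ∀ x : P, χ x = g * (x : Ω) * g⁻¹) : χ ∈ F.Hom P := by
  have : χ = conjHom P g := MonoidHom.ext h
  exact this ▸ F.conj_mem hP hg

theorem subtype_mem (F : Cfsg.FusionSystem S) (hP : P ≤ S) : P.subtype ∈ F.Hom P :=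
  mem_of_eq_conj hP S.one_mem _ fun x => by simp

/-- A homomorphism which is pointwise a composite of two maps of the system is a map of the system. -/
theorem mem_of_comp {φ : P →* Ω} (hφ : φ ∈ F.Hom P) {ψ : Q →* Ω} (hψ : ψ ∈ F.Hom Q)
    (h : ∀ x : P, φ x ∈ Q) (χ : P →* Ω) (hχ : ∀ x : P, χ x = ψ ⟨φ x, h x⟩) : χ ∈ F.Hom P := by
  have : χ = ψ.comp (φ.codRestrict Q h) := MonoidHom.ext fun x => hχ x
  exact this ▸ F.comp_mem hφ hψ h

/-- Restriction of a map of the system to a smaller source. -/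
theorem mem_of_restrict {φ : Q →* Ω} (hφ : φ ∈ F.Hom Q) (hPQ : P ≤ Q) (χ : P →* Ω)
    (hχ : ∀ x : P, χ x = φ ⟨x, hPQ x.2⟩) : χ ∈ F.Hom P :=
  mem_of_comp (subtype_mem F (hPQ.trans (dom_le hφ))) hφ (fun x => hPQ x.2) χ hχ

theorem restrict_mem {φ : Q →* Ω} (hφ : φ ∈ F.Hom Q) (hPQ : P ≤ Q) :
    φ.comp (Subgroup.inclusion hPQ) ∈ F.Hom P :=
  mem_of_restrict hφ hPQ _ fun _ => rfl

theorem conj_comp_mem {φ : P →* Ω} (hφ : φ ∈ F.Hom P) {g : Ω} (hg : g ∈ S) :
    (MulAut.conj g).toMonoidHom.comp φ ∈ F.Hom P :=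
  mem_of_comp hφ (F.conj_mem (le_refl S) hg) (map_mem hφ) _ fun _ => rfl

/-- Image of a subgroup under a map defined on a larger one. -/
theorem mem_map_subgroupOf {φ : Q →* Ω} {y : Ω} :
    y ∈ (P.subgroupOf Q).map φ ↔ ∃ (x : Ω) (hx : x ∈ Q), x ∈ P ∧ φ ⟨x, hx⟩ = y := by
  constructor
  · rintro ⟨⟨x, hx⟩, hxP, rfl⟩
    exact ⟨x, hx, hxP, rfl⟩
  · rintro ⟨x, hx, hxP, rfl⟩
    exact ⟨⟨x, hx⟩, hxP, rfl⟩

theorem apply_mem_map_subgroupOf {φ : Q →* Ω} (x : Q) (hx : (x : Ω) ∈ P) :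
    φ x ∈ (P.subgroupOf Q).map φ :=
  ⟨x, hx, rfl⟩

theorem range_comp_inclusion {φ : Q →* Ω} (hPQ : P ≤ Q) :
    (φ.comp (Subgroup.inclusion hPQ)).range = (P.subgroupOf Q).map φ := by
  ext y
  rw [mem_map_subgroupOf]
  constructor
  · rintro ⟨x, rfl⟩
    exact ⟨x, hPQ x.2, x.2, rfl⟩
  · rintro ⟨x, hx, hxP, rfl⟩
    exact ⟨⟨x, hxP⟩, rfl⟩

theorem map_subgroupOf_self (φ : Q →* Ω) : (Q.subgroupOf Q).map φ = φ.range := by
  rw [Subgroup.subgroupOf_self, MonoidHom.range_eq_map]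

/-! ### Isomorphisms of the system -/

/-- An isomorphism `e : P ≃* Q` is an isomorphism of the system `F`. -/
def IsFIso (F : Cfsg.FusionSystem S) (e : P ≃* Q) : Prop :=
  Q.subtype.comp e.toMonoidHom ∈ F.Hom P

/-- The isomorphism onto its image of an injective homomorphism with prescribed image. -/
noncomputable def isoOfInjective {φ : P →* Ω} (hφ : Function.Injective φ) (hr : φ.range = Q) : P ≃* Q :=
  (MonoidHom.ofInjective hφ).trans (MulEquiv.subgroupCongr hr)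

theorem isoOfInjective_apply {φ : P →* Ω} (hφ : Function.Injective φ) (hr : φ.range = Q) (x : P) :
    (isoOfInjective hφ hr x : Ω) = φ x := rfl

theorem range_subtype_comp (e : P ≃* Q) : (Q.subtype.comp e.toMonoidHom).range = Q := by
  ext y
  constructor
  · rintro ⟨x, rfl⟩
    exact (e x).2
  · intro hy
    exact ⟨e.symm ⟨y, hy⟩, by simp⟩

theorem IsFIso.le_left {e : P ≃* Q} (he : IsFIso F e) : P ≤ S := dom_le he

theorem IsFIso.le_right {e : P ≃* Q} (he : IsFIso F e) : Q ≤ S := fun y hy => by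
  have := map_mem he (e.symm ⟨y, hy⟩)
  simpa using this

theorem isFIso_isoOfInjective {φ : P →* Ω} (hφ : φ ∈ F.Hom P) (hr : φ.range = Q) :
    IsFIso F (isoOfInjective (hom_inj hφ) hr) := by
  have : Q.subtype.comp (isoOfInjective (hom_inj hφ) hr).toMonoidHom = φ := MonoidHom.ext fun _ => rfl
  show _ ∈ F.Hom P
  rw [this]
  exact hφ

/-- Every map of the system is, up to inclusion, an isomorphism of the system onto its image. -/
theorem exists_iso {φ : P →* Ω} (hφ : φ ∈ F.Hom P) (hr : φ.range = Q) :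
    ∃ e : P ≃* Q, IsFIso F e ∧ ∀ x : P, (e x : Ω) = φ x :=
  ⟨_, isFIso_isoOfInjective hφ hr, fun _ => rfl⟩

theorem IsFIso.refl (hP : P ≤ S) : IsFIso F (MulEquiv.refl P) :=
  mem_of_restrict (subtype_mem F hP) le_rfl _ fun _ => rfl

theorem IsFIso.symm {e : P ≃* Q} (he : IsFIso F e) : IsFIso F e.symm := by
  obtain ⟨ψ, hψ, hinv⟩ := F.inv_mem he
  refine mem_of_restrict hψ (le_of_eq (range_subtype_comp e).symm) _ fun y => ?_
  have h1 := hinv (e.symm y)
  simp only [MulEquiv.coe_toMonoidHom, MonoidHom.coe_comp, Function.comp_apply, Subgroup.coe_subtype,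
    MulEquiv.apply_symm_apply] at h1
  simpa using h1.symm

theorem IsFIso.trans {e : P ≃* Q} {f : Q ≃* R} (he : IsFIso F e) (hf : IsFIso F f) :
    IsFIso F (e.trans f) :=
  mem_of_comp he hf (fun x => (e x).2) _ fun _ => rfl

theorem IsFIso.isConj {e : P ≃* Q} (he : IsFIso F e) : F.IsConj P Q :=
  ⟨_, he, range_subtype_comp e⟩

theorem exists_iso_of_isConj (h : F.IsConj P Q) : ∃ e : P ≃* Q, IsFIso F e := by
  obtain ⟨φ, hφ, hr⟩ := h
  exact ⟨_, isFIso_isoOfInjective hφ hr⟩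

theorem isConj_iff_exists_iso : F.IsConj P Q ↔ ∃ e : P ≃* Q, IsFIso F e :=
  ⟨exists_iso_of_isConj, fun ⟨_, he⟩ => he.isConj⟩

theorem isConj_refl (F : Cfsg.FusionSystem S) (hP : P ≤ S) : F.IsConj P P :=
  (IsFIso.refl (F := F) hP).isConj

theorem isConj_symm (h : F.IsConj P Q) : F.IsConj Q P := by
  obtain ⟨e, he⟩ := exists_iso_of_isConj h
  exact he.symm.isConj

theorem isConj_trans (h : F.IsConj P Q) (h' : F.IsConj Q R) : F.IsConj P R := by
  obtain ⟨e, he⟩ := exists_iso_of_isConj h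
  obtain ⟨f, hf⟩ := exists_iso_of_isConj h'
  exact (he.trans hf).isConj

theorem isConj_of_mem {φ : P →* Ω} (hφ : φ ∈ F.Hom P) : F.IsConj P φ.range := ⟨φ, hφ, rfl⟩

theorem isConj_le_left (h : F.IsConj P Q) : P ≤ S := by
  obtain ⟨φ, hφ, -⟩ := h
  exact dom_le hφ

theorem isConj_le_right (h : F.IsConj P Q) : Q ≤ S := by
  obtain ⟨φ, hφ, rfl⟩ := h
  exact range_le hφ

theorem isConj_card_eq (h : F.IsConj P Q) : Nat.card P = Nat.card Q := by
  obtain ⟨e, -⟩ := exists_iso_of_isConj h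
  exact Nat.card_congr e.toEquiv

theorem isConj_top_eq [Finite S] (h : F.IsConj S Q) : Q = S :=
  Subgroup.eq_of_le_of_card_ge (isConj_le_right h) (isConj_card_eq h).le

/-- Restriction of an isomorphism of the system to subgroups. -/
theorem IsFIso.restrict {P' Q' : Subgroup Ω} {e : P ≃* Q} (he : IsFIso F e) (hP : P' ≤ P)
    (e' : P' ≃* Q') (h : ∀ x : P', (e' x : Ω) = e ⟨x, hP x.2⟩) : IsFIso F e' :=
  mem_of_restrict he hP _ h

/-- The restriction of an isomorphism to a pair of corresponding subgroups. -/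
def restrictIso {P' Q' : Subgroup Ω} (e : P ≃* Q) (hP : P' ≤ P) (hQ : Q' ≤ Q)
    (h : ∀ x : P, (e x : Ω) ∈ Q' ↔ (x : Ω) ∈ P') : P' ≃* Q' where
  toFun x := ⟨e ⟨x, hP x.2⟩, (h _).2 x.2⟩
  invFun y := ⟨e.symm ⟨y, hQ y.2⟩, (h _).1 (by rw [MulEquiv.apply_symm_apply]; exact y.2)⟩
  left_inv x := Subtype.ext (by simp)
  right_inv y := Subtype.ext (by simp)
  map_mul' x y := Subtype.ext (by
    have : (⟨(↑(x * y) : Ω), hP (x * y).2⟩ : P) = ⟨x, hP x.2⟩ * ⟨y, hP y.2⟩ := Subtype.ext rfl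
    show ((e _ : Q) : Ω) = _
    rw [this, map_mul]
    rfl)

theorem restrictIso_apply {P' Q' : Subgroup Ω} (e : P ≃* Q) (hP : P' ≤ P) (hQ : Q' ≤ Q)
    (h : ∀ x : P, (e x : Ω) ∈ Q' ↔ (x : Ω) ∈ P') (x : P') :
    (restrictIso e hP hQ h x : Ω) = e ⟨x, hP x.2⟩ := rfl

/-! ### Automorphism groups -/

theorem mem_autGroup_iff (hP : P ≤ S) {α : MulAut P} :
    α ∈ F.autGroup P ↔ IsFIso F (α : P ≃* P) := by
  refine ⟨fun h => ?_, fun h => Subgroup.subset_closure h⟩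
  refine Subgroup.closure_induction (p := fun β _ => IsFIso F (β : P ≃* P)) ?_ ?_ ?_ ?_ h
  · exact fun β hβ => hβ
  · exact IsFIso.refl hP
  · exact fun β γ _ _ hβ hγ => hγ.trans hβ
  · exact fun β _ hβ => hβ.symm

theorem mem_autGroup_iff_hom (hP : P ≤ S) {α : MulAut P} :
    α ∈ F.autGroup P ↔ P.subtype.comp α.toMonoidHom ∈ F.Hom P :=
  mem_autGroup_iff hP

/-- An automorphism coming from a map of the system with image `P`. -/
theorem exists_aut {φ : P →* Ω} (hφ : φ ∈ F.Hom P) (hr : φ.range = P) :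
    ∃ α ∈ F.autGroup P, ∀ x : P, ((α x : P) : Ω) = φ x := by
  obtain ⟨e, he, hx⟩ := exists_iso hφ hr
  exact ⟨e, (mem_autGroup_iff (dom_le hφ)).2 he, hx⟩

theorem range_eq_of_le [Finite P] {φ : P →* Ω} (hφ : Function.Injective φ) (h : ∀ x, φ x ∈ P) :
    φ.range = P := by
  refine Subgroup.eq_of_le_of_card_ge (by rintro _ ⟨x, rfl⟩; exact h x) ?_
  exact (Nat.card_congr (MonoidHom.ofInjective hφ).toEquiv).le

theorem finite_of_le [Finite S] (hP : P ≤ S) : Finite P :=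
  Finite.of_injective _ (Subgroup.inclusion_injective hP)

/-- Transport of automorphisms along an isomorphism. -/
theorem congr_apply (e : P ≃* Q) (α : MulAut P) (y : Q) : MulAut.congr e α y = e (α (e.symm y)) := rfl

theorem IsFIso.congr_mem {e : P ≃* Q} (he : IsFIso F e) {α : MulAut P} (hα : α ∈ F.autGroup P) :
    MulAut.congr e α ∈ F.autGroup Q :=
  (mem_autGroup_iff he.le_right).2 ((he.symm.trans ((mem_autGroup_iff he.le_left).1 hα)).trans he)

theorem IsFIso.congr_mem_iff {e : P ≃* Q} (he : IsFIso F e) {α : MulAut P} :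
    MulAut.congr e α ∈ F.autGroup Q ↔ α ∈ F.autGroup P := by
  refine ⟨fun h => ?_, he.congr_mem⟩
  have := he.symm.congr_mem h
  have e1 : MulAut.congr e.symm (MulAut.congr e α) = α := MulEquiv.ext fun x => by simp
  rwa [e1] at this

theorem IsFIso.map_autGroup {e : P ≃* Q} (he : IsFIso F e) :
    (F.autGroup P).map (MulAut.congr e).toMonoidHom = F.autGroup Q := by
  ext β
  constructor
  · rintro ⟨α, hα, rfl⟩
    exact he.congr_mem hα
  · intro hβ
    exact ⟨(MulAut.congr e).symm β, he.congr_mem_iff.1 (by rw [MulEquiv.apply_symm_apply]; exact hβ),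
      (MulAut.congr e).apply_symm_apply β⟩

/-- `Aut_F(P) ≅ Aut_F(Q)` along an isomorphism of the system. -/
noncomputable def IsFIso.autEquiv {e : P ≃* Q} (he : IsFIso F e) : F.autGroup P ≃* F.autGroup Q :=
  ((MulAut.congr e).subgroupMap (F.autGroup P)).trans (MulEquiv.subgroupCongr he.map_autGroup)

theorem IsFIso.autEquiv_apply {e : P ≃* Q} (he : IsFIso F e) (α : F.autGroup P) :
    (he.autEquiv α : MulAut Q) = MulAut.congr e (α : MulAut P) := rfl

/-! ### Automorphisms induced by conjugation -/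

theorem mem_autInducedBy_iff {K P : Subgroup Ω} {α : MulAut P} :
    α ∈ autInducedBy K P ↔ ∃ g ∈ K, ∀ x : P, ((α x : P) : Ω) = g * (x : Ω) * g⁻¹ := by
  refine ⟨fun h => ?_, fun h => Subgroup.subset_closure h⟩
  refine Subgroup.closure_induction
    (p := fun (β : MulAut P) _ => ∃ g ∈ K, ∀ x : P, ((β x : P) : Ω) = g * (x : Ω) * g⁻¹) ?_ ?_ ?_ ?_ h
  · exact fun β hβ => hβ
  · exact ⟨1, K.one_mem, fun x => by simp⟩
  · rintro β γ - - ⟨g, hg, hβ⟩ ⟨k, hk, hγ⟩
    refine ⟨g * k, K.mul_mem hg hk, fun x => ?_⟩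
    rw [MulAut.mul_apply, hβ, hγ, mul_inv_rev]
    simp only [mul_assoc]
  · rintro β - ⟨g, hg, hβ⟩
    refine ⟨g⁻¹, K.inv_mem hg, fun x => ?_⟩
    have := hβ (β⁻¹ x)
    rw [MulAut.apply_inv_self] at this
    rw [this]
    simp [mul_assoc]

theorem mem_normalizer_of_forall {g : Ω} {P : Subgroup Ω} {α : MulAut P}
    (h : ∀ x : P, ((α x : P) : Ω) = g * (x : Ω) * g⁻¹) : g ∈ Subgroup.normalizer (P : Set Ω) := by
  rw [Subgroup.mem_normalizer_iff]
  intro n
  refine ⟨fun hn => h ⟨n, hn⟩ ▸ (α ⟨n, hn⟩).2, fun hn => ?_⟩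
  have := h (α⁻¹ ⟨_, hn⟩)
  rw [MulAut.apply_inv_self] at this
  have h2 : (g * n * g⁻¹ : Ω) = g * ((α⁻¹ ⟨_, hn⟩ : P) : Ω) * g⁻¹ := this
  rw [mul_right_cancel_iff, mul_left_cancel_iff] at h2
  exact h2 ▸ (α⁻¹ ⟨_, hn⟩).2

theorem conj_mem_of_mem_normalizer {g : Ω} {P : Subgroup Ω} (hg : g ∈ Subgroup.normalizer (P : Set Ω))
    {x : Ω} (hx : x ∈ P) : g * x * g⁻¹ ∈ P :=
  (Subgroup.mem_normalizer_iff.1 hg x).1 hx

/-- The automorphism of `P` induced by an element of its normalizer. -/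
def conjAut (P : Subgroup Ω) (g : Ω) (hg : g ∈ Subgroup.normalizer (P : Set Ω)) : MulAut P :=
  P.normalizerMonoidHom ⟨g, hg⟩

theorem conjAut_apply {g : Ω} (hg : g ∈ Subgroup.normalizer (P : Set Ω)) (x : P) :
    ((conjAut P g hg x : P) : Ω) = g * (x : Ω) * g⁻¹ := rfl

theorem conjAut_mem_autInducedBy {K : Subgroup Ω} {g : Ω} (hgK : g ∈ K)
    (hg : g ∈ Subgroup.normalizer (P : Set Ω)) : conjAut P g hg ∈ autInducedBy K P :=
  mem_autInducedBy_iff.2 ⟨g, hgK, fun _ => rfl⟩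

theorem exists_eq_conjAut {K : Subgroup Ω} {α : MulAut P} (h : α ∈ autInducedBy K P) :
    ∃ (g : Ω) (hg : g ∈ Subgroup.normalizer (P : Set Ω)), g ∈ K ∧ α = conjAut P g hg := by
  obtain ⟨g, hgK, hα⟩ := mem_autInducedBy_iff.1 h
  exact ⟨g, mem_normalizer_of_forall hα, hgK, MulEquiv.ext fun x => Subtype.ext (hα x)⟩

theorem autInducedBy_eq_map (K P : Subgroup Ω) :
    autInducedBy K P =
      (K.subgroupOf (Subgroup.normalizer (P : Set Ω))).map P.normalizerMonoidHom := by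
  ext α
  constructor
  · intro h
    obtain ⟨g, hg, hgK, rfl⟩ := exists_eq_conjAut h
    exact ⟨⟨g, hg⟩, hgK, rfl⟩
  · rintro ⟨⟨g, hg⟩, hgK, rfl⟩
    exact conjAut_mem_autInducedBy (P := P) hgK hg

theorem autInducedBy_mono {K L : Subgroup Ω} (h : K ≤ L) (P : Subgroup Ω) :
    autInducedBy K P ≤ autInducedBy L P := fun α hα => by
  obtain ⟨g, hg, hx⟩ := mem_autInducedBy_iff.1 hα
  exact mem_autInducedBy_iff.2 ⟨g, h hg, hx⟩

theorem isFIso_conjAut (hP : P ≤ S) {g : Ω} (hgS : g ∈ S)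
    (hg : g ∈ Subgroup.normalizer (P : Set Ω)) : IsFIso F (conjAut P g hg : P ≃* P) :=
  mem_of_eq_conj hP hgS _ fun _ => rfl

theorem autInducedBy_le_autGroup (F : Cfsg.FusionSystem S) (hP : P ≤ S) :
    autInducedBy S P ≤ F.autGroup P := fun α hα => by
  obtain ⟨g, hg, hgS, rfl⟩ := exists_eq_conjAut hα
  exact (mem_autGroup_iff hP).2 (isFIso_conjAut hP hgS hg)

theorem inn_eq_autInducedBy (P : Subgroup Ω) : Cfsg.Inn P = autInducedBy P P := by
  ext α
  constructor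
  · rintro ⟨g, rfl⟩
    exact mem_autInducedBy_iff.2 ⟨g, g.2, fun x => rfl⟩
  · intro h
    obtain ⟨g, hg, hα⟩ := mem_autInducedBy_iff.1 h
    exact ⟨⟨g, hg⟩, MulEquiv.ext fun x => Subtype.ext (hα x).symm⟩

theorem inn_le_autInducedBy (hP : P ≤ S) : Cfsg.Inn P ≤ autInducedBy S P :=
  (inn_eq_autInducedBy P).trans_le (autInducedBy_mono hP P)

theorem inn_le_autGroup (F : Cfsg.FusionSystem S) (hP : P ≤ S) : Cfsg.Inn P ≤ F.autGroup P :=
  (inn_le_autInducedBy hP).trans (autInducedBy_le_autGroup F hP)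

theorem inn_normal (P : Subgroup Ω) : (Cfsg.Inn P).Normal where
  conj_mem := by
    rintro _ ⟨g, rfl⟩ β
    exact ⟨β g, MulEquiv.ext fun x => by simp⟩

theorem inn_subgroupOf_normal (F : Cfsg.FusionSystem S) (P : Subgroup Ω) :
    ((Cfsg.Inn P).subgroupOf (F.autGroup P)).Normal :=
  (inn_normal P).subgroupOf _

theorem congr_conjAut {P Q : Subgroup Ω} (e : P ≃* Q) {g h : Ω}
    (hg : g ∈ Subgroup.normalizer (P : Set Ω)) (hh : h ∈ Subgroup.normalizer (Q : Set Ω))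
    (heq : ∀ x : P, (e (conjAut P g hg x) : Ω) = h * (e x : Ω) * h⁻¹) :
    MulAut.congr e (conjAut P g hg) = conjAut Q h hh := by
  refine MulEquiv.ext fun y => Subtype.ext ?_
  rw [congr_apply, heq, MulEquiv.apply_symm_apply, conjAut_apply]

theorem conjAut_eq_one_iff {g : Ω} (hg : g ∈ Subgroup.normalizer (P : Set Ω)) :
    conjAut P g hg = 1 ↔ g ∈ Subgroup.centralizer (P : Set Ω) := by
  change P.normalizerMonoidHom ⟨g, hg⟩ = 1 ↔ _
  rw [← MonoidHom.mem_ker, Subgroup.normalizerMonoidHom_ker]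
  rfl

/-! ### Normalizers and centralizers in `S` -/

theorem normalizerIn_le (S P : Subgroup Ω) : normalizerIn S P ≤ S := inf_le_left

theorem centralizerIn_le (S P : Subgroup Ω) : centralizerIn S P ≤ S := inf_le_left

theorem mem_normalizerIn {g : Ω} :
    g ∈ normalizerIn S P ↔ g ∈ S ∧ g ∈ Subgroup.normalizer (P : Set Ω) := Iff.rfl

theorem mem_centralizerIn {g : Ω} :
    g ∈ centralizerIn S P ↔ g ∈ S ∧ g ∈ Subgroup.centralizer (P : Set Ω) := Iff.rfl

theorem le_normalizerIn (hP : P ≤ S) : P ≤ normalizerIn S P :=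
  le_inf hP Subgroup.le_normalizer

theorem centralizer_le_normalizer (P : Subgroup Ω) :
    Subgroup.centralizer (P : Set Ω) ≤ Subgroup.normalizer (P : Set Ω) := by
  intro g hg
  rw [Subgroup.mem_normalizer_iff]
  intro n
  constructor
  · intro hn
    rw [← Subgroup.mem_centralizer_iff.1 hg n hn, mul_inv_cancel_right]
    exact hn
  · intro hn
    have := Subgroup.mem_centralizer_iff.1 hg _ hn
    have h2 : g * n * g⁻¹ = n := by
      calc g * n * g⁻¹ = g⁻¹ * (g * (g * n * g⁻¹)) := by simp [mul_assoc]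
        _ = g⁻¹ * (g * n * g⁻¹ * g) := by rw [this]
        _ = n := by simp [mul_assoc]
    rwa [h2] at hn

theorem centralizerIn_le_normalizerIn (S P : Subgroup Ω) : centralizerIn S P ≤ normalizerIn S P :=
  inf_le_inf_left _ (centralizer_le_normalizer P)

/-- A normalizer in `S` strictly contains a proper subgroup. -/
theorem lt_normalizerIn [Finite S] {p : ℕ} [Fact p.Prime] (hS : IsPGroup p S) (hPS : P < S) :
    P < normalizerIn S P := by
  have hnil : Group.IsNilpotent S := hS.isNilpotent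
  have hlt : P.subgroupOf S < ⊤ := by
    rw [lt_top_iff_ne_top, Ne, Subgroup.subgroupOf_eq_top]
    exact not_le_of_gt hPS
  have h := Group.normalizerCondition_of_isNilpotent (G := S) (P.subgroupOf S) hlt
  refine lt_of_le_of_ne (le_normalizerIn hPS.le) fun hEq => h.ne ?_
  refine le_antisymm Subgroup.le_normalizer fun g hg => ?_
  show (g : Ω) ∈ P
  rw [hEq]
  refine ⟨g.2, Subgroup.mem_normalizer_iff.2 fun n => ⟨fun hn => ?_, fun hn => ?_⟩⟩
  · exact (Subgroup.mem_normalizer_iff.1 hg ⟨n, hPS.le hn⟩).1 hn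
  · have hnS : n ∈ S := by
      have := S.mul_mem (S.mul_mem (S.inv_mem g.2) (hPS.le hn)) g.2
      simpa [mul_assoc] using this
    exact (Subgroup.mem_normalizer_iff.1 hg ⟨n, hnS⟩).2 hn

/-! ### The extender `N_φ` -/

theorem mem_extender_iff {φ : P →* Ω} {g : Ω} :
    g ∈ extender S P φ ↔ g ∈ S ∧ g ∈ Subgroup.normalizer (P : Set Ω) ∧
      ∃ h ∈ S, ∀ (x : P) (hx : g * (x : Ω) * g⁻¹ ∈ P), φ ⟨g * x * g⁻¹, hx⟩ = h * φ x * h⁻¹ := by
  refine ⟨fun hg => ?_, fun h => Subgroup.subset_closure h⟩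
  refine Subgroup.closure_induction (p := fun a _ => a ∈ S ∧ a ∈ Subgroup.normalizer (P : Set Ω) ∧
      ∃ h ∈ S, ∀ (x : P) (hx : a * (x : Ω) * a⁻¹ ∈ P), φ ⟨a * x * a⁻¹, hx⟩ = h * φ x * h⁻¹)
    ?_ ?_ ?_ ?_ hg
  · exact fun a ha => ha
  · exact ⟨S.one_mem, one_mem _, 1, S.one_mem, fun x hx => by simp⟩
  · rintro a b - - ⟨haS, haN, h, hh, ha⟩ ⟨hbS, hbN, k, hk, hb⟩
    refine ⟨S.mul_mem haS hbS, mul_mem haN hbN, h * k, S.mul_mem hh hk, fun x hx => ?_⟩
    have h1 : b * (x : Ω) * b⁻¹ ∈ P := conj_mem_of_mem_normalizer hbN x.2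
    have h2 : a * (b * (x : Ω) * b⁻¹) * a⁻¹ ∈ P := conj_mem_of_mem_normalizer haN h1
    have e : (⟨a * b * x * (a * b)⁻¹, hx⟩ : P) = ⟨a * (b * x * b⁻¹) * a⁻¹, h2⟩ :=
      Subtype.ext (by simp [mul_assoc])
    rw [e, ha ⟨_, h1⟩ h2, hb x h1, mul_inv_rev]
    simp only [mul_assoc]
  · rintro a - ⟨haS, haN, h, hh, ha⟩
    refine ⟨S.inv_mem haS, inv_mem haN, h⁻¹, S.inv_mem hh, fun x hx => ?_⟩
    have h1 : a * (a⁻¹ * (x : Ω) * a⁻¹⁻¹) * a⁻¹ ∈ P := by simpa [mul_assoc] using x.2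
    have e : (⟨a * (a⁻¹ * x * a⁻¹⁻¹) * a⁻¹, h1⟩ : P) = x := Subtype.ext (by simp [mul_assoc])
    have := ha ⟨_, hx⟩ h1
    rw [e] at this
    rw [this]
    simp [mul_assoc]

theorem extender_le_normalizerIn (φ : P →* Ω) : extender S P φ ≤ normalizerIn S P := fun _ hg =>
  ⟨(mem_extender_iff.1 hg).1, (mem_extender_iff.1 hg).2.1⟩

theorem le_extender (hP : P ≤ S) {φ : P →* Ω} (hφ : ∀ x, φ x ∈ S) : P ≤ extender S P φ := fun g hg =>
  mem_extender_iff.2 ⟨hP hg, Subgroup.le_normalizer hg, φ ⟨g, hg⟩, hφ _, fun x hx => by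
    have : (⟨g * x * g⁻¹, hx⟩ : P) = ⟨g, hg⟩ * x * ⟨g, hg⟩⁻¹ := Subtype.ext rfl
    rw [this, map_mul, map_mul, map_inv]⟩

theorem centralizerIn_le_extender (φ : P →* Ω) : centralizerIn S P ≤ extender S P φ := fun g hg =>
  mem_extender_iff.2 ⟨hg.1, centralizer_le_normalizer P hg.2, 1, S.one_mem, fun x hx => by
    have : (⟨g * x * g⁻¹, hx⟩ : P) = x := Subtype.ext (by
      show g * (x : Ω) * g⁻¹ = x
      rw [← Subgroup.mem_centralizer_iff.1 hg.2 x x.2, mul_inv_cancel_right])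
    rw [this]; simp⟩

/-- Membership in the extender, through the isomorphism onto the image. -/
theorem mem_extender_iff_congr (e : P ≃* Q) {φ : P →* Ω} (hφ : ∀ x, φ x = (e x : Ω)) {g : Ω}
    (hgS : g ∈ S) (hg : g ∈ Subgroup.normalizer (P : Set Ω)) :
    g ∈ extender S P φ ↔ MulAut.congr e (conjAut P g hg) ∈ autInducedBy S Q := by
  rw [mem_extender_iff]
  constructor
  · rintro ⟨-, -, h, hh, heq⟩
    refine mem_autInducedBy_iff.2 ⟨h, hh, fun y => ?_⟩
    have := heq (e.symm y) (conjAut P g hg (e.symm y)).2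
    rw [hφ, hφ, MulEquiv.apply_symm_apply] at this
    exact this
  · intro hmem
    obtain ⟨h, hh, heq⟩ := mem_autInducedBy_iff.1 hmem
    refine ⟨hgS, hg, h, hh, fun x hx => ?_⟩
    have := heq (e x)
    rw [congr_apply, MulEquiv.symm_apply_apply] at this
    rw [hφ, hφ]
    exact this

end CfsgLib.Fusion
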