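import Cfsg.Agent.Lib.PLocal.PSolvable
import Cfsg.Agent.Lib.Solvable.Core
import Cfsg.Agent.Lib.Transfer.PResidual
import Cfsg.Agent.Lib.LocalStr.Basic
import Cfsg.Agent.Lib.Fusion.Hyperfocal
import Cfsg.Agent.Lib.Fusion.Stability
import Cfsg.Agent.Lib.FusionQuot.Invariant

/-!
`p`-solvability of the automizers of a system and of its residual subsystems.
-/

set_option autoImplicit false
open Cfsg Cfsg.FusionSystem CfsgLib.Fusion

namespace CfsgLib.Fusion.PSolv

variable {G : Type*} [Group G] {p : ℕ}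

theorem isPSolvable_of_pGroup_or_coprime [Fact p.Prime] [Finite G]
    (h : IsPGroup p G ∨ (Nat.card G).Coprime p) : Cfsg.IsPSolvable p G := by
  refine ⟨1, ![⊥, ⊤], rfl, rfl, ?_, fun i => ?_, fun i => ?_⟩
  · exact Fin.monotone_iff_le_succ.mpr fun i => by
      fin_cases i
      show (⊥ : Subgroup G) ≤ ⊤
      exact bot_le
  · fin_cases i
    · show (⊥ : Subgroup G).Normal; infer_instance
    · show (⊤ : Subgroup G).Normal; infer_instance
  · fin_cases i
    show (∃ m : ℕ, (⊥ : Subgroup G).relIndex ⊤ = p ^ m) ∨ ((⊥ : Subgroup G).relIndex ⊤).Coprime p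
    rw [Subgroup.relIndex_bot_left, Subgroup.card_top]
    exact h.imp IsPGroup.iff_card.mp id

theorem isPSolvable_of_bot_quotient [Finite G] [Fact p.Prime] (N : Subgroup G) [N.Normal]
    (hN : IsPGroup p N ∨ (Nat.card N).Coprime p)
    (hq : Cfsg.IsPSolvable p (G ⧸ N)) : Cfsg.IsPSolvable p G := by
  have hsurj := QuotientGroup.mk'_surjective N
  obtain ⟨m, H, h0, hl, hm, hnor, hfac⟩ := hq
  have h0' : (H 0).comap (QuotientGroup.mk' N) = N := by
    rw [h0, MonoidHom.comap_bot, QuotientGroup.ker_mk']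
  refine ⟨m + 1, Fin.cons ⊥ fun i => (H i).comap (QuotientGroup.mk' N), rfl, ?_, ?_, ?_, ?_⟩
  · rw [← Fin.succ_last, Fin.cons_succ, hl, Subgroup.comap_top]
  · refine Fin.monotone_iff_le_succ.mpr fun i => ?_
    induction i using Fin.cases with
    | zero => exact bot_le
    | succ i =>
      rw [Fin.cons_succ, ← Fin.succ_castSucc, Fin.cons_succ]
      exact Subgroup.comap_mono (hm i.castSucc_le_succ)
  · intro i
    induction i using Fin.cases with
    | zero => rw [Fin.cons_zero]; infer_instance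
    | succ i => rw [Fin.cons_succ]; exact (hnor i).comap _
  · intro i
    induction i using Fin.cases with
    | zero =>
      rw [Fin.cons_succ, Fin.castSucc_zero, Fin.cons_zero, h0', Subgroup.relIndex_bot_left]
      exact hN.imp IsPGroup.iff_card.mp id
    | succ i =>
      rw [Fin.cons_succ, ← Fin.succ_castSucc, Fin.cons_succ, Subgroup.relIndex_comap,
        Subgroup.map_comap_eq_self_of_surjective hsurj]
      exact hfac i

/-- A nontrivial `p`-solvable group has a nontrivial `O_p` or `O_{p'}`. -/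
theorem exists_core_ne_bot [Finite G] [Fact p.Prime] (h : Cfsg.IsPSolvable p G) [Nontrivial G] :
    ∃ L : Subgroup G, L ≠ ⊥ ∧ L.Characteristic ∧ (IsPGroup p L ∨ (Nat.card L).Coprime p) := by
  obtain ⟨n, H, h0, hl, -, hn, hf⟩ := h
  by_contra hno
  have hno' : ∀ L : Subgroup G, L.Characteristic → (IsPGroup p L ∨ (Nat.card L).Coprime p) → L = ⊥ :=
    fun L h1 h2 => by_contra fun h3 => hno ⟨L, h3, h1, h2⟩
  have hall : ∀ i, H i = ⊥ := by
    refine Fin.induction h0 fun i hi => ?_
    have hcase := hf i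
    rw [hi, Subgroup.relIndex_bot_left] at hcase
    have := hn i.succ
    rcases hcase with hp | hc
    · exact le_bot_iff.1 ((CfsgLib.Solvable.le_pCore this (IsPGroup.iff_card.mpr hp)).trans
        (hno' _ (CfsgLib.Solvable.pCore_characteristic (p := p) G)
          (Or.inl (CfsgLib.Solvable.pCore_isPGroup p G))).le)
    · exact le_bot_iff.1 ((CfsgLib.Solvable.le_pPrimeCore this hc).trans
        (hno' _ (CfsgLib.Solvable.pPrimeCore_characteristic p G)
          (Or.inr (CfsgLib.Solvable.pPrimeCore_card_coprime p G))).le)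
  have := hall (Fin.last n)
  rw [hl] at this
  exact top_ne_bot this

theorem isPSolvable_of_normal_aux [Fact p.Prime] : ∀ (n : ℕ) (G : Type*) [Group G] [Finite G],
    Nat.card G = n → ∀ N : Subgroup G, ∀ [N.Normal], Cfsg.IsPSolvable p N →
      Cfsg.IsPSolvable p (G ⧸ N) → Cfsg.IsPSolvable p G := by
  intro n
  induction n using Nat.strong_induction_on with
  | _ n ih =>
  intro G _ _ hn N _ hN hq
  rcases subsingleton_or_nontrivial N with hs | hs
  · exact isPSolvable_of_bot_quotient N (Or.inr (by rw [Nat.card_unique]; exact Nat.coprime_one_left p)) hq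
  obtain ⟨L, hL, hLc, hLp⟩ := exists_core_ne_bot hN
  set M := L.map N.subtype with hM
  have hMn : M.Normal := ConjAct.normal_of_characteristic_of_normal
  have hMp : IsPGroup p M ∨ (Nat.card M).Coprime p :=
    hLp.imp (fun h => h.map _) fun h => by
      rwa [hM, Subgroup.card_map_of_injective N.subtype_injective]
  have hMN : M ≤ N := Subgroup.map_subtype_le L
  have hMbot : M ≠ ⊥ := fun h => hL ((Subgroup.map_eq_bot_iff_of_injective _ N.subtype_injective).1 h)
  refine isPSolvable_of_bot_quotient M hMp ?_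
  have hlt : Nat.card (G ⧸ M) < n := by
    rw [← hn, ← Subgroup.card_mul_index M, ← Subgroup.index_eq_card]
    exact lt_mul_left (Nat.pos_of_ne_zero Subgroup.index_ne_zero_of_finite)
      (Subgroup.one_lt_card_iff_ne_bot M |>.2 hMbot)
  have : (N.map (QuotientGroup.mk' M)).Normal :=
    Subgroup.Normal.map inferInstance _ (QuotientGroup.mk'_surjective M)
  refine ih _ hlt (G ⧸ M) rfl (N.map (QuotientGroup.mk' M)) ?_ ?_
  · exact CfsgLib.PLoc.isPSolvable_of_surjective
      ((QuotientGroup.mk' M).subgroupMap_surjective N) hN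
  · refine CfsgLib.PLoc.isPSolvable_of_surjective (f := QuotientGroup.lift N
      ((QuotientGroup.mk' (N.map (QuotientGroup.mk' M))).comp (QuotientGroup.mk' M)) ?_) ?_ hq
    · intro x hx
      exact (QuotientGroup.eq_one_iff _).2 ⟨x, hx, rfl⟩
    · intro y
      obtain ⟨y, rfl⟩ := QuotientGroup.mk'_surjective _ y
      obtain ⟨y, rfl⟩ := QuotientGroup.mk'_surjective _ y
      exact ⟨(y : G ⧸ N), rfl⟩

theorem isPSolvable_of_normal [Finite G] [Fact p.Prime] (N : Subgroup G) [N.Normal]
    (hN : Cfsg.IsPSolvable p N) (hq : Cfsg.IsPSolvable p (G ⧸ N)) : Cfsg.IsPSolvable p G :=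
  isPSolvable_of_normal_aux _ G rfl N hN hq

theorem closure_pElements_normal :
    (Subgroup.closure {g : G | ∃ k : ℕ, orderOf g = p ^ k}).Normal := by
  refine ⟨fun n hn g => ?_⟩
  have hle : (Subgroup.closure {g : G | ∃ k : ℕ, orderOf g = p ^ k}).map
      (MulAut.conj g).toMonoidHom ≤ Subgroup.closure {g : G | ∃ k : ℕ, orderOf g = p ^ k} := ?_
  · exact hle ⟨n, hn, rfl⟩
  rw [MonoidHom.map_closure, Subgroup.closure_le]
  rintro _ ⟨y, ⟨k, hk⟩, rfl⟩
  exact Subgroup.subset_closure ⟨k, by
    rw [← hk]; exact orderOf_injective (MulAut.conj g).toMonoidHom (MulAut.conj g).injective y⟩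

/-- The part of an element whose order is prime to `p`, acting as a given power. -/
theorem exists_pPrime_part [Finite G] [Fact p.Prime] {A : Type*} [Group A] (g : G) (β : A)
    (hβ : (orderOf β).Coprime p) : ∃ j : ℕ, (orderOf (g ^ j)).Coprime p ∧ β ^ j = β := by
  set k := (orderOf g).factorization p
  have hco : (p ^ k).Coprime (orderOf β) := (hβ.symm.pow_left k)
  obtain ⟨t, ht⟩ := exists_pow_eq_self_of_coprime hco
  refine ⟨p ^ k * t, ?_, by rw [pow_mul, ht]⟩
  refine Nat.Coprime.coprime_dvd_left ?_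
    (Nat.coprime_ordCompl (Fact.out : p.Prime) (orderOf_pos g).ne').symm
  apply orderOf_dvd_of_pow_eq_one
  rw [← pow_mul, show p ^ k * t * (orderOf g / p ^ k) = p ^ k * (orderOf g / p ^ k) * t by ring,
    Nat.ordProj_mul_ordCompl_eq_self, pow_mul, pow_orderOf_eq_one, one_pow]

/-- The `p`-part of an element, acting as a given power. -/
theorem exists_p_part [Finite G] [Fact p.Prime] {A : Type*} [Group A] (g : G) (β : A) {a : ℕ}
    (hβ : orderOf β = p ^ a) : ∃ j : ℕ, (∃ b, orderOf (g ^ j) = p ^ b) ∧ β ^ j = β := by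
  set k := (orderOf g).factorization p
  set m := orderOf g / p ^ k with hm
  have hco : m.Coprime (orderOf β) :=
    hβ ▸ (Nat.coprime_ordCompl (Fact.out : p.Prime) (orderOf_pos g).ne').symm.pow_right a
  obtain ⟨t, ht⟩ := exists_pow_eq_self_of_coprime hco
  refine ⟨m * t, ?_, by rw [pow_mul, ht]⟩
  have h1 : orderOf (g ^ (m * t)) ∣ p ^ k := by
    apply orderOf_dvd_of_pow_eq_one
    rw [← pow_mul, show m * t * p ^ k = p ^ k * m * t by ring, hm,
      Nat.ordProj_mul_ordCompl_eq_self, pow_mul, pow_orderOf_eq_one, one_pow]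
  obtain ⟨b, -, hb⟩ := (Nat.dvd_prime_pow Fact.out).mp h1
  exact ⟨b, hb⟩

variable {Ω : Type*} [Group Ω] {S : Subgroup Ω} {F : Cfsg.FusionSystem S}

theorem finite_autGroup [Finite S] {P : Subgroup Ω} (hP : P ≤ S) : Finite (F.autGroup P) := by
  have : Finite P := finite_of_le hP
  exact Finite.of_injective _ Subtype.val_injective

theorem isPSolvable_autGroup_of_pPrime [Finite S] [Fact p.Prime] {E : Cfsg.FusionSystem S}
    (hE : E.HasPrimeToPIndexIn F p) {P : Subgroup Ω} (hP : P ≤ S)
    (h : Cfsg.IsPSolvable p (E.autGroup P)) : Cfsg.IsPSolvable p (F.autGroup P) := by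
  have := finite_autGroup (F := F) hP
  set M := Subgroup.closure {α : F.autGroup P | ∃ k : ℕ, orderOf α = p ^ k} with hM
  have : M.Normal := closure_pElements_normal
  refine isPSolvable_of_normal M ?_ (isPSolvable_of_pGroup_or_coprime (Or.inr ?_))
  · have hle : ∀ α : M, ((α : F.autGroup P) : MulAut P) ∈ E.autGroup P := fun α =>
      hE.2 P hP ⟨α, α.2, rfl⟩
    exact CfsgLib.PLocal.isPSolvable_of_injective
      (f := (((F.autGroup P).subtype.comp M.subtype)).codRestrict (E.autGroup P) hle)
      (fun a b hab => Subtype.ext (Subtype.ext (congrArg Subtype.val hab :))) h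
  · refine Nat.Coprime.symm ((Fact.out : p.Prime).coprime_iff_not_dvd.2 fun hd => ?_)
    obtain ⟨x, hx⟩ := exists_prime_orderOf_dvd_card' p hd
    obtain ⟨g, rfl⟩ := QuotientGroup.mk'_surjective M x
    obtain ⟨j, hj, hjx⟩ := exists_p_part g (QuotientGroup.mk' M g) (a := 1) (by rw [hx, pow_one])
    have h1 : QuotientGroup.mk' M g = 1 := by
      rw [← hjx, ← map_pow]
      exact (QuotientGroup.eq_one_iff _).2 (Subgroup.subset_closure hj)
    rw [h1, orderOf_one] at hx
    exact (Fact.out : p.Prime).ne_one hx.symm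

theorem isPSolvable_autGroup_of_pPower [Finite S] [Fact p.Prime] (hS : IsPGroup p S)
    {T : Subgroup Ω} (hT : T ≤ S) {D : Cfsg.FusionSystem T} (hD : D.HasPPowerIndexIn F p)
    (hTsc : F.StronglyClosed T) {P : Subgroup Ω} (hP : P ≤ S)
    (h : ∀ Q : Subgroup Ω, Q ≤ T → Cfsg.IsPSolvable p (D.autGroup Q)) :
    Cfsg.IsPSolvable p (F.autGroup P) := by
  have := finite_autGroup (F := F) hP
  set B := pResidual p (F.autGroup P) with hB
  have : B.Normal := CfsgLib.LocalStr.pResidual_normal _ p
  refine isPSolvable_of_normal B ?_ (isPSolvable_of_pGroup_or_coprime (Or.inl ?_))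
  · set Q := P ⊓ T with hQ
    have hQS : Q ≤ S := inf_le_left.trans hP
    have hQT : Q ≤ T := inf_le_right
    have := finite_autGroup (F := F) hQS
    have : Finite Q := finite_of_le hQS
    have : Finite (MulAut Q) := finite_mulAut
    -- restriction to `P ⊓ T`
    have hst : ∀ (γ : F.autGroup P) (q : Q), (((γ : MulAut P) ⟨q, q.2.1⟩ : P) : Ω) ∈ Q := fun γ q =>
      ⟨((γ : MulAut P) _).2, Stability.aut_mem hTsc hP γ.2 (x := ⟨q, q.2.1⟩) q.2.2⟩
    let res : F.autGroup P →* MulAut Q :=
      { toFun := fun γ =>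
          { toFun := fun q => ⟨_, hst γ q⟩
            invFun := fun q => ⟨_, hst γ⁻¹ q⟩
            left_inv := fun q => Subtype.ext (congrArg Subtype.val
              (MulAut.inv_apply_self _ (γ : MulAut P) (⟨q, q.2.1⟩ : P)) :)
            right_inv := fun q => Subtype.ext (congrArg Subtype.val
              (MulAut.apply_inv_self _ (γ : MulAut P) (⟨q, q.2.1⟩ : P)) :)
            map_mul' := fun a b => Subtype.ext (congrArg Subtype.val
              (map_mul (γ : MulAut P) (⟨a, a.2.1⟩ : P) ⟨b, b.2.1⟩) :) }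
        map_one' := rfl
        map_mul' := fun _ _ => rfl }
    have hresF : ∀ γ : F.autGroup P, res γ ∈ F.autGroup Q := fun γ => by
      refine (mem_autGroup_iff_hom hQS).2 ?_
      exact mem_of_restrict ((mem_autGroup_iff_hom hP).1 γ.2) inf_le_left _ fun q => rfl
    let resF : F.autGroup P →* F.autGroup Q := res.codRestrict _ hresF
    have hle : ∀ γ : B, res γ ∈ D.autGroup Q := by
      intro γ
      refine hD.2.2 Q hQT ⟨resF γ, ?_, rfl⟩
      exact (CfsgLib.Transfer.map_pResidual_le resF) ⟨γ, γ.2, rfl⟩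
    let f : B →* D.autGroup Q := (res.comp B.subtype).codRestrict _ hle
    have := Finite.of_injective (fun a : D.autGroup Q => (a : MulAut Q)) Subtype.val_injective
    have hker : IsPGroup p f.ker := by
      have : Finite P := finite_of_le hP
      refine Stability.isPGroup_of_coprime_eq_one fun a ha => ?_
      refine Subtype.ext (Subtype.ext (Subtype.ext (MulEquiv.ext fun x => ?_)))
      have hfix : ∀ y : P, (y : Ω) ∈ T → (((a : B) : F.autGroup P) : MulAut P) y = y := by
        intro y hy
        have h1 : res ((a : B) : F.autGroup P) = 1 := congrArg Subtype.val a.2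
        exact Subtype.ext (congrArg (fun β : MulAut Q => ((β ⟨y, y.2, hy⟩ : Q) : Ω)) h1)
      refine Stability.eq_self_of_disp_fixed (isPGroup_of_le hS hP) _ ?_ (hfix _ ?_)
      · rw [Subgroup.orderOf_coe, Subgroup.orderOf_coe, Subgroup.orderOf_coe]
        exact ha
      · exact hD.2.1 (mem_hyperfocal_of_pResidual hP (a : B).2 x)
    refine isPSolvable_of_normal f.ker (isPSolvable_of_pGroup_or_coprime (Or.inl hker)) ?_
    exact CfsgLib.PLocal.isPSolvable_of_injective (QuotientGroup.kerLift_injective f) (h Q hQT)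
  · intro x
    obtain ⟨g, rfl⟩ := QuotientGroup.mk'_surjective B x
    obtain ⟨k, m, hm, hord⟩ := Nat.exists_eq_pow_mul_and_not_dvd (orderOf_pos g).ne' p
      (Fact.out : p.Prime).ne_one
    refine ⟨k, ?_⟩
    rw [← map_pow]
    refine (QuotientGroup.eq_one_iff _).2 (CfsgLib.Transfer.mem_pResidual_of_coprime ?_)
    refine Nat.Coprime.coprime_dvd_left ?_ ((Fact.out : p.Prime).coprime_iff_not_dvd.2 hm).symm
    rw [orderOf_dvd_iff_pow_eq_one, ← pow_mul, ← hord, pow_orderOf_eq_one]

end CfsgLib.Fusion.PSolv
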