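import Mathlib.GroupTheory.Sylow
import Mathlib.GroupTheory.Nilpotent
import Mathlib.Data.List.OfFn
import Mathlib.Tactic.Group

/-!
Alperin's fusion theorem for finite groups, with tame intersections.
-/

namespace CfsgLib.AlperinGroup

open Subgroup
open scoped Pointwise

variable {G : Type*} [Group G] {p : ℕ}

/-- `P ∩ Q` is a tame intersection. -/
def Tame (P Q : Sylow p G) : Prop :=
  ¬ p ∣ ((P : Subgroup G) ⊓ normalizer ((((P : Subgroup G) ⊓ (Q : Subgroup G)) : Subgroup G) : Set G)).relIndex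
      (normalizer ((((P : Subgroup G) ⊓ (Q : Subgroup G)) : Subgroup G) : Set G)) ∧
  ¬ p ∣ ((Q : Subgroup G) ⊓ normalizer ((((P : Subgroup G) ⊓ (Q : Subgroup G)) : Subgroup G) : Set G)).relIndex
      (normalizer ((((P : Subgroup G) ⊓ (Q : Subgroup G)) : Subgroup G) : Set G))

/-- `Chain P A g`: conjugation of the set `A` by `g` is a composite of conjugations by elements of
normalizers of tame intersections `P ∩ Q`, each containing the current conjugate of `A`. -/
inductive Chain (P : Sylow p G) : Set G → G → Prop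
  | one (A : Set G) : Chain P A 1
  | cons (A : Set G) (x h : G) (Q : Sylow p G)
      (hA : A ⊆ (((P : Subgroup G) ⊓ (Q : Subgroup G) : Subgroup G) : Set G)) (ht : Tame P Q)
      (hx : x ∈ normalizer ((((P : Subgroup G) ⊓ (Q : Subgroup G)) : Subgroup G) : Set G))
      (hh : Chain P ((fun a => x⁻¹ * a * x) '' A) h) : Chain P A (x * h)

theorem Chain.mono {P : Sylow p G} {A : Set G} {g : G} (h : Chain P A g) :
    ∀ {B : Set G}, B ⊆ A → Chain P B g := by
  induction h with
  | one A => intro B _; exact Chain.one B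
  | cons A x h Q hA ht hx _ ih =>
    intro B hB
    exact Chain.cons B x h Q (hB.trans hA) ht hx (ih (Set.image_mono hB))

theorem image_conj_conj (A : Set G) (x h : G) :
    (fun a => h⁻¹ * a * h) '' ((fun a => x⁻¹ * a * x) '' A) =
      (fun a => (x * h)⁻¹ * a * (x * h)) '' A := by
  rw [Set.image_image]
  exact Set.image_congr fun a _ => by group

theorem Chain.append {P : Sylow p G} {A : Set G} {g : G} (h₁ : Chain P A g) :
    ∀ {h : G}, Chain P ((fun a => g⁻¹ * a * g) '' A) h → Chain P A (g * h) := by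
  induction h₁ with
  | one A => intro h h₂; simpa using h₂
  | cons A x k Q hA ht hx _ ih =>
    intro h h₂
    rw [mul_assoc]
    refine Chain.cons A x (k * h) Q hA ht hx (ih ?_)
    rwa [image_conj_conj]

theorem Chain.symm {P : Sylow p G} {A : Set G} {g : G} (h : Chain P A g) :
    Chain P ((fun a => g⁻¹ * a * g) '' A) g⁻¹ := by
  induction h with
  | one A => simpa using Chain.one A
  | cons A x h Q hA ht hx _ ih =>
    rw [image_conj_conj] at ih
    have hstep : Chain P ((fun a => h⁻¹⁻¹ * a * h⁻¹) '' ((fun a => (x * h)⁻¹ * a * (x * h)) '' A))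
        (x⁻¹ * 1) := by
      rw [Set.image_image]
      refine Chain.cons _ x⁻¹ 1 Q ?_ ht (inv_mem hx) (Chain.one _)
      rintro _ ⟨a, ha, rfl⟩
      have := (mem_normalizer_iff.1 (inv_mem hx) a).1 (hA ha)
      have he : h⁻¹⁻¹ * ((x * h)⁻¹ * a * (x * h)) * h⁻¹ = x⁻¹ * a * x⁻¹⁻¹ := by group
      show h⁻¹⁻¹ * ((x * h)⁻¹ * a * (x * h)) * h⁻¹ ∈ _
      rw [he]
      exact this
    have h2 := ih.append hstep
    rwa [mul_one, ← mul_inv_rev] at h2

/-- Convert a chain to the sequence form. -/
theorem Chain.exists_seq {P : Sylow p G} {A : Set G} {g : G} (h : Chain P A g) :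
    ∃ (n : ℕ) (Q : Fin n → Sylow p G) (x : Fin n → G), (List.ofFn x).prod = g ∧
      (∀ i : Fin n, x i ∈ normalizer ((((P : Subgroup G) ⊓ (Q i : Subgroup G)) : Subgroup G) : Set G) ∧
        Tame P (Q i)) ∧
      (∀ h : 0 < n, A ⊆ (((P : Subgroup G) ⊓ (Q ⟨0, h⟩ : Subgroup G) : Subgroup G) : Set G)) ∧
      ∀ i : Fin n, ∀ h : i.val + 1 < n,
        (fun a => (((List.ofFn x).take (i.val + 1)).prod)⁻¹ * a * ((List.ofFn x).take (i.val + 1)).prod) '' A ⊆
          (((P : Subgroup G) ⊓ (Q ⟨i.val + 1, h⟩ : Subgroup G) : Subgroup G) : Set G) := by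
  induction h with
  | one A =>
    exact ⟨0, Fin.elim0, Fin.elim0, by simp, fun i => i.elim0, fun h => absurd h (Nat.lt_irrefl 0),
      fun i => i.elim0⟩
  | cons A x h Q hA ht hx _ ih =>
    obtain ⟨n, Qs, xs, hprod, hnorm, hfirst, hnext⟩ := ih
    refine ⟨n + 1, Fin.cons Q Qs, Fin.cons x xs, ?_, ?_, ?_, ?_⟩
    · rw [List.ofFn_succ]; simp [hprod]
    · intro i
      induction i using Fin.cases with
      | zero => simpa using ⟨hx, ht⟩
      | succ j => simpa using hnorm j
    · intro _; exact hA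
    · intro i hi
      induction i using Fin.cases with
      | zero =>
        have hn : 0 < n := by simp at hi; omega
        have hidx : (⟨((0 : Fin (n + 1)) : ℕ) + 1, hi⟩ : Fin (n + 1)) = Fin.succ ⟨0, hn⟩ := rfl
        rw [hidx, Fin.cons_succ, List.ofFn_succ]
        simpa using hfirst hn
      | succ j =>
        have hj : j.val + 1 < n := by simp at hi; omega
        have hidx : (⟨(j.succ : ℕ) + 1, hi⟩ : Fin (n + 1)) = Fin.succ ⟨j.val + 1, hj⟩ := rfl
        rw [hidx, Fin.cons_succ, List.ofFn_succ]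
        have hkey := hnext j hj
        rw [image_conj_conj] at hkey
        simpa using hkey

theorem mem_smul_sylow_iff (P : Sylow p G) (g a : G) :
    a ∈ ((g • P : Sylow p G) : Subgroup G) ↔ g⁻¹ * a * g ∈ (P : Subgroup G) := by
  rw [Sylow.coe_subgroup_smul, mem_pointwise_smul_iff_inv_smul_mem, ← map_inv]
  simp [MulAut.conj_apply]

variable [Finite G] [hp : Fact p.Prime]

/-- A p-subgroup of `N` is conjugate in `N` into any p-subgroup of index prime to p in `N`. -/
theorem exists_conj_mem (N S X : Subgroup G) (hS : IsPGroup p S) (hX : IsPGroup p X)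
    (hSN : S ≤ N) (hXN : X ≤ N) (hidx : ¬ p ∣ S.relIndex N) :
    ∃ n ∈ N, ∀ x ∈ X, n⁻¹ * x * n ∈ S := by
  let T : Sylow p N := (hS.of_equiv (subgroupOfEquivOfLe hSN).symm).toSylow hidx
  obtain ⟨R, hR⟩ := (hX.of_equiv (subgroupOfEquivOfLe hXN).symm).exists_le_sylow
  obtain ⟨k, hk⟩ := MulAction.exists_smul_eq N T R
  refine ⟨k, k.2, fun x hx => ?_⟩
  have hxR : (⟨x, hXN hx⟩ : N) ∈ (R : Subgroup N) := hR (mem_subgroupOf.2 hx)
  rw [← hk, mem_smul_sylow_iff] at hxR
  exact mem_subgroupOf.1 hxR

/-- Conjugation from `P` into `P` factors through tame intersections. -/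
theorem chain_of_conj_mem (P : Sylow p G) (g : G) :
    Chain P (((P : Subgroup G) ⊓ ((g • P : Sylow p G) : Subgroup G) : Subgroup G) : Set G) g := by
  suffices h : ∀ (k : ℕ) (g : G),
      Nat.card P - Nat.card ((P : Subgroup G) ⊓ ((g • P : Sylow p G) : Subgroup G) : Subgroup G) = k →
      Chain P (((P : Subgroup G) ⊓ ((g • P : Sylow p G) : Subgroup G) : Subgroup G) : Set G) g from
    h _ g rfl
  intro k
  induction k using Nat.strong_induction_on with
  | _ k ih =>
  intro g hk
  set D := (P : Subgroup G) ⊓ ((g • P : Sylow p G) : Subgroup G) with hD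
  -- induction hypothesis in usable form
  have IH : ∀ (X : Subgroup G) (h : G), Nat.card D < Nat.card X →
      (∀ x ∈ X, x ∈ (P : Subgroup G) ∧ h⁻¹ * x * h ∈ (P : Subgroup G)) → Chain P (X : Set G) h := by
    intro X h hlt hX
    have hle : X ≤ (P : Subgroup G) ⊓ ((h • P : Sylow p G) : Subgroup G) := fun x hx =>
      ⟨(hX x hx).1, (mem_smul_sylow_iff P h x).2 (hX x hx).2⟩
    have h1 := Subgroup.card_le_of_le hle
    have h2 := Subgroup.card_le_of_le
      (inf_le_left : (P : Subgroup G) ⊓ ((h • P : Sylow p G) : Subgroup G) ≤ P)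
    exact (ih _ (by omega) h rfl).mono hle
  have hPself : ∀ x : G, x ∈ normalizer (((P : Subgroup G) ⊓ (P : Subgroup G) : Subgroup G) : Set G) →
      Chain P (P : Set G) x := by
    intro x hx
    rw [← mul_one x]
    refine Chain.cons _ x 1 P (by simp) ?_ hx (Chain.one _)
    have hPN : (P : Subgroup G) ⊓ normalizer ((((P : Subgroup G) ⊓ (P : Subgroup G)) : Subgroup G) : Set G)
        = (P : Subgroup G) := by
      rw [inf_idem, inf_eq_left]; exact le_normalizer
    have hnd : ¬ p ∣ (P : Subgroup G).relIndex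
        (normalizer ((((P : Subgroup G) ⊓ (P : Subgroup G)) : Subgroup G) : Set G)) := fun h =>
      P.not_dvd_index (h.trans (relIndex_dvd_index_of_le (by rw [inf_idem]; exact le_normalizer)))
    exact ⟨by rw [hPN]; exact hnd, by rw [hPN]; exact hnd⟩
  by_cases hDP : D = (P : Subgroup G)
  · have hfix : g • P = P := by
      refine Sylow.ext ?_
      refine (Subgroup.eq_of_le_of_card_ge (fun x hx => ?_) ?_).symm
      · exact (hDP.ge hx).2
      · rw [Nat.card_congr ((g • P).equiv P).toEquiv]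
    refine (hPself g ?_).mono (fun x hx => hx.1)
    rw [inf_idem]
    exact Sylow.smul_eq_iff_mem_normalizer.1 hfix
  have hDlt : D < (P : Subgroup G) := lt_of_le_of_ne inf_le_left hDP
  -- normalizers grow
  have grow : ∀ X : Subgroup G, X < (P : Subgroup G) →
      Nat.card X < Nat.card ((P : Subgroup G) ⊓ normalizer (X : Set G) : Subgroup G) := by
    intro X hX
    have hne : X.subgroupOf (P : Subgroup G) < ⊤ := by
      rw [lt_top_iff_ne_top, ne_eq, subgroupOf_eq_top]
      exact hX.not_ge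
    obtain ⟨y, hy, hyX⟩ := SetLike.exists_of_lt
      (@Group.normalizerCondition_of_isNilpotent _ _ P.isPGroup'.isNilpotent _ hne)
    have hyN : (y : G) ∈ normalizer (X : Set G) := by
      rw [mem_normalizer_iff] at hy ⊢
      intro a
      by_cases ha : a ∈ (P : Subgroup G)
      · simpa [mem_subgroupOf] using hy ⟨a, ha⟩
      · constructor
        · intro h; exact absurd (hX.le h) ha
        · intro h
          exfalso; apply ha
          have := mul_mem (mul_mem (inv_mem y.2) (hX.le h)) y.2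
          simpa [mul_assoc] using this
    by_contra hge
    have heq := Subgroup.eq_of_le_of_card_ge (le_inf hX.le le_normalizer) (not_lt.1 hge)
    exact hyX (mem_subgroupOf.2 (heq.ge ⟨y.2, hyN⟩))
  -- a conjugate `E ≤ P` of `D` which is fully normalized
  set N := normalizer (D : Set G) with hN
  obtain ⟨T⟩ : Nonempty (Sylow p N) := inferInstance
  obtain ⟨S, hS⟩ := (T.isPGroup'.map N.subtype).exists_le_sylow
  obtain ⟨u, hu⟩ := MulAction.exists_smul_eq G P S
  have hSP : ∀ x ∈ (S : Subgroup G), u⁻¹ * x * u ∈ (P : Subgroup G) := fun x hx =>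
    (mem_smul_sylow_iff P u x).1 (by rwa [hu])
  set c := (MulAut.conj u⁻¹).toMonoidHom with hc
  have hcu : ∀ x, c x = u⁻¹ * x * u := fun x => by simp [hc, MulAut.conj_apply]
  have hcinj : Function.Injective c := (MulAut.conj u⁻¹).injective
  set E := D.map c with hE
  set M := normalizer (E : Set G) with hM
  have hMmap : N.map c = M := map_normalizer_eq_of_bijective _ (MulAut.conj u⁻¹).bijective
  have hDT : D.subgroupOf N ≤ (T : Subgroup N) := by
    obtain ⟨R, hR⟩ := ((P.isPGroup'.to_le hDlt.le).of_equiv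
      (subgroupOfEquivOfLe (le_normalizer : D ≤ N)).symm).exists_le_sylow
    obtain ⟨k, hk'⟩ := MulAction.exists_smul_eq N T R
    intro x hx
    have hn : (D.subgroupOf N).Normal := (normal_subgroupOf_iff_le_normalizer le_normalizer).2 le_rfl
    have := hR (hn.conj_mem x hx k)
    rw [← hk', mem_smul_sylow_iff] at this
    simpa [mul_assoc] using this
  have hEP : E ≤ (P : Subgroup G) := by
    rintro _ ⟨x, hx, rfl⟩
    rw [hcu]
    exact hSP _ (hS ⟨⟨x, le_normalizer hx⟩, hDT (mem_subgroupOf.2 hx), rfl⟩)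
  have hEfn : ¬ p ∣ ((P : Subgroup G) ⊓ M).relIndex M := by
    intro hd
    apply T.not_dvd_index
    have hle : ((T : Subgroup N).map N.subtype).map c ≤ (P : Subgroup G) ⊓ M := by
      rintro _ ⟨x, hx, rfl⟩
      refine ⟨?_, hMmap ▸ mem_map_of_mem c (map_subtype_le _ hx)⟩
      rw [hcu]; exact hSP _ (hS hx)
    have := hd.trans (relIndex_dvd_of_le_left M hle)
    rw [← hMmap, relIndex_map_map_of_injective _ _ hcinj, relIndex,
      subgroupOf, comap_map_eq_self_of_injective N.subtype_injective] at this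
    exact this
  have hPM : IsPGroup p ((P : Subgroup G) ⊓ M : Subgroup G) := P.isPGroup'.to_le inf_le_left
  have hEcard : Nat.card E = Nat.card D :=
    (Nat.card_congr (D.equivMapOfInjective c hcinj).toEquiv).symm
  -- first step: from `D` to `E`
  set ND := (P : Subgroup G) ⊓ normalizer (D : Set G) with hND
  have hND1 : ND.map c ≤ M := hMmap ▸ map_mono inf_le_right
  obtain ⟨n, hnM, hn⟩ := exists_conj_mem M _ (ND.map c) hPM ((P.isPGroup'.to_le inf_le_left).map c)
    inf_le_right hND1 hEfn
  have hh1 : Chain P (D : Set G) (u * n) := by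
    refine (IH ND (u * n) (grow D hDlt) fun x hx => ⟨hx.1, ?_⟩).mono (fun x hx => ⟨hDlt.le hx, le_normalizer hx⟩)
    have := (hn _ (mem_map_of_mem c hx)).1
    rw [hcu] at this
    have he : (u * n)⁻¹ * x * (u * n) = n⁻¹ * (u⁻¹ * x * u) * n := by group
    rw [he]
    exact this
  -- second step: from `D^g` to `E`
  set v := g⁻¹ * u with hv
  set D' := D.map (MulAut.conj g⁻¹).toMonoidHom with hD'
  have hD'P : D' ≤ (P : Subgroup G) := by
    rintro _ ⟨x, hx, rfl⟩
    simpa [MulAut.conj_apply] using (mem_smul_sylow_iff P g x).1 hx.2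
  have hD'card : Nat.card D' = Nat.card D :=
    (Nat.card_congr (D.equivMapOfInjective _ (MulAut.conj g⁻¹).injective).toEquiv).symm
  have hD'lt : D' < (P : Subgroup G) := by
    refine lt_of_le_of_ne hD'P fun h => hDP ?_
    exact Subgroup.eq_of_le_of_card_ge hDlt.le (by rw [← hD'card, h])
  set c' := (MulAut.conj v⁻¹).toMonoidHom with hc'
  have hcv : ∀ x, c' x = v⁻¹ * x * v := fun x => by simp [hc', MulAut.conj_apply]
  have hD'E : D'.map c' = E := by
    rw [hD', map_map, hE]
    congr 1
    ext x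
    simp [hcv, hcu, hv, MulAut.conj_apply, mul_assoc]
  have hM' : (normalizer (D' : Set G)).map c' = M := by
    rw [map_normalizer_eq_of_bijective _ (MulAut.conj v⁻¹).bijective, hM, ← hD'E]
  set ND' := (P : Subgroup G) ⊓ normalizer (D' : Set G) with hND'
  obtain ⟨m, hmM, hm⟩ := exists_conj_mem M _ (ND'.map c') hPM
    ((P.isPGroup'.to_le inf_le_left).map c') inf_le_right (hM' ▸ map_mono inf_le_right) hEfn
  have hh2 : Chain P (D' : Set G) (v * m) := by
    refine (IH ND' (v * m) (hD'card ▸ grow D' hD'lt) fun x hx => ⟨hx.1, ?_⟩).mono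
      (fun x hx => ⟨hD'P hx, le_normalizer hx⟩)
    have := (hm _ (mem_map_of_mem c' hx)).1
    rw [hcv] at this
    have he : (v * m)⁻¹ * x * (v * m) = m⁻¹ * (v⁻¹ * x * v) * m := by group
    rw [he]
    exact this
  -- middle step: inside `N(E)`
  have hconjM : ∀ w ∈ M, (fun a => w⁻¹ * a * w) '' (E : Set G) = E := by
    intro w hw
    ext a
    constructor
    · rintro ⟨e, he, rfl⟩
      simpa using (mem_normalizer_iff.1 (inv_mem hw) e).1 he
    · intro ha
      exact ⟨w * a * w⁻¹, (mem_normalizer_iff.1 hw a).1 ha, by group⟩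
  have mid : ∀ w ∈ M, Chain P (E : Set G) w := by
    intro w hw
    have hEF : E ≤ (P : Subgroup G) ⊓ ((w • P : Sylow p G) : Subgroup G) := fun e he =>
      ⟨hEP he, (mem_smul_sylow_iff P w e).2 (hEP ((hconjM w hw).le ⟨e, he, rfl⟩))⟩
    rcases (Subgroup.card_le_of_le hEF).lt_or_eq with hlt | heq
    · refine (IH ((P : Subgroup G) ⊓ ((w • P : Sylow p G) : Subgroup G)) w (hEcard ▸ hlt) fun x hx => ⟨hx.1, (mem_smul_sylow_iff P w x).1 hx.2⟩).mono hEF
    · have hEeq : (P : Subgroup G) ⊓ ((w • P : Sylow p G) : Subgroup G) = E :=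
        (Subgroup.eq_of_le_of_card_ge hEF heq.ge).symm
      rw [← mul_one w]
      refine Chain.cons _ w 1 (w • P) (fun e he => hEF he) ?_ (by rw [hEeq]; exact hw) (Chain.one _)
      refine ⟨by rw [hEeq]; exact hEfn, ?_⟩
      rw [hEeq, ← hM]
      have hMw : M.map (MulAut.conj w).toMonoidHom = M := by
        refine le_antisymm ?_ fun a ha => ⟨w⁻¹ * a * w, mul_mem (mul_mem (inv_mem hw) ha) hw,
          by simp [MulAut.conj_apply, mul_assoc]⟩
        rintro _ ⟨a, ha, rfl⟩
        simpa [MulAut.conj_apply] using mul_mem (mul_mem hw ha) (inv_mem hw)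
      have hQ : ((w • P : Sylow p G) : Subgroup G) ⊓ M =
          ((P : Subgroup G) ⊓ M).map (MulAut.conj w).toMonoidHom := by
        rw [Subgroup.map_inf _ _ _ (MulAut.conj w).injective, hMw]
        congr 1
      rw [hQ]
      nth_rw 2 [← hMw]
      rw [relIndex_map_map_of_injective _ _ (MulAut.conj w).injective]
      exact hEfn
  -- compose
  have him1 : (fun a => (u * n)⁻¹ * a * (u * n)) '' (D : Set G) = E := by
    rw [← image_conj_conj]
    conv_lhs => arg 2; rw [show (fun a => u⁻¹ * a * u) = c from funext fun a => (hcu a).symm]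
    exact hconjM n hnM
  have him2 : (fun a => (v * m)⁻¹ * a * (v * m)) '' (D' : Set G) = E := by
    rw [← image_conj_conj]
    conv_lhs => arg 2; rw [show (fun a => v⁻¹ * a * v) = c' from funext fun a => (hcv a).symm]
    rw [← coe_map, hD'E]
    exact hconjM m hmM
  have h3 : Chain P (E : Set G) ((n⁻¹ * m) * (v * m)⁻¹) := by
    refine (mid (n⁻¹ * m) (mul_mem (inv_mem hnM) hmM)).append ?_
    rw [hconjM _ (mul_mem (inv_mem hnM) hmM), ← him2]
    exact hh2.symm
  have h4 : Chain P (D : Set G) ((u * n) * ((n⁻¹ * m) * (v * m)⁻¹)) := hh1.append (by rwa [him1])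
  have he : (u * n) * ((n⁻¹ * m) * (v * m)⁻¹) = g := by rw [hv]; group
  rwa [he] at h4

/-- **Alperin's fusion theorem** in chain form. -/
theorem alperin (P : Sylow p G) (A : Set G) (g : G) (hA : A ⊆ (P : Set G))
    (hAg : (fun a => g⁻¹ * a * g) '' A ⊆ (P : Set G)) : Chain P A g :=
  (chain_of_conj_mem P g).mono fun a ha =>
    ⟨hA ha, (mem_smul_sylow_iff P g a).2 (hAg ⟨a, ha, rfl⟩)⟩

end CfsgLib.AlperinGroup
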