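import Cfsg.Agent.Lib.Fusion.Stability
import Cfsg.Agent.Lib.PGroup.PowerMap
import Mathlib.GroupTheory.Frattini

/-!
A coprime automorphism of a finite `p`-group fixing every element of order `p` (order dividing 4
when `p = 2`) is trivial.
-/

set_option autoImplicit false

namespace CfsgLib.Fusion.SmallFix

open CfsgLib.Fusion.Stability
open scoped commutatorElement

universe u

/-- An element whose order is `1` or `p`, or also `4` when `p = 2`. -/
def IsSmall {G : Type*} [Monoid G] (p : ℕ) (x : G) : Prop := x ^ p = 1 ∨ (p = 2 ∧ x ^ 4 = 1)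

theorem isSmall_coe {G : Type*} [Group G] {H : Subgroup G} {p : ℕ} {x : H} :
    IsSmall p (x : G) ↔ IsSmall p x := by
  simp only [IsSmall, ← Subgroup.coe_pow, OneMemClass.coe_eq_one]

theorem isSmall_map {G K : Type*} [Group G] [Group K] (f : G →* K) {p : ℕ} {x : G}
    (hx : IsSmall p x) : IsSmall p (f x) := by
  rcases hx with h | ⟨h, h'⟩
  · exact Or.inl (by rw [← map_pow, h, map_one])
  · exact Or.inr ⟨h, by rw [← map_pow, h', map_one]⟩

theorem fix_of_fix_small {p : ℕ} [Fact p.Prime] {G : Type u} [Group G] [Finite G]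
    (hG : IsPGroup p G) (a : MulAut G) (ha : (orderOf a).Coprime p) (H₀ : Subgroup G)
    (hinv₀ : ∀ x ∈ H₀, a x ∈ H₀) (h : ∀ x ∈ H₀, IsSmall p x → a x = x) :
    ∀ x ∈ H₀, a x = x := by
  suffices key : ∀ (n : ℕ) (H : Subgroup G), Nat.card H ≤ n → H ≤ H₀ → (∀ x ∈ H, a x ∈ H) →
      ∀ x ∈ H, a x = x from key (Nat.card H₀) H₀ le_rfl le_rfl hinv₀
  intro n
  induction n using Nat.strong_induction_on with
  | _ n ih =>
    intro H hn hH₀ hinv x hx
    have hsub : ∀ K : Subgroup G, K ≤ H → K ≠ H → (∀ y ∈ K, a y ∈ K) → ∀ y ∈ K, a y = y := by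
      intro K hK hne hKinv
      have hlt : Nat.card K < Nat.card H :=
        lt_of_not_ge fun hge => hne (Subgroup.eq_of_le_of_card_ge hK hge)
      exact ih (Nat.card K) (by omega) K le_rfl (hK.trans hH₀) hKinv
    -- the subgroup generated by the displacements
    set D : Subgroup G := Subgroup.closure {d | ∃ y ∈ H, d = y⁻¹ * a y} with hD
    have hDH : D ≤ H := (Subgroup.closure_le _).2 (by
      rintro _ ⟨y, hy, rfl⟩
      exact H.mul_mem (H.inv_mem hy) (hinv y hy))
    have hDinv : ∀ y ∈ D, a y ∈ D := by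
      intro y hy
      have hle : D ≤ D.comap a.toMonoidHom := (Subgroup.closure_le _).2 (by
        rintro _ ⟨z, hz, rfl⟩
        show a (z⁻¹ * a z) ∈ D
        rw [map_mul, map_inv]
        exact Subgroup.subset_closure ⟨a z, hinv z hz, rfl⟩)
      exact hle hy
    by_cases hDne : D ≠ H
    · exact eq_self_of_disp_fixed hG a ha
        (hsub D hDH hDne hDinv _ (Subgroup.subset_closure ⟨x, hx, rfl⟩))
    push Not at hDne
    rcases eq_or_ne H ⊥ with rfl | hH1
    · rw [Subgroup.mem_bot.1 hx, map_one]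
    have : Nontrivial H := (Subgroup.nontrivial_iff_ne_bot H).2 hH1
    have hHp : IsPGroup p H := hG.to_subgroup H
    let aH : MulAut H :=
      MulEquiv.ofBijective ((a.toMonoidHom.comp H.subtype).codRestrict H fun y => hinv y y.2)
        (Finite.injective_iff_bijective.1 fun u v huv =>
          Subtype.ext (a.injective (congrArg Subtype.val huv)))
    set Φ : Subgroup G := (frattini H).map H.subtype with hΦ
    have hΦne : Φ ≠ H := by
      intro he
      have h1 : frattini H = ⊤ := by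
        refine eq_top_iff.2 fun y _ => ?_
        obtain ⟨z, hz, hzy⟩ : (y : G) ∈ Φ := he.symm ▸ y.2
        exact (Subtype.ext hzy : z = y) ▸ hz
      have hbot : (⊥ : Subgroup H) = ⊤ :=
        frattini_nongenerating (K := ⊥) (by rw [bot_sup_eq, h1])
      exact bot_ne_top hbot
    have hΦinv : ∀ y ∈ Φ, a y ∈ Φ := by
      rintro _ ⟨y, hy, rfl⟩
      refine ⟨aH y, ?_, rfl⟩
      exact ((Subgroup.characteristic_iff_map_eq.1 (frattini_characteristic (G := H))) aH).le
        ⟨y, hy, rfl⟩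
    have hfixΦ := hsub Φ (Subgroup.map_subtype_le _) hΦne hΦinv
    have hΦc : ∀ f ∈ Φ, ∀ y ∈ H, Commute f y := by
      intro f hf
      have hle : D ≤ Subgroup.centralizer {f} := (Subgroup.closure_le _).2 (by
        rintro _ ⟨z, hz, rfl⟩
        rw [SetLike.mem_coe, Subgroup.mem_centralizer_singleton_iff]
        obtain ⟨f', hf', rfl⟩ := hf
        have hmem : z * (f' : G) * z⁻¹ ∈ Φ :=
          ⟨⟨z, hz⟩ * f' * ⟨z, hz⟩⁻¹, (Subgroup.normal_of_characteristic (frattini H)).conj_mem f' hf' _, rfl⟩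
        have h1 := hfixΦ _ hmem
        rw [map_mul, map_mul, map_inv, hfixΦ (f' : G) ⟨f', hf', rfl⟩] at h1
        show z⁻¹ * a z * (f' : G) = (f' : G) * (z⁻¹ * a z)
        calc z⁻¹ * a z * (f' : G) = z⁻¹ * (a z * (f' : G) * (a z)⁻¹) * a z := by simp [mul_assoc]
          _ = z⁻¹ * (z * (f' : G) * z⁻¹) * a z := by rw [h1]
          _ = (f' : G) * (z⁻¹ * a z) := by simp [mul_assoc])
      intro y hy
      exact (Subgroup.mem_centralizer_singleton_iff.1 (hle (hDne.symm ▸ hy))).symm
    set d : G := x⁻¹ * a x with hd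
    have hdH : d ∈ H := H.mul_mem (H.inv_mem hx) (hinv x hx)
    have hc : ∀ y ∈ H, ∀ z ∈ H, ⁅y, z⁆ ∈ Φ := fun y hy z hz =>
      ⟨⁅(⟨y, hy⟩ : H), ⟨z, hz⟩⁆, CfsgLib.PGroup.commutator_le_frattini hHp (by
        rw [commutator_def]
        exact Subgroup.commutator_mem_commutator (Subgroup.mem_top _) (Subgroup.mem_top _)), rfl⟩
    have hp : ∀ y ∈ H, y ^ p ∈ Φ := fun y hy =>
      ⟨(⟨y, hy⟩ : H) ^ p, CfsgLib.PGroup.pow_mem_frattini hHp _, rfl⟩
    refine eq_self_of_disp_fixed hG a ha (h d (hH₀ hdH) ?_)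
    -- compute in `H`
    set X : H := ⟨x, hx⟩ with hX
    set Dd : H := ⟨d, hdH⟩ with hDd
    have hcentral : ⁅Dd, X⁆ ∈ Subgroup.center H := Subgroup.mem_center_iff.2 fun y =>
      Subtype.ext (hΦc _ (hc d hdH x hx) y y.2).eq.symm
    have hcoll := CfsgLib.PGroup.mul_pow_collect X Dd 1 1 (one_mem _) (one_mem _)
      (by rw [one_mul, Subgroup.mem_center_iff.1 hcentral X])
      (by rw [one_mul, Subgroup.mem_center_iff.1 hcentral Dd]) p
    have hXD : X * Dd = aH X := Subtype.ext (by show x * (x⁻¹ * a x) = a x; simp)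
    have hpow : (X * Dd) ^ p = X ^ p := by
      rw [hXD, ← map_pow]
      exact Subtype.ext (hfixΦ _ (hp x hx))
    rw [hpow, one_pow, one_pow, mul_one, mul_one] at hcoll
    have hXp : X ^ p ∈ Subgroup.center H := Subgroup.mem_center_iff.2 fun y =>
      Subtype.ext (hΦc _ (hp x hx) y y.2).eq.symm
    have h1 : ⁅Dd, X⁆ ^ p.choose 2 * Dd ^ p = 1 := by
      apply mul_right_cancel (b := X ^ p)
      rw [one_mul, mul_assoc, Subgroup.mem_center_iff.1 hXp (Dd ^ p)]
      exact hcoll.symm
    have hcp : ⁅Dd, X⁆ ^ p = 1 := by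
      rw [← CfsgLib.PGroup.commutator_pow_left Dd X (Subgroup.mem_center_iff.1 hcentral Dd) p]
      exact commutatorElement_eq_one_iff_commute.2 (Subtype.ext (hΦc _ (hp d hdH) x hx).eq)
    rcases (Fact.out : p.Prime).eq_two_or_odd' with rfl | hodd
    · rw [Nat.choose_self, pow_one] at h1
      refine Or.inr ⟨rfl, ?_⟩
      have h2 : Dd ^ 4 = 1 := by
        rw [show (4 : ℕ) = 2 * 2 from rfl, pow_mul, eq_inv_of_mul_eq_one_right h1, inv_pow, hcp,
          inv_one]
      simpa using congrArg Subtype.val h2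
    · refine Or.inl ?_
      have h2 : ⁅Dd, X⁆ ^ p.choose 2 = 1 := by
        obtain ⟨k, hk⟩ : p ∣ p.choose 2 := by
          refine (Fact.out : p.Prime).dvd_choose_self (by norm_num) ?_
          rcases hodd with ⟨m, rfl⟩
          have := (Fact.out : (2 * m + 1).Prime).two_le
          omega
        rw [hk, pow_mul, hcp, one_pow]
      rw [h2, one_mul] at h1
      simpa using congrArg Subtype.val h1

theorem eq_one_of_fix_small {p : ℕ} [Fact p.Prime] {G : Type u} [Group G] [Finite G]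
    (hG : IsPGroup p G) (a : MulAut G) (ha : (orderOf a).Coprime p)
    (h : ∀ x : G, IsSmall p x → a x = x) : a = 1 :=
  MulEquiv.ext fun x => fix_of_fix_small hG a ha ⊤ (fun _ _ => Subgroup.mem_top _)
    (fun y _ => h y) x (Subgroup.mem_top x)

end CfsgLib.Fusion.SmallFix
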