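import Cfsg.Agent.Lib.PSL2Sub.Transfer
import Cfsg.Agent.Lib.PLocal.QuadSection
import Cfsg.Agent.Lib.PLocal.Thompson
import Mathlib.GroupTheory.SemidirectProduct

/-!
Dickson's lemma in the form needed for `p`-stability: a finite subgroup of `SL₂` in odd
characteristic `p` generated by elements of order `p` is a `p`-group or contains `SL(2,p)`; hence a
quadratic action outside `O_p` forces a section `SL(2,p)`.
-/

set_option autoImplicit false

open scoped MatrixGroups commutatorElement
open Matrix CfsgLib.SchurSL2 CfsgLib.PSL2Sub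

namespace CfsgLib.SL2Stable

variable {k : Type*} [Field k]

local notation "toP" => (Matrix.SpecialLinearGroup.toPGL : Matrix.SpecialLinearGroup (Fin 2) k →* PG k)

theorem eq_one_or_neg_of_toPGL_eq_one {g : SL(2, k)} (h : toP g = 1) : g = 1 ∨ g = -1 := by
  have hg : g ∈ Subgroup.center (SL(2, k)) := by
    rw [← Matrix.SpecialLinearGroup.toPGL_ker]
    exact h
  obtain ⟨r, -, hr⟩ := Matrix.SpecialLinearGroup.mem_center_iff.mp hg
  apply CfsgLib.PLocal.sl2_scalar_eq_one_or_neg
  rw [← hr]
  exact ⟨by simp, by simp, by simp⟩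

/-- The only involution of `SL₂` in odd characteristic is `-1`. -/
theorem eq_neg_one_of_mul_self (h2 : (2 : k) ≠ 0) {x : SL(2, k)} (hx : x * x = 1) (hne : x ≠ 1) :
    x = -1 := by
  have hdet := x.det_coe
  rw [Matrix.det_fin_two] at hdet
  have hm : (x : Matrix (Fin 2) (Fin 2) k) * (x : Matrix (Fin 2) (Fin 2) k) = 1 := by
    rw [← Matrix.SpecialLinearGroup.coe_mul, hx, Matrix.SpecialLinearGroup.coe_one]
  have e00 := congrFun (congrFun hm 0) 0
  have e01 := congrFun (congrFun hm 0) 1
  have e10 := congrFun (congrFun hm 1) 0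
  have e11 := congrFun (congrFun hm 1) 1
  simp [Matrix.mul_apply, Fin.sum_univ_two] at e00 e01 e10 e11
  set a := (x : Matrix (Fin 2) (Fin 2) k) 0 0
  set b := (x : Matrix (Fin 2) (Fin 2) k) 0 1
  set c := (x : Matrix (Fin 2) (Fin 2) k) 1 0
  set d := (x : Matrix (Fin 2) (Fin 2) k) 1 1
  have ha : a * (a + d) = 2 := by linear_combination e00 + hdet
  have hd : d * (a + d) = 2 := by linear_combination e11 + hdet
  have ht : a + d ≠ 0 := fun h => h2 (by rw [← ha, h, mul_zero])
  refine (CfsgLib.PLocal.sl2_scalar_eq_one_or_neg ⟨?_, ?_, ?_⟩).resolve_left hne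
  · exact (mul_eq_zero.mp (show b * (a + d) = 0 by linear_combination e01)).resolve_right ht
  · exact (mul_eq_zero.mp (show c * (a + d) = 0 by linear_combination e10)).resolve_right ht
  · exact mul_right_cancel₀ ht (ha.trans hd.symm)

/-- A subgroup of the projection containing `-1` contains the full preimage. -/
theorem mem_of_toPGL_mem {X : Subgroup SL(2, k)} (hneg : (-1 : SL(2, k)) ∈ X) {g : SL(2, k)}
    (h : toP g ∈ X.map toP) : g ∈ X := by
  obtain ⟨x, hx, hxg⟩ := h
  rcases eq_one_or_neg_of_toPGL_eq_one (g := x⁻¹ * g) (by rw [map_mul, map_inv, hxg, inv_mul_cancel])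
    with e | e
  · rwa [← inv_mul_eq_one.mp e]
  · rw [show g = x * -1 by rw [← e, mul_inv_cancel_left]]
    exact X.mul_mem hx hneg

variable {p : ℕ} [hp : Fact p.Prime] [CharP k p]

omit hp in
theorem two_ne_zero_of_odd (hp : p.Prime) (hp2 : p ≠ 2) : (2 : k) ≠ 0 := by
  intro h
  have := (CharP.cast_eq_zero_iff k p 2).mp (by exact_mod_cast h)
  exact hp2 ((Nat.prime_dvd_prime_iff_eq hp Nat.prime_two).mp this)

/-- A non-`p`-group generated by elements of order `p` contains `-1`. -/
theorem neg_one_mem (hp2 : p ≠ 2) (X : Subgroup SL(2, k)) [Finite X] {a b : X}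
    (hgen : Subgroup.closure {a, b} = ⊤) (ha : a ^ p = 1) (hb : b ^ p = 1) (hnp : ¬ IsPGroup p X) :
    (-1 : SL(2, k)) ∈ X := by
  have heven : 2 ∣ Nat.card X := by
    by_contra h
    refine hnp (CfsgLib.PLocal.isPGroup_of_odd_sl2 hp2 X (Nat.odd_iff.mpr (by omega)) {a, b} hgen ?_)
    rintro x (rfl | rfl) <;> assumption
  obtain ⟨x, hx⟩ := exists_prime_orderOf_dvd_card' (G := X) 2 heven
  have hxx : (x : SL(2, k)) * x = 1 := by
    have := pow_orderOf_eq_one x
    rw [hx, pow_two] at this
    exact congrArg Subtype.val this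
  rw [← eq_neg_one_of_mul_self (two_ne_zero_of_odd (k := k) hp.out hp2) hxx
    (fun h => by rw [show x = 1 from Subtype.ext h, orderOf_one] at hx; omega)]
  exact x.2

section Cases

variable [DecidableEq k] (X : Subgroup SL(2, k)) [Finite X]

instance : Finite (X.map toP) :=
  Finite.of_surjective _ (MonoidHom.subgroupMap_surjective toP X)

/-- Elements of order `p` of the image lift to elements of order `p`. -/
theorem exists_lift (hp2 : p ≠ 2) {s : PG k} (hs : s ∈ X.map toP) (hsp : s ^ p = 1) :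
    ∃ a : X, a ^ p = 1 ∧ toP a = s := by
  obtain ⟨x, hx, hxs⟩ := hs
  obtain ⟨j, hj⟩ := hp.out.odd_of_ne_two hp2
  refine ⟨⟨x, hx⟩ ^ (p + 1), ?_, ?_⟩
  · have h1 : toP (x ^ p) = 1 := by rw [map_pow, hxs, hsp]
    have h2 : (x ^ p) ^ 2 = 1 := by
      rcases eq_one_or_neg_of_toPGL_eq_one h1 with e | e <;> simp [e]
    apply Subtype.ext
    push_cast
    rw [← pow_mul, show (p + 1) * p = p * 2 * (j + 1) by rw [hj]; ring, pow_mul, pow_mul, h2, one_pow]
  · rw [Subgroup.coe_pow, map_pow, pow_succ, hxs, hsp, one_mul]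

/-- `A₄`-configuration in characteristic 3: a subgroup `SL(2,3)`. -/
theorem exists_sl2_three [CharP k 3] {s u : PG k} (hs : s ∈ X.map toP) (hu : u ∈ X.map toP)
    (hs3 : s ^ 3 = 1) (hus : (u * s) ^ 3 = 1) (huu : u * u = 1) (hu1 : u ≠ 1)
    (hcomm : u * (s * u * s⁻¹) = (s * u * s⁻¹) * u)
    (hsv : s * (s * u * s⁻¹) * s⁻¹ = u * (s * u * s⁻¹)) :
    ∃ X₀ : Subgroup SL(2, k), X₀ ≤ X ∧ Nonempty (X₀ ≃* SL(2, ZMod 3)) := by
  haveI : Fact (Nat.Prime 3) := ⟨Nat.prime_three⟩
  set v := s * u * s⁻¹ with hv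
  have hvv : v * v = 1 := by
    calc v * v = s * (u * u) * s⁻¹ := by rw [hv]; group
      _ = 1 := by rw [huu]; group
  have hui : u⁻¹ = u := inv_eq_of_mul_eq_one_right huu
  let V : Subgroup (PG k) :=
    { carrier := {g | g = 1 ∨ g = u ∨ g = v ∨ g = u * v}
      one_mem' := Or.inl rfl
      mul_mem' := by
        have h1 : ∀ w, u * (u * w) = w := fun w => by rw [← mul_assoc, huu, one_mul]
        have h2 : ∀ w, v * (v * w) = w := fun w => by rw [← mul_assoc, hvv, one_mul]
        have h3 : ∀ w, v * (u * w) = u * (v * w) := fun w => by rw [← mul_assoc, ← hcomm, mul_assoc]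
        rintro a b (rfl | rfl | rfl | rfl) (rfl | rfl | rfl | rfl) <;>
          simp only [Set.mem_ofPred_eq, one_mul, mul_one, mul_assoc, h1, h2, h3, huu, hvv, ← hcomm,
            true_or, or_true]
      inv_mem' := by
        have hvi : v⁻¹ = v := inv_eq_of_mul_eq_one_right hvv
        rintro a (rfl | rfl | rfl | rfl) <;>
          simp only [Set.mem_ofPred_eq, inv_one, _root_.mul_inv_rev, hui, hvi, ← hcomm, true_or, or_true] }
  have hVexp : ∀ g ∈ V, g * g = 1 := by
    rintro g (rfl | rfl | rfl | rfl)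
    · exact one_mul 1
    · exact huu
    · exact hvv
    · rw [show u * v * (u * v) = u * (v * u) * v by group, ← hcomm,
        show u * (u * v) * v = (u * u) * (v * v) by group, huu, hvv, one_mul]
  have hsV : ∀ g ∈ V, s * g * s⁻¹ ∈ V := by
    rintro g (rfl | rfl | rfl | rfl)
    · exact Or.inl (by group)
    · exact Or.inr (Or.inr (Or.inl rfl))
    · exact Or.inr (Or.inr (Or.inr hsv))
    · refine Or.inr (Or.inl ?_)
      calc s * (u * v) * s⁻¹ = v * (s * v * s⁻¹) := by rw [hv]; group
        _ = v * (v * u) := by rw [hsv, hcomm]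
        _ = u := by rw [← mul_assoc, hvv, one_mul]
  have huV : u ∈ V := Or.inr (Or.inl rfl)
  obtain ⟨a, ha3, has⟩ := exists_lift (p := 3) X (by norm_num) hs hs3
  obtain ⟨b, hb3, hbs⟩ := exists_lift (p := 3) X (by norm_num) ((X.map toP).mul_mem hu hs) hus
  set W : Subgroup SL(2, k) := Subgroup.closure {(a : SL(2, k)), (b : SL(2, k))} with hW
  have hWX : W ≤ X := (Subgroup.closure_le _).mpr (by rintro _ (rfl | rfl); exacts [a.2, b.2])
  haveI : Finite W := Finite.of_injective _ (Subgroup.inclusion_injective hWX)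
  let a' : W := ⟨a, Subgroup.subset_closure (by simp)⟩
  let b' : W := ⟨b, Subgroup.subset_closure (by simp)⟩
  have hgen : Subgroup.closure ({a', b'} : Set W) = ⊤ := by
    apply Subgroup.map_injective W.subtype_injective
    rw [MonoidHom.map_closure, ← MonoidHom.range_eq_map, Subgroup.range_subtype, Set.image_insert_eq,
      Set.image_singleton]
    rfl
  set π : W →* PG k := (toP).comp W.subtype with hπ
  set N := V.comap π with hN
  have hπa : π a' = s := has
  have hπb : π b' = u * s := hbs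
  have ha' : a' ^ 3 = 1 := Subtype.ext (show (a : SL(2, k)) ^ 3 = 1 by exact_mod_cast congrArg Subtype.val ha3)
  have hb' : b' ^ 3 = 1 := Subtype.ext (show (b : SL(2, k)) ^ 3 = 1 by exact_mod_cast congrArg Subtype.val hb3)
  haveI hNn : N.Normal := by
    rw [← Subgroup.normalizer_eq_top_iff, eq_top_iff, ← hgen, Subgroup.closure_le]
    rintro w (rfl | rfl)
    · refine Subgroup.mem_normalizer_fintype fun n hn => ?_
      show π (a' * n * a'⁻¹) ∈ V
      rw [map_mul, map_mul, map_inv, hπa]
      exact hsV _ hn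
    · refine Subgroup.mem_normalizer_fintype fun n hn => ?_
      show π (b' * n * b'⁻¹) ∈ V
      rw [map_mul, map_mul, map_inv, hπb,
        show u * s * π n * (u * s)⁻¹ = u * (s * π n * s⁻¹) * u⁻¹ by group]
      exact V.mul_mem (V.mul_mem huV (hsV _ hn)) (V.inv_mem huV)
  have hN2 : IsPGroup 2 N := fun n => by
    refine ⟨2, ?_⟩
    have h1 : toP (((n : W) : SL(2, k)) ^ 2) = 1 := by
      rw [map_pow, pow_two]; exact hVexp _ n.2
    apply Subtype.ext
    apply Subtype.ext
    push_cast
    rw [show ((4 : ℕ)) = 2 * 2 from rfl, pow_mul]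
    rcases eq_one_or_neg_of_toPGL_eq_one h1 with e | e <;> simp [e]
  have hs' : Cfsg.IsPSolvable 3 W := by
    refine CfsgLib.PLocal.isPSolvable_of_normal_two_step N ?_ ?_
    · obtain ⟨i, hi⟩ := IsPGroup.iff_card.mp hN2
      rw [hi]
      exact Nat.Coprime.pow_left i (by norm_num)
    · intro q
      refine ⟨1, ?_⟩
      rw [pow_one]
      have hab : (QuotientGroup.mk' N) b' = (QuotientGroup.mk' N) a' := by
        rw [QuotientGroup.mk'_apply, QuotientGroup.mk'_apply, QuotientGroup.eq]
        show π (b'⁻¹ * a') ∈ V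
        rw [map_mul, map_inv, hπa, hπb, show (u * s)⁻¹ * s = s⁻¹ * u⁻¹ * s by group, hui]
        have h9 : s * (s * (s⁻¹ * u * s) * s⁻¹) * s⁻¹ ∈ V := hsV _ (by
          rw [show s * (s⁻¹ * u * s) * s⁻¹ = u by group]; exact huV)
        -- conjugating twice more by `s` returns to `s⁻¹ u s`
        have h10 := hsV _ (hsV _ huV)
        convert h10 using 1
        have hsi : s⁻¹ = s * s := inv_eq_of_mul_eq_one_right (by rw [← pow_three]; exact hs3)
        rw [hsi]
        have hs33 : s * s * s = 1 := by rw [mul_assoc, ← pow_three]; exact hs3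
        calc s * s * u * s = s * s * u * (s * (s * s * s)) := by rw [hs33, mul_one]
          _ = _ := by simp only [mul_assoc]
      have hq : q ∈ Subgroup.zpowers ((QuotientGroup.mk' N) a') := by
        obtain ⟨w, rfl⟩ := QuotientGroup.mk'_surjective N q
        have hle : (⊤ : Subgroup W) ≤ (Subgroup.zpowers ((QuotientGroup.mk' N) a')).comap (QuotientGroup.mk' N) := by
          rw [← hgen, Subgroup.closure_le]
          rintro x (rfl | rfl)
          · exact Subgroup.mem_zpowers _
          · rw [SetLike.mem_coe, Subgroup.mem_comap, hab]; exact Subgroup.mem_zpowers _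
        exact hle (Subgroup.mem_top w)
      obtain ⟨i, rfl⟩ := hq
      rw [← zpow_natCast, ← _root_.zpow_mul, mul_comm, _root_.zpow_mul, zpow_natCast, ← map_pow, ha', map_one, _root_.one_zpow]
  have hnp : ¬ IsPGroup 3 W := by
    intro h
    obtain ⟨j, hj⟩ := h (b' * a'⁻¹)
    have h1 : π (b' * a'⁻¹) = u := by rw [map_mul, map_inv, hπa, hπb, mul_inv_cancel_right]
    have h2 : u ^ 3 ^ j = 1 := by rw [← h1, ← map_pow, hj, map_one]
    obtain ⟨i, hi⟩ : Odd (3 ^ j) := Odd.pow (by decide)
    rw [hi, pow_succ, pow_mul, pow_two, huu, one_pow, one_mul] at h2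
    exact hu1 h2
  obtain ⟨-, X₀, hX₀, he⟩ := CfsgLib.PLocal.sl2_three_of_pSolvable (p := 3) (by norm_num) W hgen
    ha' hb' hnp hs'
  exact ⟨X₀, hX₀.trans hWX, he⟩

/-- The same, read off from a permutation representation of the image. -/
theorem exists_sl2_three_of_perm [CharP k 3] {n : ℕ} (j : ↥(X.map toP) →* Equiv.Perm (Fin n))
    (hj : Function.Injective j) (s u : Equiv.Perm (Fin n)) (hs : s ∈ j.range) (hu : u ∈ j.range)
    (hs3 : s ^ 3 = 1) (hus : (u * s) ^ 3 = 1) (huu : u * u = 1) (hu1 : u ≠ 1)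
    (hcomm : u * (s * u * s⁻¹) = (s * u * s⁻¹) * u)
    (hsv : s * (s * u * s⁻¹) * s⁻¹ = u * (s * u * s⁻¹)) :
    ∃ X₀ : Subgroup SL(2, k), X₀ ≤ X ∧ Nonempty (X₀ ≃* SL(2, ZMod 3)) := by
  obtain ⟨s', rfl⟩ := hs
  obtain ⟨u', rfl⟩ := hu
  simp only [← map_pow, ← map_mul, ← map_inv, ← map_one j, hj.eq_iff, hj.ne_iff] at hs3 hus huu hu1 hcomm hsv
  refine exists_sl2_three X s'.2 u'.2 (by exact_mod_cast hs3) (by exact_mod_cast hus)
    (by exact_mod_cast huu) (fun h => hu1 (Subtype.ext h)) ?_ ?_
  · exact_mod_cast hcomm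
  · exact_mod_cast hsv

/-- The field case contains `SL(2,p)`. -/
theorem exists_sl2_of_fieldType (hneg : (-1 : SL(2, k)) ∈ X) (h : IsFieldType p (X.map toP)) :
    ∃ X₀ : Subgroup SL(2, k), X₀ ≤ X ∧ Nonempty (X₀ ≃* SL(2, ZMod p)) := by
  obtain ⟨g₀, E, -, -, hH⟩ := h
  haveI : CharP E p := (E.subtype.charP_iff E.subtype.injective p).mpr inferInstance
  set fE : ZMod p →+* E := ZMod.castHom dvd_rfl E with hfE
  set f := E.subtype.comp fE with hf
  obtain ⟨G₀, rfl⟩ := ProjGenLinGroup.mk_surjective g₀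
  let ι : SL(2, ZMod p) →* SL(2, k) :=
    { toFun := fun g => ⟨(G₀ : Matrix (Fin 2) (Fin 2) k) *
          (Matrix.SpecialLinearGroup.map f g : Matrix (Fin 2) (Fin 2) k) *
          ((G₀⁻¹ : GL (Fin 2) k) : Matrix (Fin 2) (Fin 2) k), by
        rw [Matrix.det_mul, Matrix.det_mul, Matrix.SpecialLinearGroup.det_coe, mul_one, ← Matrix.det_mul,
          ← Units.val_mul, mul_inv_cancel, Units.val_one, Matrix.det_one]⟩
      map_one' := by ext1; simp
      map_mul' := fun g h => by
        apply Subtype.ext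
        show (G₀ : Matrix (Fin 2) (Fin 2) k) *
            (Matrix.SpecialLinearGroup.map f (g * h) : Matrix (Fin 2) (Fin 2) k) *
            ((G₀⁻¹ : GL (Fin 2) k) : Matrix (Fin 2) (Fin 2) k) =
          ((G₀ : Matrix (Fin 2) (Fin 2) k) *
            (Matrix.SpecialLinearGroup.map f g : Matrix (Fin 2) (Fin 2) k) *
            ((G₀⁻¹ : GL (Fin 2) k) : Matrix (Fin 2) (Fin 2) k)) *
          ((G₀ : Matrix (Fin 2) (Fin 2) k) *
            (Matrix.SpecialLinearGroup.map f h : Matrix (Fin 2) (Fin 2) k) *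
            ((G₀⁻¹ : GL (Fin 2) k) : Matrix (Fin 2) (Fin 2) k))
        rw [map_mul, Matrix.SpecialLinearGroup.coe_mul]
        simp only [← mul_assoc, Units.inv_mul_cancel_right] }
  have hι : Function.Injective ι := by
    intro g h hgh
    have h1 : (G₀ : Matrix (Fin 2) (Fin 2) k) *
        (Matrix.SpecialLinearGroup.map f g : Matrix (Fin 2) (Fin 2) k) *
        ((G₀⁻¹ : GL (Fin 2) k) : Matrix (Fin 2) (Fin 2) k) = _ := congrArg Subtype.val hgh
    have h2 : (Matrix.SpecialLinearGroup.map f g : Matrix (Fin 2) (Fin 2) k) =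
        (Matrix.SpecialLinearGroup.map f h : Matrix (Fin 2) (Fin 2) k) :=
      (Units.mul_right_inj G₀).mp ((Units.mul_left_inj G₀⁻¹).mp h1)
    refine Subtype.ext (Matrix.ext fun i j => f.injective ?_)
    exact congrFun (congrFun h2 i) j
  refine ⟨ι.range, ?_, ⟨(MonoidHom.ofInjective hι).symm⟩⟩
  rintro _ ⟨g, rfl⟩
  apply mem_of_toPGL_mem hneg
  have hle : ((ProjGenLinGroup.map (n := Fin 2) E.subtype).comp
      (Matrix.SpecialLinearGroup.toPGL : Matrix.SpecialLinearGroup (Fin 2) E →* PG E)).range ≤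
      (X.map toP).map (MulAut.conj (ProjGenLinGroup.mk G₀)⁻¹).toMonoidHom := by
    rcases hH with e | ⟨-, e⟩
    · rw [e]; rintro _ ⟨x, rfl⟩; exact ⟨Matrix.SpecialLinearGroup.toPGL x, rfl⟩
    · rw [e]
  obtain ⟨y, hy, hy'⟩ := hle ⟨Matrix.SpecialLinearGroup.map fE g, rfl⟩
  rw [MonoidHom.comp_apply, pg_map_toPGL] at hy'
  simp only [MulEquiv.coe_toMonoidHom, MulAut.conj_apply, inv_inv] at hy'
  have e1 : Matrix.SpecialLinearGroup.toGL (ι g) = G₀ * Matrix.SpecialLinearGroup.toGL
      (Matrix.SpecialLinearGroup.map E.subtype (Matrix.SpecialLinearGroup.map fE g)) * G₀⁻¹ := by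
    apply Units.ext
    rfl
  have e2 : toP (ι g) = y := by
    show ProjGenLinGroup.mk (Matrix.SpecialLinearGroup.toGL (ι g)) = y
    rw [e1, map_mul, map_mul, map_inv]
    have e3 : ProjGenLinGroup.mk (Matrix.SpecialLinearGroup.toGL (Matrix.SpecialLinearGroup.map E.subtype
        (Matrix.SpecialLinearGroup.map fE g))) = (ProjGenLinGroup.mk G₀)⁻¹ * y * ProjGenLinGroup.mk G₀ :=
      hy'.symm
    rw [e3]
    group
  rw [e2]
  exact hy

variable [IsAlgClosed k]

/-- The alternating group of degree five in characteristic five is of field type. -/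
theorem fieldType_of_alt_five (H : Subgroup (PG k)) [Finite H] (hp5 : p = 5)
    (hc : Nat.card H = 60) : IsFieldType p H := by
  obtain ⟨u, hu⟩ := exists_prime_orderOf_dvd_card' (G := H) p (by rw [hc, hp5]; norm_num)
  have hU : numUnip p H ≠ 0 := by
    refine Nat.card_ne_zero.mpr ⟨⟨⟨u, ?_, ?_⟩⟩, inferInstance⟩
    · intro h; rw [h, orderOf_one] at hu; omega
    · have h9 := pow_orderOf_eq_one u
      rw [hu] at h9
      exact_mod_cast h9
  obtain ⟨x, horbit, hs2, -, hn⟩ := unip_data p H hU
  obtain ⟨t, hst, hpt, hts, ht0, -⟩ := stab_structure p H (x : OnePoint k)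
  rw [← card_orbit_coe] at hn
  have hmul := card_stab_mul H (x : OnePoint k)
  have hpu : IsPGroup p (unip p H (x : OnePoint k)) := fun w => ⟨1, by
    rw [pow_one]; exact Subtype.ext (Subtype.ext w.2.2)⟩
  obtain ⟨i, hi⟩ := IsPGroup.iff_card.mp hpu
  have hdvd := (Subgroup.card_subgroup_dvd_card (unip p H (x : OnePoint k)))
  rw [hc, hi, hp5] at hdvd
  rw [hi] at hs2 hn hst hts
  subst hp5
  have hi1 : i = 1 := by
    rcases i with _ | _ | i
    · norm_num at hs2
    · rfl
    · exfalso
      have : 5 ^ 2 ∣ 60 := (pow_dvd_pow 5 (by omega)).trans hdvd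
      norm_num at this
  subst hi1
  rw [hst, hc] at hmul
  obtain ⟨n, hn'⟩ : ∃ n, Nat.card (MulAction.orbit H (x : OnePoint k)) = n := ⟨_, rfl⟩
  rw [hn'] at hn hmul
  norm_num at hn hts hmul
  have ht4 : t ≤ 4 := Nat.le_of_dvd (by norm_num) hts
  obtain ⟨rfl, rfl⟩ : n = 6 ∧ t = 2 := by
    interval_cases t <;> omega
  exact field_type (p := 5) H _ horbit (s := 5) (t := 2) (by rw [hi]; norm_num) (by norm_num)
    (by rw [hst]; norm_num) (Or.inr rfl) (by rw [hn'])

set_option maxHeartbeats 1000000 in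
/-- **Dickson's lemma**. -/
theorem exists_sl2_prime (hp2 : p ≠ 2) {a b : X} (hgen : Subgroup.closure {a, b} = ⊤)
    (ha : a ^ p = 1) (hb : b ^ p = 1) (hnp : ¬ IsPGroup p X) :
    ∃ X₀ : Subgroup SL(2, k), X₀ ≤ X ∧ Nonempty (X₀ ≃* SL(2, ZMod p)) := by
  have hneg := neg_one_mem hp2 X hgen ha hb hnp
  set H := X.map toP with hH
  set π : X →* H := MonoidHom.subgroupMap toP X with hπ
  have hπs : Function.Surjective π := MonoidHom.subgroupMap_surjective toP X
  have hgenH : Subgroup.closure ({π a, π b} : Set H) = ⊤ := by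
    rw [show ({π a, π b} : Set H) = π '' {a, b} by rw [Set.image_insert_eq, Set.image_singleton],
      ← MonoidHom.map_closure, hgen, Subgroup.map_top_of_surjective _ hπs]
  have hdiv : p ∣ Nat.card H := by
    by_contra hd
    apply hnp
    have htriv : ∀ x : X, x ^ p = 1 → π x = 1 := fun x hx =>
      orderOf_eq_one_iff.mp (Nat.eq_one_of_dvd_coprimes ((hp.out.coprime_iff_not_dvd).mpr hd)
        (orderOf_dvd_of_pow_eq_one (by rw [← map_pow, hx, map_one])) (orderOf_dvd_natCard _))
    have hker : ∀ x : X, (x : SL(2, k)) = 1 ∨ (x : SL(2, k)) = -1 := by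
      intro x
      have hle : (⊤ : Subgroup X) ≤ π.ker := by
        rw [← hgen, Subgroup.closure_le]
        rintro y (rfl | rfl)
        exacts [htriv _ ha, htriv _ hb]
      exact eq_one_or_neg_of_toPGL_eq_one (congrArg Subtype.val (hle (Subgroup.mem_top x)))
    obtain ⟨i, hi⟩ := hp.out.odd_of_ne_two hp2
    have hone : ∀ x : X, x ^ p = 1 → x = 1 := by
      intro x hx
      rcases hker x with e | e
      · exact Subtype.ext e
      · have h1 : (x : SL(2, k)) ^ p = 1 := by exact_mod_cast congrArg Subtype.val hx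
        rw [e, hi, pow_succ, pow_mul, neg_one_sq, one_pow, one_mul] at h1
        exact Subtype.ext (e.trans h1)
    have hbot : (⊤ : Subgroup X) = ⊥ := by
      rw [eq_bot_iff, ← hgen, Subgroup.closure_le]
      rintro y (rfl | rfl)
      exacts [hone _ ha, hone _ hb]
    intro x
    exact ⟨0, Subgroup.mem_bot.mp (hbot ▸ Subgroup.mem_top _)⟩
  rcases classify p H with h | h | h | ⟨-, ⟨e⟩⟩ | ⟨-, ⟨e⟩⟩ | ⟨-, ⟨e⟩⟩ | h
  · exact absurd hdiv h.2.1
  · obtain ⟨A, hA, -, hpA, -, -⟩ := h
    exfalso
    rw [← Subgroup.card_mul_index A, hA] at hdiv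
    rcases hp.out.dvd_mul.mp hdiv with h | h
    · exact hpA h
    · exact hp2 ((Nat.prime_dvd_prime_iff_eq hp.out Nat.prime_two).mp h)
  · obtain ⟨-, x, hx⟩ := h
    exfalso
    apply hnp
    -- the image is a `p`-group
    have hHp : IsPGroup p H := by
      intro y
      refine ⟨1, ?_⟩
      have hle : (⊤ : Subgroup H) ≤ unip p H x := by
        rw [← hgenH, Subgroup.closure_le]
        rintro z (rfl | rfl)
        · refine ⟨hx _, ?_⟩
          rw [← Subgroup.coe_pow, ← map_pow, ha, map_one, Subgroup.coe_one]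
        · refine ⟨hx _, ?_⟩
          rw [← Subgroup.coe_pow, ← map_pow, hb, map_one, Subgroup.coe_one]
      rw [pow_one]
      exact Subtype.ext (by exact_mod_cast (hle (Subgroup.mem_top y)).2)
    obtain ⟨S⟩ : Nonempty (Sylow p X) := inferInstance
    have hS : (S : Subgroup X).index ∣ 2 := by
      have hk : Nat.card π.ker ∣ 2 := by
        have hexp : ∀ z : π.ker, z ^ 2 = 1 := by
          intro z
          rcases eq_one_or_neg_of_toPGL_eq_one (congrArg Subtype.val z.2) with e | e <;>
            exact Subtype.ext (Subtype.ext (by simp [e]))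
        haveI : Subsingleton {z : π.ker // z ≠ 1} := ⟨fun z w => by
          rcases eq_one_or_neg_of_toPGL_eq_one (congrArg Subtype.val z.1.2) with e | e
          · exact absurd (Subtype.ext (Subtype.ext e)) z.2
          rcases eq_one_or_neg_of_toPGL_eq_one (congrArg Subtype.val w.1.2) with e' | e'
          · exact absurd (Subtype.ext (Subtype.ext e')) w.2
          exact Subtype.ext (Subtype.ext (Subtype.ext (e.trans e'.symm)))⟩
        classical
        letI := Fintype.ofFinite π.ker
        have h1 := Finite.card_le_one_iff_subsingleton.mpr (inferInstance : Subsingleton {z : π.ker // z ≠ 1})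
        rw [Nat.card_eq_fintype_card, Fintype.card_subtype_compl, Fintype.card_subtype_eq,
          ← Nat.card_eq_fintype_card] at h1
        have h2 : 0 < Nat.card π.ker := Nat.card_pos
        rcases (show Nat.card π.ker = 1 ∨ Nat.card π.ker = 2 by omega) with h | h <;> (rw [h]) <;> norm_num
      obtain ⟨c, hc⟩ := IsPGroup.iff_card.mp hHp
      have hidx : π.ker.index = p ^ c := by
        rw [Subgroup.index_ker, MonoidHom.range_eq_top.mpr hπs, Subgroup.card_top, hc]
      have h3 : (S : Subgroup X).index ∣ Nat.card π.ker * p ^ c :=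
        hidx ▸ (Subgroup.card_mul_index π.ker).symm ▸ Subgroup.index_dvd_card _
      exact (((hp.out.coprime_iff_not_dvd.mpr S.not_dvd_index).symm.pow_right c).dvd_of_dvd_mul_right h3).trans hk
    rcases (Nat.dvd_prime Nat.prime_two).mp hS with h1 | h1
    · rw [Subgroup.index_eq_one] at h1
      exact (h1 ▸ S.isPGroup' : IsPGroup p (⊤ : Subgroup X)).of_equiv Subgroup.topEquiv
    · exfalso
      have hSn := Subgroup.normal_of_index_eq_two h1
      have hmem : ∀ z : X, z ^ p = 1 → z ∈ (S : Subgroup X) := by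
        intro z hz
        obtain ⟨i, hi⟩ := hp.out.odd_of_ne_two hp2
        have h2 : z ^ (2 * i) ∈ (S : Subgroup X) := by
          rw [pow_mul]
          exact (S : Subgroup X).pow_mem (Subgroup.sq_mem_of_index_two h1 z) i
        have h3 : z = (z ^ (2 * i))⁻¹ := eq_inv_of_mul_eq_one_right (by rw [← pow_succ, ← hi, hz])
        rw [h3]
        exact (S : Subgroup X).inv_mem h2
      have htop : (S : Subgroup X) = ⊤ := by
        rw [eq_top_iff, ← hgen, Subgroup.closure_le]
        rintro y (rfl | rfl)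
        exacts [hmem _ ha, hmem _ hb]
      rw [htop, Subgroup.index_top] at h1
      omega
  · have hc : Nat.card H = 12 := by
      rw [Nat.card_congr e.toEquiv, Nat.card_eq_fintype_card]; decide
    obtain rfl : p = 3 := by
      rw [hc] at hdiv
      have := Nat.le_of_dvd (by norm_num) hdiv
      have := hp.out
      interval_cases p <;> norm_num at *
    refine exists_sl2_three_of_perm X ((alternatingGroup (Fin 4)).subtype.comp e.toMonoidHom)
      ((alternatingGroup (Fin 4)).subtype_injective.comp e.injective)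
      (Equiv.swap 0 1 * Equiv.swap 1 2) (Equiv.swap 0 1 * Equiv.swap 2 3) ?_ ?_
      (by decide) (by decide) (by decide) (by decide) (by decide) (by decide)
    all_goals
      rw [MonoidHom.range_comp, MonoidHom.range_eq_top.mpr (by exact e.surjective), ← MonoidHom.range_eq_map,
        Subgroup.range_subtype, Equiv.Perm.mem_alternatingGroup]
      decide
  · have hc : Nat.card H = 24 := by
      rw [Nat.card_congr e.toEquiv, Nat.card_eq_fintype_card]; decide
    obtain rfl : p = 3 := by
      rw [hc] at hdiv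
      have := Nat.le_of_dvd (by norm_num) hdiv
      have := hp.out
      interval_cases p <;> norm_num at *
    exact exists_sl2_three_of_perm X e.toMonoidHom e.injective
      (Equiv.swap 0 1 * Equiv.swap 1 2) (Equiv.swap 0 1 * Equiv.swap 2 3)
      (e.surjective _) (e.surjective _)
      (by decide) (by decide) (by decide) (by decide) (by decide) (by decide)
  · have hc : Nat.card H = 60 := by
      rw [Nat.card_congr e.toEquiv, Nat.card_eq_fintype_card]; decide
    obtain rfl | rfl : p = 3 ∨ p = 5 := by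
      rw [hc] at hdiv
      have := Nat.le_of_dvd (by norm_num) hdiv
      have := hp.out
      interval_cases p <;> norm_num at *
    · refine exists_sl2_three_of_perm X ((alternatingGroup (Fin 5)).subtype.comp e.toMonoidHom)
        ((alternatingGroup (Fin 5)).subtype_injective.comp e.injective)
        (Equiv.swap 0 1 * Equiv.swap 1 2) (Equiv.swap 0 1 * Equiv.swap 2 3) ?_ ?_
        (by decide) (by decide) (by decide) (by decide) (by decide) (by decide)
      all_goals
        rw [MonoidHom.range_comp, MonoidHom.range_eq_top.mpr (by exact e.surjective), ← MonoidHom.range_eq_map,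
          Subgroup.range_subtype, Equiv.Perm.mem_alternatingGroup]
        decide
    · exact exists_sl2_of_fieldType X hneg (fieldType_of_alt_five H rfl hc)
  · exact exists_sl2_of_fieldType X hneg h

end Cases

universe u

/-- A quadratic element outside `O_p` of a faithful group gives a section `SL(2,p)`. -/
theorem section_of_quad {G : Type*} [Group G] [Finite G] (hp2 : p ≠ 2) {V H : Subgroup G}
    (hV : Cfsg.IsElementaryAbelian p V) (hHV : H ≤ Subgroup.normalizer (V : Set G))
    (hf : H ⊓ Subgroup.centralizer (V : Set G) = ⊥) {a : G} (haH : a ∈ H)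
    (hq : CfsgLib.PLocal.QuadElt V a) (hna : a ∉ (Cfsg.pCore p H).map H.subtype) :
    ∃ (K L : Subgroup G) (hL : (L.subgroupOf K).Normal), K ≤ H ∧
      Nonempty ((K ⧸ L.subgroupOf K) ≃* Matrix.SpecialLinearGroup (Fin 2) (ZMod p)) := by
  classical
  obtain ⟨g, hg, hnp⟩ := CfsgLib.PLocal.exists_pair_not_isPGroup haH hna
  set X := Subgroup.closure ({a, g * a * g⁻¹} : Set G) with hX
  have hXH : X ≤ H := by
    rw [hX, Subgroup.closure_le]
    rintro x (rfl | rfl)
    exacts [haH, H.mul_mem (H.mul_mem hg haH) (H.inv_mem hg)]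
  let a' : X := ⟨a, Subgroup.subset_closure (by simp)⟩
  let b' : X := ⟨g * a * g⁻¹, Subgroup.subset_closure (by simp)⟩
  have hgen : Subgroup.closure ({a', b'} : Set X) = ⊤ := by
    apply Subgroup.map_injective X.subtype_injective
    rw [MonoidHom.map_closure, ← MonoidHom.range_eq_map, Subgroup.range_subtype, Set.image_insert_eq,
      Set.image_singleton]
    rfl
  obtain ⟨φ, hφ, hφa, hφb⟩ := CfsgLib.PLocal.exists_hom_sl2_of_quad hV (hXH.trans hHV)
    (le_bot_iff.mp ((inf_le_inf_right _ hXH).trans hf.le)) hgen hq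
    (CfsgLib.PLocal.quadElt_conj (hHV hg) hq) hnp
  haveI : CharP (AlgebraicClosure (ZMod p)) p :=
    charP_of_injective_algebraMap (algebraMap (ZMod p) (AlgebraicClosure (ZMod p))).injective p
  haveI : Finite φ.range := Finite.of_surjective φ.rangeRestrict φ.rangeRestrict_surjective
  have hgen' : Subgroup.closure ({φ.rangeRestrict a', φ.rangeRestrict b'} : Set φ.range) = ⊤ := by
    rw [show ({φ.rangeRestrict a', φ.rangeRestrict b'} : Set φ.range) =
        φ.rangeRestrict '' {a', b'} by rw [Set.image_insert_eq, Set.image_singleton],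
      ← MonoidHom.map_closure, hgen, Subgroup.map_top_of_surjective _ φ.rangeRestrict_surjective]
  obtain ⟨X₀, hX₀, ⟨e⟩⟩ := exists_sl2_prime φ.range hp2 hgen'
    (Subtype.ext hφa) (Subtype.ext hφb) hφ
  obtain ⟨K, L, hL, hK, he⟩ := CfsgLib.PLocal.section_of_hom φ X₀ hX₀ e
  exact ⟨K, L, hL, hK.trans hXH, he⟩

/-- No subgroup maps onto `SL(2,p)`. -/
def SL2Free (p : ℕ) [Fact p.Prime] (X : Type u) [Group X] : Prop :=
  ∀ (K : Subgroup X) (f : K →* Matrix.SpecialLinearGroup (Fin 2) (ZMod p)), ¬ Function.Surjective f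

theorem SL2Free.subgroup {X : Type u} [Group X] (h : SL2Free p X) (Y : Subgroup X) : SL2Free p Y := by
  intro K f hf
  exact h (K.map Y.subtype) (f.comp (K.equivMapOfInjective _ Y.subtype_injective).symm.toMonoidHom)
    (hf.comp (K.equivMapOfInjective _ Y.subtype_injective).symm.surjective)

theorem SL2Free.of_surjective {X : Type u} [Group X] {Y : Type*} [Group Y] (h : SL2Free p X)
    {π : X →* Y} (hπ : Function.Surjective π) :
    ∀ (K : Subgroup Y) (f : K →* Matrix.SpecialLinearGroup (Fin 2) (ZMod p)), ¬ Function.Surjective f := by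
  intro K f hf
  refine h (K.comap π) (f.comp (π.subgroupComap K)) (hf.comp ?_)
  intro y
  obtain ⟨x, hx⟩ := hπ y
  exact ⟨⟨x, show π x ∈ K by rw [hx]; exact y.2⟩, Subtype.ext hx⟩

theorem sl2Free_of_no_section {G : Type u} [Group G]
    (hfree : ¬ ∃ (H K : Subgroup G) (_ : (K.subgroupOf H).Normal),
      Nonempty ((H ⧸ K.subgroupOf H) ≃* Matrix.SpecialLinearGroup (Fin 2) (ZMod p))) :
    SL2Free p G := by
  intro H f hf
  have hL : (f.ker.map H.subtype).subgroupOf H = f.ker :=
    Subgroup.comap_map_eq_self_of_injective H.subtype_injective _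
  have hn : ((f.ker.map H.subtype).subgroupOf H).Normal := by rw [hL]; infer_instance
  exact hfree ⟨H, _, hn,
    ⟨(QuotientGroup.quotientMulEquivOfEq hL).trans (QuotientGroup.quotientKerEquivOfSurjective f hf)⟩⟩

/-- `SL(2,p)`-free groups act `p`-stably. -/
theorem quad_mem_pCore_of_free (hp2 : p ≠ 2) {Q W : Type*} [Group Q] [Group W] [Finite Q] [Finite W]
    (hc : SL2Free p Q) (φ : Q →* MulAut W) (hφ : Function.Injective φ)
    (hW : Cfsg.IsElementaryAbelian p (⊤ : Subgroup W)) {a : Q}
    (ha : ∀ w : W, φ a (φ a w * w⁻¹) = φ a w * w⁻¹) : a ∈ Cfsg.pCore p Q := by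
  classical
  haveI : Finite (W ⋊[φ] Q) := Finite.of_equiv _ SemidirectProduct.equivProd.symm
  set ρ := (SemidirectProduct.inr : Q →* W ⋊[φ] Q) with hρ
  set V : Subgroup (W ⋊[φ] Q) := (SemidirectProduct.inl : W →* W ⋊[φ] Q).range with hV
  have hinl : Function.Injective (SemidirectProduct.inl : W →* W ⋊[φ] Q) := SemidirectProduct.inl_injective
  have hinr : Function.Injective ρ := SemidirectProduct.inr_injective
  have hVEA : Cfsg.IsElementaryAbelian p V := by
    rw [hV, MonoidHom.range_eq_map]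
    exact CfsgLib.PLocal.isEA_map hW _
  have hconj : ∀ g w, ρ g * SemidirectProduct.inl w * (ρ g)⁻¹ = SemidirectProduct.inl (φ g w) := by
    intro g w
    rw [hρ, SemidirectProduct.inl_aut, map_inv]
  have hHV : ρ.range ≤ Subgroup.normalizer (V : Set (W ⋊[φ] Q)) := by
    rw [Subgroup.le_normalizer_iff]
    rintro _ ⟨g, rfl⟩ _ ⟨w, rfl⟩
    exact ⟨φ g w, (hconj g w).symm⟩
  have hf : ρ.range ⊓ Subgroup.centralizer (V : Set (W ⋊[φ] Q)) = ⊥ := by
    rw [eq_bot_iff]
    rintro _ ⟨⟨g, rfl⟩, hg⟩
    rw [Subgroup.mem_bot]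
    have : φ g = 1 := by
      ext w
      apply hinl
      rw [← hconj, MulAut.one_apply, ← hg _ ⟨w, rfl⟩, mul_inv_cancel_right]
    rw [hφ (this.trans (map_one φ).symm), map_one]
  have hq : CfsgLib.PLocal.QuadElt V (ρ a) := by
    rintro _ ⟨w, rfl⟩
    have e : ⁅ρ a, (SemidirectProduct.inl w : W ⋊[φ] Q)⁆ = SemidirectProduct.inl (φ a w * w⁻¹) := by
      rw [commutatorElement_def, hconj, map_mul, map_inv]
    rw [e, hconj, ha]
  by_contra hna
  obtain ⟨K, L, hL, hK, ⟨e⟩⟩ := section_of_quad hp2 hVEA hHV hf ⟨a, rfl⟩ hq (by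
    rintro ⟨x, hx, hxa⟩
    apply hna
    have hsurj : Function.Surjective ρ.rangeRestrict := ρ.rangeRestrict_surjective
    have hinj : Function.Injective ρ.rangeRestrict := fun u v h => hinr (congrArg Subtype.val h)
    let θ : Q ≃* ρ.range := MulEquiv.ofBijective ρ.rangeRestrict ⟨hinj, hsurj⟩
    have h1 := (CfsgLib.Solvable.map_pCore_mulEquiv (p := p) θ.symm).le ⟨x, hx, rfl⟩
    convert h1 using 1
    apply θ.injective
    show θ a = θ (θ.symm x)
    rw [MulEquiv.apply_symm_apply]
    exact Subtype.ext hxa.symm)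
  refine hc (K.comap ρ) ((e.toMonoidHom.comp (QuotientGroup.mk' _)).comp (ρ.subgroupComap K)) ?_
  refine (e.surjective.comp (QuotientGroup.mk'_surjective _)).comp ?_
  intro y
  obtain ⟨q, hq'⟩ := hK y.2
  exact ⟨⟨q, show ρ q ∈ K by rw [hq']; exact y.2⟩, Subtype.ext hq'⟩

end CfsgLib.SL2Stable
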