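import Cfsg.Agent.Lib.Fusion.Basic
import Mathlib.GroupTheory.PGroup
import Mathlib.GroupTheory.OrderOfElement

/-!
# Maps of a saturated fusion system agreeing on a centric subgroup
-/

set_option autoImplicit false

namespace CfsgLib.FusionModel

open Cfsg Cfsg.FusionSystem CfsgLib.Fusion

variable {Ω : Type*} [Group Ω] {S : Subgroup Ω} {F : Cfsg.FusionSystem S}

theorem centric_conj {Q Q' : Subgroup Ω} (hQ : F.IsCentric Q) (h : F.IsConj Q Q') {s : Ω}
    (hs : s ∈ S) (hc : s ∈ Subgroup.centralizer (Q' : Set Ω)) : s ∈ Q' :=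
  hQ.2 Q' h ⟨hs, hc⟩

/-- An element of `S` normalizing `Q ≤ P` and centralizing a centric `Q` lies in `Q`. -/
theorem centric_self {Q : Subgroup Ω} (hQ : F.IsCentric Q) {s : Ω} (hs : s ∈ S)
    (hc : s ∈ Subgroup.centralizer (Q : Set Ω)) : s ∈ Q :=
  centric_conj hQ (isConj_refl F hQ.1) hs hc

/-- An automorphism fixing `Q` pointwise and moving elements only by central elements of `Q`,
in a saturated system with `Q` centric, is conjugation by a central element of `Q`. -/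
theorem aut_eq_conj_of_fix [Finite S] {p : ℕ} [Fact p.Prime] (hS : IsPGroup p S)
    (hF : F.IsSaturated p) {P Q : Subgroup Ω} (hQP : Q ≤ P) (hQ : F.IsCentric Q) (hPS : P ≤ S)
    {χ : MulAut P} (hχ : χ ∈ F.autGroup P) (hfix : ∀ (q : P), (q : Ω) ∈ Q → χ q = q)
    (hmove : ∀ x : P, ((x⁻¹ * χ x : P) : Ω) ∈ Q) :
    ∃ z ∈ Q, z ∈ Subgroup.centralizer (Q : Set Ω) ∧
      ∀ x : P, ((χ x : P) : Ω) = z * (x : Ω) * z⁻¹ := by
  haveI : Finite P := finite_of_le hPS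
  obtain ⟨P', hconj, ⟨hP'S, T, hT⟩, -⟩ := hF P hPS
  haveI : Finite P' := finite_of_le hP'S
  -- `χ` has `p`-power order
  have hw : ∀ (n : ℕ) (x : P), (χ ^ n) x = x * (x⁻¹ * χ x) ^ n := by
    intro n
    induction n with
    | zero => intro x; simp
    | succ n ih =>
      intro x
      rw [pow_succ', MulAut.mul_apply, ih, map_mul, map_pow, hfix _ (hmove x), pow_succ', ← mul_assoc,
        mul_inv_cancel_left]
  obtain ⟨j, hj⟩ := IsPGroup.iff_card.1 (hS.to_le hPS)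
  have hord : χ ^ (p ^ j) = 1 := MulEquiv.ext fun x => by
    rw [hw, ← hj, pow_card_eq_one', mul_one]; rfl
  obtain ⟨e, he⟩ := exists_iso_of_isConj hconj
  set χ' : F.autGroup P' := ⟨MulAut.congr e χ, he.congr_mem hχ⟩ with hχ'
  have hord' : χ' ^ (p ^ j) = 1 := Subtype.ext (by
    show (MulAut.congr e χ) ^ (p ^ j) = 1
    rw [← map_pow, hord, map_one])
  have hpg : IsPGroup p (Subgroup.zpowers χ') := by
    intro g
    obtain ⟨k, hk⟩ := Subgroup.mem_zpowers_iff.1 g.2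
    refine ⟨j, Subtype.ext ?_⟩
    rw [SubgroupClass.coe_pow, ← hk, ← zpow_natCast, ← zpow_mul, mul_comm, zpow_mul, zpow_natCast,
      hord', one_zpow]
    rfl
  obtain ⟨T', hT'⟩ := hpg.exists_le_sylow
  haveI : Finite (F.autGroup P') := inferInstance
  obtain ⟨β, hβ⟩ := MulAction.exists_smul_eq (F.autGroup P') T T'
  have hmem : β⁻¹ * χ' * β ∈ (T : Subgroup (F.autGroup P')) := by
    have h1 : χ' ∈ (T' : Subgroup (F.autGroup P')) := hT' (Subgroup.mem_zpowers χ')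
    rw [← hβ, Sylow.coe_subgroup_smul, Subgroup.mem_pointwise_smul_iff_inv_smul_mem] at h1
    simpa [MulAut.smul_def, mul_assoc] using h1
  rw [hT, Subgroup.mem_subgroupOf] at hmem
  obtain ⟨s, hsS, hs⟩ := mem_autInducedBy_iff.1 hmem
  set f : P ≃* P' := e.trans (β⁻¹ : F.autGroup P').1 with hf_def
  have hf : IsFIso F f := he.trans ((mem_autGroup_iff hP'S).1 (β⁻¹ : F.autGroup P').2)
  have hfχ : ∀ x : P, ((f (χ x) : P') : Ω) = s * (f x : Ω) * s⁻¹ := by
    intro x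
    rw [← hs]
    simp [hf_def, hχ', congr_apply, MulAut.mul_apply]
  set Q' : Subgroup Ω := (Q.subgroupOf P).map (P'.subtype.comp f.toMonoidHom) with hQ'
  have hQ'c : F.IsConj Q Q' :=
    ⟨_, restrict_mem (P := Q) hf hQP, range_comp_inclusion hQP⟩
  have hsc : s ∈ Subgroup.centralizer (Q' : Set Ω) := by
    rw [Subgroup.mem_centralizer_iff]
    rintro _ ⟨q, hq, rfl⟩
    have := hfχ q
    rw [hfix q hq] at this
    show (f q : Ω) * s = s * (f q : Ω)
    conv_lhs => rw [this]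
    simp [mul_assoc]
  obtain ⟨z, hz, hzs⟩ := centric_conj hQ hQ'c hsS hsc
  have hzs' : (f z : Ω) = s := hzs
  have key : ∀ x : P, χ x = z * x * z⁻¹ := by
    intro x
    refine f.injective (Subtype.ext ?_)
    rw [hfχ, map_mul, map_mul, map_inv, Subgroup.coe_mul, Subgroup.coe_mul, Subgroup.coe_inv, hzs']
  refine ⟨z, hz, ?_, fun x => ?_⟩
  · rw [Subgroup.mem_centralizer_iff]
    intro q hq
    have h1 := congrArg (fun t : P => (t : Ω)) ((key ⟨q, hQP hq⟩).symm.trans (hfix ⟨q, hQP hq⟩ hq))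
    simp only [Subgroup.coe_mul, Subgroup.coe_inv] at h1
    calc q * (z : Ω) = (z : Ω) * q * (z : Ω)⁻¹ * z := by rw [h1]
      _ = _ := by simp [mul_assoc]
  · rw [key x]; rfl

/-- In a saturated system two maps on `P` agreeing on a centric `Q ⊴ P` differ by conjugation
by a central element of `Q`. -/
theorem eq_conj_of_agree [Finite S] {p : ℕ} [Fact p.Prime] (hS : IsPGroup p S)
    (hF : F.IsSaturated p) {P Q : Subgroup Ω} (hQP : Q ≤ P)
    (hPN : P ≤ Subgroup.normalizer (Q : Set Ω)) (hQ : F.IsCentric Q)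
    {φ₁ φ₂ : P →* Ω} (h₁ : φ₁ ∈ F.Hom P) (h₂ : φ₂ ∈ F.Hom P)
    (hagree : ∀ q : P, (q : Ω) ∈ Q → φ₂ q = φ₁ q) :
    ∃ z ∈ Q, z ∈ Subgroup.centralizer (Q : Set Ω) ∧
      ∀ (x : P) (hx : z * (x : Ω) * z⁻¹ ∈ P), φ₂ x = φ₁ ⟨z * x * z⁻¹, hx⟩ := by
  have hPS := dom_le h₁
  haveI : Finite P := finite_of_le hPS
  set Q' : Subgroup Ω := (Q.subgroupOf P).map φ₁ with hQ'
  have hQ'c : F.IsConj Q Q' :=
    ⟨_, restrict_mem (P := Q) h₁ hQP, range_comp_inclusion hQP⟩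
  have hdiff : ∀ x : P, ∃ q : P, (q : Ω) ∈ Q ∧ φ₁ q = (φ₁ x)⁻¹ * φ₂ x := by
    intro x
    have hs : (φ₁ x)⁻¹ * φ₂ x ∈ S := S.mul_mem (S.inv_mem (map_mem h₁ x)) (map_mem h₂ x)
    have hc : (φ₁ x)⁻¹ * φ₂ x ∈ Subgroup.centralizer (Q' : Set Ω) := by
      rw [Subgroup.mem_centralizer_iff]
      rintro _ ⟨q, hq, rfl⟩
      have hq' : ((x⁻¹ * q * x⁻¹⁻¹ : P) : Ω) ∈ Q :=
        (Subgroup.mem_normalizer_iff.1 (hPN (x⁻¹).2) q).1 hq
      have h3 := hagree _ hq'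
      rw [map_mul, map_mul, map_mul, map_mul, map_inv, map_inv, map_inv, map_inv, inv_inv, inv_inv,
        hagree q hq] at h3
      calc φ₁ q * ((φ₁ x)⁻¹ * φ₂ x) = (φ₁ x)⁻¹ * φ₁ x * φ₁ q * (φ₁ x)⁻¹ * φ₂ x := by
            simp [mul_assoc]
        _ = (φ₁ x)⁻¹ * φ₂ x * ((φ₂ x)⁻¹ * (φ₁ x * φ₁ q * (φ₁ x)⁻¹) * φ₂ x) := by
            simp [mul_assoc]
        _ = (φ₁ x)⁻¹ * φ₂ x * φ₁ q := ?_
      congr 1
      have hq'' : ((x * q * x⁻¹ : P) : Ω) ∈ Q := (Subgroup.mem_normalizer_iff.1 (hPN x.2) q).1 hq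
      have h4 := hagree _ hq''
      rw [map_mul, map_mul, map_mul, map_mul, map_inv, map_inv, hagree q hq] at h4
      rw [← h4]
      simp [mul_assoc]
    obtain ⟨q, hq, hqe⟩ := centric_conj hQ hQ'c hs hc
    exact ⟨q, hq, hqe⟩
  have hfr : Finite φ₁.range := Finite.of_surjective _ φ₁.rangeRestrict_surjective
  have hr : φ₂.range = φ₁.range := by
    refine Subgroup.eq_of_le_of_card_ge ?_ ?_
    · rintro _ ⟨x, rfl⟩
      obtain ⟨q, -, hqe⟩ := hdiff x
      exact ⟨x * q, by rw [map_mul, hqe, mul_inv_cancel_left]⟩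
    · rw [← Nat.card_congr (MonoidHom.ofInjective (hom_inj h₁)).toEquiv,
        ← Nat.card_congr (MonoidHom.ofInjective (hom_inj h₂)).toEquiv]
  set e₁ := isoOfInjective (hom_inj h₁) rfl with he₁
  set e₂ := isoOfInjective (hom_inj h₂) hr with he₂
  have hχ : (e₂.trans e₁.symm : MulAut P) ∈ F.autGroup P :=
    (mem_autGroup_iff hPS).2 ((isFIso_isoOfInjective h₂ hr).trans (isFIso_isoOfInjective h₁ rfl).symm)
  have hval : ∀ x : P, φ₁ ((e₂.trans e₁.symm : MulAut P) x) = φ₂ x := fun x => by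
    rw [← isoOfInjective_apply (hom_inj h₁) rfl, MulEquiv.trans_apply, ← he₁,
      MulEquiv.apply_symm_apply]
    rfl
  obtain ⟨z, hz, hzc, hzx⟩ := aut_eq_conj_of_fix hS hF hQP hQ hPS hχ
    (fun q hq => hom_inj h₁ (by rw [hval, hagree q hq]))
    (fun x => by
      obtain ⟨q, hq, hqe⟩ := hdiff x
      have e : x⁻¹ * (e₂.trans e₁.symm : MulAut P) x = q :=
        hom_inj h₁ (by rw [map_mul, map_inv, hval, hqe])
      rw [e]; exact hq)
  refine ⟨z, hz, hzc, fun x hx => ?_⟩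
  rw [← hval x]
  exact congrArg φ₁ (Subtype.ext (hzx x))

end CfsgLib.FusionModel
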