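import Cfsg.Agent.Lib.Fusion.ModelGroup
import Cfsg.Agent.Lib.Fusion.ModelAgree
import Mathlib.Algebra.BigOperators.Group.Finset.Basic
import Mathlib.Data.Fintype.BigOperators
import Mathlib.GroupTheory.PGroup

/-!
# Averaging the kernel of the monomial extension onto the centre of `Q`
-/

set_option autoImplicit false

namespace CfsgLib.FusionModel

open Cfsg Cfsg.FusionSystem CfsgLib.Fusion

universe u
variable {Ω : Type u} [Group Ω] {S : Subgroup Ω} {F : Cfsg.FusionSystem S} {Q : Subgroup Ω}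

theorem aut_center_mem (α : MulAut Q) (z : Subgroup.center Q) : α z ∈ Subgroup.center Q := by
  rw [Subgroup.mem_center_iff]
  intro y
  obtain ⟨y, rfl⟩ := α.surjective y
  rw [← map_mul, ← map_mul, Subgroup.mem_center_iff.1 z.2 y]

/-- The action of `Aut_F(Q)` on the centre of `Q`. -/
def centerAct (a : F.autGroup Q) : Subgroup.center Q →* Subgroup.center Q where
  toFun z := ⟨(a : MulAut Q) z, aut_center_mem _ z⟩
  map_one' := Subtype.ext (map_one (a : MulAut Q))
  map_mul' z w := Subtype.ext (map_mul (a : MulAut Q) (z : Q) (w : Q))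

theorem centerAct_coe (a : F.autGroup Q) (z : Subgroup.center Q) :
    ((centerAct a z : Subgroup.center Q) : Q) = (a : MulAut Q) z := rfl

theorem centerAct_mul (a b : F.autGroup Q) (z : Subgroup.center Q) :
    centerAct (a * b) z = centerAct a (centerAct b z) := Subtype.ext rfl

theorem center_of_actHom_eq_one (hQS : Q ≤ S) (hQ : F.IsCentric Q) {r : normalizerIn S Q}
    (hr : actHom F Q hQS r = 1) :
    ∃ h : (r : Ω) ∈ Q, (⟨r, h⟩ : Q) ∈ Subgroup.center Q := by
  have hc : (r : Ω) ∈ Subgroup.centralizer (Q : Set Ω) :=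
    (conjAut_eq_one_iff r.2.2).1 (congrArg Subtype.val hr)
  exact ⟨centric_self hQ r.2.1 hc, Subgroup.mem_center_iff.2 fun y => Subtype.ext
    (Subgroup.mem_centralizer_iff.1 hc y y.2)⟩

theorem right_eq_one (hQS : Q ≤ S) (m : (extProj F Q hQS).ker) :
    ((m : bigExt F Q hQS) : Wreath F Q hQS).right = 1 := m.2

theorem actHom_ker_left (hQS : Q ≤ S) (m : (extProj F Q hQS).ker) (x : Coset F Q hQS) :
    actHom F Q hQS (((m : bigExt F Q hQS) : Wreath F Q hQS).left x) = 1 := by
  rw [act_left, right_eq_one, inv_one, one_smul, one_mul, inv_mul_cancel]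

/-- A component of an element of the kernel, as a central element of `Q`. -/
noncomputable def kerComp (hQS : Q ≤ S) (hQ : F.IsCentric Q) (x : Coset F Q hQS) :
    (extProj F Q hQS).ker →* Subgroup.center Q :=
  MonoidHom.mk' (fun m => ⟨_, (center_of_actHom_eq_one hQS hQ (actHom_ker_left hQS m x)).snd⟩)
    fun m n => by
      refine Subtype.ext (Subtype.ext ?_)
      show ((((m : bigExt F Q hQS) : Wreath F Q hQS) *
        ((n : bigExt F Q hQS) : Wreath F Q hQS)).left x : Ω) = _
      rw [wreath_mul_left, right_eq_one, inv_one, one_smul]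
      rfl

theorem kerComp_coe (hQS : Q ≤ S) (hQ : F.IsCentric Q) (x : Coset F Q hQS)
    (m : (extProj F Q hQS).ker) :
    (((kerComp hQS hQ x m : Subgroup.center Q) : Q) : Ω) =
      ((m : bigExt F Q hQS) : Wreath F Q hQS).left x := rfl

theorem kerComp_conj (hQS : Q ≤ S) (hQ : F.IsCentric Q) (x : Coset F Q hQS)
    (m : (extProj F Q hQS).ker) (g : bigExt F Q hQS)
    (hmem : g * (m : bigExt F Q hQS) * g⁻¹ ∈ (extProj F Q hQS).ker) :
    centerAct (trans' F Q hQS x) (kerComp hQS hQ x ⟨_, hmem⟩) =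
      centerAct (g : Wreath F Q hQS).right
        (centerAct (trans' F Q hQS ((g : Wreath F Q hQS).right⁻¹ • x))
          (kerComp hQS hQ ((g : Wreath F Q hQS).right⁻¹ • x) m)) := by
  rw [← centerAct_mul, ← g.2 x, centerAct_mul]
  refine congrArg _ (Subtype.ext (Subtype.ext ?_))
  rw [kerComp_coe]
  show (((g : Wreath F Q hQS) * ((m : bigExt F Q hQS) : Wreath F Q hQS) *
    (g : Wreath F Q hQS)⁻¹).left x : Ω) = _
  rw [wreath_mul_left, SemidirectProduct.mul_right, right_eq_one, mul_one, wreath_inv_left,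
    smul_inv_smul, wreath_mul_left, centerAct_coe, actHom_apply, kerComp_coe]
  simp only [Subgroup.coe_mul, Subgroup.coe_inv]

theorem diagHom_mem_ker (hQS : Q ≤ S) (z : Subgroup.center Q) :
    diagHom F Q hQS z ∈ (extProj F Q hQS).ker := by
  refine Subtype.ext (MulEquiv.ext fun y => ?_)
  rw [extProj_apply, diagHom_right, innHom_apply, ← Subgroup.mem_center_iff.1 z.2 y,
    mul_inv_cancel_right]
  rfl

theorem centerAct_kerComp_diag (hQS : Q ≤ S) (hQ : F.IsCentric Q) (x : Coset F Q hQS)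
    (z : Subgroup.center Q) :
    centerAct (trans' F Q hQS x) (kerComp hQS hQ x ⟨_, diagHom_mem_ker hQS z⟩) = z := by
  refine Subtype.ext ?_
  rw [centerAct_coe, show ((kerComp hQS hQ x ⟨_, diagHom_mem_ker hQS z⟩ : Subgroup.center Q) : Q) =
    (((trans' F Q hQS x)⁻¹ : F.autGroup Q) : MulAut Q) z from
      Subtype.ext ((kerComp_coe hQS hQ x _).trans (diagHom_left hQS _ x)),
    Subgroup.coe_inv, MulAut.apply_inv_self]

theorem finite_bigExt [Finite S] (hQS : Q ≤ S) : Finite (bigExt F Q hQS) := by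
  have : Finite Q := finite_of_le hQS
  have : Finite (normalizerIn S Q) := finite_of_le (normalizerIn_le S Q)
  have : Finite (MulAut Q) := finite_mulAut'
  have : Finite (Wreath F Q hQS) :=
    Finite.of_injective (fun g => (g.left, g.right))
      fun a b h => SemidirectProduct.ext (congrArg Prod.fst h) (congrArg Prod.snd h)
  infer_instance
where
  finite_mulAut' {G : Type u} [Group G] [Finite G] : Finite (MulAut G) :=
    Finite.of_injective (fun e => (e : G → G)) fun _ _ h => MulEquiv.ext (congrFun h)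

/-- The averaging quotient of the monomial extension. -/
theorem exists_avgQuot [Finite S] {p : ℕ} [Fact p.Prime] (hS : IsPGroup p S)
    (hQ : F.IsCentric Q) (hQS : Q ≤ S) (hnp : ¬ p ∣ Nat.card (Coset F Q hQS)) :
    ∃ (L : Type u) (_ : Group L) (_ : Finite L) (π' : bigExt F Q hQS →* L) (τ : L →* F.autGroup Q),
      Function.Surjective π' ∧ (∀ g, τ (π' g) = extProj F Q hQS g) ∧
      (∀ g, extProj F Q hQS g = 1 → ∃ z ∈ Subgroup.center Q, π' g = π' (diagHom F Q hQS z)) ∧
      (∀ z ∈ Subgroup.center Q, π' (diagHom F Q hQS z) = 1 → z = 1) := by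
  classical
  have := finite_bigExt (F := F) hQS
  have : Finite Q := finite_of_le hQS
  have : Finite (Coset F Q hQS) := Finite.of_surjective _ QuotientGroup.mk_surjective
  let _ : CommGroup (Subgroup.center Q) :=
    { (inferInstance : Group (Subgroup.center Q)) with
      mul_comm := fun a b => Subtype.ext (Subgroup.mem_center_iff.1 b.2 a) }
  let _ : Fintype (Coset F Q hQS) := Fintype.ofFinite _
  obtain ⟨ρ, hρ⟩ : ∃ ρ : (extProj F Q hQS).ker →* Subgroup.center Q,
      ∀ m, ρ m = ∏ x, centerAct (trans' F Q hQS x) (kerComp hQS hQ x m) :=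
    ⟨MonoidHom.mk' (fun m => ∏ x, centerAct (trans' F Q hQS x) (kerComp hQS hQ x m)) fun m n => by
      rw [← Finset.prod_mul_distrib]
      exact Finset.prod_congr rfl fun x _ => by rw [← map_mul, ← map_mul], fun _ => rfl⟩
  have hρd : ∀ z : Subgroup.center Q,
      ρ ⟨_, diagHom_mem_ker hQS z⟩ = z ^ Nat.card (Coset F Q hQS) := by
    intro z
    rw [hρ, Nat.card_eq_fintype_card, ← Finset.card_univ, ← Finset.prod_const]
    exact Finset.prod_congr rfl fun x _ => centerAct_kerComp_diag hQS hQ x z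
  have hKn : (ρ.ker.map (extProj F Q hQS).ker.subtype).Normal := by
    constructor
    rintro _ ⟨m, hm, rfl⟩ g
    have hmem := (MonoidHom.normal_ker (extProj F Q hQS)).conj_mem _ m.2 g
    refine ⟨⟨_, hmem⟩, ?_, rfl⟩
    rw [SetLike.mem_coe, MonoidHom.mem_ker, hρ]
    rw [Finset.prod_congr rfl (fun x _ => kerComp_conj hQS hQ x m g hmem), ← map_prod]
    have h := Equiv.prod_comp (MulAction.toPerm (g : Wreath F Q hQS).right⁻¹)
      (fun x => centerAct (trans' F Q hQS x) (kerComp hQS hQ x m))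
    simp only [MulAction.toPerm_apply] at h
    rw [h, ← hρ, MonoidHom.mem_ker.1 hm, map_one]
  have hpow : Function.Bijective fun z : Subgroup.center Q => z ^ Nat.card (Coset F Q hQS) := by
    obtain ⟨k, hk⟩ := IsPGroup.iff_card.1 ((hS.to_le hQS).to_subgroup (Subgroup.center Q))
    refine Nat.Coprime.pow_left_bijective ?_
    rw [hk]
    exact Nat.Coprime.pow_left k ((Fact.out : p.Prime).coprime_iff_not_dvd.2 hnp)
  refine ⟨_, inferInstance, inferInstance, QuotientGroup.mk' (ρ.ker.map (extProj F Q hQS).ker.subtype),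
    QuotientGroup.lift _ (extProj F Q hQS) (Subgroup.map_subtype_le _),
    QuotientGroup.mk'_surjective _, fun g => QuotientGroup.lift_mk' _ _ g, fun g hg => ?_,
    fun z hz h => ?_⟩
  · obtain ⟨z, hz⟩ := hpow.2 (ρ ⟨g, hg⟩)
    refine ⟨z, z.2, ?_⟩
    symm
    rw [QuotientGroup.mk'_apply, QuotientGroup.mk'_apply, QuotientGroup.eq]
    refine Subgroup.mem_map.2
      ⟨⟨_, diagHom_mem_ker hQS z⟩⁻¹ * ⟨g, hg⟩, ?_, by rw [map_mul, map_inv]; rfl⟩
    rw [MonoidHom.mem_ker, map_mul, map_inv, hρd, show z ^ _ = ρ ⟨g, hg⟩ from hz, inv_mul_cancel]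
  · rw [QuotientGroup.mk'_apply, QuotientGroup.eq_one_iff, Subgroup.mem_map] at h
    obtain ⟨m, hm, hm'⟩ := h
    have e : m = ⟨_, diagHom_mem_ker hQS ⟨z, hz⟩⟩ := Subtype.ext hm'
    rw [MonoidHom.mem_ker, e, hρd] at hm
    exact congrArg Subtype.val
      (hpow.1 (by simpa using hm) : (⟨z, hz⟩ : Subgroup.center Q) = 1)

end CfsgLib.FusionModel
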