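import Cfsg.Agent.Lib.Fusion.ModelEmbed
import Cfsg.Agent.Lib.Fusion.ModelAvg

/-!
# Models of normalizer systems of centric subgroups

`exists_model`: if `F` is saturated and `Q` is centric and fully normalized, then every normalizer
system of `Q` has a model `L`, with a map `τ : L → Aut_F(Q)` describing the action of `L` on `Q`.
-/

set_option autoImplicit false

namespace CfsgLib.FusionModel

open Cfsg Cfsg.FusionSystem CfsgLib.Fusion

universe u
variable {Ω : Type u} [Group Ω] {S : Subgroup Ω} {F : Cfsg.FusionSystem S} {Q : Subgroup Ω}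

theorem coset_card_not_dvd [Finite S] {p : ℕ} [Fact p.Prime] (hS : IsPGroup p S)
    (hF : F.IsSaturated p) (hfn : F.IsFullyNormalized Q) (hQS : Q ≤ S) :
    ¬ p ∣ Nat.card (Coset F Q hQS) := by
  have : Finite Q := finite_of_le hQS
  obtain ⟨-, T, hT⟩ := isFullyAutomized_of_isFullyNormalized hS hF hfn
  have hr : (actHom F Q hQS).range = (T : Subgroup (F.autGroup Q)) := by
    rw [hT]
    ext a
    rw [Subgroup.mem_subgroupOf]
    constructor
    · rintro ⟨r, rfl⟩
      exact conjAut_mem_autInducedBy r.2.1 _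
    · intro h
      obtain ⟨g, hg, hgS, he⟩ := exists_eq_conjAut h
      exact ⟨⟨g, hgS, hg⟩, Subtype.ext he.symm⟩
  show ¬ p ∣ Subgroup.index _
  rw [hr]
  exact T.not_dvd_index

/-- Existence of models of normalizer systems of centric subgroups. -/
theorem exists_model [Finite S] {p : ℕ} [Fact p.Prime] (hS : IsPGroup p S) (hF : F.IsSaturated p)
    (hQ : F.IsCentric Q) (hfn : F.IsFullyNormalized Q) (hQS : Q ≤ S)
    (E : Cfsg.FusionSystem (normalizerIn S Q)) (hE : F.IsNormalizerSystem Q E) :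
    ∃ (L : Type u) (_ : Group L) (ι : normalizerIn S Q →* L) (τ : L →* F.autGroup Q),
      E.IsModel p L ι ∧ Function.Surjective τ ∧
      (∀ r, τ (ι r) = actHom F Q hQS r) ∧
      (∀ (l : L) (q : Q), l * ι (Subgroup.inclusion (le_normalizerIn hQS) q) * l⁻¹ =
        ι (Subgroup.inclusion (le_normalizerIn hQS) ((τ l : MulAut Q) q))) ∧
      (∀ l : L, τ l = 1 → ∃ z ∈ Subgroup.center Q,
        ι (Subgroup.inclusion (le_normalizerIn hQS) z) = l) := by
  classical
  have hrec := isReceptive_of_isFullyNormalized hS hF hfn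
  obtain ⟨ι₀, hι₀, hι₀π⟩ := exists_embed hQS hrec
  have : Finite Q := finite_of_le hQS
  obtain ⟨L, _, hLfin, π', τ, hπs, hτπ, hker, hinj⟩ :=
    exists_avgQuot hS hQ hQS (coset_card_not_dvd hS hF hfn hQS)
  set ι := π'.comp ι₀ with hι
  have hτι : ∀ r, τ (ι r) = actHom F Q hQS r := fun r => (hτπ _).trans (hι₀π r)
  have hιQ : ∀ q : Q, ι (Subgroup.inclusion (le_normalizerIn hQS) q) = π' (diagHom F Q hQS q) := by
    intro q
    show π' (ι₀ _) = _
    rw [hι₀.1]
    rfl
  have hequiv : ∀ (l : L) (q : Q),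
      l * ι (Subgroup.inclusion (le_normalizerIn hQS) q) * l⁻¹ =
        ι (Subgroup.inclusion (le_normalizerIn hQS) ((τ l : MulAut Q) q)) := by
    intro l q
    obtain ⟨g, rfl⟩ := hπs l
    rw [hιQ, hιQ, ← map_inv, ← map_mul, ← map_mul, diagHom_conj, hτπ]
  have hτker : ∀ l, τ l = 1 → ∃ z ∈ Subgroup.center Q,
      ι (Subgroup.inclusion (le_normalizerIn hQS) z) = l := by
    intro l hl
    obtain ⟨g, rfl⟩ := hπs l
    obtain ⟨z, hz, hzg⟩ := hker g (by rwa [← hτπ])
    exact ⟨z, hz, by rw [hιQ, hzg]⟩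
  have hιinj : Function.Injective ι := by
    rw [injective_iff_map_eq_one]
    intro r hr
    have h1 : actHom F Q hQS r = 1 := by rw [← hτι, hr, map_one]
    have hc : (r : Ω) ∈ Subgroup.centralizer (Q : Set Ω) :=
      (conjAut_eq_one_iff r.2.2).1 (congrArg Subtype.val h1)
    have hrQ : (r : Ω) ∈ Q := centric_self hQ r.2.1 hc
    have hr' : r = Subgroup.inclusion (le_normalizerIn hQS) ⟨r, hrQ⟩ := rfl
    have hz : (⟨r, hrQ⟩ : Q) ∈ Subgroup.center Q :=
      Subgroup.mem_center_iff.2 fun y => Subtype.ext (Subgroup.mem_centralizer_iff.1 hc y y.2)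
    rw [hr', hιQ] at hr
    rw [hr', hinj _ hz hr, map_one]
  refine ⟨L, inferInstance, ι, τ, ⟨hLfin, ⟨hιinj, ?_⟩, ?_, ?_⟩, ?_, hτι, hequiv, hτker⟩
  -- realization
  · intro P hP φ hφ
    have hP' : P ⊔ Q ≤ normalizerIn S Q := sup_le hP (le_normalizerIn hQS)
    rw [hE P]
    -- lifts on `P ⊔ Q`
    have hcompat : ∀ (ψ : ↥(P ⊔ Q) →* Ω), ψ ∈ F.Hom (P ⊔ Q) → ∀ (β : F.autGroup Q),
        (∀ q : Q, ψ (Subgroup.inclusion le_sup_right q) = ((β : MulAut Q) q : Ω)) →
        ∃ (hv : ∀ x, ψ x ∈ normalizerIn S Q) (m : bigExt F Q hQS), τ (π' m) = β ∧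
          ∀ x : ↥(P ⊔ Q), ι ⟨ψ x, hv x⟩ = π' m * ι (Subgroup.inclusion hP' x) * (π' m)⁻¹ := by
      intro ψ hψ β hβ
      have hv : ∀ x, ψ x ∈ normalizerIn S Q := fun x =>
        ⟨map_mem hψ x, map_mem_normalizer_of_extends (P := Q) (Q := Q) (e := (β : MulAut Q))
          le_sup_right hβ x.2 (hP' x.2).2⟩
      obtain ⟨g, hg⟩ := extProj_surjective F Q hQS β
      set f₂ := ι₀.comp (ψ.codRestrict _ hv)
      set f₀ := ι₀.comp (Subgroup.inclusion hP') with hf₀
      have hc₀ : IsCompat hQS le_sup_right f₀ 1 := by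
        refine ⟨fun q => hι₀.1 q, fun x => ?_⟩
        obtain ⟨θ, hθ, e⟩ := hι₀.2 x
        have hle : stabAt hQS f₀ x ≤ stabAt hQS ι₀ x := fun g hg => by
          obtain ⟨hgP, hfix⟩ := (mem_stabAt hQS).1 hg
          exact (mem_stabAt hQS).2 ⟨hP' hgP, hfix⟩
        exact ⟨_, restrict_mem hθ hle, fun g hgP hst => e g (hP' hgP) (hle hst)⟩
      have hc₁ := hc₀.conj g
      rw [hg, mul_one] at hc₁
      have hc₂ : IsCompat hQS le_sup_right f₂ β := by
        refine ⟨fun q => ?_, fun x => ?_⟩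
        · show ι₀ ⟨ψ _, _⟩ = _
          rw [show (⟨ψ (Subgroup.inclusion le_sup_right q), hv _⟩ : normalizerIn S Q) =
            Subgroup.inclusion (le_normalizerIn hQS) ((β : MulAut Q) q) from Subtype.ext (hβ q), hι₀.1]
          rfl
        · obtain ⟨θ, hθ, e⟩ := hι₀.2 x
          have hle : stabAt hQS f₂ x ≤ P ⊔ Q := fun g hg => ((mem_stabAt hQS).1 hg).1
          have hin : ∀ y, ψ.comp (Subgroup.inclusion hle) y ∈ stabAt hQS ι₀ x := fun y =>
            (mem_stabAt hQS).2 ⟨hv _, ((mem_stabAt hQS).1 y.2).2⟩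
          exact ⟨_, F.comp_mem (restrict_mem hψ hle) hθ hin, fun g hgP hst => e _ (hv _) _⟩
      obtain ⟨m, hm, hconj⟩ := IsCompat.exists_conj hS hF hQ hP' hc₁ hc₂
      refine ⟨hv, m * g, ?_, fun x => ?_⟩
      · rw [hτπ, map_mul, hm, hg, one_mul]
      · show π' (f₂ x) = _
        rw [hconj, map_mul, map_mul, map_inv]
        show π' m * π' (g * f₀ x * g⁻¹) * (π' m)⁻¹ = _
        rw [map_mul, map_mul, map_inv, map_mul, mul_inv_rev]
        simp only [mul_assoc]
        rfl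
    constructor
    · rintro ⟨hφF, -, -, ψ, hψ, hψφ, hψQ⟩
      obtain ⟨β, hβ, hβx⟩ := exists_aut (restrict_mem hψ (le_sup_right : Q ≤ P ⊔ Q))
        (by rw [range_comp_inclusion]; exact hψQ)
      obtain ⟨hv, m, -, hm⟩ := hcompat ψ hψ ⟨β, hβ⟩ (fun q => (hβx q).symm)
      refine ⟨π' m, fun x => ?_⟩
      have h := hm (Subgroup.inclusion le_sup_left x)
      rw [show (⟨ψ (Subgroup.inclusion le_sup_left x), hv _⟩ : normalizerIn S Q) = ⟨φ x, hφ x⟩ from
        Subtype.ext (hψφ x)] at h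
      exact h
    · rintro ⟨l, hl⟩
      set β := τ l with hβ
      have he : IsFIso F ((β : MulAut Q) : Q ≃* Q) := (mem_autGroup_iff hQS).1 β.2
      have hact : ∀ x (hx : x ∈ P ⊔ Q), MulAut.congr ((β : MulAut Q) : Q ≃* Q)
          (conjAut Q x (hP' hx).2) ∈ autInducedBy S Q := by
        -- `P ⊔ Q` is carried into `ι (N_S(Q))` by `l`
        have hle : P ⊔ Q ≤ ((ι.range.comap (MulAut.conj l).toMonoidHom).comap ι).map
            (normalizerIn S Q).subtype := by
          refine sup_le (fun x hx => ?_) (fun x hx => ?_)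
          · exact ⟨⟨x, hP hx⟩, ⟨⟨_, hφ ⟨x, hx⟩⟩, hl ⟨x, hx⟩⟩, rfl⟩
          · exact ⟨Subgroup.inclusion (le_normalizerIn hQS) ⟨x, hx⟩,
              ⟨_, (hequiv l ⟨x, hx⟩).symm⟩, rfl⟩
        intro x hx
        obtain ⟨y, ⟨r, hr⟩, hyx⟩ := hle hx
        have h1 := congrArg τ hr
        simp only [MulEquiv.coe_toMonoidHom, MulAut.conj_apply, map_mul, map_inv, hτι] at h1
        refine mem_autInducedBy_iff.2 ⟨r, r.2.1, fun q => ?_⟩
        have hyx' : (y : Ω) = x := hyx
        rw [← actHom_apply (F := F) hQS, h1, congr_apply]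
        show _ = ((((β : MulAut Q) * _ * (β : MulAut Q)⁻¹) q : Q) : Ω)
        simp only [MulAut.mul_apply]
        refine congrArg (fun w : Q => (((β : MulAut Q) w : Q) : Ω)) (Subtype.ext ?_)
        rw [conjAut_apply, actHom_apply, hyx']
        rfl
      obtain ⟨ψ, hψ, hψR, hψe⟩ := he.exists_extension hrec (le_sup_right : Q ≤ P ⊔ Q) hP' hact
      obtain ⟨hv, m, hm, hmx⟩ := hcompat ψ hψ β hψe
      obtain ⟨z, hz, hzl⟩ := hτker ((π' m)⁻¹ * l) (by rw [map_mul, map_inv, hm, ← hβ, inv_mul_cancel])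
      have hzPQ : ∀ x : ↥(P ⊔ Q), (z : Ω) * x * (z : Ω)⁻¹ ∈ P ⊔ Q := fun x =>
        mul_mem (mul_mem (Subgroup.mem_sup_right z.2) x.2) (inv_mem (Subgroup.mem_sup_right z.2))
      set zz : ↥(P ⊔ Q) := Subgroup.inclusion le_sup_right z
      set ψ' := ψ.comp (MulAut.conj zz).toMonoidHom with hψ'
      have hψ'mem : ψ' ∈ F.Hom (P ⊔ Q) :=
        mem_of_comp (F.conj_mem (hP'.trans (normalizerIn_le S Q)) (hQS z.2)) hψ hzPQ _
          fun x => rfl
      have hφψ : ∀ x : P, ψ' (Subgroup.inclusion le_sup_left x) = φ x := by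
        intro x
        set w : ↥(P ⊔ Q) := zz * Subgroup.inclusion le_sup_left x * zz⁻¹
        have h2 : ι ⟨ψ w, hv w⟩ = ι ⟨φ x, hφ x⟩ := by
          rw [hmx, hl, map_mul, map_mul, map_inv, map_mul, map_mul, map_inv,
            show Subgroup.inclusion hP' zz = Subgroup.inclusion (le_normalizerIn hQS) z from rfl, hzl]
          show _ = l * ι (Subgroup.inclusion hP' (Subgroup.inclusion le_sup_left x)) * l⁻¹
          group
        exact congrArg Subtype.val (hιinj h2)
      refine ⟨mem_of_restrict hψ'mem le_sup_left φ fun x => (hφψ x).symm, hP, hφ, ψ', hψ'mem, hφψ, ?_⟩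
      have : Finite ↥(P ⊔ Q) := finite_of_le (hP'.trans (normalizerIn_le S Q))
      rw [← range_comp_inclusion le_sup_right]
      refine range_eq_of_le (hom_inj (restrict_mem hψ'mem le_sup_right)) fun q => ?_
      show ψ (zz * Subgroup.inclusion le_sup_right q * zz⁻¹) ∈ Q
      rw [show zz * Subgroup.inclusion le_sup_right q * zz⁻¹ =
        ⟨((z * q * z⁻¹ : Q) : Ω), Subgroup.mem_sup_right (z * q * z⁻¹).2⟩ from Subtype.ext rfl, hψe]
      exact ((β : MulAut Q) _).2
  -- Sylow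
  · have hpg : IsPGroup p ι.range := by
      intro g
      obtain ⟨r, hr⟩ := g.2
      obtain ⟨k, hk⟩ := (hS.to_le (normalizerIn_le S Q)) r
      exact ⟨k, Subtype.ext (by rw [SubgroupClass.coe_pow, ← hr, ← map_pow, hk, map_one]; rfl)⟩
    have hkerle : τ.ker ≤ ι.range := fun l hl => by
      obtain ⟨z, -, hz⟩ := hτker l hl
      exact ⟨_, hz⟩
    have hτs : Function.Surjective τ := fun a => by
      obtain ⟨g, hg⟩ := extProj_surjective F Q hQS a
      exact ⟨π' g, (hτπ g).trans hg⟩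
    have hidx : ¬ p ∣ ι.range.index := by
      have h1 : (ι.range.map τ).index = ι.range.index := by
        rw [Subgroup.index_map, sup_eq_left.2 hkerle, MonoidHom.range_eq_top.2 hτs, Subgroup.index_top,
          mul_one]
      rw [← h1, MonoidHom.map_range, show τ.comp ι = actHom F Q hQS from MonoidHom.ext hτι]
      exact coset_card_not_dvd hS hF hfn hQS
    exact ⟨hpg.toSylow hidx, rfl⟩
  -- constraint
  · set U := (ι.comp (Subgroup.inclusion (le_normalizerIn hQS))).range with hU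
    have hUn : U.Normal := ⟨by
      rintro _ ⟨q, rfl⟩ l
      exact ⟨_, (hequiv l q).symm⟩⟩
    have hUp : IsPGroup p U := by
      intro g
      obtain ⟨r, hr⟩ := g.2
      obtain ⟨k, hk⟩ := (hS.to_le hQS) r
      exact ⟨k, Subtype.ext (by rw [SubgroupClass.coe_pow, ← hr, ← map_pow, hk, map_one]; rfl)⟩
    have hUc : U ≤ pCore p L := le_sSup ⟨hUn, hUp⟩
    intro l hl
    have h1 : τ l = 1 := by
      refine Subtype.ext (MulEquiv.ext fun q => ?_)
      have h2 := hequiv l q
      have hcomm : ι (Subgroup.inclusion (le_normalizerIn hQS) q) * l =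
          l * ι (Subgroup.inclusion (le_normalizerIn hQS) q) :=
        Subgroup.mem_centralizer_iff.1 hl _ (hUc ⟨q, rfl⟩)
      rw [← hcomm, mul_inv_cancel_right] at h2
      exact (Subgroup.inclusion_injective _ (hιinj h2)).symm
    obtain ⟨z, -, hz⟩ := hτker l h1
    exact hUc ⟨z, hz⟩
  · intro a
    obtain ⟨g, hg⟩ := extProj_surjective F Q hQS a
    exact ⟨π' g, (hτπ g).trans hg⟩

end CfsgLib.FusionModel
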