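import Cfsg.Agent.Lib.Fusion.Saturation

/-!
# The fusion system of a finite group on a Sylow subgroup

Fully normalized and fully centralized subgroups, and saturation.
-/

set_option autoImplicit false

namespace CfsgLib.Fusion

open Cfsg Cfsg.FusionSystem

/-- `H` is a Sylow `p`-subgroup of `M`. -/
def IsSylowIn {G : Type*} [Group G] (p : ℕ) (H M : Subgroup G) : Prop :=
  ∃ R : Sylow p M, (R : Subgroup M) = H.subgroupOf M

variable {G : Type*} [Group G] {p : ℕ} {P Q H M : Subgroup G}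

theorem IsSylowIn.card_le [Finite G] [Fact p.Prime] (h : IsSylowIn p H M) (hHM : H ≤ M)
    {U : Subgroup G} (hU : IsPGroup p U) (hUM : U ≤ M) : Nat.card U ≤ Nat.card H := by
  obtain ⟨R, hR⟩ := h
  have hUp : IsPGroup p (U.subgroupOf M) := IsPGroup.comap_subtype hU
  obtain ⟨g, hg⟩ := exists_conj_le_sylow R hUp
  rw [← Nat.card_congr (Subgroup.subgroupOfEquivOfLe hUM).toEquiv,
    ← Nat.card_congr (Subgroup.subgroupOfEquivOfLe hHM).toEquiv, ← hR]
  refine Nat.card_le_card_of_injective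
    (fun u : U.subgroupOf M => (⟨g * u * g⁻¹, hg u u.2⟩ : (R : Subgroup M))) ?_
  intro a b hab
  exact Subtype.ext (mul_left_cancel (mul_right_cancel (Subtype.ext_iff.1 hab)))

theorem isSylowIn_of_card_le [Finite G] [Fact p.Prime] (hH : IsPGroup p H) (hHM : H ≤ M)
    (h : ∀ U : Subgroup G, IsPGroup p U → U ≤ M → Nat.card U ≤ Nat.card H) : IsSylowIn p H M := by
  obtain ⟨R, hR⟩ := (IsPGroup.comap_subtype (K := M) hH).exists_le_sylow
  refine ⟨R, (Subgroup.eq_of_le_of_card_ge hR ?_).symm⟩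
  calc Nat.card (R : Subgroup M) = Nat.card ((R : Subgroup M).map M.subtype) :=
        (Subgroup.card_map_of_injective M.subtype_injective).symm
    _ ≤ Nat.card H := h _ (R.2.map _) (Subgroup.map_subtype_le _)
    _ = Nat.card (H.subgroupOf M) :=
        (Nat.card_congr (Subgroup.subgroupOfEquivOfLe hHM).toEquiv).symm

/-- Conjugation into a Sylow subgroup of `M` inside `M`. -/
theorem IsSylowIn.exists_conj_le [Finite G] [Fact p.Prime] (h : IsSylowIn p H M)
    {U : Subgroup G} (hU : IsPGroup p U) (hUM : U ≤ M) :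
    ∃ m ∈ M, ∀ u ∈ U, m * u * m⁻¹ ∈ H := by
  obtain ⟨R, hR⟩ := h
  have hUp : IsPGroup p (U.subgroupOf M) := IsPGroup.comap_subtype hU
  obtain ⟨g, hg⟩ := exists_conj_le_sylow R hUp
  refine ⟨g, g.2, fun u hu => ?_⟩
  have := hg ⟨u, hUM hu⟩ hu
  rw [hR] at this
  exact this

theorem isPGroup_map_conj {U : Subgroup G} (hU : IsPGroup p U) (g : G) :
    IsPGroup p (U.map (MulAut.conj g).toMonoidHom) := hU.map _

theorem card_map_conj (U : Subgroup G) (g : G) :
    Nat.card (U.map (MulAut.conj g).toMonoidHom) = Nat.card U :=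
  Subgroup.card_map_of_injective (MulAut.conj g).injective

theorem mem_map_conj {U : Subgroup G} {g x : G} :
    x ∈ U.map (MulAut.conj g).toMonoidHom ↔ g⁻¹ * x * g ∈ U := by
  rw [Subgroup.mem_map_equiv, MulAut.conj_symm_apply]

theorem conj_mem_map_conj {U : Subgroup G} {g x : G} (hx : x ∈ U) :
    g * x * g⁻¹ ∈ U.map (MulAut.conj g).toMonoidHom := ⟨x, hx, rfl⟩

theorem map_conj_map_conj_inv (U : Subgroup G) (g : G) :
    (U.map (MulAut.conj g).toMonoidHom).map (MulAut.conj g⁻¹).toMonoidHom = U := by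
  ext x
  simp only [mem_map_conj, inv_inv]
  constructor <;> intro h <;> simpa [mul_assoc] using h

theorem conj_mem_normalizer_map {U : Subgroup G} {g x : G}
    (hx : x ∈ Subgroup.normalizer (U : Set G)) :
    g * x * g⁻¹ ∈ Subgroup.normalizer ((U.map (MulAut.conj g).toMonoidHom : Subgroup G) : Set G) :=
  Subgroup.le_normalizer_map (MulAut.conj g).toMonoidHom ⟨x, hx, rfl⟩

theorem conj_mem_centralizer_map {U : Subgroup G} {g x : G}
    (hx : x ∈ Subgroup.centralizer (U : Set G)) :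
    g * x * g⁻¹ ∈ Subgroup.centralizer ((U.map (MulAut.conj g).toMonoidHom : Subgroup G) : Set G) := by
  rw [Subgroup.mem_centralizer_iff]
  rintro _ ⟨u, hu, rfl⟩
  have := Subgroup.mem_centralizer_iff.1 hx u hu
  calc g * u * g⁻¹ * (g * x * g⁻¹) = g * (u * x) * g⁻¹ := by simp [mul_assoc]
    _ = g * (x * u) * g⁻¹ := by rw [this]
    _ = g * x * g⁻¹ * (g * u * g⁻¹) := by simp [mul_assoc]

/-! ### The maps of `F_S(G)` -/

theorem group_isConj_iff {S : Subgroup G} :
    (groupFusionSystem S).IsConj P Q ↔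
      P ≤ S ∧ Q ≤ S ∧ ∃ g : G, P.map (MulAut.conj g).toMonoidHom = Q := by
  constructor
  · rintro ⟨φ, ⟨hP, hφS, g, hg⟩, rfl⟩
    refine ⟨hP, by rintro _ ⟨x, rfl⟩; exact hφS x, g, ?_⟩
    ext y
    constructor
    · rintro ⟨x, hx, rfl⟩
      exact ⟨⟨x, hx⟩, hg _⟩
    · rintro ⟨x, rfl⟩
      exact ⟨x, x.2, (hg x).symm⟩
  · rintro ⟨hP, hQ, g, rfl⟩
    refine ⟨conjHom P g, ⟨hP, fun x => hQ (conj_mem_map_conj x.2), g, fun _ => rfl⟩, ?_⟩
    ext y
    constructor
    · rintro ⟨x, rfl⟩
      exact conj_mem_map_conj x.2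
    · rintro ⟨x, hx, rfl⟩
      exact ⟨⟨x, hx⟩, rfl⟩

theorem group_autGroup_eq {S : Subgroup G} (hP : P ≤ S) :
    (groupFusionSystem S).autGroup P = autInducedBy ⊤ P := by
  ext α
  rw [mem_autGroup_iff_hom hP, mem_autInducedBy_iff]
  constructor
  · rintro ⟨-, -, g, hg⟩
    exact ⟨g, Subgroup.mem_top g, hg⟩
  · rintro ⟨g, -, hg⟩
    exact ⟨hP, fun x => hP (α x).2, g, hg⟩

/-! ### Sylow normalizers -/

variable [Finite G] [Fact p.Prime]

theorem exists_conj_isSylowIn_normalizer (S : Sylow p G) (hP : P ≤ (S : Subgroup G)) :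
    ∃ g : G, P.map (MulAut.conj g).toMonoidHom ≤ (S : Subgroup G) ∧
      IsSylowIn p (normalizerIn (S : Subgroup G) (P.map (MulAut.conj g).toMonoidHom))
        (Subgroup.normalizer ((P.map (MulAut.conj g).toMonoidHom : Subgroup G) : Set G)) := by
  set M := Subgroup.normalizer (P : Set G)
  obtain ⟨T⟩ : Nonempty (Sylow p M) := inferInstance
  have hnorm : (P.subgroupOf M).Normal := Subgroup.normal_in_normalizer
  have hPT : P.subgroupOf M ≤ T :=
    (show IsPGroup p (P.subgroupOf M) from IsPGroup.comap_subtype (S.2.to_le hP)).le_sylow_of_normal T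
  obtain ⟨g, hg⟩ := exists_conj_le_sylow S (T.2.map M.subtype)
  refine ⟨g, ?_, isSylowIn_of_card_le (S.2.to_le (normalizerIn_le _ _)) inf_le_right ?_⟩
  · rintro _ ⟨x, hx, rfl⟩
    exact hg x ⟨⟨x, Subgroup.le_normalizer hx⟩, hPT (Subgroup.mem_subgroupOf.2 hx), rfl⟩
  · intro U hU hUM
    have hU' : IsPGroup p (U.map (MulAut.conj g⁻¹).toMonoidHom) := isPGroup_map_conj hU _
    have hU'M : U.map (MulAut.conj g⁻¹).toMonoidHom ≤ M := by
      rintro _ ⟨x, hx, rfl⟩
      have := conj_mem_normalizer_map (g := g⁻¹) (hUM hx)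
      rwa [map_conj_map_conj_inv] at this
    have hT : IsSylowIn p ((T : Subgroup M).map M.subtype) M :=
      ⟨T, by rw [Subgroup.subgroupOf, Subgroup.comap_map_eq_self_of_injective M.subtype_injective]⟩
    calc Nat.card U = Nat.card (U.map (MulAut.conj g⁻¹).toMonoidHom) := (card_map_conj _ _).symm
      _ ≤ Nat.card ((T : Subgroup M).map M.subtype) :=
          hT.card_le (Subgroup.map_subtype_le _) hU' hU'M
      _ ≤ _ := Nat.card_le_card_of_injective
          (fun t => (⟨g * t * g⁻¹, hg t t.2, conj_mem_normalizer_map (Subgroup.map_subtype_le _ t.2)⟩ :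
            normalizerIn (S : Subgroup G) (P.map (MulAut.conj g).toMonoidHom)))
          fun a b hab => Subtype.ext (mul_left_cancel (mul_right_cancel (Subtype.ext_iff.1 hab)))

theorem isSylowIn_centralizer_of_normalizer (S : Sylow p G)
    (h : IsSylowIn p (normalizerIn (S : Subgroup G) Q) (Subgroup.normalizer (Q : Set G))) :
    IsSylowIn p (centralizerIn (S : Subgroup G) Q) (Subgroup.centralizer (Q : Set G)) := by
  refine isSylowIn_of_card_le (S.2.to_le (centralizerIn_le _ _)) inf_le_right fun U hU hUM => ?_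
  obtain ⟨m, hm, hconj⟩ := h.exists_conj_le hU (hUM.trans (centralizer_le_normalizer Q))
  have hc : ∀ u ∈ U, m * u * m⁻¹ ∈ Subgroup.centralizer (Q : Set G) := fun u hu => by
    have := conj_mem_centralizer_map (g := m) (hUM hu)
    rwa [show (MulAut.conj m).toMonoidHom = (MulAut.conj m : G →* G) from rfl,
      Subgroup.mem_normalizer_iff_map_conj_eq.1 hm] at this
  exact Nat.card_le_card_of_injective
    (fun u : U => (⟨m * u * m⁻¹, (hconj u u.2).1, hc u u.2⟩ : centralizerIn (S : Subgroup G) Q))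
    fun a b hab => Subtype.ext (mul_left_cancel (mul_right_cancel (Subtype.ext_iff.1 hab)))

theorem exists_sylow_autInducedBy (S : Sylow p G)
    (h : IsSylowIn p (normalizerIn (S : Subgroup G) Q) (Subgroup.normalizer (Q : Set G))) :
    ∃ R : Sylow p (autInducedBy ⊤ Q), (R : Subgroup (autInducedBy ⊤ Q)) =
      (autInducedBy (S : Subgroup G) Q).subgroupOf (autInducedBy ⊤ Q) := by
  obtain ⟨R, hR⟩ := h
  let f : Subgroup.normalizer (Q : Set G) →* autInducedBy ⊤ Q :=
    Q.normalizerMonoidHom.codRestrict (autInducedBy ⊤ Q) fun g =>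
      conjAut_mem_autInducedBy (P := Q) (Subgroup.mem_top _) g.2
  have hf : Function.Surjective f := by
    rintro ⟨α, hα⟩
    obtain ⟨g, hg, -, rfl⟩ := exists_eq_conjAut hα
    exact ⟨⟨g, hg⟩, rfl⟩
  refine ⟨R.mapSurjective hf, ?_⟩
  rw [Sylow.coe_mapSurjective, hR]
  ext α
  constructor
  · rintro ⟨g, hg, rfl⟩
    exact conjAut_mem_autInducedBy (P := Q) (show ((g : G)) ∈ (S : Subgroup G) from hg.1) g.2
  · intro hα
    obtain ⟨g, hg, hgS, heq⟩ := exists_eq_conjAut (show (α : MulAut Q) ∈ _ from hα)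
    exact ⟨⟨g, hg⟩, ⟨hgS, hg⟩, Subtype.ext heq.symm⟩

theorem group_isFullyAutomized_of_sylow (S : Sylow p G) (hQ : Q ≤ (S : Subgroup G))
    (h : IsSylowIn p (normalizerIn (S : Subgroup G) Q) (Subgroup.normalizer (Q : Set G))) :
    (groupFusionSystem (S : Subgroup G)).IsFullyAutomized p Q := by
  refine ⟨hQ, ?_⟩
  rw [group_autGroup_eq hQ]
  exact exists_sylow_autInducedBy S h

/-- The extension lemma. -/
theorem exists_centralizer_conj_le (S : Sylow p G) {g : G}
    (h : IsSylowIn p (normalizerIn (S : Subgroup G) Q) (Subgroup.normalizer (Q : Set G)))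
    {K : Subgroup G} (hK : IsPGroup p K)
    (hgK : ∀ x ∈ K, g * x * g⁻¹ ∈
      normalizerIn (S : Subgroup G) Q ⊔ Subgroup.centralizer (Q : Set G)) :
    ∃ c ∈ Subgroup.centralizer (Q : Set G),
      ∀ x ∈ K, c * g * x * (c * g)⁻¹ ∈ normalizerIn (S : Subgroup G) Q := by
  set N := normalizerIn (S : Subgroup G) Q
  set C := Subgroup.centralizer (Q : Set G)
  have hle : N ⊔ C ≤ Subgroup.normalizer (Q : Set G) :=
    sup_le inf_le_right (centralizer_le_normalizer Q)
  have hN : IsSylowIn p N (N ⊔ C) :=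
    isSylowIn_of_card_le (S.2.to_le (normalizerIn_le _ _)) le_sup_left fun U hU hUM =>
      h.card_le inf_le_right hU (hUM.trans hle)
  have hle' : K.map (MulAut.conj g).toMonoidHom ≤ N ⊔ C := by
    rintro _ ⟨x, hx, rfl⟩
    exact hgK x hx
  obtain ⟨m, hm, hconj⟩ := hN.exists_conj_le (isPGroup_map_conj hK g) hle'
  have hNC : N ≤ Subgroup.normalizer (C : Set G) := by
    intro n hn
    rw [Subgroup.mem_normalizer_iff]
    intro c
    have key : ∀ a ∈ Subgroup.normalizer (Q : Set G), ∀ x ∈ C, a * x * a⁻¹ ∈ C := fun a ha x hx => by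
      have := conj_mem_centralizer_map (g := a) hx
      rwa [show (MulAut.conj a).toMonoidHom = (MulAut.conj a : G →* G) from rfl,
        Subgroup.mem_normalizer_iff_map_conj_eq.1 ha] at this
    exact ⟨key n hn.2 c, fun hc => by
      simpa [mul_assoc] using key n⁻¹ (inv_mem hn.2) _ hc⟩
  have hm' : m ∈ (↑(N ⊔ C) : Set G) := hm
  rw [Subgroup.coe_mul_of_left_le_normalizer_right N C hNC] at hm'
  obtain ⟨n, hn, c, hc, rfl⟩ := hm'
  refine ⟨c, hc, fun x hx => ?_⟩
  have h1 : n * c * (g * x * g⁻¹) * (n * c)⁻¹ ∈ N := hconj _ (conj_mem_map_conj hx)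
  have h2 := N.mul_mem (N.mul_mem (N.inv_mem hn) h1) hn
  simpa [mul_assoc] using h2

theorem group_isReceptive_of_sylow (S : Sylow p G) (hQ : Q ≤ (S : Subgroup G))
    (h : IsSylowIn p (normalizerIn (S : Subgroup G) Q) (Subgroup.normalizer (Q : Set G))) :
    (groupFusionSystem (S : Subgroup G)).IsReceptive Q := by
  refine ⟨hQ, fun P φ hφ hr => ?_⟩
  obtain ⟨-, -, g, hg⟩ := hφ
  obtain ⟨c, hc, hcS⟩ := exists_centralizer_conj_le (g := g) S h (K := extender (S : Subgroup G) P φ)
    (S.2.to_le ((extender_le_normalizerIn φ).trans (normalizerIn_le _ _))) fun x hx => by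
      obtain ⟨-, hxP, k, hk, heq⟩ := mem_extender_iff.1 hx
      have hkx : ∀ q ∈ Q, g * x * g⁻¹ * q * (g * x * g⁻¹)⁻¹ = k * q * k⁻¹ := by
        intro q hq
        obtain ⟨y, rfl⟩ : q ∈ φ.range := hr ▸ hq
        have := heq y (conj_mem_of_mem_normalizer hxP y.2)
        rw [hg] at this
        rw [hg] at this ⊢
        rw [← this]
        simp [mul_assoc]
      have hgx : g * x * g⁻¹ ∈ Subgroup.normalizer (Q : Set G) := by
        have hmap : P.map (MulAut.conj g).toMonoidHom = Q := by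
          rw [← hr]
          ext z
          constructor
          · rintro ⟨y, hy, rfl⟩
            exact ⟨⟨y, hy⟩, hg _⟩
          · rintro ⟨y, rfl⟩
            exact ⟨y, y.2, (hg y).symm⟩
        exact hmap ▸ conj_mem_normalizer_map hxP
      have hkN : k ∈ Subgroup.normalizer (Q : Set G) := by
        refine mem_normalizer_of_forall (α := conjAut Q _ hgx) fun q => ?_
        exact hkx q q.2
      have hcen : k⁻¹ * (g * x * g⁻¹) ∈ Subgroup.centralizer (Q : Set G) := by
        rw [Subgroup.mem_centralizer_iff]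
        intro q hq
        have h1 := hkx q hq
        rw [mul_inv_eq_iff_eq_mul] at h1
        calc q * (k⁻¹ * (g * x * g⁻¹)) = k⁻¹ * (k * q * k⁻¹ * (g * x * g⁻¹)) := by simp [mul_assoc]
          _ = k⁻¹ * (g * x * g⁻¹ * q) := by rw [h1]
          _ = k⁻¹ * (g * x * g⁻¹) * q := (mul_assoc _ _ _).symm
      have := Subgroup.mul_mem_sup (S := normalizerIn (S : Subgroup G) Q)
        (T := Subgroup.centralizer (Q : Set G)) ⟨hk, hkN⟩ hcen
      simpa [mul_assoc] using this
  refine ⟨conjHom _ (c * g),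
    ⟨(extender_le_normalizerIn φ).trans (normalizerIn_le _ _), fun x => (hcS x x.2).1,
      c * g, fun _ => rfl⟩, fun x hP hN => ?_⟩
  rw [conjHom_apply, hg]
  have hq : g * x * g⁻¹ ∈ Q := hr ▸ ⟨⟨x, hP⟩, hg _⟩
  have := Subgroup.mem_centralizer_iff.1 hc _ hq
  calc c * g * x * (c * g)⁻¹ = c * (g * x * g⁻¹) * c⁻¹ := by simp [mul_assoc]
    _ = g * x * g⁻¹ := by rw [← this, mul_inv_cancel_right]

theorem group_isFullyNormalized_iff (S : Sylow p G) (hP : P ≤ (S : Subgroup G)) :
    (groupFusionSystem (S : Subgroup G)).IsFullyNormalized P ↔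
      IsSylowIn p (normalizerIn (S : Subgroup G) P) (Subgroup.normalizer (P : Set G)) := by
  constructor
  · intro hn
    obtain ⟨g, hg, hsyl⟩ := exists_conj_isSylowIn_normalizer S hP
    have hconj := hn.2 _ (group_isConj_iff.2 ⟨hP, hg, g, rfl⟩)
    refine isSylowIn_of_card_le (S.2.to_le (normalizerIn_le _ _)) inf_le_right fun U hU hUM => ?_
    refine le_trans ?_ ((hsyl.card_le inf_le_right (isPGroup_map_conj hU g) ?_).trans hconj)
    · exact (card_map_conj U g).ge
    · rintro _ ⟨x, hx, rfl⟩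
      exact conj_mem_normalizer_map (hUM hx)
  · intro h
    refine ⟨hP, fun Q hQ => ?_⟩
    obtain ⟨-, -, g, rfl⟩ := group_isConj_iff.1 hQ
    refine le_trans (card_map_conj _ g⁻¹).ge
      (h.card_le inf_le_right (isPGroup_map_conj (S.2.to_le (normalizerIn_le _ _)) g⁻¹) ?_)
    rintro _ ⟨x, hx, rfl⟩
    have := conj_mem_normalizer_map (g := g⁻¹) hx.2
    rwa [map_conj_map_conj_inv] at this

theorem group_isFullyCentralized_iff (S : Sylow p G) (hP : P ≤ (S : Subgroup G)) :
    (groupFusionSystem (S : Subgroup G)).IsFullyCentralized P ↔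
      IsSylowIn p (centralizerIn (S : Subgroup G) P) (Subgroup.centralizer (P : Set G)) := by
  constructor
  · intro hn
    obtain ⟨g, hg, hsyl⟩ := exists_conj_isSylowIn_normalizer S hP
    have hconj := hn.2 _ (group_isConj_iff.2 ⟨hP, hg, g, rfl⟩)
    refine isSylowIn_of_card_le (S.2.to_le (centralizerIn_le _ _)) inf_le_right fun U hU hUM => ?_
    refine le_trans ?_ (((isSylowIn_centralizer_of_normalizer S hsyl).card_le inf_le_right
      (isPGroup_map_conj hU g) ?_).trans hconj)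
    · exact (card_map_conj U g).ge
    · rintro _ ⟨x, hx, rfl⟩
      exact conj_mem_centralizer_map (hUM hx)
  · intro h
    refine ⟨hP, fun Q hQ => ?_⟩
    obtain ⟨-, -, g, rfl⟩ := group_isConj_iff.1 hQ
    refine le_trans (card_map_conj _ g⁻¹).ge
      (h.card_le inf_le_right (isPGroup_map_conj (S.2.to_le (centralizerIn_le _ _)) g⁻¹) ?_)
    rintro _ ⟨x, hx, rfl⟩
    have := conj_mem_centralizer_map (g := g⁻¹) hx.2
    rwa [map_conj_map_conj_inv] at this

theorem groupFusionSystem_isSaturated (S : Sylow p G) :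
    (groupFusionSystem (S : Subgroup G)).IsSaturated p := by
  intro P hP
  obtain ⟨g, hg, hsyl⟩ := exists_conj_isSylowIn_normalizer S hP
  exact ⟨_, group_isConj_iff.2 ⟨hP, hg, g, rfl⟩, group_isFullyAutomized_of_sylow S hg hsyl,
    group_isReceptive_of_sylow S hg hsyl⟩

end CfsgLib.Fusion
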