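import Mathlib.GroupTheory.Sylow
import Mathlib.GroupTheory.Nilpotent
import Mathlib.GroupTheory.NoncommCoprod
import Mathlib.GroupTheory.Subgroup.Centralizer
import Mathlib.GroupTheory.Commutator.Basic
import Mathlib.GroupTheory.Coset.Card
import Mathlib.Tactic.Group

/-!
# Abelian subgroups of largest order inside finite subgroups, and quadratic replacement

`dA R`, `JA R`: the largest order of an abelian subgroup of `R` and the join of those of that order
(the ambient group may be infinite).  `exists_quadratic_max`: if an abelian subgroup of largest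
order of a finite `p`-group normalizes an abelian subgroup `D`, then either it or a replacement acts
quadratically on `D` (Timmesfeld).
-/

set_option autoImplicit false

open scoped commutatorElement

namespace CfsgLib.AbLevel

variable {Ω : Type*} [Group Ω] {P R Q A D : Subgroup Ω}

/-- The orders of the abelian subgroups of `R`. -/
def abCards (R : Subgroup Ω) : Set ℕ :=
  {n | ∃ A : Subgroup Ω, A ≤ R ∧ IsMulCommutative A ∧ Nat.card A = n}

/-- The largest order of an abelian subgroup. -/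
noncomputable def dA (R : Subgroup Ω) : ℕ := sSup (abCards R)

/-- An abelian subgroup of largest order. -/
structure IsMax (R A : Subgroup Ω) : Prop where
  le : A ≤ R
  comm : IsMulCommutative A
  card_eq : Nat.card A = dA R

/-- The join of the abelian subgroups of largest order. -/
noncomputable def JA (R : Subgroup Ω) : Subgroup Ω := sSup {A | IsMax R A}

theorem finite_le [Finite R] (h : A ≤ R) : Finite A :=
  Finite.of_injective _ (Subgroup.inclusion_injective h)

theorem bddAbove_abCards [Finite R] : BddAbove (abCards R) := ⟨Nat.card R, by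
  rintro _ ⟨A, hA, -, rfl⟩
  exact Nat.card_le_card_of_injective _ (Subgroup.inclusion_injective hA)⟩

theorem abCards_nonempty (R : Subgroup Ω) : (abCards R).Nonempty :=
  ⟨_, ⊥, bot_le, IsMulCommutative.of_setLike_mul_comm fun a ha b hb => by simp_all, rfl⟩

theorem exists_isMax [Finite R] : ∃ A, IsMax R A := by
  obtain ⟨A, h1, h2, h3⟩ := Nat.sSup_mem (abCards_nonempty R) bddAbove_abCards
  exact ⟨A, h1, h2, h3⟩

theorem card_le_dA [Finite R] (hA : A ≤ R) (hc : IsMulCommutative A) : Nat.card A ≤ dA R :=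
  le_csSup bddAbove_abCards ⟨A, hA, hc, rfl⟩

theorem IsMax.max [Finite R] (h : IsMax R A) {B : Subgroup Ω} (hB : B ≤ R)
    (hc : IsMulCommutative B) : Nat.card B ≤ Nat.card A := h.card_eq ▸ card_le_dA hB hc

theorem isMax_of_max [Finite R] (hA : A ≤ R) (hc : IsMulCommutative A)
    (h : ∀ B : Subgroup Ω, B ≤ R → IsMulCommutative B → Nat.card B ≤ Nat.card A) : IsMax R A := by
  obtain ⟨B, hB⟩ := exists_isMax (R := R)
  exact ⟨hA, hc, le_antisymm (card_le_dA hA hc) (hB.card_eq ▸ h B hB.le hB.comm)⟩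

theorem JA_le (R : Subgroup Ω) : JA R ≤ R := sSup_le fun _ h => h.le

theorem IsMax.le_JA (h : IsMax R A) : A ≤ JA R := le_sSup h

theorem comm_sup {A B : Subgroup Ω} (hA : IsMulCommutative A) (hB : IsMulCommutative B)
    (h : ∀ a ∈ A, ∀ b ∈ B, a * b = b * a) : IsMulCommutative ↥(A ⊔ B) := by
  rw [Subgroup.sup_eq_closure]
  refine Subgroup.isMulCommutative_closure ?_
  rintro x (hx | hx) y (hy | hy)
  · exact congrArg Subtype.val (hA.is_comm.comm (⟨x, hx⟩ : A) ⟨y, hy⟩)
  · exact h x hx y hy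
  · exact (h y hy x hx).symm
  · exact congrArg Subtype.val (hB.is_comm.comm (⟨x, hx⟩ : B) ⟨y, hy⟩)

theorem comm_mono {A B : Subgroup Ω} (hB : IsMulCommutative B) (h : A ≤ B) : IsMulCommutative A :=
  IsMulCommutative.of_setLike_mul_comm fun a ha b hb =>
    congrArg Subtype.val (hB.is_comm.comm (⟨a, h ha⟩ : B) ⟨b, h hb⟩)

theorem IsMax.mem_of_commute [Finite R] (h : IsMax R A) {x : Ω} (hx : x ∈ R)
    (hc : ∀ a ∈ A, a * x = x * a) : x ∈ A := by
  have hc' : IsMulCommutative ↥(A ⊔ Subgroup.zpowers x) :=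
    comm_sup h.comm inferInstance fun a ha b hb => by
      obtain ⟨k, rfl⟩ := hb
      exact (Commute.zpow_right (hc a ha) k :)
  have hle : A ⊔ Subgroup.zpowers x ≤ R := sup_le h.le (Subgroup.zpowers_le.2 hx)
  haveI : Finite ↥(A ⊔ Subgroup.zpowers x) := finite_le hle
  rw [Subgroup.eq_of_le_of_card_ge le_sup_left (h.max hle hc')]
  exact Subgroup.mem_sup_right (Subgroup.mem_zpowers x)

theorem dA_mono [Finite Q] (h : R ≤ Q) : dA R ≤ dA Q := by
  haveI := finite_le h
  obtain ⟨A, hA⟩ := exists_isMax (R := R)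
  exact hA.card_eq ▸ card_le_dA (hA.le.trans h) hA.comm

theorem JA_mono_of_dA_eq (h : R ≤ Q) (hd : dA R = dA Q) : JA R ≤ JA Q :=
  sSup_le fun _ hA => IsMax.le_JA ⟨hA.le.trans h, hA.comm, hA.card_eq.trans hd⟩

/-- If the abelian subgroups of largest order of `Q` all lie in `R ≤ Q`, then `JA` agrees. -/
theorem eq_of_JA_le [Finite Q] (h : R ≤ Q) (hJ : JA Q ≤ R) : dA R = dA Q ∧ JA R = JA Q := by
  obtain ⟨A, hA⟩ := exists_isMax (R := Q)
  haveI := finite_le h
  have hd : dA R = dA Q := le_antisymm (dA_mono h)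
    (hA.card_eq ▸ card_le_dA (hA.le_JA.trans hJ) hA.comm)
  exact ⟨hd, le_antisymm (JA_mono_of_dA_eq h hd) (sSup_le fun B hB =>
    IsMax.le_JA ⟨hB.le_JA.trans hJ, hB.comm, hB.card_eq.trans hd.symm⟩)⟩

theorem centralizer_JA_le [Finite Q] {x : Ω} (hx : x ∈ Q)
    (hc : ∀ a ∈ JA Q, a * x = x * a) : x ∈ JA Q := by
  obtain ⟨A, hA⟩ := exists_isMax (R := Q)
  exact hA.le_JA (hA.mem_of_commute hx fun a ha => hc a (hA.le_JA ha))

theorem JA_idem [Finite Q] : JA (JA Q) = JA Q ∧ dA (JA Q) = dA Q :=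
  let h := eq_of_JA_le (JA_le Q) le_rfl
  ⟨h.2, h.1⟩

/-- Images under an injective homomorphism. -/
theorem map_dA_JA {ψ : Q →* Ω} (hψ : Function.Injective ψ) (hR : R ≤ Q) [Finite Q] :
    dA ((R.subgroupOf Q).map ψ) = dA R ∧
      JA ((R.subgroupOf Q).map ψ) = ((JA R).subgroupOf Q).map ψ := by
  haveI : Finite R := finite_le hR
  haveI : Finite ↥((R.subgroupOf Q).map ψ) :=
    Finite.of_surjective (fun x : R.subgroupOf Q => (⟨ψ x, ⟨x, x.2, rfl⟩⟩ : (R.subgroupOf Q).map ψ))
      fun ⟨_, x, hx, hxy⟩ => ⟨⟨x, hx⟩, Subtype.ext hxy⟩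
  have hcard : ∀ {B : Subgroup Ω}, B ≤ Q →
      Nat.card ↥((B.subgroupOf Q).map ψ) = Nat.card B := fun hB => by
    rw [Subgroup.card_map_of_injective hψ, Nat.card_congr (Subgroup.subgroupOfEquivOfLe hB).toEquiv]
  have hcomm : ∀ {B : Subgroup Ω}, IsMulCommutative B →
      IsMulCommutative ↥((B.subgroupOf Q).map ψ) := fun {B} hB => by
    refine IsMulCommutative.of_setLike_mul_comm ?_
    rintro _ ⟨a, ha, rfl⟩ _ ⟨b, hb, rfl⟩
    rw [← map_mul, ← map_mul]
    exact congrArg ψ (Subtype.ext (congrArg Subtype.val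
      (hB.is_comm.comm (⟨a, ha⟩ : B) ⟨b, hb⟩) :))
  have hback : ∀ {C : Subgroup Ω}, C ≤ (R.subgroupOf Q).map ψ → ∃ B, B ≤ R ∧
      (B.subgroupOf Q).map ψ = C ∧ (IsMulCommutative C → IsMulCommutative B) := by
    intro C hC
    refine ⟨(C.comap ψ).map Q.subtype, ?_, ?_, fun hc => ?_⟩
    · rintro _ ⟨x, hx, rfl⟩
      obtain ⟨y, hy, hyx⟩ := hC hx
      rwa [← hψ hyx]
    · rw [Subgroup.subgroupOf, Subgroup.comap_map_eq_self_of_injective Q.subtype_injective,
        Subgroup.map_comap_eq, inf_eq_right]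
      exact fun c hc' => let ⟨y, _, hy⟩ := hC hc'; ⟨y, hy⟩
    · refine IsMulCommutative.of_setLike_mul_comm ?_
      rintro _ ⟨a, ha, rfl⟩ _ ⟨b, hb, rfl⟩
      rw [← map_mul, ← map_mul]
      congr 1
      apply hψ
      rw [map_mul, map_mul]
      exact congrArg Subtype.val (hc.is_comm.comm (⟨ψ a, ha⟩ : C) ⟨ψ b, hb⟩)
  have hd : dA ((R.subgroupOf Q).map ψ) = dA R := by
    refine le_antisymm ?_ ?_
    · obtain ⟨C, hC⟩ := exists_isMax (R := (R.subgroupOf Q).map ψ)
      obtain ⟨B, hBR, rfl, hBc⟩ := hback hC.le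
      rw [← hC.card_eq, hcard (hBR.trans hR)]
      exact card_le_dA hBR (hBc hC.comm)
    · obtain ⟨A, hA⟩ := exists_isMax (R := R)
      rw [← hA.card_eq, ← hcard (hA.le.trans hR)]
      exact card_le_dA (Subgroup.map_mono fun x hx => hA.le hx) (hcomm hA.comm)
  refine ⟨hd, le_antisymm (sSup_le fun C hC => ?_) ?_⟩
  · obtain ⟨B, hBR, rfl, hBc⟩ := hback hC.le
    refine Subgroup.map_mono fun x hx => ?_
    have hBmax : IsMax R B := ⟨hBR, hBc hC.comm, by
      rw [← hcard (hBR.trans hR), hC.card_eq, hd]⟩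
    exact hBmax.le_JA hx
  · have hJQ : JA R ≤ Q := (JA_le R).trans hR
    have key : JA R ≤ ((JA ((R.subgroupOf Q).map ψ)).comap ψ).map Q.subtype :=
      sSup_le fun A hA a ha => by
        have hmax : IsMax ((R.subgroupOf Q).map ψ) ((A.subgroupOf Q).map ψ) :=
          ⟨Subgroup.map_mono (fun x hx => hA.le hx), hcomm hA.comm, by
            rw [hcard (hA.le.trans hR), hA.card_eq, hd]⟩
        exact ⟨⟨a, hR (hA.le ha)⟩, hmax.le_JA ⟨⟨a, hR (hA.le ha)⟩, ha, rfl⟩, rfl⟩
    rintro _ ⟨x, hx, rfl⟩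
    obtain ⟨y, hy, hyx⟩ := key hx
    rwa [← Subtype.ext hyx]

/-! ### Quadratic replacement -/

/-- The product hom of two commuting subgroups. -/
def prodHom {B C : Subgroup Ω} (hcomm : ∀ b ∈ B, ∀ c ∈ C, b * c = c * b) : B × C →* Ω :=
  MonoidHom.noncommCoprod B.subtype C.subtype fun b c => hcomm b b.2 c c.2

theorem prodHom_range {B C : Subgroup Ω} (hcomm : ∀ b ∈ B, ∀ c ∈ C, b * c = c * b) :
    (prodHom hcomm).range = B ⊔ C := by
  exact (MonoidHom.noncommCoprod_range _ _ _).trans (by rw [Subgroup.range_subtype, Subgroup.range_subtype])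

theorem exists_mul_of_mem_sup {B C : Subgroup Ω} (hcomm : ∀ b ∈ B, ∀ c ∈ C, b * c = c * b) {x : Ω}
    (hx : x ∈ B ⊔ C) : ∃ b ∈ B, ∃ c ∈ C, b * c = x := by
  rw [← prodHom_range hcomm] at hx
  obtain ⟨⟨b, c⟩, h⟩ := hx
  exact ⟨b, b.2, c, c.2, h⟩

theorem card_mul_card_le {B C : Subgroup Ω} (hcomm : ∀ b ∈ B, ∀ c ∈ C, b * c = c * b) [Finite B]
    [Finite C] :
    Nat.card B * Nat.card C ≤ Nat.card ↥(B ⊓ C) * Nat.card ↥(B ⊔ C) := by
  let f : B × C →* Ω := prodHom hcomm
  have hrange : f.range = B ⊔ C := prodHom_range hcomm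
  have hker : Nat.card f.ker ≤ Nat.card ↥(B ⊓ C) := by
    haveI : Finite ↥(B ⊓ C) := finite_le (R := B) inf_le_left
    refine Nat.card_le_card_of_injective (fun x => (⟨((x : B × C).1 : Ω), (x : B × C).1.2, ?_⟩ :
      ↥(B ⊓ C))) ?_
    · have h : ((x : B × C).1 : Ω) * ((x : B × C).2 : Ω) = 1 := x.2
      rw [eq_inv_of_mul_eq_one_left h]
      exact Subgroup.inv_mem C (x : B × C).2.2
    · rintro ⟨⟨b, c⟩, h⟩ ⟨⟨b', c'⟩, h'⟩ he
      simp only [Subtype.mk.injEq] at he
      have hb : b = b' := Subtype.ext (congrArg Subtype.val he :)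
      subst hb
      have hc : (b : Ω) * (c : Ω) = (b : Ω) * (c' : Ω) :=
        (h : (b : Ω) * (c : Ω) = 1).trans (h' : (b : Ω) * (c' : Ω) = 1).symm
      exact Subtype.ext (Prod.ext rfl (Subtype.ext (mul_left_cancel hc)))
  rw [← Nat.card_prod, Subgroup.card_eq_card_quotient_mul_card_subgroup f.ker,
    Nat.card_congr (QuotientGroup.quotientKerEquivRange f).toEquiv, hrange, mul_comm]
  exact Nat.mul_le_mul_right _ hker

theorem eq_bot_of_le_commutator {p : ℕ} [Fact p.Prime] [Finite P] (hP : IsPGroup p P)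
    {L : Subgroup Ω} (hL : L ≤ P) (h : L ≤ ⁅P, L⁆) : L = ⊥ := by
  haveI : Group.IsNilpotent P := hP.isNilpotent
  have hn : ∀ n, L ≤ ((⊤ : Subgroup P).lowerCentralSeries n).map P.subtype := by
    intro n
    induction n with
    | zero => rwa [Subgroup.lowerCentralSeries_zero, ← MonoidHom.range_eq_map, Subgroup.range_subtype]
    | succ n ih =>
      refine h.trans ?_
      rw [Subgroup.lowerCentralSeries_succ, Subgroup.map_commutator, Subgroup.commutator_comm]
      refine Subgroup.commutator_mono ih ?_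
      rw [← MonoidHom.range_eq_map, Subgroup.range_subtype]
  obtain ⟨n, hbot⟩ := Subgroup.nilpotent_iff_lowerCentralSeries.1 (inferInstance : Group.IsNilpotent P)
  exact le_bot_iff.1 ((hn n).trans (by rw [hbot, Subgroup.map_bot]))

/-- **Quadratic replacement.** -/
theorem exists_quadratic_max {p : ℕ} [Fact p.Prime] [Finite P] (hP : IsPGroup p P)
    (hA : IsMax P A) (hDP : D ≤ P) (hD : IsMulCommutative D)
    (hAD : A ≤ Subgroup.normalizer (D : Set Ω)) :
    ∃ A₂, IsMax P A₂ ∧ A₂ ≤ Subgroup.normalizer (D : Set Ω) ∧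
      (∀ a ∈ A₂, ∀ d ∈ D, a * (a * d * a⁻¹ * d⁻¹) = a * d * a⁻¹ * d⁻¹ * a) ∧
      ∀ R : Subgroup Ω, (∀ r ∈ R, ∀ d ∈ D, r * d = d * r) → ¬ A ≤ R → ¬ A₂ ≤ R := by
  classical
  by_cases hAc : ∀ a ∈ A, ∀ d ∈ D, a * d = d * a
  · refine ⟨A, hA, hAD, fun a ha d hd => ?_, fun R _ h => h⟩
    rw [hAc a ha d hd]
    simp
  haveI := finite_le (A := A) hA.le
  haveI := finite_le (A := D) hDP
  have cD : ∀ {a b : Ω}, a ∈ D → b ∈ D → a * b = b * a := fun {a b} ha hb =>
    congrArg Subtype.val (hD.is_comm.comm (⟨a, ha⟩ : D) ⟨b, hb⟩)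
  have cA : ∀ {a b : Ω}, a ∈ A → b ∈ A → a * b = b * a := fun {a b} ha hb =>
    congrArg Subtype.val (hA.comm.is_comm.comm (⟨a, ha⟩ : A) ⟨b, hb⟩)
  let cen : Subgroup Ω → Subgroup Ω := fun B => D ⊓ Subgroup.centralizer (B : Set Ω)
  let meas : Subgroup Ω → ℕ := fun B => Nat.card B * Nat.card (cen B)
  let C₀ : Subgroup Ω := A ⊓ Subgroup.centralizer (D : Set Ω)
  let k := Nat.card ↥(A ⊓ D)
  have hADC₀ : A ⊓ D ≤ C₀ := le_inf inf_le_left fun x hx =>
    Subgroup.mem_centralizer_iff.2 fun d hd => cD hd hx.2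
  have hcenA : cen A = A ⊓ D := by
    refine le_antisymm (fun x hx => ⟨hA.mem_of_commute (hDP hx.1) fun a ha => ?_, hx.1⟩) fun x hx =>
      ⟨hx.2, Subgroup.mem_centralizer_iff.2 fun a ha => cA ha hx.1⟩
    exact Subgroup.mem_centralizer_iff.1 hx.2 a ha
  let Cand : Set (Subgroup Ω) := {B | C₀ ≤ B ∧ B ≤ A ∧ (¬ ∀ b ∈ B, ∀ d ∈ D, b * d = d * b) ∧
    Nat.card A * k ≤ meas B}
  have hAmem : A ∈ Cand := ⟨inf_le_left, le_rfl, hAc, le_of_eq (by
    show Nat.card A * k = Nat.card A * Nat.card (cen A)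
    rw [hcenA])⟩
  obtain ⟨B, ⟨hC₀B, hBA, hBc, hBm⟩, hmin⟩ : ∃ B, B ∈ Cand ∧ ∀ B' ∈ Cand, B' ≤ B → B' = B := by
    obtain ⟨m, ⟨B, hB, hBcard⟩, hm⟩ :=
      (wellFounded_lt (α := ℕ)).has_min {n | ∃ B ∈ Cand, Nat.card B = n} ⟨_, A, hAmem, rfl⟩
    refine ⟨B, hB, fun B' hB' hle => ?_⟩
    haveI := finite_le (A := B) (hB.2.1)
    exact Subgroup.eq_of_le_of_card_ge hle (hBcard ▸ not_lt.1 (hm _ ⟨B', hB', rfl⟩))
  haveI := finite_le (A := B) hBA
  have hconj : ∀ {b d : Ω}, b ∈ B → d ∈ D → b * d * b⁻¹ ∈ D := fun hb hd =>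
    ((Subgroup.mem_normalizer_iff.1 (hAD (hBA hb))) _).1 hd
  let δ : Ω → Ω → Ω := fun b x => b * x * b⁻¹ * x⁻¹
  have hδD : ∀ {b x : Ω}, b ∈ B → x ∈ D → δ b x ∈ D := fun hb hx =>
    mul_mem (hconj hb hx) (inv_mem hx)
  have hB_inf : B ⊓ cen B = A ⊓ D := by
    refine le_antisymm (fun x hx => ⟨hBA hx.1, hx.2.1⟩) fun x hx =>
      ⟨hC₀B (hADC₀ hx), hx.2, Subgroup.mem_centralizer_iff.2 fun a ha => cA (hBA ha) hx.1⟩
  -- `b` centralizes every `[x, c]`
  have hquad : ∀ x ∈ D, ∀ b ∈ B, ∀ c ∈ B, b * δ c x = δ c x * b := by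
    intro x hx
    let M : Subgroup Ω := Subgroup.closure ((fun b => δ b x) '' (B : Set Ω))
    have hMD : M ≤ D := (Subgroup.closure_le _).2 (by rintro _ ⟨b, hb, rfl⟩; exact hδD hb hx)
    let U : Subgroup Ω := M ⊔ cen B
    have hUD : U ≤ D := sup_le hMD inf_le_left
    haveI := finite_le (A := U) hUD
    let B' : Subgroup Ω := B ⊓ Subgroup.centralizer (M : Set Ω)
    have hB'B : B' ≤ B := inf_le_left
    haveI := finite_le (A := B') hB'B
    suffices hBM : B' = B by
      intro b hb c hc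
      have hb' : b ∈ B' := hBM.symm ▸ hb
      exact (Subgroup.mem_centralizer_iff.1 hb'.2 _
        (Subgroup.subset_closure ⟨c, hc, rfl⟩)).symm
    have hC₀B' : C₀ ≤ B' := le_inf hC₀B
      (inf_le_right.trans (Subgroup.centralizer_le hMD))
    -- the injection `B / B' → U / C_D(B)`
    have hinj : Nat.card B * Nat.card (cen B) ≤ Nat.card B' * Nat.card U := by
      let g : B → U ⧸ (cen B).subgroupOf U := fun b => QuotientGroup.mk
        ⟨δ (b : Ω) x, Subgroup.mem_sup_left (Subgroup.subset_closure ⟨b, b.2, rfl⟩)⟩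
      have hg : ∀ a b : B, g a = g b → (a : Ω)⁻¹ * b ∈ B' := by
        intro a b h
        refine ⟨mul_mem (Subgroup.inv_mem B a.2) b.2, Subgroup.mem_centralizer_iff.2 ?_⟩
        suffices M ≤ Subgroup.centralizer {(a : Ω)⁻¹ * b} by
          intro m hm
          exact (Subgroup.mem_centralizer_singleton_iff.1 (this hm) :)
        refine (Subgroup.closure_le _).2 ?_
        rintro _ ⟨c, hc, rfl⟩
        rw [SetLike.mem_coe, Subgroup.mem_centralizer_singleton_iff]
        have hu : (δ (a : Ω) x)⁻¹ * δ (b : Ω) x ∈ cen B := by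
          simp only [g, QuotientGroup.eq, Subgroup.mem_subgroupOf] at h
          exact h
        have hcu : c * ((δ (a : Ω) x)⁻¹ * δ (b : Ω) x) = (δ (a : Ω) x)⁻¹ * δ (b : Ω) x * c :=
          Subgroup.mem_centralizer_iff.1 hu.2 c hc
        -- both move `δ c x` in the same way
        have key : ∀ e : Ω, e ∈ B →
            e * δ c x * e⁻¹ * (δ c x)⁻¹ = c * δ e x * c⁻¹ * (δ e x)⁻¹ := by
          intro e he
          have hec : e * c = c * e := cA (hBA he) (hBA hc)
          have h1 : e * δ c x * e⁻¹ = δ (e * c) x * (δ e x)⁻¹ := by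
            simp only [δ]
            group
          have h2 : c * δ e x * c⁻¹ = δ (c * e) x * (δ c x)⁻¹ := by
            simp only [δ]
            group
          rw [h1, h2, hec, mul_assoc (δ (c * e) x), mul_assoc (δ (c * e) x),
            cD (inv_mem (hδD he hx)) (inv_mem (hδD hc hx))]
        have hka := key a a.2
        have hkb := key b b.2
        have hab : (b : Ω) * δ c x * (b : Ω)⁻¹ = (a : Ω) * δ c x * (a : Ω)⁻¹ := by
          have h1 : c * δ (b : Ω) x * c⁻¹ * (δ (b : Ω) x)⁻¹ =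
              c * δ (a : Ω) x * c⁻¹ * (δ (a : Ω) x)⁻¹ := by
            set u := (δ (a : Ω) x)⁻¹ * δ (b : Ω) x with hudef
            have hbu : δ (b : Ω) x = δ (a : Ω) x * u := by rw [hudef]; group
            have hcu' : c * u * c⁻¹ = u := by rw [hcu]; group
            calc c * δ (b : Ω) x * c⁻¹ * (δ (b : Ω) x)⁻¹
                = c * δ (a : Ω) x * c⁻¹ * (c * u * c⁻¹) * u⁻¹ * (δ (a : Ω) x)⁻¹ := by
                  rw [hbu]; group
              _ = _ := by rw [hcu']; group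
          rw [← hka, ← hkb] at h1
          exact mul_right_cancel h1
        calc (δ c x) * ((a : Ω)⁻¹ * b) = (a : Ω)⁻¹ * ((a : Ω) * δ c x * (a : Ω)⁻¹) * b := by group
          _ = (a : Ω)⁻¹ * ((b : Ω) * δ c x * (b : Ω)⁻¹) * b := by rw [hab]
          _ = (a : Ω)⁻¹ * b * δ c x := by group
      let g' : B ⧸ B'.subgroupOf B → U ⧸ (cen B).subgroupOf U := fun q => g q.out
      have hg'inj : Function.Injective g' := fun q q' h => by
        rw [← QuotientGroup.out_eq' q, ← QuotientGroup.out_eq' q', QuotientGroup.eq,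
          Subgroup.mem_subgroupOf]
        exact hg _ _ h
      have hcB : cen B ≤ U := le_sup_right
      rw [Subgroup.card_eq_card_quotient_mul_card_subgroup (B'.subgroupOf B),
        Subgroup.card_eq_card_quotient_mul_card_subgroup (α := U) ((cen B).subgroupOf U),
        Nat.card_congr (Subgroup.subgroupOfEquivOfLe hB'B).toEquiv,
        Nat.card_congr (Subgroup.subgroupOfEquivOfLe hcB).toEquiv]
      calc _ ≤ Nat.card (U ⧸ (cen B).subgroupOf U) * Nat.card B' * Nat.card (cen B) :=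
            Nat.mul_le_mul_right _ (Nat.mul_le_mul_right _ (Nat.card_le_card_of_injective g' hg'inj))
        _ = _ := by ring
    have hUcen : U ≤ cen B' := sup_le
      (le_inf hMD fun m hm => Subgroup.mem_centralizer_iff.2 fun b hb =>
        (Subgroup.mem_centralizer_iff.1 hb.2 m hm).symm)
      (inf_le_inf_left D (Subgroup.centralizer_le hB'B))
    haveI := finite_le (R := D) (A := cen B') inf_le_left
    by_cases hB'c : ∀ b ∈ B', ∀ d ∈ D, b * d = d * b
    · exfalso
      have hB'D : Nat.card B' * Nat.card D ≤ Nat.card A * k := by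
        have hinf : B' ⊓ D = A ⊓ D := le_antisymm (inf_le_inf_right D (hB'B.trans hBA))
          (le_inf (hADC₀.trans hC₀B') inf_le_right)
        refine (card_mul_card_le hB'c).trans ?_
        rw [hinf, mul_comm]
        exact Nat.mul_le_mul_right _ (hA.max (sup_le ((hB'B.trans hBA).trans hA.le) hDP)
          (comm_sup (comm_mono hA.comm (hB'B.trans hBA)) hD hB'c))
      have hUeq : U = D := by
        refine Subgroup.eq_of_le_of_card_ge hUD (Nat.le_of_mul_le_mul_left ?_ (Nat.card_pos (α := B')))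
        exact hB'D.trans (hBm.trans hinj)
      apply hBc
      have hBP : B ≤ P := hBA.trans hA.le
      let S : Set Ω := {y | ∃ b ∈ B, ∃ d ∈ D, δ b d = y}
      let L : Subgroup Ω := Subgroup.closure S
      have hMS : M ≤ L := Subgroup.closure_mono (by
        rintro _ ⟨b, hb, rfl⟩; exact ⟨b, hb, x, hx, rfl⟩)
      have hL : L = ⊥ := by
        refine eq_bot_of_le_commutator hP ?_ ?_
        · refine (Subgroup.closure_le _).2 ?_
          rintro _ ⟨b, hb, d, hd, rfl⟩
          exact hDP (hδD hb hd)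
        · refine (Subgroup.closure_le _).2 ?_
          rintro _ ⟨b, hb, d, hd, rfl⟩
          haveI : IsMulCommutative D := hD
          have hdU : d ∈ U := hUeq.symm ▸ hd
          obtain ⟨m, hm, c, hc, hmc⟩ := exists_mul_of_mem_sup
            (fun y hy z (hz : z ∈ cen B) => cD (hMD hy) hz.1) hdU
          have hbc : b * c = c * b := Subgroup.mem_centralizer_iff.1 hc.2 b hb
          have he : δ b d = ⁅b, m⁆ := by
            calc δ b d = b * m * (c * b⁻¹) * c⁻¹ * m⁻¹ := by rw [← hmc]; simp only [δ]; group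
              _ = b * m * (b⁻¹ * (b * c) * b⁻¹) * c⁻¹ * m⁻¹ := by group
              _ = b * m * (b⁻¹ * (c * b) * b⁻¹) * c⁻¹ * m⁻¹ := by rw [hbc]
              _ = ⁅b, m⁆ := by rw [commutatorElement_def]; group
          rw [SetLike.mem_coe, he]
          exact Subgroup.commutator_mem_commutator (hBP hb) (hMS hm)
      intro b hb d hd
      have : δ b d ∈ L := Subgroup.subset_closure ⟨b, hb, d, hd, rfl⟩
      rw [hL, Subgroup.mem_bot] at this
      exact (mul_inv_eq_iff_eq_mul.1 (mul_inv_eq_one.1 this) :)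
    · refine hmin B' ⟨hC₀B', hB'B.trans hBA, hB'c, ?_⟩ hB'B
      refine hBm.trans (hinj.trans (Nat.mul_le_mul_left _ ?_))
      exact Nat.card_le_card_of_injective _ (Subgroup.inclusion_injective hUcen)
  -- the replacement
  have hcomm : ∀ b ∈ B, ∀ c ∈ cen B, b * c = c * b := fun b hb c hc =>
    Subgroup.mem_centralizer_iff.1 hc.2 b hb
  have hA₂c : IsMulCommutative ↥(B ⊔ cen B) :=
    comm_sup (comm_mono hA.comm hBA) (comm_mono hD inf_le_left) hcomm
  have hA₂P : B ⊔ cen B ≤ P := sup_le (hBA.trans hA.le) (inf_le_left.trans hDP)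
  haveI := finite_le (A := cen B) (R := D) inf_le_left
  haveI := finite_le (A := A ⊓ D) (R := D) inf_le_right
  refine ⟨B ⊔ cen B, ⟨hA₂P, hA₂c, le_antisymm (card_le_dA hA₂P hA₂c) ?_⟩,
    sup_le (hBA.trans hAD) (inf_le_left.trans Subgroup.le_normalizer), ?_, ?_⟩
  · have h := hBm.trans (card_mul_card_le hcomm)
    rw [hB_inf] at h
    rw [← hA.card_eq]
    refine Nat.le_of_mul_le_mul_left ?_ (Nat.card_pos (α := ↥(A ⊓ D)))
    rwa [mul_comm]
  · intro a ha d hd
    obtain ⟨b, hb, c, hc, rfl⟩ := exists_mul_of_mem_sup hcomm ha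
    have hcd : c * d * c⁻¹ = d := by rw [cD hc.1 hd]; group
    have he : b * c * d * (b * c)⁻¹ * d⁻¹ = δ b d := by
      calc _ = b * (c * d * c⁻¹) * b⁻¹ * d⁻¹ := by group
        _ = _ := by rw [hcd]
    rw [he, mul_assoc, cD hc.1 (hδD hb hd), ← mul_assoc, hquad d hd b hb b hb, mul_assoc]
  · intro R hR _ hA₂R
    exact hBc fun b hb d hd => hR b (hA₂R (Subgroup.mem_sup_left hb)) d hd

end CfsgLib.AbLevel
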