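import Cfsg.Agent.Lib.Fusion.Centric
import Cfsg.Agent.Lib.Even.StrongEmb

/-!
# Essential subgroups and Alperin's fusion theorem
-/

set_option autoImplicit false

namespace CfsgLib.Fusion

open Cfsg Cfsg.FusionSystem

variable {Ω : Type*} [Group Ω] {S : Subgroup Ω} {F : Cfsg.FusionSystem S}
variable {P Q R : Subgroup Ω} {p : ℕ}

/-- The group generated by the automorphisms extending to strictly larger subgroups of `S`. -/
def extendableAut (F : Cfsg.FusionSystem S) (P : Subgroup Ω) : Subgroup (MulAut P) :=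
  Subgroup.closure {α : MulAut P | ∃ (Q : Subgroup Ω) (hPQ : P < Q) (φ : Q →* Ω),
    φ ∈ F.Hom Q ∧ ∀ x : P, φ (Subgroup.inclusion hPQ.le x) = α x}

theorem mem_autGroup_of_extends {φ : Q →* Ω} (hφ : φ ∈ F.Hom Q) (hPQ : P ≤ Q) {α : MulAut P}
    (h : ∀ x : P, φ (Subgroup.inclusion hPQ x) = α x) : α ∈ F.autGroup P :=
  (mem_autGroup_iff_hom (hPQ.trans (dom_le hφ))).2
    (mem_of_restrict hφ hPQ _ fun x => (h x).symm)

theorem extendableAut_le (F : Cfsg.FusionSystem S) (P : Subgroup Ω) :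
    extendableAut F P ≤ F.autGroup P := by
  refine (Subgroup.closure_le _).2 ?_
  rintro α ⟨R, hR, φ, hφ, h⟩
  exact mem_autGroup_of_extends hφ hR.le h

theorem autInducedBy_le_extendableAut [Finite S] [Fact p.Prime] (hS : IsPGroup p S) (hPS : P < S) :
    autInducedBy S P ≤ extendableAut F P := by
  intro α hα
  obtain ⟨g, -, hgS, rfl⟩ := exists_eq_conjAut hα
  exact Subgroup.subset_closure ⟨normalizerIn S P, lt_normalizerIn hS hPS,
    conjHom _ g, F.conj_mem (normalizerIn_le S P) hgS, fun x => rfl⟩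

/-- An automorphism transporting some conjugation by an element outside `P` to a conjugation extends. -/
theorem mem_extendableAut_of_transport (hP : F.IsReceptive P) {α : MulAut P}
    (hα : α ∈ F.autGroup P) {g : Ω} (hgS : g ∈ S) (hg : g ∈ Subgroup.normalizer (P : Set Ω))
    (hgP : g ∉ P) (h : α * conjAut P g hg * α⁻¹ ∈ autInducedBy S P) :
    α ∈ extendableAut F P := by
  have hαhom := (mem_autGroup_iff_hom hP.1).1 hα
  obtain ⟨ψ, hψ, hext⟩ := hP.2 P _ hαhom (range_subtype_comp (α : P ≃* P))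
  have hle : P ≤ extender S P (P.subtype.comp α.toMonoidHom) :=
    le_extender hP.1 fun x => hP.1 (α x).2
  have hgN : g ∈ extender S P (P.subtype.comp α.toMonoidHom) :=
    (mem_extender_iff_congr (α : P ≃* P) (fun _ => rfl) hgS hg).2 h
  exact Subgroup.subset_closure ⟨_, lt_of_le_of_ne hle fun he => hgP (he.ge hgN), ψ, hψ,
    fun x => hext x x.2 (hle x.2)⟩

theorem exists_conjAut_of_extends [Finite S] [Fact p.Prime] (hS : IsPGroup p S) {φ : Q →* Ω}
    (hφ : φ ∈ F.Hom Q) (hPQ : P < Q) {α : MulAut P}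
    (h : ∀ x : P, φ (Subgroup.inclusion hPQ.le x) = α x) :
    ∃ (g : Ω) (hg : g ∈ Subgroup.normalizer (P : Set Ω)), g ∈ S ∧ g ∉ P ∧
      α * conjAut P g hg * α⁻¹ ∈ autInducedBy S P := by
  have : Finite Q := finite_of_le (dom_le hφ)
  obtain ⟨g, hg, hgP⟩ := SetLike.exists_of_lt (lt_normalizerIn (isPGroup_of_le hS (dom_le hφ)) hPQ)
  refine ⟨g, hg.2, dom_le hφ hg.1, hgP, mem_autInducedBy_iff.2 ⟨φ ⟨g, hg.1⟩, map_mem hφ _, ?_⟩⟩
  exact fun y => congr_conjAut_of_extends (e := (α : P ≃* P)) hPQ.le h hg.1 hg.2 y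

/-! ### Strongly `p`-embedded subgroups -/

theorem ne_bot_of_not_pRankLE {X : Type*} [Group X] {U : Subgroup X} (h : ¬ PRankLE p 0 U) :
    U ≠ ⊥ := by
  rintro rfl
  refine h fun A _ _ => ?_
  rw [pow_zero]
  exact Finite.card_le_one_iff_subsingleton.2 inferInstance

/-- Inside a subgroup containing the normalizers of the nontrivial subgroups of a Sylow subgroup `T`
lies every element conjugating a nontrivial subgroup of `T` into `T`. -/
theorem mem_of_conj_le {X : Type*} [Group X] [Finite X] [Fact p.Prime] (T : Sylow p X)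
    {M : Subgroup X}
    (hM : ∀ U : Subgroup X, U ≤ (T : Subgroup X) → U ≠ ⊥ → Subgroup.normalizer (U : Set X) ≤ M)
    {U : Subgroup X} (hU : U ≤ (T : Subgroup X)) (hne : U ≠ ⊥) {g : X}
    (hg : ∀ u ∈ U, g * u * g⁻¹ ∈ (T : Subgroup X)) : g ∈ M := by
  obtain ⟨n, hn⟩ : ∃ n, Nat.card (T : Subgroup X) ≤ Nat.card U + n := ⟨_, Nat.le_add_left _ _⟩
  induction n using Nat.strong_induction_on generalizing U g with
  | _ n ih =>
    rcases eq_or_lt_of_le hU with rfl | hlt
    · refine hM _ le_rfl hne (Subgroup.mem_normalizer_iff_map_conj_eq.2 ?_)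
      refine Subgroup.eq_of_le_of_card_ge ?_ (Subgroup.card_map_of_injective (MulEquiv.injective _)).ge
      rintro _ ⟨u, hu, rfl⟩
      exact hg u hu
    set U₁ := normalizerIn (T : Subgroup X) U
    have hUU₁ : U < U₁ := lt_normalizerIn T.2 hlt
    set W := U.map (MulAut.conj g).toMonoidHom with hW
    have hWT : W ≤ (T : Subgroup X) := by
      rintro _ ⟨u, hu, rfl⟩
      exact hg u hu
    have hWne : W ≠ ⊥ := fun h =>
      hne ((Subgroup.map_eq_bot_iff_of_injective _ (MulEquiv.injective _)).1 h)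
    set N := Subgroup.normalizer (W : Set X)
    have hNM : N ≤ M := hM W hWT hWne
    have hX₁ : U₁.map (MulAut.conj g).toMonoidHom ≤ N := by
      rintro _ ⟨u, hu, rfl⟩
      exact Subgroup.le_normalizer_map (MulAut.conj g).toMonoidHom ⟨u, hu.2, rfl⟩
    have hp₁ : IsPGroup p (U₁.map (MulAut.conj g).toMonoidHom) :=
      (T.2.to_le (normalizerIn_le _ _)).map _
    obtain ⟨X', hX'⟩ :=
      (IsPGroup.comap_subtype (K := N) (T.2.to_le (normalizerIn_le (T : Subgroup X) W))).exists_le_sylow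
    obtain ⟨a, ha⟩ := exists_conj_le_sylow X' (IsPGroup.comap_subtype (K := N) hp₁)
    -- conjugate the Sylow subgroup of `N` into `T`, inside `M`
    have hTM : (T : Subgroup X) ≤ M :=
      Subgroup.le_normalizer.trans (hM _ le_rfl fun h => hne (le_bot_iff.1 (h ▸ hU)))
    obtain ⟨b, hb⟩ := exists_conj_le_sylow (T.subtype hTM)
      (IsPGroup.comap_subtype (K := M) (X'.2.map N.subtype))
    set g' := (b : X) * (a : X) * g with hg'
    have hg'mem : ∀ u ∈ U₁, g' * u * g'⁻¹ ∈ (T : Subgroup X) := by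
      intro u hu
      have h1 : g * u * g⁻¹ ∈ N := hX₁ ⟨u, hu, rfl⟩
      have h2 := ha ⟨g * u * g⁻¹, h1⟩ ⟨u, hu, rfl⟩
      have h3 : (a : X) * (g * u * g⁻¹) * (a : X)⁻¹ ∈ M := hNM (N.mul_mem (N.mul_mem a.2 h1) (N.inv_mem a.2))
      have h4 := hb ⟨_, h3⟩ ⟨_, h2, rfl⟩
      have h5 : (b : X) * ((a : X) * (g * u * g⁻¹) * (a : X)⁻¹) * (b : X)⁻¹ ∈ (T : Subgroup X) := h4
      simpa [hg', mul_assoc] using h5
    have hcard : Nat.card U < Nat.card U₁ :=
      lt_of_not_ge fun hge => hUU₁.ne (Subgroup.eq_of_le_of_card_ge hUU₁.le hge)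
    have hU₁T : U₁ ≤ (T : Subgroup X) := normalizerIn_le _ _
    have hle : Nat.card U₁ ≤ Nat.card (T : Subgroup X) :=
      Nat.card_le_card_of_injective _ (Subgroup.inclusion_injective hU₁T)
    have hmem := ih (Nat.card (T : Subgroup X) - Nat.card U₁) (by omega) hU₁T
      (fun h => hne (le_bot_iff.1 (h ▸ hUU₁.le))) hg'mem (by omega)
    have hab : (b : X) * (a : X) ∈ M := M.mul_mem b.2 (hNM a.2)
    have := M.mul_mem (M.inv_mem hab) hmem
    simpa [hg', mul_assoc] using this

/-- A strongly `p`-embedded subgroup can be chosen around a given Sylow subgroup. -/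
theorem exists_proper_around_sylow {X : Type*} [Group X] [Finite X] [Fact p.Prime] (T : Sylow p X)
    {E : Subgroup X} (hE : IsStronglyPEmbedded p E) :
    ∃ M : Subgroup X, M ≠ ⊤ ∧
      ∀ U : Subgroup X, U ≤ (T : Subgroup X) → U ≠ ⊥ → Subgroup.normalizer (U : Set X) ≤ M := by
  obtain ⟨-, hEt, P₀, hP₀⟩ := hE
  obtain ⟨x, hx⟩ := exists_conj_le_sylow P₀ T.2
  refine ⟨E.map (MulAut.conj x⁻¹).toMonoidHom, fun h => hEt ?_, fun U hU hne g hg => ?_⟩
  · refine eq_top_iff.2 fun y _ => ?_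
    have : (MulAut.conj x⁻¹) y ∈ E.map (MulAut.conj x⁻¹).toMonoidHom := h.symm ▸ Subgroup.mem_top _
    obtain ⟨z, hz, hzy⟩ := this
    exact (MulEquiv.injective _ hzy) ▸ hz
  · have hU' : U.map (MulAut.conj x).toMonoidHom ≤ (P₀ : Subgroup X) := by
      rintro _ ⟨u, hu, rfl⟩
      exact hx u (hU hu)
    have := CfsgLib.Even.normalizer_le_of_le_core P₀.2 hP₀ hU'
      (fun h => hne ((Subgroup.map_eq_bot_iff_of_injective _ (MulEquiv.injective _)).1 h))
      (Subgroup.le_normalizer_map (MulAut.conj x).toMonoidHom ⟨g, hg, rfl⟩)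
    exact ⟨_, this, by simp [mul_assoc]⟩

/-! ### The dichotomy -/

theorem inn_subgroupOf_le (F : Cfsg.FusionSystem S) (hP : P ≤ S) :
    (Cfsg.Inn P).subgroupOf (F.autGroup P) ≤ (autInducedBy S P).subgroupOf (F.autGroup P) :=
  fun _ hx => inn_le_autInducedBy hP hx

/-- An automorphism by conjugation that is inner comes from an element of `P` up to the centralizer. -/
theorem mem_of_conjAut_mem_inn (hC : centralizerIn S P ≤ P) (hP : P ≤ S) {g : Ω} (hgS : g ∈ S)
    (hg : g ∈ Subgroup.normalizer (P : Set Ω)) (h : conjAut P g hg ∈ Cfsg.Inn P) : g ∈ P := by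
  obtain ⟨u, hu⟩ := h
  have hc : (u : Ω)⁻¹ * g ∈ Subgroup.centralizer (P : Set Ω) := by
    rw [Subgroup.mem_centralizer_iff]
    intro y hy
    have h1 : (u : Ω) * y * (u : Ω)⁻¹ = g * y * g⁻¹ :=
      congrArg (fun a : MulAut P => ((a ⟨y, hy⟩ : P) : Ω)) hu
    calc y * ((u : Ω)⁻¹ * g) = (u : Ω)⁻¹ * ((u : Ω) * y * (u : Ω)⁻¹) * g := by simp [mul_assoc]
      _ = (u : Ω)⁻¹ * (g * y * g⁻¹) * g := by rw [h1]
      _ = (u : Ω)⁻¹ * g * y := by simp [mul_assoc]
  have := P.mul_mem u.2 (hC ⟨S.mul_mem (S.inv_mem (hP u.2)) hgS, hc⟩)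
  simpa using this

/-- For `P` essential every map of the system extending to a larger subgroup lies in a proper subgroup. -/
theorem extendableAut_ne_of_isEssential [Finite S] [Fact p.Prime] (hS : IsPGroup p S)
    (hF : F.IsSaturated p) (hP : F.IsEssential p P) : extendableAut F P ≠ F.autGroup P := by
  obtain ⟨hPc, hPn, hnorm, E, hE⟩ := hP
  have hPS : P ≤ S := hPn.1
  have : Finite P := finite_of_le hPS
  have : Finite (MulAut P) := finite_mulAut
  obtain ⟨-, T, hT⟩ := isFullyAutomized_of_isFullyNormalized hS hF hPn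
  set mk := QuotientGroup.mk' ((Cfsg.Inn P).subgroupOf (F.autGroup P)) with hmk
  let T' := T.mapSurjective (f := mk) (QuotientGroup.mk'_surjective _)
  obtain ⟨M, hMt, hM⟩ := exists_proper_around_sylow T' hE
  intro heq
  apply hMt
  refine eq_top_iff.2 fun z _ => ?_
  obtain ⟨β, rfl⟩ := QuotientGroup.mk'_surjective _ z
  suffices ∀ b, b ∈ extendableAut F P → ∀ hb : b ∈ F.autGroup P, mk ⟨b, hb⟩ ∈ M from
    this β (heq.symm ▸ β.2) β.2
  intro b hb
  refine Subgroup.closure_induction (p := fun b _ => ∀ hb : b ∈ F.autGroup P, mk ⟨b, hb⟩ ∈ M)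
    ?_ ?_ ?_ ?_ hb
  · rintro α ⟨R, hR, φ, hφ, hag⟩ hα
    obtain ⟨g, hgN, hgS, hgP, hmem⟩ := exists_conjAut_of_extends hS hφ hR hag
    set c : F.autGroup P :=
      ⟨conjAut P g hgN, autInducedBy_le_autGroup F hPS (conjAut_mem_autInducedBy hgS hgN)⟩
    have hcT : mk c ∈ T'.toSubgroup := ⟨c, by
      show c ∈ (T : Subgroup (F.autGroup P))
      rw [hT]
      exact conjAut_mem_autInducedBy (P := P) hgS hgN, rfl⟩
    have hcne : Subgroup.zpowers (mk c) ≠ ⊥ := by
      rw [Subgroup.zpowers_ne_bot, hmk, QuotientGroup.mk'_apply, Ne, QuotientGroup.eq_one_iff]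
      exact fun h => hgP (mem_of_conjAut_mem_inn (centralizerIn_le_of_isCentric hPc) hPS hgS hgN h)
    refine mem_of_conj_le T' hM (Subgroup.zpowers_le.2 hcT) hcne fun u hu => ?_
    obtain ⟨k, rfl⟩ := Subgroup.mem_zpowers_iff.1 hu
    rw [← conj_zpow, ← map_inv, ← map_mul, ← map_mul]
    refine Subgroup.zpow_mem T'.toSubgroup ?_ k
    refine ⟨_, ?_, rfl⟩
    show ⟨α, hα⟩ * c * (⟨α, hα⟩ : F.autGroup P)⁻¹ ∈ (T : Subgroup (F.autGroup P))
    rw [hT]
    exact hmem
  · intro h1
    exact (show mk ⟨1, h1⟩ = 1 from map_one mk) ▸ M.one_mem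
  · intro a b ha hb iha ihb hab
    have ha' : a ∈ F.autGroup P := extendableAut_le F P ha
    have hb' : b ∈ F.autGroup P := extendableAut_le F P hb
    have := M.mul_mem (iha ha') (ihb hb')
    rwa [← map_mul] at this
  · intro a ha iha ha'
    have h0 : a ∈ F.autGroup P := extendableAut_le F P ha
    have := M.inv_mem (iha h0)
    rwa [← map_inv] at this

theorem stronglyEmbedded_of_ne [Finite S] [Fact p.Prime] (hS : IsPGroup p S)
    (hF : F.IsSaturated p) (hPS : P < S) (hPn : F.IsFullyNormalized P)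
    (hne : extendableAut F P ≠ F.autGroup P) :
    F.IsCentric P ∧ ∃ _ : ((Cfsg.Inn P).subgroupOf (F.autGroup P)).Normal,
      IsStronglyPEmbedded p (((extendableAut F P).subgroupOf (F.autGroup P)).map
        (QuotientGroup.mk' ((Cfsg.Inn P).subgroupOf (F.autGroup P)))) := by
  have : Finite P := finite_of_le hPS.le
  have : Finite (MulAut P) := finite_mulAut
  have hrec := isReceptive_of_isFullyNormalized hS hF hPn
  have hC : centralizerIn S P ≤ P := by
    intro c hc
    by_contra hcP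
    refine hne (le_antisymm (extendableAut_le F P) fun α hα =>
      mem_extendableAut_of_transport hrec hα hc.1 (centralizer_le_normalizer P hc.2) hcP ?_)
    rw [(conjAut_eq_one_iff _).2 hc.2, mul_one, mul_inv_cancel]
    exact one_mem _
  refine ⟨isCentric_of_isFullyCentralized hS hF
    (isFullyCentralized_of_isFullyNormalized hS hF hPn) hC, inn_subgroupOf_normal F P, ?_⟩
  have hn := inn_subgroupOf_normal F P
  set I := (Cfsg.Inn P).subgroupOf (F.autGroup P)
  set mk := QuotientGroup.mk' I with hmk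
  set H := (extendableAut F P).subgroupOf (F.autGroup P) with hH
  obtain ⟨-, T, hT⟩ := isFullyAutomized_of_isFullyNormalized hS hF hPn
  have hIT : I ≤ (T : Subgroup (F.autGroup P)) := hT ▸ inn_subgroupOf_le F hPS.le
  have hIH : I ≤ H := (inn_subgroupOf_le F hPS.le).trans
    fun x hx => autInducedBy_le_extendableAut hS hPS hx
  let T' := T.mapSurjective (f := mk) (QuotientGroup.mk'_surjective _)
  refine ⟨?_, ?_, T', ?_⟩
  · obtain ⟨g, hg, hgP⟩ := SetLike.exists_of_lt (lt_normalizerIn hS hPS)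
    have hT'ne : T'.toSubgroup ≠ ⊥ := by
      intro hbot
      have h1 : mk ⟨conjAut P g hg.2,
          autInducedBy_le_autGroup F hPS.le (conjAut_mem_autInducedBy hg.1 hg.2)⟩ ∈ T'.toSubgroup :=
        ⟨_, by
          show _ ∈ (T : Subgroup (F.autGroup P))
          rw [hT]
          exact conjAut_mem_autInducedBy (P := P) hg.1 hg.2, rfl⟩
      rw [hbot, Subgroup.mem_bot, hmk, QuotientGroup.mk'_apply, QuotientGroup.eq_one_iff] at h1
      exact hgP (mem_of_conjAut_mem_inn hC hPS.le hg.1 hg.2 h1)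
    obtain ⟨k, hk⟩ := IsPGroup.iff_card.1 T'.2
    have hk0 : k ≠ 0 := fun h => hT'ne (Subgroup.card_eq_one.1 (by rw [hk, h, pow_zero]))
    exact ((dvd_pow_self p hk0).trans hk.symm.dvd).trans (Subgroup.card_subgroup_dvd_card _)
  · intro htop
    refine hne (le_antisymm (extendableAut_le F P) fun α hα => ?_)
    obtain ⟨β, hβ, hβα⟩ : mk ⟨α, hα⟩ ∈ H.map mk := htop.symm ▸ Subgroup.mem_top _
    rw [hmk, QuotientGroup.mk'_apply, QuotientGroup.mk'_apply, QuotientGroup.eq] at hβα
    have := H.mul_mem hβ (hIH hβα)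
    rwa [mul_inv_cancel_left] at this
  · refine iSup_le fun ⟨U, hUT, hU⟩ => ?_
    intro z hz
    obtain ⟨α, rfl⟩ := QuotientGroup.mk'_surjective _ z
    obtain ⟨u, hu, hu1⟩ : ∃ u ∈ U, u ≠ 1 :=
      (Subgroup.ne_bot_iff_exists_ne_one.1 (ne_bot_of_not_pRankLE hU)).elim
        fun u hu => ⟨u, u.2, fun h => hu (Subtype.ext h)⟩
    obtain ⟨c, hc, rfl⟩ := hUT hu
    have hαu : mk α * mk c * (mk α)⁻¹ ∈ U := conj_mem_of_mem_normalizer hz hu
    obtain ⟨d, hd, hdα⟩ := hUT hαu
    have hmem : α * c * α⁻¹ ∈ (T : Subgroup (F.autGroup P)) := by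
      rw [← map_inv, ← map_mul, ← map_mul, hmk, QuotientGroup.mk'_apply, QuotientGroup.mk'_apply,
        QuotientGroup.eq] at hdα
      have := (T : Subgroup (F.autGroup P)).mul_mem hd (hIT hdα)
      rwa [mul_inv_cancel_left] at this
    have hc' : (c : MulAut P) ∈ autInducedBy S P := by
      have : c ∈ (T : Subgroup (F.autGroup P)) := hc
      rwa [hT] at this
    obtain ⟨g, hgN, hgS, hgc⟩ := exists_eq_conjAut hc'
    refine ⟨α, ?_, rfl⟩
    refine mem_extendableAut_of_transport hrec α.2 hgS hgN (fun hgP => hu1 ?_) ?_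
    · rw [hmk, QuotientGroup.mk'_apply, QuotientGroup.eq_one_iff]
      exact Subgroup.mem_subgroupOf.2 ⟨⟨g, hgP⟩,
        Eq.trans (b := conjAut P g hgN) (MulEquiv.ext fun x => Subtype.ext rfl) hgc.symm⟩
    · rw [← hgc]
      rw [hT] at hmem
      exact hmem

theorem isEssential_of_extendableAut_ne [Finite S] [Fact p.Prime] (hS : IsPGroup p S)
    (hF : F.IsSaturated p) (hPS : P < S) (hPn : F.IsFullyNormalized P)
    (hne : extendableAut F P ≠ F.autGroup P) : F.IsEssential p P := by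
  obtain ⟨hc, hn, hE⟩ := stronglyEmbedded_of_ne hS hF hPS hPn hne
  exact ⟨hc, hPn, hn, _, hE⟩

/-- **Alperin's fusion theorem.** -/
theorem alperin [Finite S] [Fact p.Prime] (hS : IsPGroup p S) (hF : F.IsSaturated p)
    (E : Cfsg.FusionSystem S)
    (hE : ∀ P : Subgroup Ω, (P = S ∨ F.IsEssential p P) → F.autGroup P ≤ E.autGroup P) : F ≤ E := by
  suffices ∀ (n : ℕ) (P : Subgroup Ω), Nat.card S ≤ Nat.card P + n → F.Hom P ⊆ E.Hom P from
    fun P => this (Nat.card S) P (by omega)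
  intro n
  induction n using Nat.strong_induction_on with
  | _ n ih =>
    intro P hn φ hφ
    have hPS : P ≤ S := dom_le hφ
    obtain ⟨f, hf, hfφ⟩ := exists_iso hφ rfl
    rcases eq_or_lt_of_le hPS with rfl | hlt
    · have hr : φ.range = P := isConj_top_eq ⟨φ, hφ, rfl⟩
      obtain ⟨α, hα, hαφ⟩ := exists_aut hφ hr
      have := (mem_autGroup_iff_hom le_rfl).1 (hE P (Or.inl rfl) hα)
      exact mem_of_restrict this le_rfl φ fun x => (hαφ x).symm
    have hbig : ∀ {R : Subgroup Ω} {ψ : R →* Ω}, Nat.card P < Nat.card R → ψ ∈ F.Hom R →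
        ψ ∈ E.Hom R := by
      intro R ψ hlt' hψ
      have : Nat.card R ≤ Nat.card S :=
        Nat.card_le_card_of_injective _ (Subgroup.inclusion_injective (dom_le hψ))
      exact ih (Nat.card S - Nat.card R) (by omega) R (by omega) hψ
    have hcard : ∀ {R T : Subgroup Ω}, T ≤ S → R < T → Nat.card R < Nat.card T := by
      intro R T hT hRT
      have : Finite T := finite_of_le hT
      exact lt_of_not_ge fun hge => hRT.ne (Subgroup.eq_of_le_of_card_ge hRT.le hge)
    obtain ⟨Q, hPQ, hQ⟩ := exists_isFullyNormalized F hPS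
    have hlift : ∀ {R : Subgroup Ω}, F.IsConj R Q → Nat.card R = Nat.card P → R < S →
        ∃ e : R ≃* Q, IsFIso E e ∧ IsFIso F e := by
      intro R hRQ hRP hRS
      obtain ⟨e, he, ψ, hψ, -, hag⟩ := exists_normalizer_map hS hF hQ hRQ
      exact ⟨e, mem_of_restrict (hbig (hRP ▸ hcard (normalizerIn_le S R) (lt_normalizerIn hS hRS)) hψ)
        (le_normalizerIn hRS.le) _ fun x => (hag x).symm, he⟩
    have hPR : F.IsConj P φ.range := ⟨φ, hφ, rfl⟩
    have hRS : φ.range < S := lt_of_le_of_ne (range_le hφ) fun h => by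
      have h1 := hcard le_rfl hlt
      have h2 := isConj_card_eq hPR
      rw [h] at h2
      omega
    obtain ⟨e₁, he₁E, he₁⟩ := hlift hPQ rfl hlt
    obtain ⟨e₂, he₂E, he₂⟩ := hlift (isConj_trans (isConj_symm hPR) hPQ)
      (isConj_card_eq hPR).symm hRS
    have hQS : Q < S := lt_of_le_of_ne hQ.1 fun h => by
      have h1 := hcard le_rfl hlt
      have h2 := isConj_card_eq hPQ
      rw [h] at h2
      omega
    have hQE : F.autGroup Q ≤ E.autGroup Q := by
      by_cases hess : F.IsEssential p Q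
      · exact hE Q (Or.inr hess)
      have heq : extendableAut F Q = F.autGroup Q := by
        by_contra hne
        exact hess (isEssential_of_extendableAut_ne hS hF hQS hQ hne)
      rw [← heq]
      refine (Subgroup.closure_le _).2 ?_
      rintro α ⟨R, hR, ψ, hψ, h⟩
      exact mem_autGroup_of_extends
        (hbig (isConj_card_eq hPQ ▸ hcard (dom_le hψ) hR) hψ) hR.le h
    have hα : (e₁.symm.trans (f.trans e₂) : MulAut Q) ∈ F.autGroup Q :=
      (mem_autGroup_iff hQ.1).2 (he₁.symm.trans (hf.trans he₂))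
    have hαE := (mem_autGroup_iff hQ.1).1 (hQE hα)
    have hfE := (he₁E.trans hαE).trans he₂E.symm
    refine mem_of_restrict hfE le_rfl φ fun x => ?_
    simp [hfφ]

end CfsgLib.Fusion
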