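import Cfsg.Agent.Lib.Fusion.Transport
import Cfsg.Agent.Lib.Fusion.Hyperfocal

/-!
Transport of hyperfocal subgroups, centres, simplicity, components and layers along an injective homomorphism.
-/

set_option autoImplicit false

namespace CfsgLib.Fusion.Transport

open Cfsg Cfsg.FusionSystem CfsgLib.Fusion

variable {A B : Type*} [Group A] [Group B] {f : A →* B}
variable {S T : Subgroup A} {S' T' : Subgroup B}
variable {F : Cfsg.FusionSystem S} {F' : Cfsg.FusionSystem S'}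
variable {E : Cfsg.FusionSystem T} {E' : Cfsg.FusionSystem T'}

theorem map_comap_of_le (hST : S.map f = S') {R : Subgroup B} (hR : R ≤ S') :
    (R.comap f).map f = R :=
  Subgroup.map_comap_eq_self (hR.trans (hST ▸ Subgroup.map_le_range f S))

theorem comap_le_of_le (hf : Function.Injective f) (hST : S.map f = S') {R : Subgroup B}
    (hR : R ≤ S') : R.comap f ≤ S :=
  fun _ hx => (mem_map_inj hf).1 (hST.symm ▸ hR hx)

/-- The automisers correspond. -/
theorem IsPush.map_autGroup (h : IsPush f F F') {P : Subgroup A} (hP : P ≤ S) :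
    (F.autGroup P).map (MulAut.congr (P.equivMapOfInjective f h.inj)).toMonoidHom =
      F'.autGroup (P.map f) := by
  ext α'
  constructor
  · rintro ⟨α, hα, rfl⟩
    exact (h.autGroup_iff hP).1 hα
  · intro hα'
    obtain ⟨α, rfl⟩ := (MulAut.congr (P.equivMapOfInjective f h.inj)).surjective α'
    exact ⟨α, (h.autGroup_iff hP).2 hα', rfl⟩

/-- The isomorphism of automisers. -/
noncomputable def IsPush.autEquiv (h : IsPush f F F') {P : Subgroup A} (hP : P ≤ S) :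
    F.autGroup P ≃* F'.autGroup (P.map f) :=
  ((MulAut.congr (P.equivMapOfInjective f h.inj)).subgroupMap (F.autGroup P)).trans
    (MulEquiv.subgroupCongr (h.map_autGroup hP))

theorem IsPush.autEquiv_apply (h : IsPush f F F') {P : Subgroup A} (hP : P ≤ S) (α : F.autGroup P) :
    (h.autEquiv hP α : MulAut (P.map f)) = MulAut.congr (P.equivMapOfInjective f h.inj) α := rfl

theorem IsPush.map_hyperfocal (h : IsPush f F F') (p : ℕ) :
    (F.hyperfocalSubgroup p).map f = F'.hyperfocalSubgroup p := by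
  rw [hyperfocalSubgroup, MonoidHom.map_closure, hyperfocalSubgroup]
  congr 1
  ext y
  constructor
  · rintro ⟨_, ⟨P, α, x, hP, hα, rfl⟩, rfl⟩
    refine ⟨P.map f, h.autEquiv hP α, P.equivMapOfInjective f h.inj x,
      h.map_eq ▸ Subgroup.map_mono hP,
      (CfsgLib.Transfer.map_pResidual_equiv (h.autEquiv hP)).le ⟨α, hα, rfl⟩, ?_⟩
    rw [h.autEquiv_apply hP α, cg_apply, MulEquiv.symm_apply_apply, map_mul, map_inv]
    rfl
  · rintro ⟨P', α', y', hP', hα', rfl⟩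
    obtain ⟨P, hP, rfl⟩ : ∃ P ≤ S, P.map f = P' :=
      ⟨P'.comap f, comap_le_of_le h.inj h.map_eq hP', map_comap_of_le h.map_eq hP'⟩
    obtain ⟨α, hα, rfl⟩ := (CfsgLib.Transfer.map_pResidual_equiv (h.autEquiv hP)).ge hα'
    obtain ⟨x, rfl⟩ := (P.equivMapOfInjective f h.inj).surjective y'
    refine ⟨_, ⟨P, α, x, hP, hα, rfl⟩, ?_⟩
    show f _ = _
    rw [show ((h.autEquiv hP).toMonoidHom α : MulAut (P.map f)) =
      MulAut.congr (P.equivMapOfInjective f h.inj) (α : MulAut P) from rfl, cg_apply,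
      MulEquiv.symm_apply_apply, map_mul, map_inv]
    rfl

theorem IsPush.isCentral_iff (h : IsPush f F F') {Q : Subgroup A} :
    F.IsCentral Q ↔ F'.IsCentral (Q.map f) := by
  constructor
  · rintro ⟨hQ, hext⟩
    refine ⟨h.map_eq ▸ Subgroup.map_mono hQ, fun P' φ' hφ' => ?_⟩
    obtain ⟨φ, hφ, hr⟩ := h.exists_left hφ'
    obtain ⟨ψ, hψ, hψP, hψQ⟩ := hext _ φ hφ
    obtain ⟨ψ', hψ', hr'⟩ := h.exists_right hψ
    have he : ((P'.comap f) ⊔ Q).map f = P' ⊔ Q.map f := by rw [Subgroup.map_sup, hr.1]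
    refine ⟨ψ'.comp (Subgroup.inclusion he.ge),
      (h.iff (φ := ψ) ⟨he, fun x hx => hr'.2 x _⟩).1 hψ, ?_, ?_⟩
    · rintro ⟨y, hy⟩
      obtain ⟨x, hx, rfl⟩ : y ∈ (P'.comap f).map f := hr.1.symm ▸ hy
      exact (hr'.2 (Subgroup.inclusion le_sup_left ⟨x, hx⟩) _).trans
        ((congrArg f (hψP ⟨x, hx⟩)).trans (hr.2 ⟨x, hx⟩ hy).symm)
    · rintro ⟨_, x, hx, rfl⟩
      exact (hr'.2 (Subgroup.inclusion le_sup_right ⟨x, hx⟩) _).trans (congrArg f (hψQ ⟨x, hx⟩))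
  · rintro ⟨hQ, hext⟩
    refine ⟨(map_le_map h.inj).1 (hQ.trans h.map_eq.ge), fun P φ hφ => ?_⟩
    obtain ⟨φ', hφ', hr⟩ := h.exists_right hφ
    obtain ⟨ψ', hψ', hψP, hψQ⟩ := hext _ φ' hφ'
    obtain ⟨ψ, hψ, hr'⟩ := h.exists_left hψ'
    have hle : P ⊔ Q ≤ (P.map f ⊔ Q.map f).comap f := by
      rw [← Subgroup.map_sup]; exact Subgroup.le_comap_map f _
    refine ⟨ψ.comp (Subgroup.inclusion hle), restrict_mem hψ hle, fun x => h.inj ?_,
      fun x => h.inj ?_⟩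
    · exact (hr'.2 (Subgroup.inclusion hle (Subgroup.inclusion le_sup_left x))
        (Subgroup.mem_sup_left ⟨x, x.2, rfl⟩)).symm.trans
          ((hψP ⟨f x, x, x.2, rfl⟩).trans (hr.2 x ⟨x, x.2, rfl⟩))
    · exact (hr'.2 (Subgroup.inclusion hle (Subgroup.inclusion le_sup_right x))
        (Subgroup.mem_sup_right ⟨x, x.2, rfl⟩)).symm.trans (hψQ ⟨f x, x, x.2, rfl⟩)

theorem IsPush.map_center (h : IsPush f F F') : F.center.map f = F'.center := by
  refine le_antisymm (Subgroup.map_le_iff_le_comap.2 (sSup_le fun Q hQ =>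
    Subgroup.map_le_iff_le_comap.1 (le_sSup (h.isCentral_iff.1 hQ)))) (sSup_le fun Q' hQ' => ?_)
  have he := map_comap_of_le h.map_eq hQ'.1
  rw [← he]
  exact Subgroup.map_mono (le_sSup (h.isCentral_iff.2 (by rw [he]; exact hQ')))

theorem IsPush.isSubsystemOf_dom {T₀ : Subgroup A} {D : Cfsg.FusionSystem T₀}
    (hs : D.IsSubsystemOf F) : T₀ ≤ S :=
  dom_le (hs _ (subtype_mem D le_rfl))

theorem IsPush.isSimple_iff (h : IsPush f F F') [Finite S] {p : ℕ} [Fact p.Prime]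
    (hS : IsPGroup p S) : F.IsSimple p ↔ F'.IsSimple p := by
  have := h.finite
  have hbot : S = ⊥ ↔ S' = ⊥ := by
    rw [← h.map_eq, Subgroup.map_eq_bot_iff_of_injective _ h.inj]
  constructor
  · rintro ⟨hsat, hne, hN⟩
    refine ⟨h.isSaturated_right hS hsat, mt hbot.2 hne, fun T' E' hE' => ?_⟩
    have hT' : T' ≤ S' := hE'.1.2.2.2.1.1
    have hmap := map_comap_of_le h.map_eq hT'
    have hT : T'.comap f ≤ S := comap_le_of_le h.inj h.map_eq hT'
    have hp := isPush_pullSys E' h.inj hmap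
    have : Finite (T'.comap f) := finite_of_le hT
    rcases hN _ _ ((h.isNormalIn_iff hp hS (hS.to_le hT)).2 hE') with h0 | ⟨h0, h1⟩
    · left; rw [← hmap, h0, Subgroup.map_bot]
    · refine Or.inr ⟨by rw [← hmap, h0, h.map_eq], fun P' => Set.ext fun φ' => ⟨fun hφ' => ?_,
        fun hφ' => ?_⟩⟩
      · obtain ⟨φ, hφ, hr⟩ := hp.exists_left hφ'
        exact (h.iff hr).1 (h1 _ ▸ hφ)
      · obtain ⟨φ, hφ, hr⟩ := h.exists_left hφ'
        exact (hp.iff hr).1 ((h1 _).symm ▸ hφ)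
  · rintro ⟨hsat, hne, hN⟩
    refine ⟨h.isSaturated_left (h.isPGroup.1 hS) hsat, mt hbot.1 hne, fun T E hE => ?_⟩
    have hT : T ≤ S := hE.1.2.2.2.1.1
    have hp := isPush_pushSys E h.inj
    have : Finite T := finite_of_le hT
    rcases hN _ _ ((h.isNormalIn_iff hp hS (hS.to_le hT)).1 hE) with h0 | ⟨h0, h1⟩
    · left; exact (Subgroup.map_eq_bot_iff_of_injective _ h.inj).1 h0
    · refine Or.inr ⟨Subgroup.map_injective h.inj (h0.trans h.map_eq.symm),
        fun P => Set.ext fun φ => ⟨fun hφ => ?_, fun hφ => ?_⟩⟩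
      · obtain ⟨φ', hφ', hr⟩ := hp.exists_right hφ
        exact (h.iff hr).2 (h1 _ ▸ hφ')
      · obtain ⟨φ', hφ', hr⟩ := h.exists_right hφ
        exact (hp.iff hr).2 ((h1 _).symm ▸ hφ')

theorem IsPush.isFactorSystem_iff (h : IsPush f F F') {A₁ B₁ : Type*} [Group A₁] [Group B₁]
    {g : A₁ →* B₁} (hg : Function.Bijective g) {θ : S →* A₁} {θ' : S' →* B₁}
    (hθ : ∀ (x : S) (hx : f (x : A) ∈ S'), θ' ⟨f x, hx⟩ = g (θ x)) {S₀ : Subgroup A}
    {U : Subgroup A₁} {U' : Subgroup B₁} {D : Cfsg.FusionSystem U} {D' : Cfsg.FusionSystem U'}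
    (hD : IsPush g D D') :
    F.IsFactorSystem S₀ θ D ↔ F'.IsFactorSystem (S₀.map f) θ' D' := by
  have hf := h.inj
  have hmem : ∀ x ∈ S, f x ∈ S' := fun x hx => h.map_eq ▸ ⟨x, hx, rfl⟩
  have hsurj : ∀ y : S', ∃ x : S, f x = y := fun y => by
    obtain ⟨x, hx, hy⟩ : (y : B) ∈ S.map f := h.map_eq.symm ▸ y.2
    exact ⟨⟨x, hx⟩, hy⟩
  have hrange : θ.range.map g = θ'.range := by
    ext y
    constructor
    · rintro ⟨_, ⟨x, rfl⟩, rfl⟩
      exact ⟨⟨f x, hmem x x.2⟩, hθ x _⟩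
    · rintro ⟨y, rfl⟩
      obtain ⟨x, hx⟩ := hsurj y
      exact ⟨θ x, ⟨x, rfl⟩, by rw [← hθ x (hx ▸ y.2)]; exact congrArg θ' (Subtype.ext hx)⟩
  have hpre : ∀ P : Subgroup A₁, (preimageAlong θ P).map f = preimageAlong θ' (P.map g) := by
    intro P
    ext y
    constructor
    · rintro ⟨_, ⟨x, hx, rfl⟩, rfl⟩
      exact ⟨⟨f x, hmem x x.2⟩, ⟨θ x, hx, (hθ x _).symm⟩, rfl⟩
    · rintro ⟨y, ⟨u, hu, hyu⟩, rfl⟩
      obtain ⟨x, hx⟩ := hsurj y
      refine ⟨x, ⟨x, ?_, rfl⟩, hx⟩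
      show θ x ∈ P
      have : g u = g (θ x) := hyu.trans ((congrArg θ' (Subtype.ext hx.symm)).trans (hθ x (hx ▸ y.2)))
      rw [← hg.1 this]; exact hu
  have hind : ∀ (P : Subgroup A₁) (φ : P →* A₁) (φ' : P.map g →* B₁), Rel g φ φ' →
      ∀ (ψ : preimageAlong θ P →* A) (ψ' : preimageAlong θ' (P.map g) →* B), Rel f ψ ψ' →
      (InducedAlong θ ψ φ ↔ InducedAlong θ' ψ' φ') := by
    intro P φ φ' hr ψ ψ' hr'
    constructor
    · rintro ⟨h1, h2, h3, h4⟩
      refine ⟨fun y hy => ?_, ?_, ?_, ?_⟩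
      · obtain ⟨z, -, rfl⟩ := hy; exact z.2
      · rintro ⟨y, hy⟩
        obtain ⟨x, hx, rfl⟩ : y ∈ (preimageAlong θ P).map f := hr'.1.symm ▸ hy
        rw [hr'.2 ⟨x, hx⟩]; exact hmem _ (h2 ⟨x, hx⟩)
      · rintro ⟨y, hy⟩
        obtain ⟨x, hx, rfl⟩ : y ∈ (preimageAlong θ P).map f := hr'.1.symm ▸ hy
        exact ⟨_, h3 ⟨x, hx⟩, (hθ ⟨x, h1 hx⟩ _).symm⟩
      · rintro ⟨y, hy⟩
        obtain ⟨x, hx, rfl⟩ : y ∈ (preimageAlong θ P).map f := hr'.1.symm ▸ hy
        have e : ∀ hh, φ' ⟨θ' ⟨f x, hmem x (h1 hx)⟩, hh⟩ = g (φ ⟨θ ⟨x, h1 hx⟩, h3 ⟨x, hx⟩⟩) :=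
          fun hh => (congrArg φ' (Subtype.ext (hθ ⟨x, h1 hx⟩ _))).trans
            (hr.2 ⟨_, h3 ⟨x, hx⟩⟩ ⟨_, h3 ⟨x, hx⟩, rfl⟩)
        refine (e _).trans (((congrArg g (h4 ⟨x, hx⟩))).trans
          ((hθ _ (hmem _ (h2 ⟨x, hx⟩))).symm.trans ?_))
        exact congrArg θ' (Subtype.ext (hr'.2 ⟨x, hx⟩ _).symm)
    · rintro ⟨h1, h2, h3, h4⟩
      refine ⟨fun y hy => ?_, fun x => ?_, fun x => ?_, ?_⟩
      · obtain ⟨z, -, rfl⟩ := hy; exact z.2
      · have := h2 ⟨f x, hr'.1 ▸ ⟨x, x.2, rfl⟩⟩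
        rw [hr'.2 x] at this
        exact (mem_map_inj hf).1 (h.map_eq.symm ▸ this)
      · obtain ⟨x, ⟨z, hz, rfl⟩⟩ := x
        exact hz
      · rintro ⟨x, hx⟩
        have hxS : x ∈ S := by obtain ⟨z, -, rfl⟩ := hx; exact z.2
        have hfx : f x ∈ preimageAlong θ' (P.map g) := hr'.1 ▸ ⟨x, hx, rfl⟩
        have h5 := h4 ⟨f x, hfx⟩
        apply hg.1
        have hψS : ψ ⟨x, hx⟩ ∈ S := by
          have := h2 ⟨f x, hfx⟩
          rw [hr'.2 ⟨x, hx⟩] at this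
          exact (mem_map_inj hf).1 (h.map_eq.symm ▸ this)
        rw [← hθ ⟨ψ ⟨x, hx⟩, hψS⟩ (hmem _ hψS)]
        refine Eq.trans ?_ (h5.trans (congrArg θ' (Subtype.ext (hr'.2 ⟨x, hx⟩ hfx))))
        refine Eq.trans (hr.2 _ ?_).symm (congrArg φ' (Subtype.ext (hθ ⟨x, hxS⟩ _).symm))
        exact ⟨_, by obtain ⟨z, hz, rfl⟩ := hx; exact hz, rfl⟩
  constructor
  · rintro ⟨h1, h2, h3, h4⟩
    refine ⟨h.map_eq ▸ Subgroup.map_mono h1, fun y => ?_, by rw [← hrange, h3, hD.map_eq],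
      fun P' φ' => ?_⟩
    · obtain ⟨x, hx⟩ := hsurj y
      rw [show y = ⟨f x, hx ▸ y.2⟩ from Subtype.ext hx.symm, hθ x, map_eq_one_iff g hg.1, h2 x]
      exact (mem_map_inj hf).symm
    · obtain ⟨P, rfl⟩ : ∃ P : Subgroup A₁, P.map g = P' :=
        ⟨P'.comap g, Subgroup.map_comap_eq_self_of_surjective hg.2 P'⟩
      obtain ⟨φ, hr⟩ : ∃ φ : P →* A₁, Rel g φ φ' := by
        obtain ⟨φ, hr⟩ := exists_rel_left hg.1 φ' (Subgroup.map_le_range g P) (fun y => hg.2 _)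
        exact ⟨φ.comp (Subgroup.inclusion (Subgroup.le_comap_map g P)), rfl,
          fun x hx => hr.2 (Subgroup.inclusion (Subgroup.le_comap_map g P) x) hx⟩
      rw [← hD.iff hr, h4, ← hD.map_eq, map_le_map hg.1]
      refine and_congr_right fun _ => ⟨?_, ?_⟩
      · rintro ⟨ψ, hψ, hi⟩
        obtain ⟨ψ', hψ', hr'⟩ := h.exists_right hψ
        refine ⟨ψ'.comp (Subgroup.inclusion (hpre P).ge),
          (h.iff (φ := ψ) ⟨hpre P, fun x hx => hr'.2 x _⟩).1 hψ,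
          (hind P φ φ' hr ψ _ ⟨hpre P, fun x hx => hr'.2 x _⟩).1 hi⟩
      · rintro ⟨ψ', hψ', hi⟩
        obtain ⟨ψ, hψ, hr'⟩ := h.exists_left hψ'
        have hle : preimageAlong θ P ≤ (preimageAlong θ' (P.map g)).comap f :=
          Subgroup.map_le_iff_le_comap.1 (hpre P).le
        exact ⟨ψ.comp (Subgroup.inclusion hle), restrict_mem hψ hle,
          (hind P φ φ' hr (ψ.comp (Subgroup.inclusion hle)) ψ' ⟨hpre P, fun x hx => hr'.2 (Subgroup.inclusion hle x) hx⟩).2 hi⟩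
  · rintro ⟨h1, h2, h3, h4⟩
    refine ⟨(map_le_map hf).1 (h1.trans h.map_eq.ge), fun x => ?_,
      Subgroup.map_injective hg.1 (by rw [hrange, h3, hD.map_eq]), fun P φ => ?_⟩
    · rw [← map_eq_one_iff g hg.1, ← hθ x (hmem x x.2), h2]
      exact mem_map_inj hf
    · obtain ⟨φ', hr⟩ := exists_rel_right hg.1 φ
      rw [hD.iff hr, h4, ← hD.map_eq, map_le_map hg.1]
      refine and_congr_right fun _ => ⟨?_, ?_⟩
      · rintro ⟨ψ', hψ', hi⟩
        obtain ⟨ψ, hψ, hr'⟩ := h.exists_left hψ'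
        have hle : preimageAlong θ P ≤ (preimageAlong θ' (P.map g)).comap f :=
          Subgroup.map_le_iff_le_comap.1 (hpre P).le
        exact ⟨ψ.comp (Subgroup.inclusion hle), restrict_mem hψ hle,
          (hind P φ φ' hr (ψ.comp (Subgroup.inclusion hle)) ψ' ⟨hpre P, fun x hx => hr'.2 (Subgroup.inclusion hle x) hx⟩).2 hi⟩
      · rintro ⟨ψ, hψ, hi⟩
        obtain ⟨ψ', hψ', hr'⟩ := h.exists_right hψ
        exact ⟨ψ'.comp (Subgroup.inclusion (hpre P).ge),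
          (h.iff (φ := ψ) ⟨hpre P, fun x hx => hr'.2 x _⟩).1 hψ,
          (hind P φ φ' hr ψ _ ⟨hpre P, fun x hx => hr'.2 x _⟩).1 hi⟩

theorem IsPush.quasisimple_iff (h : IsPush f F F') [Finite S] {p : ℕ} [Fact p.Prime]
    (hS : IsPGroup p S) : F.Quasisimple p ↔ F'.Quasisimple p := by
  have := h.finite
  let eS : S ≃* S' := (S.equivMapOfInjective f h.inj).trans (MulEquiv.subgroupCongr h.map_eq)
  have heS : ∀ x : S, (eS x : B) = f x := fun _ => rfl
  have hker : (F.center.subgroupOf S).map eS.toMonoidHom = F'.center.subgroupOf S' := by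
    ext y
    obtain ⟨x, rfl⟩ := eS.surjective y
    rw [Subgroup.mem_subgroupOf, heS, ← h.map_center, mem_map_inj h.inj]
    exact ⟨fun ⟨z, hz, he⟩ => eS.injective he ▸ hz, fun hx => ⟨x, hx, rfl⟩⟩
  let g : S ⧸ F.center.subgroupOf S ≃* S' ⧸ F'.center.subgroupOf S' :=
    QuotientGroup.congr _ _ eS hker
  have hθ : ∀ (x : S) (hx : f (x : A) ∈ S'),
      QuotientGroup.mk' (F'.center.subgroupOf S') ⟨f x, hx⟩ =
        g.toMonoidHom (QuotientGroup.mk' (F.center.subgroupOf S) x) := fun x hx => rfl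
  have htop : (⊤ : Subgroup (S ⧸ F.center.subgroupOf S)).map g.toMonoidHom = ⊤ :=
    Subgroup.map_top_of_surjective _ g.surjective
  have hQ : IsPGroup p (⊤ : Subgroup (S ⧸ F.center.subgroupOf S)) :=
    (hS.to_quotient _).to_subgroup _
  unfold Quasisimple
  rw [← h.map_hyperfocal p]
  constructor
  · rintro ⟨h1, h2, h3⟩
    refine ⟨h.isSaturated_right hS h1, by rw [h2, h.map_eq], fun D' hD' => ?_⟩
    have hp := isPush_pullSys D' (f := g.toMonoidHom) g.injective htop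
    refine (hp.isSimple_iff hQ).1 (h3 _ ?_)
    rw [h.isFactorSystem_iff g.bijective hθ hp, h.map_center]
    exact hD'
  · rintro ⟨h1, h2, h3⟩
    refine ⟨h.isSaturated_left (h.isPGroup.1 hS) h1,
      Subgroup.map_injective h.inj (h2.trans h.map_eq.symm), fun D hD => ?_⟩
    have hp := isPush_pushSys D (f := g.toMonoidHom) g.injective
    have hD' := (h.isFactorSystem_iff g.bijective hθ hp).1 hD
    rw [h.map_center] at hD'
    refine (hp.isSimple_iff hQ).2 ?_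
    revert hD'
    generalize pushSys D g.toMonoidHom g.injective = D'
    revert D'
    rw [htop]
    exact h3

theorem subnormal_le {T₀ U : Subgroup A} {C : Cfsg.FusionSystem T₀} {D : Cfsg.FusionSystem U} {p : ℕ}
    (hC : C.IsSubnormalIn D p) : T₀ ≤ U := by
  induction hC with
  | refl => exact le_rfl
  | step _ hn ih => exact ih.trans hn.1.2.2.2.1.1

theorem IsPush.isSubnormalIn_right {p : ℕ} {S₀ T₀ : Subgroup A}
    {F₀ : Cfsg.FusionSystem S₀} {C : Cfsg.FusionSystem T₀} (hC : C.IsSubnormalIn F₀ p) :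
    ∀ [Fact p.Prime] [Finite S₀], IsPGroup p S₀ → ∀ {S₁ T₁ : Subgroup B} {F₁ : Cfsg.FusionSystem S₁}
      {C₁ : Cfsg.FusionSystem T₁}, IsPush f F₀ F₁ → IsPush f C C₁ → C₁.IsSubnormalIn F₁ p := by
  induction hC with
  | refl F₀ =>
    intro _ _ _ S₁ T₁ F₁ C₁ h hC
    obtain rfl := h.map_eq
    obtain rfl := hC.map_eq
    have : C₁ = F₁ := by
      cases C₁; cases F₁
      congr
      funext P'
      ext φ'
      constructor
      · intro hφ'; obtain ⟨φ, hφ, hr⟩ := hC.exists_left hφ'; exact (h.iff hr).1 hφ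
      · intro hφ'; obtain ⟨φ, hφ, hr⟩ := h.exists_left hφ'; exact (hC.iff hr).1 hφ
    subst this
    exact .refl _ _
  | @step U S E D F₀ p hED hn ih =>
    intro _ _ hS S₁ T₁ F₁ C₁ h hC
    have hU := hn.1.2.2.2.1.1
    have := finite_of_le hU
    have hp := isPush_pushSys D h.inj
    exact .step (ih (hS.to_le hU) hp hC) ((h.isNormalIn_iff hp hS (hS.to_le hU)).1 hn)

theorem IsPush.isSubnormalIn_left {p : ℕ} {S₁ T₁ : Subgroup B}
    {F₁ : Cfsg.FusionSystem S₁} {C₁ : Cfsg.FusionSystem T₁} (hC : C₁.IsSubnormalIn F₁ p) :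
    ∀ [Fact p.Prime] {S₀ T₀ : Subgroup A} [Finite S₀] {F₀ : Cfsg.FusionSystem S₀} {C : Cfsg.FusionSystem T₀},
      IsPGroup p S₀ → IsPush f F₀ F₁ → IsPush f C C₁ → C.IsSubnormalIn F₀ p := by
  induction hC with
  | refl F₁ =>
    intro _ S₀ T₀ _ F₀ C _ h hC
    obtain rfl := Subgroup.map_injective h.inj (hC.map_eq.trans h.map_eq.symm)
    have : C = F₀ := by
      cases C; cases F₀
      congr
      funext P
      ext φ
      constructor
      · intro hφ; obtain ⟨φ', hφ', hr⟩ := hC.exists_right hφ; exact (h.iff hr).2 hφ'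
      · intro hφ; obtain ⟨φ', hφ', hr⟩ := h.exists_right hφ; exact (hC.iff hr).2 hφ'
    subst this
    exact .refl _ _
  | @step U S E D F₁ p hED hn ih =>
    intro _ S₀ T₀ _ F₀ C hS h hC
    have hU := hn.1.2.2.2.1.1
    have hmap := map_comap_of_le h.map_eq hU
    have hU₀ := comap_le_of_le h.inj h.map_eq hU
    have := finite_of_le hU₀
    have hp := isPush_pullSys D h.inj hmap
    exact .step (ih (hS.to_le hU₀) hp hC) ((h.isNormalIn_iff hp hS (hS.to_le hU₀)).2 hn)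

theorem IsPush.isComponentIn_iff (h : IsPush f F F') (hE : IsPush f E E') [Finite S] {p : ℕ}
    [Fact p.Prime] (hS : IsPGroup p S) : E.IsComponentIn F p ↔ E'.IsComponentIn F' p := by
  constructor
  · rintro ⟨h1, h2⟩
    have hT := subnormal_le h1
    have : Finite T := finite_of_le hT
    exact ⟨IsPush.isSubnormalIn_right h1 hS h hE, (hE.quasisimple_iff (hS.to_le hT)).1 h2⟩
  · rintro ⟨h1, h2⟩
    have hT : T ≤ S := (map_le_map h.inj).1
      (hE.map_eq.trans_le ((subnormal_le h1).trans h.map_eq.ge))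
    have : Finite T := finite_of_le hT
    exact ⟨IsPush.isSubnormalIn_left h1 hS h hE, (hE.quasisimple_iff (hS.to_le hT)).2 h2⟩

theorem IsPush.isLayerOf_iff (h : IsPush f F F') (hE : IsPush f E E') [Finite S] [Finite T] {p : ℕ}
    [Fact p.Prime] (hS : IsPGroup p S) (hT : IsPGroup p T) :
    E.IsLayerOf F p ↔ E'.IsLayerOf F' p := by
  have hn := h.isNormalIn_iff hE hS hT
  constructor
  · rintro ⟨h1, h2, h3⟩
    refine ⟨hn.1 h1, fun U C hC => ?_, fun R D hD hall => ?_⟩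
    · have hp := isPush_pullSys C h.inj (map_comap_of_le h.map_eq (subnormal_le hC.1))
      exact (hE.isSubsystemOf_iff hp).1 (h2 _ _ ((h.isComponentIn_iff hp hS).2 hC))
    · have hR : R ≤ S' := hD.1.2.2.2.1.1
      have hR₀ := comap_le_of_le h.inj h.map_eq hR
      have : Finite (R.comap f) := finite_of_le hR₀
      have hp := isPush_pullSys D h.inj (map_comap_of_le h.map_eq hR)
      refine (hp.isSubsystemOf_iff hE).1
        (h3 _ _ ((h.isNormalIn_iff hp hS (hS.to_le hR₀)).2 hD) fun U C hC => ?_)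
      have hpC := isPush_pushSys C h.inj
      exact (hp.isSubsystemOf_iff hpC).2 (hall _ _ ((h.isComponentIn_iff hpC hS).1 hC))
  · rintro ⟨h1, h2, h3⟩
    refine ⟨hn.2 h1, fun U C hC => ?_, fun R D hD hall => ?_⟩
    · have hp := isPush_pushSys C h.inj
      exact (hE.isSubsystemOf_iff hp).2 (h2 _ _ ((h.isComponentIn_iff hp hS).1 hC))
    · have hR : R ≤ S := hD.1.2.2.2.1.1
      have : Finite R := finite_of_le hR
      have hp := isPush_pushSys D h.inj
      refine (hp.isSubsystemOf_iff hE).2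
        (h3 _ _ ((h.isNormalIn_iff hp hS (hS.to_le hR)).1 hD) fun U C hC => ?_)
      have hpC := isPush_pullSys C h.inj (map_comap_of_le h.map_eq (subnormal_le hC.1))
      exact (hp.isSubsystemOf_iff hpC).1 (hall _ _ ((h.isComponentIn_iff hpC hS).2 hC))

end CfsgLib.Fusion.Transport
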