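import Cfsg.Agent.Lib.Fusion.TransportComp

/-!
Conjugates of subnormal subsystems are subnormal.
-/

set_option autoImplicit false
open Cfsg Cfsg.FusionSystem CfsgLib.Fusion

namespace CfsgLib.Fusion.Transport

variable {A B C : Type*} [Group A] [Group B] [Group C] {f : A →* B} {g : B →* C}
  {S : Subgroup A} {S' : Subgroup B} {S'' : Subgroup C}
  {F : Cfsg.FusionSystem S} {F' : Cfsg.FusionSystem S'} {F'' : Cfsg.FusionSystem S''}

theorem rel_comp {P : Subgroup A} {φ : P →* A} {P' : Subgroup B} {φ' : P' →* B} {P'' : Subgroup C}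
    {φ'' : P'' →* C} (h : Rel f φ φ') (h' : Rel g φ' φ'') : Rel (g.comp f) φ φ'' := by
  refine ⟨by rw [← Subgroup.map_map, h.1, h'.1], fun x hx => ?_⟩
  have hfx : f x ∈ P' := h.1 ▸ ⟨x, x.2, rfl⟩
  exact (h'.2 ⟨f x, hfx⟩ hx).trans (congrArg g (h.2 x hfx))

theorem rel_of_comp {P : Subgroup A} {φ : P →* A} {P' : Subgroup B} {φ' : P' →* B}
    {P'' : Subgroup C} {φ'' : P'' →* C} (h : Rel f φ φ') (h' : Rel (g.comp f) φ φ'') :
    Rel g φ' φ'' := by
  refine ⟨by rw [← h.1, Subgroup.map_map]; exact h'.1, ?_⟩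
  rintro ⟨y, hy'⟩ hy
  obtain ⟨x, hx, rfl⟩ : y ∈ P.map f := h.1.symm ▸ hy'
  rw [h.2 ⟨x, hx⟩]
  exact h'.2 ⟨x, hx⟩ hy

theorem IsPush.comp (h : IsPush f F F') (h' : IsPush g F' F'') : IsPush (g.comp f) F F'' := by
  refine ⟨by rw [← Subgroup.map_map, h.map_eq, h'.map_eq], h'.inj.comp h.inj,
    fun {P φ P'' φ''} hr => ?_⟩
  obtain ⟨φ', hr'⟩ := exists_rel_right h.inj φ
  exact (h.iff hr').trans (h'.iff (rel_of_comp hr' hr))

theorem IsPush.of_comp (h : IsPush (g.comp f) F F'') (h' : IsPush g F' F'') : IsPush f F F' := by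
  refine ⟨Subgroup.map_injective h'.inj (by rw [Subgroup.map_map, h.map_eq, h'.map_eq]),
    fun a b hab => h.inj (congrArg g hab), fun {P φ P' φ'} hr => ?_⟩
  obtain ⟨φ'', hr''⟩ := exists_rel_right h'.inj φ'
  exact (h.iff (rel_comp hr hr'')).trans (h'.iff hr'').symm

theorem fusionSystem_ext {E E' : Cfsg.FusionSystem S} (h : ∀ P, E.Hom P = E'.Hom P) : E = E' := by
  cases E; cases E'; congr 1; exact funext h

theorem IsPush.unique {E : Cfsg.FusionSystem S'} (h : IsPush f F F') (h' : IsPush f F E) :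
    F' = E := by
  refine fusionSystem_ext fun P' => Set.ext fun φ' => ⟨fun hφ' => ?_, fun hφ' => ?_⟩
  · obtain ⟨φ, hφ, hr⟩ := h.exists_left hφ'; exact (h'.iff hr).1 hφ
  · obtain ⟨φ, hφ, hr⟩ := h'.exists_left hφ'; exact (h.iff hr).1 hφ

variable {Ω : Type*} [Group Ω] {R T : Subgroup Ω}

/-- A system read on the type of its own group. -/
def self (E : Cfsg.FusionSystem T) : Cfsg.FusionSystem (⊤ : Subgroup T) :=
  pullSys E T.subtype T.subtype_injective
    (by rw [← MonoidHom.range_eq_map, Subgroup.range_subtype])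

theorem isPush_self (E : Cfsg.FusionSystem T) : IsPush T.subtype (self E) E :=
  isPush_pullSys E T.subtype_injective _

/-- An element of `Hom T` carries the subgroup systems: if `γ` is a map of `E` on all of `T`, it
carries `E` to itself. -/
theorem isPush_self_of_mem [Finite T] (E : Cfsg.FusionSystem T) {γ : T →* Ω} (hγ : γ ∈ E.Hom T) :
    IsPush γ (self E) E := by
  have hinj := E.injective_of_mem hγ
  have htop : (⊤ : Subgroup T).map γ = T := by
    rw [← MonoidHom.range_eq_map]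
    refine Subgroup.eq_of_le_of_card_ge (by rintro _ ⟨x, rfl⟩; exact map_mem hγ x) (le_of_eq ?_)
    exact Nat.card_congr (MonoidHom.ofInjective hinj).toEquiv
  obtain ⟨δ, hδ, hinv⟩ := E.inv_mem hγ
  have hr : γ.range = T := by rw [MonoidHom.range_eq_map]; exact htop
  refine ⟨htop, hinj, fun {P φ P' φ'} hrel => ?_⟩
  obtain ⟨ψ, hψ⟩ := exists_rel_right T.subtype_injective φ
  rw [(isPush_self E).iff hψ]
  have hPT : P.map T.subtype ≤ T := Subgroup.map_subtype_le P
  have hP'T : P' ≤ γ.range := hrel.1 ▸ Subgroup.map_le_range γ P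
  constructor
  · intro hψE
    -- `φ' = γ ψ γ⁻¹`
    have hδP : ∀ y : P', (δ.comp (Subgroup.inclusion hP'T)) y ∈ P.map T.subtype := by
      intro y
      obtain ⟨x, hx, hy⟩ : (y : Ω) ∈ P.map γ := hrel.1.symm ▸ y.2
      refine ⟨x, hx, ?_⟩
      show (x : Ω) = δ ⟨y, _⟩
      rw [← hinv x]
      exact congrArg δ (Subtype.ext hy)
    have h1 := E.comp_mem (restrict_mem hδ hP'T) hψE hδP
    have h2 := E.comp_mem h1 hγ (fun y => map_mem h1 y)
    convert h2 using 1
    refine MonoidHom.ext fun y => ?_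
    obtain ⟨x, hx, hy⟩ : (y : Ω) ∈ P.map γ := hrel.1.symm ▸ y.2
    have e1 : φ' y = γ (φ ⟨x, hx⟩) := by
      rw [show y = ⟨γ x, hy ▸ y.2⟩ from Subtype.ext hy.symm]
      exact hrel.2 ⟨x, hx⟩ _
    rw [e1]
    refine congrArg γ (Subtype.ext ?_)
    have hm : (x : Ω) ∈ P.map T.subtype := ⟨x, hx, rfl⟩
    refine (hψ.2 ⟨x, hx⟩ hm).symm.trans (congrArg ψ (Subtype.ext ?_))
    show (x : Ω) = δ ⟨y, _⟩
    rw [← hinv x]
    exact congrArg δ (Subtype.ext hy)
  · intro hφE
    have hγP : ∀ z : P.map T.subtype, (γ.comp (Subgroup.inclusion hPT)) z ∈ P' := by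
      rintro ⟨_, x, hx, rfl⟩
      exact hrel.1 ▸ ⟨x, hx, rfl⟩
    have h1 := E.comp_mem (restrict_mem hγ hPT) hφE hγP
    have h2 := E.comp_mem h1 hδ (fun z => hr.ge (map_mem h1 z))
    convert h2 using 1
    refine MonoidHom.ext fun z => ?_
    obtain ⟨_, x, hx, rfl⟩ := z
    refine (hψ.2 ⟨x, hx⟩ ⟨x, hx, rfl⟩).trans ?_
    show ((φ ⟨x, hx⟩ : T) : Ω) = δ ⟨φ' ⟨γ x, _⟩, _⟩
    rw [← hinv (φ ⟨x, hx⟩)]
    exact congrArg δ (Subtype.ext (hrel.2 ⟨x, hx⟩ _).symm)

/-- Invariance: an automorphism from `Aut_F(T)` fixes an invariant system on `T`. -/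
theorem isPush_self_aut {S : Subgroup Ω} {F : Cfsg.FusionSystem S} {E : Cfsg.FusionSystem T}
    (hinv : E.IsInvariantIn F) {α : MulAut T} (hα : α ∈ F.autGroup T) :
    IsPush α.toMonoidHom (self E) (self E) := by
  have key : ∀ (β : MulAut T), β ∈ F.autGroup T → ∀ {P : Subgroup T} {φ : P →* T} {P' : Subgroup T}
      {φ' : P' →* T}, Rel β.toMonoidHom φ φ' → φ ∈ (self E).Hom P → φ' ∈ (self E).Hom P' := by
    intro β hβ P φ P' φ' hr hφ
    obtain ⟨ψ, hψ, hrψ⟩ := (isPush_self E).exists_right hφ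
    obtain ⟨χ, hχ, hχv⟩ := hinv.2.2.1 _ (Subgroup.map_subtype_le P) ψ hψ β hβ
    have hP' : P'.map T.subtype =
        ((P.map T.subtype).subgroupOf T).map (T.subtype.comp β.toMonoidHom) := by
      rw [← Subgroup.map_map, Subgroup.subgroupOf, Subgroup.comap_map_eq_self_of_injective T.subtype_injective, hr.1]
    refine ((isPush_self E).iff (φ' := χ.comp (Subgroup.inclusion hP'.le)) ⟨rfl, fun y hy => ?_⟩).2
      (restrict_mem hχ hP'.le)
    obtain ⟨y, hy'⟩ := y
    obtain ⟨x, hx, rfl⟩ : y ∈ P.map β.toMonoidHom := hr.1.symm ▸ hy'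
    have hxm : (x : Ω) ∈ P.map T.subtype := ⟨x, hx, rfl⟩
    have h5 := hχv ⟨x, hxm⟩ (map_mem hψ _) (hP'.le hy)
    refine h5.trans ?_
    show _ = ((φ' ⟨β x, hy'⟩ : T) : Ω)
    rw [show φ' ⟨β x, hy'⟩ = β (φ ⟨x, hx⟩) from hr.2 ⟨x, hx⟩ hy']
    exact congrArg (fun z : T => ((β z : T) : Ω)) (Subtype.ext (hrψ.2 ⟨x, hx⟩ hxm))
  refine ⟨Subgroup.map_top_of_surjective _ α.surjective, α.injective,
    fun {P φ P' φ'} hr => ⟨key α hα hr, key α⁻¹ (inv_mem hα) ?_⟩⟩
  refine ⟨?_, fun y hy => ?_⟩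
  · rw [← hr.1, Subgroup.map_map, show (α⁻¹ : MulAut T).toMonoidHom.comp α.toMonoidHom =
      MonoidHom.id T by ext; simp, Subgroup.map_id]
  · have h := hr.2 ⟨α⁻¹ y, hy⟩ (show α (α⁻¹ y) ∈ P' from (MulAut.apply_inv_self _ α _).symm ▸ y.2)
    apply α.injective
    show α (φ ⟨α⁻¹ y, hy⟩) = α (α⁻¹ (φ' y))
    rw [MulAut.apply_inv_self]
    exact h.symm.trans (congrArg φ' (Subtype.ext (MulAut.apply_inv_self _ α _)))

theorem isSubnormalIn_conjugate {p : ℕ} {S : Subgroup Ω} {F : Cfsg.FusionSystem S}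
    {E : Cfsg.FusionSystem T} (hE : E.IsSubnormalIn F p) :
    ∀ [Fact p.Prime] [Finite S], IsPGroup p S → ∀ (γ : T →* Ω), γ ∈ F.Hom T →
      ∀ {T' : Subgroup Ω} (E' : Cfsg.FusionSystem T'), IsPush γ (self E) E' →
        E'.IsSubnormalIn F p := by
  induction hE with
  | refl F =>
    intro _ hfin _ γ hγ T' E' h
    have h0 := isPush_self_of_mem F hγ
    obtain rfl := h.map_eq.symm.trans h0.map_eq
    rw [h.unique h0]
    exact .refl _ _
  | @step U S E D F p hED hn ih =>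
    intro _ hfin hS γ hγ T' E' h
    obtain ⟨hsub, hUsc, -, hfrat⟩ := hn.1.2.2
    have hU : U ≤ S := hUsc.1
    have : Finite U := finite_of_le hU
    have hTU : T ≤ U := subnormal_le hED
    obtain ⟨α, hα, φ₀, hφ₀, hγv⟩ := hfrat T hTU γ hγ
    have hpD := isPush_self D
    have hU0 : IsPGroup p (⊤ : Subgroup U) := (hS.to_le hU).to_subgroup _
    -- the conjugate by the map of `D`
    have hp1 := isPush_pushSys (self E) (f := φ₀) (D.injective_of_mem hφ₀)
    set E1 := pushSys (self E) φ₀ (D.injective_of_mem hφ₀) with hE1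
    have hsn1 := ih (hS.to_le hU) φ₀ hφ₀ E1 hp1
    have hT1 : (⊤ : Subgroup T).map φ₀ ≤ U := by
      rintro _ ⟨x, -, rfl⟩
      exact map_mem hφ₀ x
    have hp2 := isPush_pullSys E1 U.subtype_injective
      (T := ((⊤ : Subgroup T).map φ₀).comap U.subtype)
      (Subgroup.map_comap_eq_self (by rwa [Subgroup.range_subtype]))
    set E10 := pullSys E1 U.subtype U.subtype_injective _ with hE10
    have hsn10 := IsPush.isSubnormalIn_left hsn1 hU0 hpD hp2
    set φ₀' : T →* U := φ₀.codRestrict U (map_mem hφ₀) with hφ₀'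
    have hp3 : IsPush φ₀' (self E) E10 := IsPush.of_comp (g := U.subtype) hp1 hp2
    -- move by the automorphism
    have hp4 := isPush_pushSys E10 (f := α.toMonoidHom) α.injective
    set E20 := pushSys E10 α.toMonoidHom α.injective with hE20
    have hsn20 := IsPush.isSubnormalIn_right hsn10 hU0 (isPush_self_aut hn.1.2.2 hα) hp4
    have hp5 := isPush_pushSys E20 (f := U.subtype) U.subtype_injective
    have hsn2 := IsPush.isSubnormalIn_right hsn20 hU0 hpD hp5
    have hall := (hp3.comp hp4).comp hp5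
    have he : U.subtype.comp (α.toMonoidHom.comp φ₀') = γ :=
      MonoidHom.ext fun x => (hγv x (map_mem hφ₀ x)).symm
    rw [he] at hall
    obtain rfl := hall.map_eq.symm.trans h.map_eq
    rw [h.unique hall]
    exact .step hsn2 hn

end CfsgLib.Fusion.Transport
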