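import Cfsg.Agent.Lib.Fusion.Alperin
import Cfsg.Agent.Lib.Fusion.Local
import Cfsg.Agent.Lib.Solvable.Core

/-!
# Normal subgroups of a fusion system
-/

set_option autoImplicit false

namespace CfsgLib.Fusion

open Cfsg Cfsg.FusionSystem

variable {Ω : Type*} [Group Ω] {S : Subgroup Ω} {F : Cfsg.FusionSystem S}
variable {P Q R : Subgroup Ω} {p : ℕ}

theorem fusionSystem_ext {E F : Cfsg.FusionSystem S} (h : ∀ P, E.Hom P = F.Hom P) : E = F := by
  cases E
  cases F
  congr 1
  exact funext h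

/-- A system over `T`, read over an equal subgroup `S`. -/
def copyOver {T : Subgroup Ω} (E : Cfsg.FusionSystem T) (h : T = S) : Cfsg.FusionSystem S where
  Hom := E.Hom
  le_of_mem hφ := h ▸ E.le_of_mem hφ
  injective_of_mem := E.injective_of_mem
  conj_mem hP hg := E.conj_mem (h.symm ▸ hP) (h.symm ▸ hg)
  comp_mem := E.comp_mem
  inv_mem := E.inv_mem

theorem isNormal_stronglyClosed (hQ : F.IsNormal Q) : F.StronglyClosed Q := by
  refine ⟨hQ.1, fun R hR φ hφ x => ?_⟩
  obtain ⟨ψ, -, hag, hQψ⟩ := hQ.2 R φ hφ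
  rw [← hag x]
  have := apply_mem_map_subgroupOf (P := Q) (φ := ψ) (Subgroup.inclusion le_sup_left x) (hR x.2)
  rwa [hQψ] at this

theorem stronglyClosed_apply_mem (hQ : F.StronglyClosed Q) {φ : P →* Ω} (hφ : φ ∈ F.Hom P)
    (x : P) (hx : (x : Ω) ∈ Q) : φ x ∈ Q :=
  hQ.2 (P ⊓ Q) inf_le_right _ (restrict_mem hφ inf_le_left) ⟨x, x.2, hx⟩

theorem stronglyClosed_le_normalizer (hQ : F.StronglyClosed Q) :
    S ≤ Subgroup.normalizer (Q : Set Ω) := by
  intro g hg
  rw [Subgroup.mem_normalizer_iff]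
  intro n
  have key : ∀ a ∈ S, ∀ m ∈ Q, a * m * a⁻¹ ∈ Q := fun a ha m hm =>
    stronglyClosed_apply_mem hQ (F.conj_mem hQ.1 ha) ⟨m, hm⟩ hm
  exact ⟨key g hg n, fun hn => by simpa [mul_assoc] using key g⁻¹ (S.inv_mem hg) _ hn⟩

theorem stronglyClosed_aut_map_eq [Finite S] (hQ : F.StronglyClosed Q) (hPS : P ≤ S)
    {α : MulAut P} (hα : α ∈ F.autGroup P) :
    (Q.subgroupOf P).map α.toMonoidHom = Q.subgroupOf P := by
  have : Finite P := finite_of_le hPS
  refine Subgroup.eq_of_le_of_card_ge ?_ (Subgroup.card_map_of_injective α.injective).ge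
  rintro _ ⟨x, hx, rfl⟩
  exact stronglyClosed_apply_mem hQ ((mem_autGroup_iff_hom hPS).1 hα) x hx

/-- To see `Q ≤ P` it is enough to see that the normalizer of `P` meets `Q` inside `P`. -/
theorem le_of_normalizer_inf_le [Finite S] [Fact p.Prime] (hS : IsPGroup p S) (hPS : P ≤ S)
    (hQS : Q ≤ S) (hQn : S ≤ Subgroup.normalizer (Q : Set Ω))
    (h : ∀ x ∈ Q, x ∈ Subgroup.normalizer (P : Set Ω) → x ∈ P) : Q ≤ P := by
  by_contra hQP
  have hlt : P < P ⊔ Q :=
    lt_of_le_of_ne le_sup_left fun he => hQP (le_sup_right.trans he.ge)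
  have : Finite ↥(P ⊔ Q) := finite_of_le (sup_le hPS hQS)
  obtain ⟨g, ⟨hgPQ, hgN⟩, hgP⟩ :=
    SetLike.exists_of_lt (lt_normalizerIn (isPGroup_of_le hS (sup_le hPS hQS)) hlt)
  have hg : g ∈ (↑(P ⊔ Q) : Set Ω) := hgPQ
  rw [Subgroup.coe_mul_of_left_le_normalizer_right P Q (hPS.trans hQn)] at hg
  obtain ⟨u, hu, x, hx, rfl⟩ := hg
  refine hgP (P.mul_mem hu (h x hx ?_))
  have := mul_mem (inv_mem (Subgroup.le_normalizer hu)) hgN
  simpa using this

/-- A normal subgroup of the system lies in every centric radical subgroup. -/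
theorem isNormal_le_of_centric_radical [Finite S] [Fact p.Prime] (hS : IsPGroup p S)
    (hQ : F.IsNormal Q) (hPc : F.IsCentric P) (hPr : F.IsRadical p P) : Q ≤ P := by
  have hPS : P ≤ S := hPc.1
  have : Finite P := finite_of_le hPS
  have : Finite (MulAut P) := finite_mulAut
  refine le_of_normalizer_inf_le hS hPS hQ.1
    (stronglyClosed_le_normalizer (isNormal_stronglyClosed hQ)) fun x hx hxN => ?_
  set B := (autInducedBy Q P).subgroupOf (F.autGroup P)
  have hBn : B.Normal := by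
    constructor
    intro c hc α
    obtain ⟨g, hgN, hgQ, hgc⟩ := exists_eq_conjAut (show (c : MulAut P) ∈ autInducedBy Q P from hc)
    obtain ⟨ψ, -, hag, hQψ⟩ := hQ.2 P _ ((mem_autGroup_iff_hom hPS).1 α.2)
    show (α : MulAut P) * (c : MulAut P) * (α : MulAut P)⁻¹ ∈ autInducedBy Q P
    rw [hgc]
    refine mem_autInducedBy_iff.2
      ⟨ψ ⟨g, le_sup_right (a := P) hgQ⟩, mem_of_map_subgroupOf_sup_eq hQψ ⟨g, hgQ⟩, ?_⟩
    exact fun y => congr_conjAut_of_extends (e := ((α : MulAut P) : P ≃* P)) le_sup_left hag _ hgN y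
  have hBp : IsPGroup p B :=
    IsPGroup.comap_subtype ((isPGroup_autInducedBy hS P).to_le (autInducedBy_mono hQ.1 P))
  have hle : B.map (F.autGroup P).subtype ≤ Cfsg.Inn P :=
    (Subgroup.map_mono (CfsgLib.Solvable.le_pCore hBn hBp)).trans hPr.2.le
  refine mem_of_conjAut_mem_inn (centralizerIn_le_of_isCentric hPc) hPS (hQ.1 hx) hxN (hle ?_)
  exact ⟨⟨conjAut P x hxN, autInducedBy_le_autGroup F hPS (conjAut_mem_autInducedBy (hQ.1 hx) hxN)⟩,
    conjAut_mem_autInducedBy (P := P) hx hxN, rfl⟩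

theorem isRadical_top [Finite S] [Fact p.Prime] (hS : IsPGroup p S) (hF : F.IsSaturated p) :
    F.IsRadical p S := by
  have : Finite (MulAut S) := finite_mulAut
  refine ⟨le_rfl, ?_⟩
  obtain ⟨-, T, hT⟩ := isFullyAutomized_of_isFullyNormalized hS hF (isFullyNormalized_top F)
  rw [← inn_eq_autInducedBy S] at hT
  refine le_antisymm ?_ fun α hα => ?_
  · refine (Subgroup.map_mono (CfsgLib.Solvable.pCore_le_sylow T)).trans ?_
    rw [hT]
    exact Subgroup.map_comap_le _ _
  · refine ⟨⟨α, inn_le_autGroup F le_rfl hα⟩,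
      CfsgLib.Solvable.le_pCore (inn_subgroupOf_normal F S) ?_ hα, rfl⟩
    rw [← hT]
    exact T.2

theorem isCentric_top [Finite S] (F : Cfsg.FusionSystem S) : F.IsCentric S :=
  ⟨le_rfl, fun Q hQ => (centralizerIn_le S Q).trans (isConj_top_eq hQ).ge⟩

/-- Essential subgroups are radical. -/
theorem isRadical_of_isEssential [Finite S] [Fact p.Prime] (hS : IsPGroup p S)
    (hF : F.IsSaturated p) (hP : F.IsEssential p P) : F.IsRadical p P := by
  obtain ⟨hPc, hPn, hn, E, hE⟩ := hP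
  have hPS : P ≤ S := hPn.1
  have : Finite P := finite_of_le hPS
  have : Finite (MulAut P) := finite_mulAut
  obtain ⟨-, T, hT⟩ := isFullyAutomized_of_isFullyNormalized hS hF hPn
  set I := (Cfsg.Inn P).subgroupOf (F.autGroup P) with hI
  set mk := QuotientGroup.mk' I with hmk
  let T' := T.mapSurjective (f := mk) (QuotientGroup.mk'_surjective _)
  obtain ⟨M, hMt, hM⟩ := exists_proper_around_sylow T' hE
  have hIp : IsPGroup p I :=
    IsPGroup.comap_subtype ((isPGroup_autInducedBy hS P).to_le (inn_le_autInducedBy hPS))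
  refine ⟨hPS, le_antisymm ?_ fun α hα =>
    ⟨⟨α, inn_le_autGroup F hPS hα⟩, CfsgLib.Solvable.le_pCore hn hIp hα, rfl⟩⟩
  have hnorm : (pCore p (F.autGroup P)).Normal := CfsgLib.Solvable.pCore_normal p _
  have hU : (pCore p (F.autGroup P)).map mk = ⊥ := by
    by_contra hne
    refine hMt (eq_top_iff.2 ?_)
    refine le_trans ?_ (hM _ (Subgroup.map_mono (CfsgLib.Solvable.pCore_le_sylow T)) hne)
    rw [Subgroup.normalizer_eq_top_iff.2 (hnorm.map _ (QuotientGroup.mk'_surjective _))]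
  rw [Subgroup.map_eq_bot_iff, hmk, QuotientGroup.ker_mk'] at hU
  exact (Subgroup.map_mono hU).trans (Subgroup.map_comap_le _ _)

/-- No subgroup with a `p`-group as automorphism group is essential. -/
theorem not_isEssential_of_isPGroup [Finite S] [Fact p.Prime] (hS : IsPGroup p S)
    (hF : F.IsSaturated p) (hG : IsPGroup p (F.autGroup P)) : ¬ F.IsEssential p P := by
  intro hP
  have hrad := isRadical_of_isEssential hS hF hP
  obtain ⟨-, -, hn, E, hdvd, -⟩ := hP
  have htop : pCore p (F.autGroup P) = ⊤ := CfsgLib.Solvable.pCore_eq_top_of_isPGroup hG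
  have : Finite P := finite_of_le hrad.1
  have : Finite (MulAut P) := finite_mulAut
  have hI : (Cfsg.Inn P).subgroupOf (F.autGroup P) = ⊤ := by
    refine eq_top_iff.2 fun α _ => ?_
    show (α : MulAut P) ∈ Cfsg.Inn P
    rw [← hrad.2, htop]
    exact ⟨α, Subgroup.mem_top _, rfl⟩
  have hsub : Subsingleton (F.autGroup P ⧸ (Cfsg.Inn P).subgroupOf (F.autGroup P)) := by
    refine ⟨fun a b => ?_⟩
    obtain ⟨a, rfl⟩ := QuotientGroup.mk'_surjective _ a
    obtain ⟨b, rfl⟩ := QuotientGroup.mk'_surjective _ b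
    rw [QuotientGroup.mk'_apply, QuotientGroup.mk'_apply, QuotientGroup.eq, hI]
    exact Subgroup.mem_top _
  rw [Nat.card_of_subsingleton (1 : F.autGroup P ⧸ (Cfsg.Inn P).subgroupOf (F.autGroup P))] at hdvd
  exact (Fact.out : p.Prime).not_dvd_one hdvd

/-- An automorphism of a subgroup containing `Q` and preserving it is a map of `N_F(Q)`. -/
theorem mem_normalizerHom_of_aut (hQP : Q ≤ P) (hPN : P ≤ normalizerIn S Q) {α : MulAut P}
    (hα : α ∈ F.autGroup P) (hinv : (Q.subgroupOf P).map α.toMonoidHom = Q.subgroupOf P) :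
    P.subtype.comp α.toMonoidHom ∈ F.normalizerHom Q P := by
  have hPS : P ≤ S := hPN.trans (normalizerIn_le S Q)
  have hα' := (mem_autGroup_iff_hom hPS).1 hα
  refine ⟨hα', hPN, fun x => hPN (α x).2, _, restrict_mem hα' (sup_le le_rfl hQP),
    fun x => rfl, ?_⟩
  ext y
  rw [mem_map_subgroupOf]
  constructor
  · rintro ⟨x, hx, hxQ, rfl⟩
    have h1 : α ⟨x, sup_le le_rfl hQP hx⟩ ∈ (Q.subgroupOf P).map α.toMonoidHom :=
      ⟨⟨x, sup_le le_rfl hQP hx⟩, hxQ, rfl⟩
    rw [hinv] at h1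
    exact h1
  · intro hy
    have hy' : (⟨y, hQP hy⟩ : P) ∈ (Q.subgroupOf P).map α.toMonoidHom := by
      rw [hinv]; exact hy
    obtain ⟨⟨x, hx⟩, hxQ, hxy⟩ := hy'
    exact ⟨x, le_sup_left (b := Q) hx, hxQ, congrArg (fun t : P => (t : Ω)) hxy⟩

/-- The criterion on `S` and the essential subgroups. -/
theorem isNormal_iff_essential [Finite S] [Fact p.Prime] (hS : IsPGroup p S)
    (hF : F.IsSaturated p) :
    F.IsNormal Q ↔ ∀ P : Subgroup Ω, (P = S ∨ F.IsEssential p P) →
      (Q ≤ P ∧ ∀ α ∈ F.autGroup P, (Q.subgroupOf P).map α.toMonoidHom = Q.subgroupOf P) := by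
  constructor
  · intro hQ P hP
    have hsc := isNormal_stronglyClosed hQ
    rcases hP with rfl | hP
    · exact ⟨hQ.1, fun α hα => stronglyClosed_aut_map_eq hsc le_rfl hα⟩
    · exact ⟨isNormal_le_of_centric_radical hS hQ hP.1 (isRadical_of_isEssential hS hF hP),
        fun α hα => stronglyClosed_aut_map_eq hsc hP.1.1 hα⟩
  · intro h
    obtain ⟨hQS, hSinv⟩ := h S (Or.inl rfl)
    have hN : normalizerIn S Q = S := by
      refine inf_eq_left.2 fun g hg => Subgroup.mem_normalizer_iff.2 fun n => ?_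
      have key : ∀ a ∈ S, ∀ m ∈ Q, a * m * a⁻¹ ∈ Q := fun a ha m hm => by
        have ha' := hSinv _ (autInducedBy_le_autGroup F le_rfl
          (conjAut_mem_autInducedBy (P := S) ha (Subgroup.le_normalizer ha)))
        have h1 : conjAut S a (Subgroup.le_normalizer ha) ⟨m, hQS hm⟩ ∈ (Q.subgroupOf S).map
            (conjAut S a (Subgroup.le_normalizer ha)).toMonoidHom := ⟨⟨m, hQS hm⟩, hm, rfl⟩
        rw [ha'] at h1
        exact h1
      exact ⟨key g hg n, fun hn => by simpa [mul_assoc] using key g⁻¹ (S.inv_mem hg) _ hn⟩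
    have hle := alperin hS hF (copyOver (normalizerSystem F Q hQS) hN) fun P hP α hα => by
      obtain ⟨hQP, hinv⟩ := h P hP
      have hPS : P ≤ S := by
        rcases hP with rfl | hP
        exacts [le_rfl, hP.1.1]
      exact (mem_autGroup_iff_hom hPS).2
        (mem_normalizerHom_of_aut hQP (hPS.trans hN.ge) hα (hinv α hα))
    exact ⟨hQS, fun P φ hφ => (hle P hφ).2.2.2⟩

theorem isNormal_iff_centric_radical [Finite S] [Fact p.Prime] (hS : IsPGroup p S)
    (hF : F.IsSaturated p) :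
    F.IsNormal Q ↔ (F.StronglyClosed Q ∧
      ∀ P : Subgroup Ω, F.IsCentric P → F.IsRadical p P → Q ≤ P) := by
  refine ⟨fun hQ => ⟨isNormal_stronglyClosed hQ,
    fun P hc hr => isNormal_le_of_centric_radical hS hQ hc hr⟩, fun ⟨hsc, hle⟩ => ?_⟩
  refine (isNormal_iff_essential hS hF).2 fun P hP => ?_
  have hcr : F.IsCentric P ∧ F.IsRadical p P := by
    rcases hP with rfl | hP
    exacts [⟨isCentric_top F, isRadical_top hS hF⟩, ⟨hP.1, isRadical_of_isEssential hS hF hP⟩]
  exact ⟨hle P hcr.1 hcr.2, fun α hα => stronglyClosed_aut_map_eq hsc hcr.1.1 hα⟩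

theorem isNormal_of_characteristic {U : Subgroup Ω} (hQ : F.IsNormal Q) (hUQ : U ≤ Q)
    (hU : (U.subgroupOf Q).Characteristic) : F.IsNormal U := by
  refine ⟨hUQ.trans hQ.1, fun P φ hφ => ?_⟩
  obtain ⟨ψ, hψ, hag, hQψ⟩ := hQ.2 P φ hφ
  have hle : P ⊔ U ≤ P ⊔ Q := sup_le_sup_left hUQ P
  refine ⟨_, restrict_mem hψ hle, fun x => hag x, ?_⟩
  let eQ : Q ≃* Q := isoOfInjective (φ := ψ.comp (Subgroup.inclusion le_sup_right))
    ((hom_inj hψ).comp (Subgroup.inclusion_injective _))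
    ((range_comp_inclusion le_sup_right).trans hQψ)
  have heq := (Subgroup.characteristic_iff_map_eq.1 hU) eQ
  ext y
  rw [mem_map_subgroupOf]
  constructor
  · rintro ⟨x, hx, hxU, rfl⟩
    have h1 : eQ ⟨x, hUQ hxU⟩ ∈ (U.subgroupOf Q).map eQ.toMonoidHom := ⟨⟨x, hUQ hxU⟩, hxU, rfl⟩
    rw [heq] at h1
    exact h1
  · intro hy
    have h1 : (⟨y, hUQ hy⟩ : Q) ∈ (U.subgroupOf Q).map eQ.toMonoidHom := by rw [heq]; exact hy
    obtain ⟨⟨x, hx⟩, hxU, hxy⟩ := h1
    exact ⟨x, le_sup_right (a := P) hxU, hxU, congrArg (fun t : Q => (t : Ω)) hxy⟩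

/-- Central subgroups are detected by their elements. -/
theorem isCentral_iff_forall_conjElt [Finite S] [Fact p.Prime] (hS : IsPGroup p S)
    (hF : F.IsSaturated p) :
    F.IsCentral Q ↔ (Q ≤ S ∧ ∀ x ∈ Q, ∀ y : Ω, F.IsConjElt x y → y = x) := by
  constructor
  · rintro ⟨hQS, hQ⟩
    refine ⟨hQS, fun x hx y ⟨φ, hφ, hφx⟩ => ?_⟩
    obtain ⟨ψ, -, hag, hfix⟩ := hQ _ φ hφ
    rw [← hφx, ← hag]
    exact (congrArg ψ (Subtype.ext rfl)).trans (hfix ⟨x, hx⟩)
  · rintro ⟨hQS, hfix⟩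
    have hmap : ∀ {R : Subgroup Ω} {ψ : R →* Ω}, ψ ∈ F.Hom R → ∀ x : R, (x : Ω) ∈ Q → ψ x = x :=
      fun {R ψ} hψ x hx =>
        hfix x hx _ ⟨_, restrict_mem hψ (Subgroup.zpowers_le.2 x.2), rfl⟩
    have hC : centralizerIn S Q = S := by
      refine inf_eq_left.2 fun g hg => Subgroup.mem_centralizer_iff.2 fun x hx => ?_
      have h1 : g * x * g⁻¹ = x := hmap (F.conj_mem hQS hg) ⟨x, hx⟩ hx
      rw [mul_inv_eq_iff_eq_mul] at h1
      exact h1.symm
    have hle := alperin hS hF (copyOver (centralizerSystem F Q hQS) hC) fun P hP α hα => by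
      have hcent : F.IsCentric P := by
        rcases hP with rfl | hP
        exacts [isCentric_top F, hP.1]
      have hPS := hcent.1
      have hQP : Q ≤ P := fun x hx => centralizerIn_le_of_isCentric hcent
        ⟨hQS hx, Subgroup.mem_centralizer_iff.2 fun y hy =>
          (Subgroup.mem_centralizer_iff.1 (hC.ge (hPS hy)).2 x hx).symm⟩
      have hα' := (mem_autGroup_iff_hom hPS).1 hα
      exact (mem_autGroup_iff_hom hPS).2 ⟨hα', hPS.trans hC.ge, fun x => hC.ge (hPS (α x).2), _,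
        restrict_mem hα' (sup_le le_rfl hQP), fun x => rfl,
        fun x => hmap hα' ⟨x, hQP x.2⟩ x.2⟩
    exact ⟨hQS, fun P φ hφ => (hle P hφ).2.2.2⟩

/-- If all automorphism groups are `p`-groups the system is the inner one. -/
theorem eq_inner_of_isPGroup [Finite S] [Fact p.Prime] (hS : IsPGroup p S) (hF : F.IsSaturated p)
    (h : ∀ P : Subgroup Ω, P ≤ S → IsPGroup p (F.autGroup P)) : F = innerFusionSystem S := by
  have hsub : ∀ P : Subgroup Ω, (innerFusionSystem S).Hom P ⊆ F.Hom P := by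
    rintro P φ ⟨hP, g, hg, hφ⟩
    exact mem_of_eq_conj hP hg φ hφ
  have hle := alperin hS hF (innerFusionSystem S) fun P hP => by
    rcases hP with rfl | hP
    · intro α hα
      have : Finite (MulAut P) := finite_mulAut
      obtain ⟨-, T, hT⟩ := isFullyAutomized_of_isFullyNormalized hS hF (isFullyNormalized_top F)
      have htop : (T : Subgroup (F.autGroup P)) = ⊤ :=
        (T.3 (IsPGroup.to_subgroup (h P le_rfl) ⊤) le_top).symm
      have : (⟨α, hα⟩ : F.autGroup P) ∈ (T : Subgroup (F.autGroup P)) :=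
        htop ▸ Subgroup.mem_top _
      rw [hT] at this
      exact autInducedBy_le_autGroup _ le_rfl this
    · exact absurd hP (not_isEssential_of_isPGroup hS hF (h P hP.1.1))
  exact fusionSystem_ext fun P => Set.Subset.antisymm (hle P) (hsub P)

end CfsgLib.Fusion
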