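import Cfsg.Agent.Lib.Fusion.Group
import Cfsg.Agent.Lib.Fusion.Normal

/-!
# Saturation of the `K`-normalizer systems

For a subgroup `Q` and a group `K` of automorphisms of `Q` the maps of `N_F^K(Q)` are those which
extend to `P ⊔ Q` inducing an element of `K` on `Q`. Taking `K = ⊤` gives the normalizer system and
`K = ⊥` the centralizer system.
-/

set_option autoImplicit false

namespace CfsgLib.Fusion

open Cfsg Cfsg.FusionSystem

variable {Ω : Type*} [Group Ω] {S : Subgroup Ω} {F : Cfsg.FusionSystem S}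
variable {P Q R M : Subgroup Ω} {p : ℕ} {K : Subgroup (MulAut Q)}

/-! ### `N_S^K(Q)` and the maps of `N_F^K(Q)` -/

/-- The elements of `S` normalizing `Q` and inducing an element of `K` on it. -/
def kNormalizer (S Q : Subgroup Ω) (K : Subgroup (MulAut Q)) : Subgroup Ω :=
  S ⊓ (K.comap Q.normalizerMonoidHom).map (Subgroup.normalizer (Q : Set Ω)).subtype

theorem mem_kNormalizer {g : Ω} :
    g ∈ kNormalizer S Q K ↔
      g ∈ S ∧ ∃ hg : g ∈ Subgroup.normalizer (Q : Set Ω), conjAut Q g hg ∈ K := by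
  constructor
  · rintro ⟨hS, ⟨g', hg'⟩, hK, rfl⟩
    exact ⟨hS, hg', hK⟩
  · rintro ⟨hS, hg, hK⟩
    exact ⟨hS, ⟨g, hg⟩, hK, rfl⟩

theorem kNormalizer_le (S Q : Subgroup Ω) (K : Subgroup (MulAut Q)) :
    kNormalizer S Q K ≤ normalizerIn S Q := by
  intro g hg
  obtain ⟨hS, hgN, -⟩ := mem_kNormalizer.1 hg
  exact ⟨hS, hgN⟩

theorem kNormalizer_le_S (S Q : Subgroup Ω) (K : Subgroup (MulAut Q)) : kNormalizer S Q K ≤ S :=
  inf_le_left

/-- The maps of `N_F^K(Q)` with source `P`. -/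
def kHom (F : Cfsg.FusionSystem S) (Q : Subgroup Ω) (K : Subgroup (MulAut Q)) (P : Subgroup Ω) :
    Set (P →* Ω) :=
  {φ | φ ∈ F.Hom P ∧ P ≤ kNormalizer S Q K ∧ (∀ x : P, φ x ∈ kNormalizer S Q K) ∧
    ∃ ψ ∈ F.Hom (P ⊔ Q), (∀ x : P, ψ (Subgroup.inclusion le_sup_left x) = φ x) ∧
      ∃ k ∈ K, ∀ y : Q, ψ (Subgroup.inclusion le_sup_right y) = ((k y : Q) : Ω)}

/-- The automorphisms of `P ⊔ Q` preserving `P` and inducing an element of `K` on `Q`. -/
def kStab (P Q : Subgroup Ω) (K : Subgroup (MulAut Q)) : Subgroup (MulAut ↥(P ⊔ Q)) where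
  carrier := {α | (∀ x : ↥(P ⊔ Q), ((α x : ↥(P ⊔ Q)) : Ω) ∈ P ↔ (x : Ω) ∈ P) ∧
    ∃ k ∈ K, ∀ y : Q, ((α (Subgroup.inclusion le_sup_right y) : ↥(P ⊔ Q)) : Ω) = ((k y : Q) : Ω)}
  one_mem' := ⟨fun x => Iff.rfl, 1, K.one_mem, fun y => rfl⟩
  mul_mem' := by
    rintro α β ⟨hα, k, hk, hαk⟩ ⟨hβ, l, hl, hβl⟩
    refine ⟨fun x => (hα _).trans (hβ x), k * l, K.mul_mem hk hl, fun y => ?_⟩
    have e : β (Subgroup.inclusion le_sup_right y) = Subgroup.inclusion le_sup_right (l y) :=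
      Subtype.ext (hβl y)
    rw [MulAut.mul_apply, MulAut.mul_apply, e]
    exact hαk (l y)
  inv_mem' := by
    rintro α ⟨hα, k, hk, hαk⟩
    refine ⟨fun x => ?_, k⁻¹, K.inv_mem hk, fun y => ?_⟩
    · have := hα (α⁻¹ x)
      rw [MulAut.apply_inv_self] at this
      exact this.symm
    · have e : α (Subgroup.inclusion le_sup_right (k⁻¹ y)) = Subgroup.inclusion le_sup_right y :=
        Subtype.ext ((hαk _).trans (by rw [MulAut.apply_inv_self]; rfl))
      rw [← e, MulAut.inv_apply_self]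
      rfl

theorem mem_kStab {α : MulAut ↥(P ⊔ Q)} :
    α ∈ kStab P Q K ↔ (∀ x : ↥(P ⊔ Q), ((α x : ↥(P ⊔ Q)) : Ω) ∈ P ↔ (x : Ω) ∈ P) ∧
      ∃ k ∈ K, ∀ y : Q,
        ((α (Subgroup.inclusion le_sup_right y) : ↥(P ⊔ Q)) : Ω) = ((k y : Q) : Ω) := Iff.rfl

/-- `Aut_F` of `P ⊔ Q` cut down by the stabilizer. -/
def kAut (F : Cfsg.FusionSystem S) (P Q : Subgroup Ω) (K : Subgroup (MulAut Q)) :
    Subgroup (MulAut ↥(P ⊔ Q)) :=
  F.autGroup (P ⊔ Q) ⊓ kStab P Q K

/-- Restriction to `P`. -/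
def resAut (P Q : Subgroup Ω) (K : Subgroup (MulAut Q)) : kStab P Q K →* MulAut P where
  toFun α := restrictIso (α : MulAut ↥(P ⊔ Q)) le_sup_left le_sup_left α.2.1
  map_one' := MulEquiv.ext fun _ => Subtype.ext rfl
  map_mul' _ _ := MulEquiv.ext fun _ => Subtype.ext rfl

theorem resAut_apply (α : kStab P Q K) (x : P) :
    ((resAut P Q K α x : P) : Ω) =
      ((α : MulAut ↥(P ⊔ Q)) (Subgroup.inclusion le_sup_left x) : Ω) := rfl

/-- The part of `S` normalizing `P` inside `N_S^K(Q)` normalizes `P ⊔ Q`. -/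
theorem normalizer_sup_of_mem {g : Ω} (hP : g ∈ Subgroup.normalizer (P : Set Ω))
    (hQ : g ∈ Subgroup.normalizer (Q : Set Ω)) :
    g ∈ Subgroup.normalizer ((P ⊔ Q : Subgroup Ω) : Set Ω) := by
  rw [Subgroup.mem_normalizer_iff_map_conj_eq, Subgroup.map_sup,
    Subgroup.mem_normalizer_iff_map_conj_eq.1 hP, Subgroup.mem_normalizer_iff_map_conj_eq.1 hQ]

theorem autInducedBy_le_kAut (hPQ : P ⊔ Q ≤ S) :
    autInducedBy (normalizerIn (kNormalizer S Q K) P) (P ⊔ Q) ≤ kAut F P Q K := by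
  intro α hα
  obtain ⟨g, hgX, ⟨hgN, hgP⟩, rfl⟩ := exists_eq_conjAut hα
  obtain ⟨hgS, hgQ, hgK⟩ := mem_kNormalizer.1 hgN
  refine ⟨autInducedBy_le_autGroup F hPQ (conjAut_mem_autInducedBy hgS hgX), fun x => ?_,
    conjAut Q g hgQ, hgK, fun y => rfl⟩
  exact (Subgroup.mem_normalizer_iff.1 hgP x).symm

theorem card_eq_autInducedBy_mul {X : Subgroup Ω} (hM : M ≤ normalizerIn S X)
    (hC : centralizerIn S X ≤ M) :
    Nat.card M = Nat.card (autInducedBy M X) * Nat.card (centralizerIn S X) := by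
  have hMN : M ≤ Subgroup.normalizer (X : Set Ω) := hM.trans inf_le_right
  let f : M →* MulAut X := X.normalizerMonoidHom.comp (Subgroup.inclusion hMN)
  have hr : f.range = autInducedBy M X := by
    ext α
    constructor
    · rintro ⟨m, rfl⟩
      exact conjAut_mem_autInducedBy (P := X) m.2 (hMN m.2)
    · intro hα
      obtain ⟨g, hg, hgM, rfl⟩ := exists_eq_conjAut hα
      exact ⟨⟨g, hgM⟩, rfl⟩
  have hk : f.ker = (centralizerIn S X).subgroupOf M := by
    ext m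
    rw [MonoidHom.mem_ker]
    refine (conjAut_eq_one_iff (P := X) (hMN m.2)).trans
      ⟨fun h => ⟨(hM m.2).1, h⟩, fun h => h.2⟩
  rw [← hr, ← Subgroup.index_ker f, hk,
    ← Nat.card_congr (Subgroup.subgroupOfEquivOfLe hC).toEquiv, mul_comm, Subgroup.card_mul_index]

/-! ### The key lemma -/

/-- The hypothesis playing the role of "`Q` is fully `K`-normalized". -/
def IsFullyKNormalized (F : Cfsg.FusionSystem S) (Q : Subgroup Ω) (K : Subgroup (MulAut Q)) : Prop :=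
  ∀ (Q' : Subgroup Ω) (e : Q ≃* Q'), IsFIso F e →
    ∃ (D : Subgroup Ω) (θ : D →* Ω), θ ∈ F.Hom D ∧ Q' ≤ D ∧
      (∀ g (hg : g ∈ Subgroup.normalizer (Q' : Set Ω)), g ∈ S →
        MulAut.congr e.symm (conjAut Q' g hg) ∈ K → g ∈ D) ∧
      ∃ k ∈ K, ∀ (y : Q) (hy : (e y : Ω) ∈ D), θ ⟨e y, hy⟩ = ((k y : Q) : Ω)

theorem congr_conj_mem (K : Subgroup (MulAut Q)) {k a : MulAut Q} (hk : k ∈ K) (ha : a ∈ K) :
    MulAut.congr (k : Q ≃* Q) a ∈ K := by
  have : MulAut.congr (k : Q ≃* Q) a = k * a * k⁻¹ := MulEquiv.ext fun _ => rfl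
  rw [this]
  exact K.mul_mem (K.mul_mem hk ha) (K.inv_mem hk)

/-- For `P` fully normalized in `N_F^K(Q)`, the subgroup `P ⊔ Q` is fully centralized in `F` and
`Aut_S` contains a Sylow subgroup of the stabilizer. -/
theorem key_of_fullyNormalized [Finite S] [Fact p.Prime] (hS : IsPGroup p S)
    (hF : F.IsSaturated p) (hQS : Q ≤ S) (hQ : IsFullyKNormalized F Q K)
    {E : Cfsg.FusionSystem (kNormalizer S Q K)} (hE : ∀ P, E.Hom P = kHom F Q K P)
    (hP : E.IsFullyNormalized P) :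
    F.IsReceptive (P ⊔ Q) ∧
      IsSylowIn p (autInducedBy (normalizerIn (kNormalizer S Q K) P) (P ⊔ Q)) (kAut F P Q K) := by
  have hPN : P ≤ (kNormalizer S Q K) := hP.1
  have hXS : P ⊔ Q ≤ S := sup_le (hPN.trans (kNormalizer_le_S S Q K)) hQS
  have : Finite ↥(P ⊔ Q) := finite_of_le hXS
  have : Finite (MulAut ↥(P ⊔ Q)) := finite_mulAut
  -- a fully normalized conjugate of `P ⊔ Q` with a Sylow of the stabilizer inside `Aut_S`
  obtain ⟨X', hXX', hX'⟩ := exists_isFullyNormalized F hXS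
  obtain ⟨χ₀, hχ₀⟩ := exists_iso_of_isConj hXX'
  have : Finite X' := finite_of_le hX'.1
  have : Finite (MulAut X') := finite_mulAut
  obtain ⟨-, TX, hTX⟩ := isFullyAutomized_of_isFullyNormalized hS hF hX'
  obtain ⟨T⟩ : Nonempty (Sylow p (kAut F P Q K)) := inferInstance
  set T₀ : Subgroup (MulAut ↥(P ⊔ Q)) := T.toSubgroup.map (kAut F P Q K).subtype with hT₀
  have hT₀p : IsPGroup p T₀ := T.2.map _
  obtain ⟨γ, hγ⟩ := exists_conj_le_sylow TX (IsPGroup.comap_subtype (K := F.autGroup X')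
    (hT₀p.map (MulAut.congr χ₀).toMonoidHom))
  let χ : ↥(P ⊔ Q) ≃* X' := χ₀.trans ((γ : MulAut X') : X' ≃* X')
  have hχ : IsFIso F χ := hχ₀.trans ((mem_autGroup_iff hX'.1).1 γ.2)
  have hTχ : ∀ α ∈ T₀, MulAut.congr χ α ∈ autInducedBy S X' := by
    intro α hα
    have hαG : α ∈ F.autGroup (P ⊔ Q) := (Subgroup.map_subtype_le _ hα).1
    have := hγ ⟨_, hχ₀.congr_mem hαG⟩ ⟨α, hα, rfl⟩
    rw [hTX, Subgroup.mem_subgroupOf] at this
    have heq : MulAut.congr χ α = (γ : MulAut X') * MulAut.congr χ₀ α * (γ : MulAut X')⁻¹ :=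
      MulEquiv.ext fun x => rfl
    rw [heq]
    exact this
  -- the images of `P` and `Q`
  set χh : ↥(P ⊔ Q) →* Ω := X'.subtype.comp χ.toMonoidHom
  set Q' := (Q.subgroupOf (P ⊔ Q)).map χh with hQ'
  let e : Q ≃* Q' := isoOfInjective (φ := χh.comp (Subgroup.inclusion le_sup_right))
    ((hom_inj hχ).comp (Subgroup.inclusion_injective _)) (range_comp_inclusion le_sup_right)
  have heF : IsFIso F e := IsFIso.restrict hχ le_sup_right e fun _ => rfl
  obtain ⟨D, θ, hθ, hQ'D, hD, k, hk, hθk⟩ := hQ Q' e heF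
  have hχX : ∀ x, χh x ∈ D := by
    refine forall_mem_of_sup (fun x => ?_) (fun y => hQ'D (apply_mem_map_subgroupOf _ y.2))
    obtain ⟨hxS, hxQ, hxK⟩ := mem_kNormalizer.1 (hPN x.2)
    have hagχ : ∀ y : Q, χh ⟨y, le_sup_right (a := P) y.2⟩ = (e y : Ω) := fun _ => rfl
    have h1 := congr_conjAut_eq_of_extends (le_sup_right (a := P)) hagχ
      (le_sup_left (b := Q) x.2) hxQ
    refine hD _ (map_mem_normalizer_of_extends (le_sup_right (a := P)) hagχ
      (le_sup_left (b := Q) x.2) hxQ) (map_mem hχ _) ?_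
    change MulAut.congr e.symm (conjAut Q' (χh ⟨x, le_sup_left (b := Q) x.2⟩) _) ∈ K
    rw [← h1]
    convert hxK using 1
    exact MulEquiv.ext fun y => by simp
  set Φ : ↥(P ⊔ Q) →* Ω := θ.comp (χh.codRestrict D hχX)
  have hΦ : Φ ∈ F.Hom (P ⊔ Q) := F.comp_mem hχ hθ hχX
  have hΦQ : ∀ y : Q, Φ ⟨y, le_sup_right (a := P) y.2⟩ = ((k y : Q) : Ω) := fun y =>
    hθk y (hQ'D (e y).2)
  have hΦN : ∀ x : P, Φ ⟨x, le_sup_left (b := Q) x.2⟩ ∈ (kNormalizer S Q K) := by
    intro x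
    obtain ⟨hxS, hxQ, hxK⟩ := mem_kNormalizer.1 (hPN x.2)
    refine mem_kNormalizer.2 ⟨map_mem hΦ _, ?_, ?_⟩
    · exact map_mem_normalizer_of_extends (e := (k : Q ≃* Q)) (le_sup_right (a := P)) hΦQ _ hxQ
    · rw [← congr_conjAut_eq_of_extends (e := (k : Q ≃* Q)) (le_sup_right (a := P)) hΦQ _ hxQ]
      exact congr_conj_mem K hk hxK
  set P'' := (P.subgroupOf (P ⊔ Q)).map Φ with hP''
  have hconj : E.IsConj P P'' := by
    refine ⟨Φ.comp (Subgroup.inclusion le_sup_left), ?_, range_comp_inclusion le_sup_left⟩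
    rw [hE]
    exact ⟨restrict_mem hΦ le_sup_left, hPN, hΦN, Φ, hΦ, fun _ => rfl, k, hk, hΦQ⟩
  -- the normalizing subgroup at `X'`
  let M' : Subgroup Ω := S ⊓
    (((kAut F P Q K).map (MulAut.congr χ).toMonoidHom).comap X'.normalizerMonoidHom).map
      (Subgroup.normalizer (X' : Set Ω)).subtype
  have hM'mem : ∀ g ∈ M', g ∈ S ∧ ∃ hg : g ∈ Subgroup.normalizer (X' : Set Ω),
      ∃ α ∈ kAut F P Q K, MulAut.congr χ α = conjAut X' g hg := by
    rintro g ⟨hgS, ⟨g', hg'⟩, ⟨α, hα, hαg⟩, rfl⟩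
    exact ⟨hgS, hg', α, hα, hαg⟩
  have hact : ∀ g ∈ M', ∃ α ∈ kAut F P Q K, ∀ x : ↥(P ⊔ Q), χh (α x) = g * χh x * g⁻¹ := by
    intro g hg
    obtain ⟨hgS, hgX, α, hα, hαg⟩ := hM'mem g hg
    refine ⟨α, hα, fun x => ?_⟩
    have := congrArg (fun a : MulAut X' => ((a (χ x) : X') : Ω)) hαg
    simp only [congr_apply, MulEquiv.symm_apply_apply, conjAut_apply] at this
    exact this
  have hM'Q : ∀ g ∈ M', ∃ hg : g ∈ Subgroup.normalizer (Q' : Set Ω),
      MulAut.congr e.symm (conjAut Q' g hg) ∈ K := by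
    intro g hg
    obtain ⟨α, ⟨-, -, l, hl, hαl⟩, hαg⟩ := hact g hg
    have h1 : ∀ y : Q, ((e (l y) : Q') : Ω) = g * (e y : Ω) * g⁻¹ := fun y => by
      refine Eq.trans ?_ (hαg ⟨y, le_sup_right (a := P) y.2⟩)
      show χh ⟨l y, _⟩ = _
      congr 1
      exact Subtype.ext (hαl y).symm
    have hgn : g ∈ Subgroup.normalizer (Q' : Set Ω) :=
      mem_normalizer_of_forall (α := MulAut.congr e l) fun z => by
        rw [congr_apply, h1, MulEquiv.apply_symm_apply]
    refine ⟨hgn, ?_⟩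
    convert hl using 1
    refine MulEquiv.ext fun y => e.injective (Subtype.ext ?_)
    rw [h1]
    simp [conjAut_apply]
  have hM'D : M' ≤ D := fun g hg => by
    obtain ⟨hgn, hgK⟩ := hM'Q g hg
    exact hD g hgn hg.1 hgK
  have hθN : ∀ g (hg : g ∈ M'), θ ⟨g, hM'D hg⟩ ∈ normalizerIn (kNormalizer S Q K) P'' := by
    intro g hg
    obtain ⟨hgn, hgK⟩ := hM'Q g hg
    have hag : ∀ z : Q', θ ⟨z, hQ'D z.2⟩ = (((e.symm.trans (k : Q ≃* Q)) z : Q) : Ω) := by
      intro z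
      obtain ⟨y, rfl⟩ := e.surjective z
      rw [MulEquiv.trans_apply, MulEquiv.symm_apply_apply]
      exact hθk y _
    refine ⟨mem_kNormalizer.2 ⟨map_mem hθ _, map_mem_normalizer_of_extends hQ'D hag _ hgn, ?_⟩, ?_⟩
    · rw [← congr_conjAut_eq_of_extends hQ'D hag (hM'D hg) hgn]
      exact congr_conj_mem K hk hgK
    · obtain ⟨α, ⟨-, hαP, -⟩, hαg⟩ := hact g hg
      have hconjθ : ∀ x : ↥(P ⊔ Q), Φ (α x) = θ ⟨g, hM'D hg⟩ * Φ x * (θ ⟨g, hM'D hg⟩)⁻¹ := by
        intro x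
        show θ ⟨χh (α x), hχX _⟩ = _ * θ ⟨χh x, hχX x⟩ * _
        rw [← map_inv θ, ← map_mul θ, ← map_mul θ]
        congr 1
        exact Subtype.ext (hαg x)
      refine Subgroup.mem_normalizer_iff.2 fun z => ⟨fun hz => ?_, fun hz => ?_⟩
      · obtain ⟨x, hx, hxP, rfl⟩ := mem_map_subgroupOf.1 hz
        rw [← hconjθ]
        exact apply_mem_map_subgroupOf (α ⟨x, hx⟩) ((hαP ⟨x, hx⟩).2 hxP)
      · obtain ⟨x, hx, hxP, hxz⟩ := mem_map_subgroupOf.1 hz
        have h2 := hconjθ (α⁻¹ ⟨x, hx⟩)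
        rw [MulAut.apply_inv_self, hxz, mul_right_cancel_iff, mul_left_cancel_iff] at h2
        rw [h2]
        refine apply_mem_map_subgroupOf (α⁻¹ ⟨x, hx⟩) ?_
        have h3 := hαP (α⁻¹ ⟨x, hx⟩)
        rw [MulAut.apply_inv_self] at h3
        exact h3.1 hxP
  -- counting
  set A := autInducedBy (normalizerIn (kNormalizer S Q K) P) (P ⊔ Q) with hA
  have hAL : A ≤ kAut F P Q K := autInducedBy_le_kAut hXS
  have hMP : normalizerIn (kNormalizer S Q K) P ≤ normalizerIn S (P ⊔ Q) := fun g hg =>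
    ⟨kNormalizer_le_S S Q K hg.1, normalizer_sup_of_mem hg.2 (kNormalizer_le S Q K hg.1).2⟩
  have hCMP : centralizerIn S (P ⊔ Q) ≤ normalizerIn (kNormalizer S Q K) P := by
    intro g hg
    have hgQ : g ∈ Subgroup.centralizer (Q : Set Ω) := Subgroup.centralizer_le (le_sup_right : Q ≤ P ⊔ Q) hg.2
    refine ⟨mem_kNormalizer.2 ⟨hg.1, centralizer_le_normalizer Q hgQ, ?_⟩,
      centralizer_le_normalizer P (Subgroup.centralizer_le (le_sup_left : P ≤ P ⊔ Q) hg.2)⟩
    rw [(conjAut_eq_one_iff _).2 hgQ]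
    exact K.one_mem
  have hCM' : centralizerIn S X' ≤ M' := fun g hg =>
    ⟨hg.1, ⟨g, centralizer_le_normalizer X' hg.2⟩, ⟨1, (kAut F P Q K).one_mem, by
      rw [map_one]; exact ((conjAut_eq_one_iff _).2 hg.2).symm⟩, rfl⟩
  have hM'N : M' ≤ normalizerIn S X' := by
    intro g hg
    obtain ⟨hgS, hgX, -⟩ := hM'mem g hg
    exact ⟨hgS, hgX⟩
  have hAfin : Finite (autInducedBy M' X') := inferInstance
  have hTM' : Nat.card T₀ ≤ Nat.card (autInducedBy M' X') := by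
    refine Nat.card_le_card_of_injective
      (fun α : T₀ => (⟨MulAut.congr χ α, ?_⟩ : autInducedBy M' X'))
      fun a b hab => Subtype.ext ((MulAut.congr χ).injective (congrArg Subtype.val hab))
    obtain ⟨g, hg, hgS, hgeq⟩ := exists_eq_conjAut (hTχ α α.2)
    rw [hgeq]
    exact conjAut_mem_autInducedBy (K := M')
      ⟨hgS, ⟨g, hg⟩, ⟨(α : MulAut ↥(P ⊔ Q)), Subgroup.map_subtype_le _ α.2, hgeq⟩, rfl⟩ hg
  have hfinN : Finite (normalizerIn (kNormalizer S Q K) P'') :=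
    finite_of_le ((normalizerIn_le (kNormalizer S Q K) P'').trans (kNormalizer_le_S S Q K))
  have h1 : Nat.card M' ≤ Nat.card (normalizerIn (kNormalizer S Q K) P) := by
    refine le_trans ?_ (hP.2 P'' hconj)
    refine Nat.card_le_card_of_injective
      (fun g : M' => (⟨θ ⟨g, hM'D g.2⟩, hθN g g.2⟩ : normalizerIn (kNormalizer S Q K) P'')) ?_
    intro a b hab
    have h2 := congrArg Subtype.val (hom_inj hθ (congrArg Subtype.val hab))
    exact Subtype.ext h2
  rw [card_eq_autInducedBy_mul hM'N hCM', card_eq_autInducedBy_mul hMP hCMP] at h1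
  have hAp : IsPGroup p A := (isPGroup_autInducedBy hS _).to_le
    (autInducedBy_mono ((normalizerIn_le (kNormalizer S Q K) P).trans (kNormalizer_le_S S Q K)) _)
  have hTsyl : IsSylowIn p T₀ (kAut F P Q K) :=
    ⟨T, (Subgroup.comap_map_eq_self_of_injective (kAut F P Q K).subtype_injective _).symm⟩
  have h2 : Nat.card A ≤ Nat.card T₀ := hTsyl.card_le (Subgroup.map_subtype_le _) hAp hAL
  have h3 : Nat.card (centralizerIn S (P ⊔ Q)) ≤ Nat.card (centralizerIn S X') :=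
    (isFullyCentralized_of_isFullyNormalized hS hF hX').2 _ (isConj_symm hXX')
  have hfinC : Finite (centralizerIn S X') := finite_of_le (centralizerIn_le S X')
  have hApos : 0 < Nat.card A := Nat.card_pos
  have hCpos : 0 < Nat.card (centralizerIn S X') := Nat.card_pos
  have h4 : Nat.card T₀ * Nat.card (centralizerIn S X') ≤
      Nat.card A * Nat.card (centralizerIn S (P ⊔ Q)) :=
    (Nat.mul_le_mul_right _ hTM').trans h1
  have h5 : Nat.card A = Nat.card T₀ := le_antisymm h2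
    (Nat.le_of_mul_le_mul_right (h4.trans (Nat.mul_le_mul_left _ h3)) hCpos)
  have h6 : Nat.card (centralizerIn S X') ≤ Nat.card (centralizerIn S (P ⊔ Q)) :=
    Nat.le_of_mul_le_mul_left (h5 ▸ h4) (h5 ▸ hApos)
  refine ⟨isReceptive_of_isFullyCentralized hS hF ⟨hXS, fun Y hY => ?_⟩,
    isSylowIn_of_card_le hAp hAL fun U hU hUL => ?_⟩
  · exact ((isFullyCentralized_of_isFullyNormalized hS hF hX').2 Y
      (isConj_trans (isConj_symm hXX') hY)).trans h6
  · exact h5 ▸ hTsyl.card_le (Subgroup.map_subtype_le _) hU hUL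

/-! ### Saturation -/

/-- `N_F^K(Q)` is saturated when `Q` is fully `K`-normalized. -/
theorem isSaturated_kNormalizerSystem [Finite S] [Fact p.Prime] (hS : IsPGroup p S)
    (hF : F.IsSaturated p) (hQS : Q ≤ S) (hQ : IsFullyKNormalized F Q K)
    {E : Cfsg.FusionSystem (kNormalizer S Q K)} (hE : ∀ P, E.Hom P = kHom F Q K P) :
    E.IsSaturated p := by
  have : Finite (kNormalizer S Q K) := finite_of_le (kNormalizer_le_S S Q K)
  intro P₀ hP₀
  obtain ⟨P, hP₀P, hP⟩ := exists_isFullyNormalized E hP₀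
  refine ⟨P, hP₀P, ?_⟩
  obtain ⟨hrec, hsyl⟩ := key_of_fullyNormalized hS hF hQS hQ hE hP
  have hPN : P ≤ (kNormalizer S Q K) := hP.1
  have hXS : P ⊔ Q ≤ S := sup_le (hPN.trans (kNormalizer_le_S S Q K)) hQS
  have : Finite ↥(P ⊔ Q) := finite_of_le hXS
  have : Finite (MulAut ↥(P ⊔ Q)) := finite_mulAut
  let f : kAut F P Q K →* MulAut P :=
    (resAut P Q K).comp (Subgroup.inclusion (inf_le_right : kAut F P Q K ≤ kStab P Q K))
  have hf : ∀ (α : kAut F P Q K) (x : P),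
      ((f α x : P) : Ω) = ((α : MulAut ↥(P ⊔ Q)) ⟨x, le_sup_left (b := Q) x.2⟩ : Ω) := fun _ _ => rfl
  -- `f` maps onto `Aut_E(P)`
  have hfmem : ∀ α, f α ∈ E.autGroup P := by
    intro α
    rw [mem_autGroup_iff_hom hPN, hE]
    obtain ⟨hαA, -, k, hk, hαk⟩ := α.2
    refine ⟨?_, hPN, fun x => hPN (f α x).2, _, (mem_autGroup_iff_hom hXS).1 hαA, fun x => rfl,
      k, hk, hαk⟩
    exact mem_of_restrict ((mem_autGroup_iff_hom hXS).1 hαA) le_sup_left _ fun x => rfl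
  have hfsurj : ∀ β ∈ E.autGroup P, ∃ α, f α = β := by
    intro β hβ
    rw [mem_autGroup_iff_hom hPN, hE] at hβ
    obtain ⟨-, -, -, ψ, hψ, hag, k, hk, hψk⟩ := hβ
    have hψX : ∀ x, ψ x ∈ P ⊔ Q := forall_mem_of_sup
      (fun x => by rw [hag]; exact le_sup_left (b := Q) (β x).2)
      (fun y => by rw [hψk]; exact le_sup_right (a := P) (k y).2)
    obtain ⟨a, ha, haψ⟩ := exists_aut hψ (range_eq_of_le (hom_inj hψ) hψX)
    have haP : ∀ x : ↥(P ⊔ Q), ((a x : ↥(P ⊔ Q)) : Ω) ∈ P ↔ (x : Ω) ∈ P := by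
      intro x
      constructor
      · intro hx
        have h1 : a ⟨β⁻¹ ⟨_, hx⟩, le_sup_left (b := Q) (β⁻¹ ⟨_, hx⟩).2⟩ = a x := Subtype.ext <| by
          refine (haψ _).trans ((hag (β⁻¹ ⟨_, hx⟩)).trans ?_)
          show ((β (β⁻¹ ⟨_, hx⟩) : P) : Ω) = _
          rw [MulAut.apply_inv_self]
        exact (congrArg Subtype.val (a.injective h1)) ▸ (β⁻¹ ⟨_, hx⟩).2
      · intro hx
        rw [haψ]
        exact (hag ⟨x, hx⟩) ▸ (β ⟨x, hx⟩).2
    exact ⟨⟨a, ha, haP, k, hk, fun y => (haψ _).trans (hψk y)⟩,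
      MulEquiv.ext fun x => Subtype.ext ((haψ _).trans (hag x))⟩
  constructor
  · refine ⟨hPN, ?_⟩
    obtain ⟨T, hT⟩ := hsyl
    let g : kAut F P Q K →* E.autGroup P := f.codRestrict _ hfmem
    have hg : Function.Surjective g := fun β =>
      (hfsurj β β.2).imp fun α hα => Subtype.ext hα
    refine ⟨T.mapSurjective hg, ?_⟩
    rw [Sylow.coe_mapSurjective, hT]
    ext β
    constructor
    · rintro ⟨α, hα, rfl⟩
      obtain ⟨h, hhX, ⟨hhN, hhP⟩, hαh⟩ :=
        exists_eq_conjAut (show (α : MulAut ↥(P ⊔ Q)) ∈ autInducedBy _ _ from hα)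
      refine mem_autInducedBy_iff.2 ⟨h, hhN, fun x => ?_⟩
      show ((f α x : P) : Ω) = _
      rw [hf, hαh]
      rfl
    · intro hβ
      obtain ⟨h, hhP, hhN, hβh⟩ := exists_eq_conjAut (show (β : MulAut P) ∈ autInducedBy (kNormalizer S Q K) P from hβ)
      have hhX := normalizer_sup_of_mem hhP (kNormalizer_le S Q K hhN).2
      have hmem := conjAut_mem_autInducedBy (P := P ⊔ Q)
        (show h ∈ normalizerIn (kNormalizer S Q K) P from ⟨hhN, hhP⟩) hhX
      exact ⟨⟨_, autInducedBy_le_kAut hXS hmem⟩, hmem,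
        Subtype.ext (hβh ▸ MulEquiv.ext fun x => Subtype.ext rfl)⟩
  · refine ⟨hPN, fun R φ hφ hr => ?_⟩
    rw [hE] at hφ
    obtain ⟨hφF, hRN, hφN, φ', hφ', hag, k, hk, hφk⟩ := hφ
    have hφ'r : φ'.range = P ⊔ Q := by
      refine le_antisymm ?_ (sup_le ?_ ?_)
      · rintro _ ⟨x, rfl⟩
        exact forall_mem_of_sup
          (fun x => by rw [hag]; exact le_sup_left (b := Q) (hr ▸ ⟨x, rfl⟩))
          (fun y => by rw [hφk]; exact le_sup_right (a := P) (k y).2) x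
      · intro y hy
        rw [← hr] at hy
        obtain ⟨x, rfl⟩ := hy
        exact ⟨_, hag x⟩
      · intro y hy
        exact ⟨_, (hφk (k⁻¹ ⟨y, hy⟩)).trans (by rw [MulAut.apply_inv_self])⟩
    obtain ⟨ê, hê, hêφ⟩ := exists_iso hφ' hφ'r
    obtain ⟨ε, hε, hεφ⟩ := exists_iso hφF hr
    set V := extender (kNormalizer S Q K) R φ with hV
    have hVN : V ≤ normalizerIn (kNormalizer S Q K) R := extender_le_normalizerIn φ
    have hVX : V ≤ normalizerIn S (R ⊔ Q) := fun g hg =>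
      ⟨kNormalizer_le_S S Q K (hVN hg).1,
        normalizer_sup_of_mem (hVN hg).2 (kNormalizer_le S Q K (hVN hg).1).2⟩
    -- the transported action of `V` lies in `L₁`
    set L₁ := ((autInducedBy (kNormalizer S Q K) P).comap f) with hL₁
    have hVL : ∀ g (hg : g ∈ V), ∃ α ∈ L₁,
        MulAut.congr ê (conjAut (R ⊔ Q) g (hVX hg).2) = ((α : kAut F P Q K) : MulAut ↥(P ⊔ Q)) := by
      intro g hg
      obtain ⟨hgS, hgQ, hgK⟩ := mem_kNormalizer.1 (hVN hg).1
      have hαA := hê.congr_mem (autInducedBy_le_autGroup F hê.le_left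
        (conjAut_mem_autInducedBy hgS (hVX hg).2))
      obtain ⟨hgN', hgR, h, hh, hgh⟩ := mem_extender_iff.1 hg
      set α₀ := MulAut.congr ê (conjAut (R ⊔ Q) g (hVX hg).2) with hα₀
      have happ : ∀ x, (α₀ (ê x) : Ω) = φ' (conjAut (R ⊔ Q) g (hVX hg).2 x) := fun x => by
        rw [hα₀, congr_apply, MulEquiv.symm_apply_apply]
        exact hêφ _
      have hRact : ∀ x : R, (α₀ (ê ⟨x, le_sup_left (b := Q) x.2⟩) : Ω) =
          h * φ x * h⁻¹ := fun x => by
        rw [happ]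
        refine Eq.trans ?_ (hgh x (conj_mem_of_mem_normalizer hgR x.2))
        exact hag ⟨g * x * g⁻¹, conj_mem_of_mem_normalizer hgR x.2⟩
      have hαk : ∀ y : Q, ((α₀ (Subgroup.inclusion le_sup_right y) : ↥(P ⊔ Q)) : Ω) =
          ((MulAut.congr (k : Q ≃* Q) (conjAut Q g hgQ) y : Q) : Ω) := fun y => by
        have hy : ê ⟨(k⁻¹ y : Q), le_sup_right (a := R) (k⁻¹ y).2⟩ =
            Subgroup.inclusion le_sup_right y := Subtype.ext <| by
          refine (hêφ _).trans ((hφk (k⁻¹ y)).trans ?_)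
          rw [MulAut.apply_inv_self]
          rfl
        rw [← hy, happ]
        exact (congrArg φ' (Subtype.ext rfl)).trans
          (hφk (conjAut Q g hgQ (k⁻¹ y)))
      have hαP : ∀ x : ↥(P ⊔ Q), ((α₀ x : ↥(P ⊔ Q)) : Ω) ∈ P ↔ (x : Ω) ∈ P := by
        intro z
        obtain ⟨x, rfl⟩ := ê.surjective z
        rw [happ, hêφ]
        have key : ∀ w : ↥(R ⊔ Q), φ' w ∈ P ↔ (w : Ω) ∈ R := by
          intro w
          constructor
          · intro hw
            rw [← hr] at hw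
            obtain ⟨x, hx⟩ := hw
            rw [← hag] at hx
            exact (congrArg Subtype.val (hom_inj hφ' hx)) ▸ x.2
          · intro hw
            rw [← hr]
            exact ⟨⟨w, hw⟩, (hag ⟨w, hw⟩).symm⟩
        rw [key, key]
        exact (Subgroup.mem_normalizer_iff.1 hgR x).symm
      refine ⟨⟨α₀, hαA, hαP, _, congr_conj_mem K hk hgK, hαk⟩, ?_, rfl⟩
      refine mem_autInducedBy_iff.2 ⟨h, hh, fun x => ?_⟩
      obtain ⟨y, rfl⟩ := ε.surjective x
      rw [hf]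
      have he : (⟨(ε y : Ω), le_sup_left (b := Q) (ε y).2⟩ : ↥(P ⊔ Q)) =
          ê ⟨y, le_sup_left (b := Q) y.2⟩ :=
        Subtype.ext ((hεφ y).trans ((hag y).symm.trans (hêφ _).symm))
      rw [he, hεφ]
      exact hRact y
    -- conjugate into the Sylow subgroup by an element trivial on `P`
    have hA₁ : IsSylowIn p ((autInducedBy (normalizerIn (kNormalizer S Q K) P) (P ⊔ Q)).subgroupOf (kAut F P Q K))
        L₁ := by
      obtain ⟨T, hT⟩ := hsyl
      have hle : T.toSubgroup ≤ L₁ := by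
        intro α hα
        rw [hT] at hα
        obtain ⟨h, hhX, ⟨hhN, hhP⟩, hαh⟩ := exists_eq_conjAut hα
        refine mem_autInducedBy_iff.2 ⟨h, hhN, fun x => ?_⟩
        rw [hf]
        show ((α : MulAut ↥(P ⊔ Q)) _ : Ω) = _
        rw [show (α : MulAut ↥(P ⊔ Q)) = conjAut _ h hhX from hαh]
        rfl
      exact ⟨T.subtype hle, by rw [Sylow.coe_subtype, hT]⟩
    let U : Subgroup (kAut F P Q K) := ((autInducedBy V (R ⊔ Q)).map
      (MulAut.congr ê).toMonoidHom).subgroupOf (kAut F P Q K)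
    have hUp : IsPGroup p U := IsPGroup.comap_subtype (((isPGroup_autInducedBy hS _).to_le
      (autInducedBy_mono ((hVN.trans (normalizerIn_le (kNormalizer S Q K) R)).trans (kNormalizer_le_S S Q K)) _)).map _)
    have hUL : U ≤ L₁ := by
      rintro α ⟨β, hβ, hβα⟩
      obtain ⟨g, hgX, hgV, rfl⟩ := exists_eq_conjAut hβ
      obtain ⟨α', hα', hα'eq⟩ := hVL g hgV
      exact (Subtype.ext (hα'eq.symm.trans hβα) : α' = α) ▸ hα'
    obtain ⟨l, hl, hlU⟩ := hA₁.exists_conj_le hUp hUL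
    obtain ⟨h, hhP, hhN, hlh⟩ := exists_eq_conjAut (show f l ∈ autInducedBy (kNormalizer S Q K) P from hl)
    have hhX := normalizer_sup_of_mem hhP (kNormalizer_le S Q K hhN).2
    have hhA := conjAut_mem_autInducedBy (P := P ⊔ Q)
      (show h ∈ normalizerIn (kNormalizer S Q K) P from ⟨hhN, hhP⟩) hhX
    set a : kAut F P Q K := ⟨conjAut (P ⊔ Q) h hhX, autInducedBy_le_kAut hXS hhA⟩
    set l₀ := a⁻¹ * l with hl₀
    have hl₀P : ∀ x : P, ((l₀ : MulAut ↥(P ⊔ Q)) ⟨x, le_sup_left (b := Q) x.2⟩ : Ω) = x := by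
      intro x
      have h1 : f l₀ = 1 := by
        rw [hl₀, map_mul, map_inv, inv_mul_eq_one, hlh]
        exact MulEquiv.ext fun x => Subtype.ext rfl
      have h2 := congrArg (fun b : MulAut P => ((b x : P) : Ω)) h1
      exact h2
    obtain ⟨hl₀A, -, k₀, hk₀, hl₀k⟩ := l₀.2
    let ê' : ↥(R ⊔ Q) ≃* ↥(P ⊔ Q) := ê.trans ((l₀ : MulAut ↥(P ⊔ Q)) : ↥(P ⊔ Q) ≃* ↥(P ⊔ Q))
    have hê' : IsFIso F ê' := hê.trans ((mem_autGroup_iff hXS).1 hl₀A)
    have hVext : V ⊔ Q ≤ extender S (R ⊔ Q) ((P ⊔ Q).subtype.comp ê'.toMonoidHom) := by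
      refine sup_le (fun g hg => ?_)
        (le_sup_right.trans (le_extender hê'.le_left fun x => map_mem hê' x))
      refine (mem_extender_iff_congr ê' (fun _ => rfl) (kNormalizer_le_S S Q K (hVN hg).1)
        (hVX hg).2).2 ?_
      obtain ⟨α, hα, hαeq⟩ := hVL g hg
      have h1 := hlU α ⟨_, conjAut_mem_autInducedBy hg (hVX hg).2, hαeq⟩
      have heq : MulAut.congr ê' (conjAut (R ⊔ Q) g (hVX hg).2) =
          ((a⁻¹ * (l * α * l⁻¹) * a : kAut F P Q K) : MulAut ↥(P ⊔ Q)) := by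
        have : MulAut.congr ê' (conjAut (R ⊔ Q) g (hVX hg).2) =
            ((l₀ * α * l₀⁻¹ : kAut F P Q K) : MulAut ↥(P ⊔ Q)) := by
          show _ = (l₀ : MulAut ↥(P ⊔ Q)) * (α : MulAut ↥(P ⊔ Q)) * (l₀ : MulAut ↥(P ⊔ Q))⁻¹
          rw [← hαeq]
          exact MulEquiv.ext fun x => rfl
        rw [this, hl₀]
        simp [mul_assoc]
      rw [heq]
      have h2 : a⁻¹ * (l * α * l⁻¹) * a ∈
          (autInducedBy (normalizerIn (kNormalizer S Q K) P) (P ⊔ Q)).subgroupOf (kAut F P Q K) :=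
        mul_mem (mul_mem (inv_mem hhA) h1) hhA
      exact autInducedBy_mono ((normalizerIn_le (kNormalizer S Q K) P).trans (kNormalizer_le_S S Q K)) _ h2
    obtain ⟨ψ, hψ, hψext⟩ := hrec.2 _ _ hê' (range_subtype_comp ê')
    set ψV := ψ.comp (Subgroup.inclusion hVext) with hψV
    have hψV' : ψV ∈ F.Hom (V ⊔ Q) := restrict_mem hψ hVext
    have hψQ : ∀ y : Q, ψV ⟨y, le_sup_right (a := V) y.2⟩ = (((k₀ * k) y : Q) : Ω) := by
      intro y
      refine (hψext y (le_sup_right (a := R) y.2) (hVext (le_sup_right (a := V) y.2))).trans ?_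
      have : ê ⟨y, le_sup_right (a := R) y.2⟩ = Subgroup.inclusion le_sup_right (k y) :=
        Subtype.ext ((hêφ _).trans (hφk y))
      show ((l₀ : MulAut ↥(P ⊔ Q)) (ê ⟨y, _⟩) : Ω) = _
      rw [this]
      exact hl₀k (k y)
    refine ⟨ψV.comp (Subgroup.inclusion le_sup_left), ?_, fun x hx hxV => ?_⟩
    · rw [hE]
      refine ⟨restrict_mem hψV' le_sup_left, hVN.trans (normalizerIn_le (kNormalizer S Q K) R), fun g => ?_,
        ψV, hψV', fun _ => rfl, k₀ * k, K.mul_mem hk₀ hk, hψQ⟩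
      obtain ⟨hgS, hgQ, hgK⟩ := mem_kNormalizer.1 (hVN g.2).1
      refine mem_kNormalizer.2 ⟨map_mem hψV' _,
        map_mem_normalizer_of_extends (e := ((k₀ * k : MulAut Q) : Q ≃* Q))
          (le_sup_right (a := V)) hψQ (le_sup_left (b := Q) g.2) hgQ, ?_⟩
      change conjAut Q (ψV ⟨g, le_sup_left (b := Q) g.2⟩) _ ∈ K
      rw [← congr_conjAut_eq_of_extends (e := ((k₀ * k : MulAut Q) : Q ≃* Q))
        (le_sup_right (a := V)) hψQ (le_sup_left (b := Q) g.2) hgQ]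
      exact congr_conj_mem K (K.mul_mem hk₀ hk) hgK
    · refine (hψext x (le_sup_left (b := Q) hx) (hVext (le_sup_left (b := Q) hxV))).trans ?_
      show ((l₀ : MulAut ↥(P ⊔ Q)) (ê ⟨x, _⟩) : Ω) = _
      have : ê ⟨x, le_sup_left (b := Q) hx⟩ = ⟨ε ⟨x, hx⟩, le_sup_left (b := Q) (ε ⟨x, hx⟩).2⟩ :=
        Subtype.ext ((hêφ _).trans ((hag ⟨x, hx⟩).trans (hεφ ⟨x, hx⟩).symm))
      rw [this, hl₀P, hεφ]

/-! ### Normalizer and centralizer systems -/

theorem kNormalizer_top (S Q : Subgroup Ω) : kNormalizer S Q ⊤ = normalizerIn S Q :=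
  le_antisymm (kNormalizer_le S Q ⊤)
    fun _ hg => mem_kNormalizer.2 ⟨hg.1, hg.2, Subgroup.mem_top _⟩

theorem kNormalizer_bot (S Q : Subgroup Ω) : kNormalizer S Q ⊥ = centralizerIn S Q := by
  ext g
  rw [mem_kNormalizer]
  exact ⟨fun ⟨hS, hg, h1⟩ => ⟨hS, (conjAut_eq_one_iff hg).1 (Subgroup.mem_bot.1 h1)⟩,
    fun hg => ⟨hg.1, centralizer_le_normalizer Q hg.2,
      Subgroup.mem_bot.2 ((conjAut_eq_one_iff _).2 hg.2)⟩⟩

theorem isSaturated_copyOver {T : Subgroup Ω} (E : Cfsg.FusionSystem T) (h : T = S) :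
    (copyOver E h).IsSaturated p ↔ E.IsSaturated p := by
  subst h
  exact Iff.rfl

theorem kHom_top (F : Cfsg.FusionSystem S) (Q P : Subgroup Ω) :
    kHom F Q ⊤ P = F.normalizerHom Q P := by
  ext φ
  unfold kHom FusionSystem.normalizerHom
  rw [kNormalizer_top]
  refine and_congr_right fun _ => and_congr_right fun _ => and_congr_right fun _ =>
    exists_congr fun ψ => and_congr_right fun hψ => and_congr_right fun _ => ?_
  constructor
  · rintro ⟨k, -, hk⟩
    ext y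
    rw [mem_map_subgroupOf]
    constructor
    · rintro ⟨x, hx, hxQ, rfl⟩
      exact (hk ⟨x, hxQ⟩).symm ▸ (k ⟨x, hxQ⟩).2
    · intro hy
      refine ⟨(k⁻¹ ⟨y, hy⟩ : Q), le_sup_right (a := P) (k⁻¹ ⟨y, hy⟩).2, (k⁻¹ ⟨y, hy⟩).2, ?_⟩
      exact (hk (k⁻¹ ⟨y, hy⟩)).trans (by rw [MulAut.apply_inv_self])
  · intro h
    obtain ⟨α, -, hα⟩ := exists_aut (restrict_mem hψ le_sup_right)
      ((range_comp_inclusion le_sup_right).trans h)
    exact ⟨α, Subgroup.mem_top _, fun y => (hα y).symm⟩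

theorem kHom_bot (F : Cfsg.FusionSystem S) (Q P : Subgroup Ω) :
    kHom F Q ⊥ P = F.centralizerHom Q P := by
  ext φ
  unfold kHom FusionSystem.centralizerHom
  rw [kNormalizer_bot]
  refine and_congr_right fun _ => and_congr_right fun _ => and_congr_right fun _ =>
    exists_congr fun ψ => and_congr_right fun hψ => and_congr_right fun _ => ?_
  constructor
  · rintro ⟨k, hk, h⟩ y
    rw [Subgroup.mem_bot] at hk
    subst hk
    exact h y
  · intro h
    exact ⟨1, one_mem _, h⟩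

theorem isFullyKNormalized_top [Finite S] [Fact p.Prime] (hS : IsPGroup p S) (hF : F.IsSaturated p)
    (hQ : F.IsFullyNormalized Q) : IsFullyKNormalized F Q ⊤ := by
  intro Q' e he
  obtain ⟨e', he', θ, hθ, -, hag⟩ := exists_normalizer_map hS hF hQ (isConj_symm he.isConj)
  exact ⟨normalizerIn S Q', θ, hθ, le_normalizerIn he.le_right, fun g hg hgS _ => ⟨hgS, hg⟩,
    e.trans e', Subgroup.mem_top _, fun y _ => hag (e y)⟩

theorem isFullyKNormalized_bot [Finite S] [Fact p.Prime] (hS : IsPGroup p S) (hF : F.IsSaturated p)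
    (hQ : F.IsFullyCentralized Q) : IsFullyKNormalized F Q ⊥ := by
  intro Q' e he
  have hR : Q' ⊔ centralizerIn S Q' ≤ normalizerIn S Q' :=
    sup_le (le_normalizerIn he.le_right) (centralizerIn_le_normalizerIn S Q')
  have hext : Q' ⊔ centralizerIn S Q' ≤ extender S Q' (Q.subtype.comp e.symm.toMonoidHom) :=
    sup_le (le_extender he.le_right fun x => map_mem he.symm x) (centralizerIn_le_extender _)
  obtain ⟨θ, hθ, -, hag⟩ := he.symm.exists_extension
    (isReceptive_of_isFullyCentralized hS hF hQ) (le_sup_left (b := centralizerIn S Q')) hR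
    fun g hg => (mem_extender_iff_congr e.symm (fun _ => rfl) (hR hg).1 (hR hg).2).1 (hext hg)
  refine ⟨_, θ, hθ, le_sup_left, fun g hg hgS h => le_sup_right (a := Q') ⟨hgS, ?_⟩, 1,
    one_mem _, fun y _ => ?_⟩
  · rw [Subgroup.mem_bot] at h
    exact (conjAut_eq_one_iff hg).1 ((MulAut.congr e.symm).injective (h.trans (map_one _).symm))
  · refine (hag (e y)).trans ?_
    rw [MulEquiv.symm_apply_apply]
    rfl

/-- The normalizer system of a fully normalized subgroup is saturated. -/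
theorem isSaturated_normalizerSystem [Finite S] [Fact p.Prime] (hS : IsPGroup p S)
    (hF : F.IsSaturated p) (hQ : F.IsFullyNormalized Q)
    {E : Cfsg.FusionSystem (normalizerIn S Q)} (hE : F.IsNormalizerSystem Q E) :
    E.IsSaturated p := by
  refine (isSaturated_copyOver E (kNormalizer_top S Q).symm).1
    (isSaturated_kNormalizerSystem hS hF hQ.1 (isFullyKNormalized_top hS hF hQ) fun P => ?_)
  show E.Hom P = _
  rw [hE P, kHom_top]

/-- The centralizer system of a fully centralized subgroup is saturated. -/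
theorem isSaturated_centralizerSystem [Finite S] [Fact p.Prime] (hS : IsPGroup p S)
    (hF : F.IsSaturated p) (hQ : F.IsFullyCentralized Q)
    {E : Cfsg.FusionSystem (centralizerIn S Q)} (hE : F.IsCentralizerSystem Q E) :
    E.IsSaturated p := by
  refine (isSaturated_copyOver E (kNormalizer_bot S Q).symm).1
    (isSaturated_kNormalizerSystem hS hF hQ.1 (isFullyKNormalized_bot hS hF hQ) fun P => ?_)
  show E.Hom P = _
  rw [hE P, kHom_bot]

end CfsgLib.Fusion
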