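import Cfsg.Agent.Lib.Fusion.Saturation

/-!
Descending induction for comparing a saturated fusion system with another system over the same
group: it is enough to compare automorphism groups of fully normalized centric subgroups, knowing
the comparison for all larger subgroups.
-/

set_option autoImplicit false

namespace CfsgLib.Fusion.Descent

open Cfsg Cfsg.FusionSystem CfsgLib.Fusion

variable {Ω : Type*} [Group Ω] {S : Subgroup Ω} {F E : Cfsg.FusionSystem S}
variable {P Q : Subgroup Ω} {p : ℕ}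

theorem card_lt_card_of_lt [Finite S] (hQ : Q ≤ S) (h : P < Q) : Nat.card P < Nat.card Q := by
  have : Finite Q := finite_of_le hQ
  exact lt_of_not_ge fun hge => h.ne (Subgroup.eq_of_le_of_card_ge h.le hge)

theorem card_le_of_le [Finite S] (hP : P ≤ S) : Nat.card P ≤ Nat.card S :=
  Nat.card_le_card_of_injective _ (Subgroup.inclusion_injective hP)

/-- A map of a saturated system lies in `E` as soon as the automorphism groups of fully normalized
subgroups do; the hypothesis may use the result for all larger sources. -/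
theorem hom_le_of_aut [Finite S] [Fact p.Prime] (hS : IsPGroup p S) (hF : F.IsSaturated p)
    (h : ∀ Q, F.IsFullyNormalized Q →
      (∀ R : Subgroup Ω, Nat.card Q < Nat.card R → F.Hom R ⊆ E.Hom R) → F.autGroup Q ≤ E.autGroup Q) :
    ∀ P, F.Hom P ⊆ E.Hom P := by
  suffices hn : ∀ (n : ℕ) (P : Subgroup Ω), Nat.card S ≤ Nat.card P + n → F.Hom P ⊆ E.Hom P by
    exact fun P => hn (Nat.card S) P (Nat.le_add_left _ _)
  intro n
  induction n using Nat.strong_induction_on with
  | _ n ih =>
    intro P hn φ hφ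
    have hPS : P ≤ S := dom_le hφ
    have hbig : ∀ R : Subgroup Ω, Nat.card P < Nat.card R → F.Hom R ⊆ E.Hom R := by
      intro R hR ψ hψ
      have := card_le_of_le (dom_le hψ)
      exact ih (Nat.card S - Nat.card R) (by omega) R (by omega) hψ
    obtain ⟨Q, hPQ, hQ⟩ := exists_isFullyNormalized F hPS
    have hcard := isConj_card_eq hPQ
    have hAut := h Q hQ (fun R hR => hbig R (hcard ▸ hR))
    have hto : ∀ P' : Subgroup Ω, F.IsConj P' Q →
        ∃ e : P' ≃* Q, IsFIso F e ∧ IsFIso E e := by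
      intro P' hP'
      rcases eq_or_lt_of_le (isConj_le_left hP') with hP'S | hlt
      · obtain ⟨e₀, he₀⟩ := exists_iso_of_isConj hP'
        have hQ' : Q = P' := by
          subst hP'S
          exact isConj_top_eq hP'
        subst hQ'
        exact ⟨MulEquiv.refl _, IsFIso.refl hQ.1, IsFIso.refl hQ.1⟩
      · obtain ⟨e, he, ψ, hψ, -, hag⟩ := exists_normalizer_map hS hF hQ hP'
        refine ⟨e, he, ?_⟩
        have hN := card_lt_card_of_lt (normalizerIn_le S P') (lt_normalizerIn hS hlt)
        have hψE := hbig _ (by rw [hcard, ← isConj_card_eq hP']; exact hN) hψ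
        exact mem_of_restrict hψE (le_normalizerIn hlt.le) _ fun x => (hag x).symm
    obtain ⟨e₁, he₁, he₁E⟩ := hto P hPQ
    obtain ⟨e₂, he₂, he₂E⟩ := hto φ.range (isConj_trans (isConj_symm (isConj_of_mem hφ)) hPQ)
    obtain ⟨f, hf, hfφ⟩ := exists_iso hφ rfl
    have hβ : IsFIso F ((e₁.symm.trans f).trans e₂) := (he₁.symm.trans hf).trans he₂
    have hβE : IsFIso E ((e₁.symm.trans f).trans e₂) :=
      (mem_autGroup_iff hQ.1).1 (hAut ((mem_autGroup_iff hQ.1).2 hβ :
        (((e₁.symm.trans f).trans e₂) : MulAut Q) ∈ F.autGroup Q))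
    have hfE : IsFIso E ((e₁.trans ((e₁.symm.trans f).trans e₂)).trans e₂.symm) :=
      (he₁E.trans hβE).trans he₂E.symm
    refine mem_of_restrict hfE le_rfl φ fun x => ?_
    simp [hfφ]

/-- An automorphism of a receptive subgroup extends to a larger group of sources. -/
theorem aut_mem_of_extension (hQ : F.IsReceptive Q) {R : Subgroup Ω}
    (hQR : Q ≤ R) (hR : R ≤ normalizerIn S Q) (hE : F.Hom R ⊆ E.Hom R) {α : MulAut Q}
    (hα : α ∈ F.autGroup Q)
    (hact : ∀ g (hg : g ∈ R), α * conjAut Q g (hR hg).2 * α⁻¹ ∈ autInducedBy S Q) :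
    α ∈ E.autGroup Q := by
  have hiso : IsFIso F (α : Q ≃* Q) := (mem_autGroup_iff hQ.1).1 hα
  obtain ⟨ψ, hψ, -, hag⟩ := hiso.exists_extension hQ hQR hR fun g hg => by
    have heq : MulAut.congr (α : Q ≃* Q) (conjAut Q g (hR hg).2) =
        α * conjAut Q g (hR hg).2 * α⁻¹ := MulEquiv.ext fun x => rfl
    rw [heq]
    exact hact g hg
  exact (mem_autGroup_iff hQ.1).2
    (mem_of_restrict (hE hψ) hQR _ fun x => (hag x).symm)

/-- Automorphisms normalizing `Aut_S(Q)` extend to `N_S(Q)`. -/
theorem aut_mem_of_normalize [Finite S] [Fact p.Prime] (hS : IsPGroup p S) (hQ : F.IsReceptive Q)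
    (hlt : Q < S) (hbig : ∀ R : Subgroup Ω, Nat.card Q < Nat.card R → F.Hom R ⊆ E.Hom R) {α : MulAut Q}
    (hα : α ∈ F.autGroup Q)
    (hn : ∀ β ∈ autInducedBy S Q, α * β * α⁻¹ ∈ autInducedBy S Q) : α ∈ E.autGroup Q :=
  aut_mem_of_extension hQ (le_normalizerIn hQ.1) le_rfl
    (hbig _ (card_lt_card_of_lt (normalizerIn_le S Q) (lt_normalizerIn hS hlt))) hα
    fun _ hg => hn _ (conjAut_mem_autInducedBy hg.1 hg.2)

theorem centralizerIn_eq_card_of_conj {R : Subgroup Ω} (hR : F.IsConj Q R) :
    Nat.card (centralizerIn Q Q) = Nat.card (centralizerIn R R) := by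
  obtain ⟨e, -⟩ := exists_iso_of_isConj hR
  have h : ∀ x : Q, ((e x : R) : Ω) ∈ centralizerIn R R ↔ (x : Ω) ∈ centralizerIn Q Q := by
    intro x
    simp only [mem_centralizerIn, SetLike.coe_mem, true_and, Subgroup.mem_centralizer_iff]
    constructor
    · intro hx y hy
      have h1 := hx (e ⟨y, hy⟩) (e ⟨y, hy⟩).2
      have h2 : e ⟨y, hy⟩ * e x = e x * e ⟨y, hy⟩ := Subtype.ext h1
      rw [← map_mul, ← map_mul] at h2
      exact congrArg Subtype.val (e.injective h2)
    · intro hx y hy
      obtain ⟨z, hz⟩ := e.surjective ⟨y, hy⟩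
      have h1 : (⟨z, z.2⟩ : Q) * x = x * z := Subtype.ext (hx z z.2)
      have h2 := congrArg e h1
      rw [map_mul, map_mul, hz] at h2
      exact congrArg Subtype.val h2
  exact Nat.card_congr (restrictIso e (centralizerIn_le Q Q) (centralizerIn_le R R) h).toEquiv

/-- A fully centralized subgroup with `C_S(Q) ≤ Q` is centric. -/
theorem isCentric_of_centralizerIn_le [Finite S] (hQ : F.IsFullyCentralized Q)
    (hC : centralizerIn S Q ≤ Q) : F.IsCentric Q := by
  refine ⟨hQ.1, fun R hR => ?_⟩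
  have hQeq : centralizerIn S Q = centralizerIn Q Q :=
    le_antisymm (fun g hg => ⟨hC hg, hg.2⟩) (fun g hg => ⟨hQ.1 hg.1, hg.2⟩)
  have hle : centralizerIn R R ≤ centralizerIn S R := fun g hg => ⟨isConj_le_right hR hg.1, hg.2⟩
  have : Finite (centralizerIn S R) := finite_of_le (centralizerIn_le S R)
  have heq : centralizerIn R R = centralizerIn S R := by
    refine Subgroup.eq_of_le_of_card_ge hle ?_
    rw [← centralizerIn_eq_card_of_conj hR, ← hQeq]
    exact hQ.2 R hR
  rw [← heq]
  exact centralizerIn_le R R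

/-- Alperin-type reduction to fully normalized centric subgroups. -/
theorem hom_le_of_aut_centric [Finite S] [Fact p.Prime] (hS : IsPGroup p S)
    (hF : F.IsSaturated p)
    (h : ∀ Q, F.IsFullyNormalized Q → F.IsCentric Q →
      (∀ R : Subgroup Ω, Nat.card Q < Nat.card R → F.Hom R ⊆ E.Hom R) → F.autGroup Q ≤ E.autGroup Q) :
    ∀ P, F.Hom P ⊆ E.Hom P := by
  refine hom_le_of_aut hS hF fun Q hQ hbig => ?_
  by_cases hc : centralizerIn S Q ≤ Q
  · exact h Q hQ
      (isCentric_of_centralizerIn_le (isFullyCentralized_of_isFullyNormalized hS hF hQ) hc) hbig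
  intro α hα
  have hiso : IsFIso F (α : Q ≃* Q) := (mem_autGroup_iff hQ.1).1 hα
  have hQR : Q ≤ Q ⊔ centralizerIn S Q := le_sup_left
  have hR : Q ⊔ centralizerIn S Q ≤ normalizerIn S Q :=
    sup_le (le_normalizerIn hQ.1) (centralizerIn_le_normalizerIn S Q)
  have hlt : Q < Q ⊔ centralizerIn S Q :=
    lt_of_le_of_ne hQR fun he => hc (le_sup_right.trans_eq he.symm)
  have hext : Q ⊔ centralizerIn S Q ≤ extender S Q (Q.subtype.comp (α : Q ≃* Q).toMonoidHom) :=
    sup_le (le_extender hQ.1 fun x => map_mem hiso x) (centralizerIn_le_extender _)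
  obtain ⟨ψ, hψ, -, hag⟩ := hiso.exists_extension (isReceptive_of_isFullyNormalized hS hF hQ)
    hQR hR (fun g hg => (mem_extender_iff_congr (α : Q ≃* Q) (fun _ => rfl) (hR hg).1
      (hR hg).2).1 (hext hg))
  exact (mem_autGroup_iff hQ.1).2 (mem_of_restrict
    (hbig _ (card_lt_card_of_lt (sup_le hQ.1 (centralizerIn_le S Q)) hlt) hψ) hQR _
    fun x => (hag x).symm)

end CfsgLib.Fusion.Descent
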