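import Cfsg.Agent.Lib.Fusion.FittingInner
import Cfsg.Agent.Lib.Fusion.Descent
import Cfsg.Agent.Lib.Fusion.Stability
import Cfsg.Agent.Lib.Fusion.LocalSaturation
import Cfsg.Agent.Lib.Fusion.CentralLift.CoreSystems
import Cfsg.Agent.Lib.FusionQuot.Invariant
import Cfsg.Agent.Lib.Transfer.PResidual
import Cfsg.Agent.S5153
import Cfsg.Agent.S5256

/-!
# Subnormal quasisimple subsystems centralize normal subgroups

For a saturated system `F`, a subgroup `R` normal in `F` and a quasisimple subsystem `C` subnormal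
in `F`, every map of `C` extends to a map of `F` fixing `R` elementwise. The step along a normal
subsystem `D` over `U` rests on: every map of `D` extends to `R` moving elements of `R` only inside
`U`.
-/

set_option autoImplicit false

open Cfsg Cfsg.FusionSystem CfsgLib.Fusion

namespace CfsgLib.Fusion.LayerCore

/-- A subgroup containing a Sylow subgroup and all elements of order prime to `p` is everything. -/
theorem eq_top_of_sylow_of_coprime {A : Type*} [Group A] [Finite A] {p : ℕ} [Fact p.Prime]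
    (M : Subgroup A) (T : Sylow p A) (hT : (T : Subgroup A) ≤ M)
    (h : ∀ a : A, Nat.Coprime (orderOf a) p → a ∈ M) : M = ⊤ := by
  obtain ⟨k, hk⟩ := CfsgLib.Transfer.index_pResidual_eq_pow (p := p) (G := A)
  have hres : pResidual p A ≤ M := (Subgroup.closure_le _).2 h
  refine Subgroup.index_eq_one.1 (Nat.eq_one_of_dvd_coprimes ?_ (Subgroup.index_dvd_of_le hres)
    (Subgroup.index_dvd_of_le hT))
  rw [hk]
  exact Nat.Coprime.pow_left k ((Fact.out : p.Prime).coprime_iff_not_dvd.2 T.not_dvd_index)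

/-- Displacements in an invariant subgroup persist to powers. -/
theorem disp_pow {G : Type*} [Group G] (κ : MulAut G) {L K : Subgroup G} (hK : ∀ x ∈ K, κ x ∈ K)
    (h : ∀ w ∈ L, w⁻¹ * κ w ∈ K) : ∀ n : ℕ, ∀ w ∈ L, w⁻¹ * (κ ^ n) w ∈ K := by
  intro n
  induction n with
  | zero => simp
  | succ n ih =>
    intro w hw
    have h1 := K.mul_mem (h w hw) (hK _ (ih w hw))
    rw [map_mul, map_inv, ← mul_assoc, mul_inv_cancel_right] at h1
    rw [pow_succ', MulAut.mul_apply]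
    exact h1

/-- Agreement on a subgroup persists to powers. -/
theorem pow_agree {Ω : Type*} [Group Ω] {Q W : Subgroup Ω} (hQW : Q ≤ W) (κ : MulAut W)
    (α : MulAut Q) (h : ∀ x : Q, κ (Subgroup.inclusion hQW x) = Subgroup.inclusion hQW (α x)) :
    ∀ (n : ℕ) (x : Q), (κ ^ n) (Subgroup.inclusion hQW x) = Subgroup.inclusion hQW ((α ^ n) x) := by
  intro n
  induction n with
  | zero => simp
  | succ n ih =>
    intro x
    rw [pow_succ', pow_succ', MulAut.mul_apply, MulAut.mul_apply, ih, h]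

variable {Ω : Type*} [Group Ω] {S U : Subgroup Ω} {F : Cfsg.FusionSystem S}
  {D : Cfsg.FusionSystem U} {R : Subgroup Ω} {p : ℕ}

/-! ### The quasisimple case -/

/-- The image of a normal subgroup containing the kernel is normal in the factor system. -/
theorem isNormal_imageAlong {Ω' : Type*} [Group Ω'] {K : Subgroup Ω} {S' : Subgroup Ω'}
    {θ : S →* Ω'} {E : Cfsg.FusionSystem S'} (hKsc : F.StronglyClosed K)
    (hE : F.IsFactorSystem K θ E) (hR : F.IsNormal R) (hKR : K ≤ R) :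
    E.IsNormal (imageAlong θ R) := by
  obtain ⟨hKS, hker, hrange, hiff⟩ := hE
  have hkerR : ∀ (x : Ω) (hx : x ∈ S), θ ⟨x, hx⟩ = 1 → x ∈ R := fun x hx h =>
    hKR ((hker _).1 h)
  have hkeep : ∀ {X : Subgroup Ω} {ψ : X →* Ω} (hψ : ψ ∈ F.Hom X) (z : X),
      θ ⟨z, dom_le hψ z.2⟩ = 1 → θ ⟨ψ z, map_mem hψ z⟩ = 1 := fun hψ z hz =>
    (hker _).2 (stronglyClosed_apply_mem hKsc hψ z ((hker _).1 hz))
  set R' := imageAlong θ R with hR'
  have hR'S : R' ≤ S' := hrange ▸ CfsgLib.FusionQuot.imageAlong_le_range R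
  refine ⟨hR'S, fun P' φ' hφ' => ?_⟩
  obtain ⟨hP', φ, hφ, hind⟩ := (hiff P' φ').1 hφ'
  obtain ⟨ψ, hψ, hψP, hψR⟩ := hR.2 _ φ hφ
  have hXS := dom_le hψ
  obtain ⟨χ, hχ⟩ := CfsgLib.FusionQuot.exists_induced (α := θ) hXS (map_mem hψ) (hkeep hψ)
  have hpre : preimageAlong θ (imageAlong θ (preimageAlong θ P' ⊔ R)) = preimageAlong θ P' ⊔ R :=
    CfsgLib.FusionQuot.preimageAlong_imageAlong hXS
      fun x hx h => Subgroup.mem_sup_right (hkerR x hx h)
  have hχE : χ ∈ E.Hom (imageAlong θ (preimageAlong θ P' ⊔ R)) :=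
    (hiff _ _).2 ⟨hrange ▸ CfsgLib.FusionQuot.imageAlong_le_range _,
      by rw [hpre]; exact ⟨ψ, hψ, hχ⟩⟩
  have hle : P' ⊔ R' ≤ imageAlong θ (preimageAlong θ P' ⊔ R) := by
    refine sup_le ?_ (CfsgLib.FusionQuot.imageAlong_mono le_sup_right)
    exact (CfsgLib.FusionQuot.imageAlong_preimageAlong (hP'.trans hrange.ge)).ge.trans
      (CfsgLib.FusionQuot.imageAlong_mono le_sup_left)
  refine ⟨χ.comp (Subgroup.inclusion hle), restrict_mem hχE hle, ?_, ?_⟩
  · rintro ⟨y, hy⟩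
    obtain ⟨⟨x, hxS⟩, rfl⟩ := hrange.ge (hP' hy)
    have hxP : x ∈ preimageAlong θ P' := CfsgLib.FusionQuot.mem_preimageAlong.2 ⟨hxS, hy⟩
    refine (CfsgLib.FusionQuot.induced_apply hχ (Subgroup.inclusion le_sup_left ⟨x, hxP⟩) hxS _
      (map_mem hψ _)).trans ?_
    refine Eq.trans ?_
      (CfsgLib.FusionQuot.induced_apply hind ⟨x, hxP⟩ hxS hy (map_mem hφ _)).symm
    exact congrArg θ (Subtype.ext (hψP ⟨x, hxP⟩))
  · ext y
    constructor
    · rintro ⟨⟨w, hw⟩, hwR, rfl⟩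
      obtain ⟨x, hxS, hxR, rfl⟩ :=
        CfsgLib.FusionQuot.mem_imageAlong.1 (show w ∈ imageAlong θ R from hwR)
      refine (congrArg (· ∈ R') (CfsgLib.FusionQuot.induced_apply hχ
        (Subgroup.inclusion le_sup_right ⟨x, hxR⟩) hxS (hle hw) (map_mem hψ _))).mpr ?_
      exact CfsgLib.FusionQuot.apply_mem_imageAlong _
        (hψR.le ⟨Subgroup.inclusion le_sup_right ⟨x, hxR⟩, hxR, rfl⟩)
    · intro hy
      obtain ⟨x', hx'S, hx'R, rfl⟩ := CfsgLib.FusionQuot.mem_imageAlong.1 hy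
      obtain ⟨⟨x, hxX⟩, hxR, he⟩ := hψR.ge hx'R
      have hxR' : θ ⟨x, hXS hxX⟩ ∈ R' := CfsgLib.FusionQuot.apply_mem_imageAlong _ hxR
      exact ⟨⟨_, Subgroup.mem_sup_right hxR'⟩, hxR',
        (CfsgLib.FusionQuot.induced_apply hχ ⟨x, hxX⟩ (hXS hxX) _ (map_mem hψ _)).trans
          (congrArg θ (Subtype.ext he))⟩

/-- A subgroup normal in a quasisimple system is central. -/
theorem le_center_of_quasisimple [Finite S] [Fact p.Prime] (hS : IsPGroup p S)
    (hq : F.Quasisimple p) (hR : F.IsNormal R) : R ≤ F.center := by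
  obtain ⟨hF, hhyp, hsimp⟩ := hq
  have hZ : F.IsNormal F.center :=
    CfsgLib.FusionConstrained.isNormal_of_isCentral (CfsgLib.FusionQuot.isCentral_center F)
  have hsc : F.StronglyClosed F.center := isNormal_stronglyClosed hZ
  have := CfsgLib.FusionQuot.stronglyClosed_subgroupOf_normal hsc
  obtain ⟨E, hE⟩ := CfsgLib.FusionQuot.exists_factorSystem_quotient F F.center hsc
  obtain ⟨hEs, hne, hEn⟩ := hsimp E hE
  have hV : IsPGroup p (⊤ : Subgroup (S ⧸ (F.center).subgroupOf S)) :=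
    (hS.to_quotient _).to_subgroup _
  have hn := isNormal_imageAlong hsc hE (CfsgLib.FusionQuot.isNormal_sup F hR hZ) le_sup_right
  rcases hEn _ _ (FittingInner.inner_isNormalIn hV hEs hn) with h | ⟨h, heq⟩
  · intro x hx
    have h1 := CfsgLib.FusionQuot.apply_mem_imageAlong
      (α := QuotientGroup.mk' ((F.center).subgroupOf S)) (hR.1 hx)
      (Subgroup.mem_sup_left (T := F.center) hx)
    rw [h, Subgroup.mem_bot] at h1
    exact (hE.2.1 ⟨x, hR.1 hx⟩).1 h1
  · refine absurd ?_ hne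
    have h1 := Cfsg.Agent.S5256.result p hS F hF F.center hsc _ E hE
    have hbot : E.hyperfocalSubgroup p = ⊥ := FittingInner.hyperfocal_eq_bot hV fun P φ hφ => by
      obtain ⟨-, g, -, hv⟩ := (heq P).ge hφ
      exact ⟨g, Subgroup.mem_top _, hv⟩
    rw [hbot, hhyp, Subgroup.subgroupOf_self,
      Subgroup.map_top_of_surjective _ (QuotientGroup.mk'_surjective _)] at h1
    exact h1.symm

/-! ### Extending the maps of a normal subsystem to a normal subgroup -/

/-- `φ` extends to a map of `F` moving `R` only inside `U`. -/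
def Good (F : Cfsg.FusionSystem S) (U R P : Subgroup Ω) (φ : P →* Ω) : Prop :=
  ∃ ψ ∈ F.Hom (P ⊔ R), (∀ x : P, ψ (Subgroup.inclusion le_sup_left x) = φ x) ∧
    (∀ r : R, ψ (Subgroup.inclusion le_sup_right r) ∈ R) ∧
    ∀ r : R, (r : Ω)⁻¹ * ψ (Subgroup.inclusion le_sup_right r) ∈ U

/-- The maps of `D` that extend as in `Good`. -/
def goodSystem [Finite S] (D : Cfsg.FusionSystem U) (hU : F.StronglyClosed U)
    (hR : F.IsNormal R) : Cfsg.FusionSystem U where
  Hom P := {φ | φ ∈ D.Hom P ∧ Good F U R P φ}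
  le_of_mem h := D.le_of_mem h.1
  injective_of_mem h := D.injective_of_mem h.1
  conj_mem := by
    intro P g hP hg
    refine ⟨D.conj_mem hP hg, conjHom (P ⊔ R) g,
      F.conj_mem (sup_le (hP.trans hU.1) hR.1) (hU.1 hg), fun x => rfl, fun r => ?_, fun r => ?_⟩
    · exact conj_mem_of_mem_normalizer
        (stronglyClosed_le_normalizer (isNormal_stronglyClosed hR) (hU.1 hg)) r.2
    · show (r : Ω)⁻¹ * (g * r * g⁻¹) ∈ U
      rw [← mul_assoc, ← mul_assoc]
      exact U.mul_mem ((Subgroup.mem_normalizer_iff''.1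
        (stronglyClosed_le_normalizer hU (hR.1 r.2)) g).1 hg) (U.inv_mem hg)
  comp_mem := by
    rintro P Q φ χ ⟨hφ, φ', hφ', hag, hφR, hdφ⟩ ⟨hχ, χ', hχ', hag', hχR, hdχ⟩ h
    have hmem : ∀ x, φ' x ∈ Q ⊔ R := forall_mem_of_sup
      (fun x => by rw [hag]; exact Subgroup.mem_sup_left (h x))
      (fun r => Subgroup.mem_sup_right (hφR r))
    refine ⟨D.comp_mem hφ hχ h, _, F.comp_mem hφ' hχ' hmem, fun x => ?_, fun r => ?_, fun r => ?_⟩
    · show χ' ⟨φ' (Subgroup.inclusion le_sup_left x), _⟩ = χ ⟨φ x, h x⟩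
      rw [← hag']
      exact congrArg χ' (Subtype.ext (hag x))
    · exact hχR ⟨_, hφR r⟩
    · set d := (r : Ω)⁻¹ * φ' (Subgroup.inclusion le_sup_right r) with hd
      have hdR : d ∈ R := R.mul_mem (R.inv_mem r.2) (hφR r)
      have e : (⟨φ' (Subgroup.inclusion le_sup_right r), hmem _⟩ : ↥(Q ⊔ R)) =
          Subgroup.inclusion le_sup_right r * Subgroup.inclusion le_sup_right ⟨d, hdR⟩ :=
        Subtype.ext (by simp [hd])
      show (r : Ω)⁻¹ * χ' ⟨φ' (Subgroup.inclusion le_sup_right r), _⟩ ∈ U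
      rw [e, map_mul, ← mul_assoc]
      exact U.mul_mem (hdχ r) (stronglyClosed_apply_mem hU hχ' _ (hdφ r))
  inv_mem := by
    rintro P φ ⟨hφ, φ', hφ', hag, hφR, hdφ⟩
    obtain ⟨χ, hχ, hinv⟩ := D.inv_mem hφ
    obtain ⟨χ', hχ', hinv'⟩ := F.inv_mem hφ'
    have : Finite R := finite_of_le hR.1
    have hsurj : (φ'.comp (Subgroup.inclusion le_sup_right)).range = R := range_eq_of_le
      (hom_inj (restrict_mem hφ' le_sup_right)) hφR
    have hle : φ.range ⊔ R ≤ φ'.range := by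
      refine sup_le ?_ ?_
      · rintro _ ⟨x, rfl⟩
        exact ⟨_, hag x⟩
      · intro r hr
        obtain ⟨r', hr'⟩ := hsurj.ge hr
        exact ⟨_, hr'⟩
    have key : ∀ r : R, ∃ r' : R, φ' (Subgroup.inclusion le_sup_right r') = r ∧
        χ'.comp (Subgroup.inclusion hle) (Subgroup.inclusion le_sup_right r) = r' := by
      intro r
      obtain ⟨r', hr'⟩ := hsurj.ge r.2
      refine ⟨r', hr', ?_⟩
      have h1 := hinv' (Subgroup.inclusion le_sup_right r')
      refine Eq.trans ?_ h1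
      show χ' ⟨(r : Ω), _⟩ = χ' ⟨φ' (Subgroup.inclusion le_sup_right r'), _⟩
      exact congrArg χ' (Subtype.ext hr'.symm)
    refine ⟨χ, ⟨hχ, _, restrict_mem hχ' hle, ?_, fun r => ?_, fun r => ?_⟩, hinv⟩
    · rintro ⟨_, x, rfl⟩
      rw [hinv]
      refine Eq.trans ?_ (hinv' (Subgroup.inclusion le_sup_left x))
      show χ' ⟨φ x, _⟩ = χ' ⟨φ' (Subgroup.inclusion le_sup_left x), _⟩
      exact congrArg χ' (Subtype.ext (hag x).symm)
    · obtain ⟨r', -, h2⟩ := key r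
      rw [h2]
      exact r'.2
    · obtain ⟨r', h1, h2⟩ := key r
      rw [h2]
      have := U.inv_mem (hdφ r')
      rwa [h1, mul_inv_rev, inv_inv] at this

/-- An automorphism of the system on a larger group gives a good automorphism. -/
theorem mem_goodSystem_autGroup [Finite S] (hU : F.StronglyClosed U) (hR : F.IsNormal R)
    {Q W : Subgroup Ω} (hQU : Q ≤ U) (hle : Q ⊔ R ≤ W) (hW : W ≤ S) {κ : MulAut W}
    (hκ : κ ∈ F.autGroup W) {α : MulAut Q} (hα : α ∈ D.autGroup Q)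
    (hx : ∀ x : Q, κ (Subgroup.inclusion (le_sup_left.trans hle) x) =
      Subgroup.inclusion (le_sup_left.trans hle) (α x))
    (hd : ∀ w : W, (w : Ω) ∈ R → ((w⁻¹ * κ w : W) : Ω) ∈ U) :
    α ∈ (goodSystem D hU hR).autGroup Q := by
  have hκh := (mem_autGroup_iff_hom hW).1 hκ
  refine (mem_autGroup_iff_hom hQU).2 ⟨(mem_autGroup_iff_hom hQU).1 hα, _,
    restrict_mem hκh hle, fun x => congrArg Subtype.val (hx x), fun r => ?_,
    fun r => hd ⟨r, hle (Subgroup.mem_sup_right r.2)⟩ r.2⟩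
  exact Stability.aut_mem (isNormal_stronglyClosed hR) hW hκ (x := ⟨r, hle (Subgroup.mem_sup_right r.2)⟩) r.2

/-- A map with source `W` and values in `W` gives an automorphism. -/
theorem exists_aut_of_mapsTo [Finite S] {W : Subgroup Ω} {ψ : W →* Ω} (hψ : ψ ∈ F.Hom W)
    (h : ∀ x, ψ x ∈ W) : ∃ κ ∈ F.autGroup W, ∀ x : W, ((κ x : W) : Ω) = ψ x := by
  have : Finite W := finite_of_le (dom_le hψ)
  exact exists_aut hψ (range_eq_of_le (hom_inj hψ) h)

/-- The conjugates of automorphisms induced by `N_U(Q)` are good. -/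
theorem conj_conjAut_mem_good [Finite S] (hDF : D.IsSubsystemOf F) (hU : F.StronglyClosed U)
    (hR : F.IsNormal R) {Q : Subgroup Ω} (hQU : Q ≤ U) {γ : MulAut Q} (hγ : γ ∈ D.autGroup Q)
    {u : Ω} (hu : u ∈ U) (huN : u ∈ Subgroup.normalizer (Q : Set Ω)) :
    γ * conjAut Q u huN * γ⁻¹ ∈ (goodSystem D hU hR).autGroup Q := by
  have hRsc := isNormal_stronglyClosed hR
  obtain ⟨ψ, hψ, hag, hψR⟩ := hR.2 Q _ (hDF Q ((mem_autGroup_iff_hom hQU).1 hγ))
  obtain ⟨G, hG, hGx⟩ := exists_aut_of_mapsTo hψ (forall_mem_of_sup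
    (fun x => by rw [hag]; exact Subgroup.mem_sup_left (γ x).2)
    (fun r => Subgroup.mem_sup_right (mem_of_map_subgroupOf_sup_eq hψR r)))
  have hWS : Q ⊔ R ≤ S := sup_le (hQU.trans hU.1) hR.1
  have huW : u ∈ Subgroup.normalizer ((Q ⊔ R : Subgroup Ω) : Set Ω) :=
    normalizer_sup_of_mem huN (stronglyClosed_le_normalizer hRsc (hU.1 hu))
  have hGQ : ∀ x : Q, G (Subgroup.inclusion le_sup_left x) =
      Subgroup.inclusion le_sup_left (γ x) := fun x => Subtype.ext ((hGx _).trans (hag x))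
  have hGQinv : ∀ x : Q, G⁻¹ (Subgroup.inclusion le_sup_left x) =
      Subgroup.inclusion le_sup_left (γ⁻¹ x) := fun x => G.injective (by
    rw [MulAut.apply_inv_self, hGQ, MulAut.apply_inv_self])
  have hc : conjAut (Q ⊔ R) u huW ∈ F.autGroup (Q ⊔ R) :=
    autInducedBy_le_autGroup F hWS (conjAut_mem_autInducedBy (hU.1 hu) huW)
  refine mem_goodSystem_autGroup hU hR hQU le_rfl hWS (mul_mem (mul_mem hG hc) (inv_mem hG))
    ((D.autGroup Q).mul_mem ((D.autGroup Q).mul_mem hγ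
      (autInducedBy_le_autGroup D hQU (conjAut_mem_autInducedBy hu huN))) (inv_mem hγ))
    (fun x => ?_) (fun w hw => ?_)
  · simp only [MulAut.mul_apply]
    rw [hGQinv]
    exact hGQ (conjAut Q u huN (γ⁻¹ x))
  · set v := G⁻¹ w with hv
    have hvR : (v : Ω) ∈ R := Stability.aut_mem hRsc hWS (inv_mem hG) hw
    have e : w⁻¹ * (G * conjAut (Q ⊔ R) u huW * G⁻¹) w =
        G (v⁻¹ * conjAut (Q ⊔ R) u huW v) := by
      rw [map_mul, map_inv, hv, MulAut.apply_inv_self]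
      rfl
    rw [e]
    refine Stability.aut_mem hU hWS hG ?_
    show (v : Ω)⁻¹ * (u * v * u⁻¹) ∈ U
    rw [← mul_assoc, ← mul_assoc]
    exact U.mul_mem ((Subgroup.mem_normalizer_iff''.1
      (stronglyClosed_le_normalizer hU (hR.1 hvR)) u).1 hu) (U.inv_mem hu)

variable [Finite S] [Fact p.Prime]

/-- The automorphisms of `U` itself are good. -/
theorem autGroup_top_le_good (hS : IsPGroup p S) (hD : D.IsNormalIn F p) (hR : F.IsNormal R) :
    D.autGroup U ≤ (goodSystem D hD.1.2.2.2.1 hR).autGroup U := by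
  classical
  obtain ⟨⟨hDs, -, hinv⟩, hext⟩ := hD
  have hU : F.StronglyClosed U := hinv.2.1
  have hUS : U ≤ S := hU.1
  have : Finite U := finite_of_le hUS
  have hUp : IsPGroup p U := hS.to_le hUS
  have : Finite (MulAut U) := finite_mulAut
  have hRsc := isNormal_stronglyClosed hR
  obtain ⟨-, T, hT⟩ := isFullyAutomized_of_isFullyNormalized hUp hDs (isFullyNormalized_top D)
  set M := ((goodSystem D hU hR).autGroup U).subgroupOf (D.autGroup U) with hM
  suffices hMt : M = ⊤ by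
    intro α hα
    exact (hMt.symm ▸ Subgroup.mem_top _ : (⟨α, hα⟩ : D.autGroup U) ∈ M)
  refine eq_top_of_sylow_of_coprime M T (fun a ha => ?_) fun a ha => ?_
  · rw [hT, Subgroup.mem_subgroupOf] at ha
    exact Subgroup.mem_subgroupOf.2 (autInducedBy_le_autGroup _ le_rfl ha)
  set W₀ := U ⊔ centralizerIn S U with hW₀
  obtain ⟨β, hβ, hβU, hβC⟩ := hext a a.2
  have hW₀S : W₀ ≤ S := sup_le hUS (centralizerIn_le S U)
  set W := W₀ ⊔ R with hW
  obtain ⟨ψ, hψ, hag, hψR⟩ := hR.2 W₀ _ ((mem_autGroup_iff_hom hW₀S).1 hβ)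
  obtain ⟨κ₁, hκ₁, hκ₁x⟩ := exists_aut_of_mapsTo hψ (forall_mem_of_sup
    (fun x => by rw [hag]; exact Subgroup.mem_sup_left (β x).2)
    (fun r => Subgroup.mem_sup_right (mem_of_map_subgroupOf_sup_eq hψR r)))
  have hWS : W ≤ S := sup_le hW₀S hR.1
  have : Finite W := finite_of_le hWS
  have : Finite (MulAut W) := finite_mulAut
  have hWp : IsPGroup p W := hS.to_le hWS
  have hUW : U ≤ W := le_sup_left.trans le_sup_left
  have hUn : S ≤ Subgroup.normalizer (U : Set Ω) := stronglyClosed_le_normalizer hU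
  -- the extension of `a`
  have hκ₁β : ∀ x : W₀, κ₁ (Subgroup.inclusion le_sup_left x) =
      Subgroup.inclusion le_sup_left (β x) := fun x => Subtype.ext ((hκ₁x _).trans (hag x))
  have hκ₁U : ∀ x : U, κ₁ (Subgroup.inclusion hUW x) =
      Subgroup.inclusion hUW ((a : MulAut U) x) := fun x =>
    Subtype.ext ((congrArg Subtype.val (hκ₁β (Subgroup.inclusion le_sup_left x))).trans (hβU x))
  have hκ₁W₀ : ∀ w ∈ W₀.subgroupOf W, w⁻¹ * κ₁ w ∈ U.subgroupOf W := by
    rintro ⟨w, hwW⟩ hw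
    have hw' : w ∈ ((U ⊔ centralizerIn S U : Subgroup Ω) : Set Ω) := hw
    rw [Subgroup.coe_mul_of_right_le_normalizer_left U _ ((centralizerIn_le S U).trans hUn)] at hw'
    obtain ⟨u, hu, c, hc, rfl⟩ := hw'
    have hu₀ : u ∈ W₀ := Subgroup.mem_sup_left hu
    have hc₀ : c ∈ W₀ := Subgroup.mem_sup_right hc
    have h1 := (congrArg Subtype.val (hκ₁β ⟨u * c, hw⟩)).trans
      (congrArg (fun z : W₀ => (z : Ω))
        ((congrArg β (Subtype.ext rfl : (⟨u * c, hw⟩ : W₀) = ⟨u, hu₀⟩ * ⟨c, hc₀⟩)).trans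
          (map_mul β _ _)))
    show (u * c)⁻¹ * ((κ₁ ⟨u * c, hwW⟩ : W) : Ω) ∈ U
    have h2 : ((κ₁ ⟨u * c, hwW⟩ : W) : Ω) = ((β ⟨u, hu₀⟩ : W₀) : Ω) * ((β ⟨c, hc₀⟩ : W₀) : Ω) :=
      h1
    set z := c⁻¹ * ((β ⟨c, hc₀⟩ : W₀) : Ω) with hz
    have hzU : z ∈ U := (hβC ⟨c, hc₀⟩ hc).1
    have hβu : ((β ⟨u, hu₀⟩ : W₀) : Ω) ∈ U :=
      (congrArg (· ∈ U) (hβU ⟨u, hu⟩)).mpr (((a : MulAut U) ⟨u, hu⟩).2)
    rw [h2, show (u * c)⁻¹ * (((β ⟨u, hu₀⟩ : W₀) : Ω) * ((β ⟨c, hc₀⟩ : W₀) : Ω)) =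
      c⁻¹ * (u⁻¹ * ((β ⟨u, hu₀⟩ : W₀) : Ω)) * c * z by rw [hz]; group]
    exact U.mul_mem ((Subgroup.mem_normalizer_iff''.1 (hUn hc.1) _).1
      (U.mul_mem (U.inv_mem hu) hβu)) hzU
  -- a power of order prime to `p`
  obtain ⟨k, hk⟩ := CfsgLib.Transfer.exists_pow_coprime_orderOf (p := p) κ₁
  set κ := κ₁ ^ p ^ k with hκdef
  set α := (a : MulAut U) ^ p ^ k with hαdef
  have hκ : κ ∈ F.autGroup W := pow_mem hκ₁ _
  have hαD : α ∈ D.autGroup U := pow_mem a.2 _
  have hκU : ∀ x : U, κ (Subgroup.inclusion hUW x) = Subgroup.inclusion hUW (α x) :=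
    pow_agree hUW κ₁ _ hκ₁U _
  have hκmem : ∀ x ∈ U.subgroupOf W, κ x ∈ U.subgroupOf W := fun x hx =>
    Stability.aut_mem hU hWS hκ hx
  have hκW₀ : ∀ w ∈ W₀.subgroupOf W, w⁻¹ * κ w ∈ U.subgroupOf W :=
    disp_pow κ₁ (fun x hx => Stability.aut_mem hU hWS hκ₁ hx) hκ₁W₀ _
  have hgood : α ∈ (goodSystem D hU hR).autGroup U := by
    refine mem_goodSystem_autGroup hU hR le_rfl (sup_le_sup_right le_sup_left R) hWS hκ hαD hκU
      fun r hr => ?_
    set d := r⁻¹ * κ r with hd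
    have hrS : (r : Ω) ∈ S := hWS r.2
    have hdS : (d : Ω) ∈ S := hWS d.2
    have hdN := hUn hdS
    have hrN := hUn hrS
    -- `d` induces an inner automorphism of `U`
    have hcd : conjAut U d hdN ∈ D.autGroup U := by
      have hcr : conjAut U r hrN ∈ F.autGroup U :=
        autInducedBy_le_autGroup F hUS (conjAut_mem_autInducedBy hrS hrN)
      have h1 := (D.autGroup U).mul_mem (CfsgLib.FusionQuot.conj_mem_autGroup_of_invariant hinv le_rfl
        (inv_mem hcr) hαD) (inv_mem hαD)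
      refine (congrArg (· ∈ D.autGroup U) ?_).mp h1
      refine MulEquiv.ext fun x => ?_
      simp only [inv_inv, MulAut.mul_apply]
      apply (conjAut U r hrN).injective
      rw [MulAut.apply_inv_self]
      apply Subgroup.inclusion_injective hUW
      rw [← hκU]
      have e : Subgroup.inclusion hUW (conjAut U r hrN (α⁻¹ x)) =
          r * Subgroup.inclusion hUW (α⁻¹ x) * r⁻¹ := Subtype.ext rfl
      have e2 : κ (Subgroup.inclusion hUW (α⁻¹ x)) = Subgroup.inclusion hUW x := by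
        rw [hκU, MulAut.apply_inv_self]
      rw [e, map_mul, map_mul, map_inv, e2]
      refine Subtype.ext ?_
      show ((κ r : W) : Ω) * x * ((κ r : W) : Ω)⁻¹ = r * ((d : Ω) * x * (d : Ω)⁻¹) * (r : Ω)⁻¹
      rw [hd, Subgroup.coe_mul, Subgroup.coe_inv]
      group
    have hinn : conjAut U d hdN ∈ autInducedBy U U := by
      obtain ⟨g, hg⟩ := exists_conj_le_sylow T
        (U := (autInducedBy S U).subgroupOf (D.autGroup U))
        (IsPGroup.comap_subtype (isPGroup_autInducedBy hS U))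
      have h1 := hg ⟨_, hcd⟩ (conjAut_mem_autInducedBy (P := U) hdS hdN)
      rw [hT, ← inn_eq_autInducedBy] at h1
      have h2 := (inn_subgroupOf_normal D U).conj_mem _ h1 g⁻¹
      rw [inv_inv, show g⁻¹ * (g * (⟨_, hcd⟩ : D.autGroup U) * g⁻¹) * g = ⟨_, hcd⟩ by group,
        inn_eq_autInducedBy] at h2
      exact h2
    obtain ⟨u, hu, hux⟩ := mem_autInducedBy_iff.1 hinn
    have hdW₀ : (d : Ω) ∈ W₀ := by
      rw [show (d : Ω) = u * (u⁻¹ * d) by group]
      refine W₀.mul_mem (Subgroup.mem_sup_left hu) (Subgroup.mem_sup_right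
        ⟨S.mul_mem (S.inv_mem (hUS hu)) hdS, Subgroup.mem_centralizer_iff.2 fun y hy => ?_⟩)
      have h3 : (d : Ω) * y * (d : Ω)⁻¹ = u * y * u⁻¹ := hux ⟨y, hy⟩
      have h4 : u⁻¹ * ((d : Ω) * y * (d : Ω)⁻¹) * d = u⁻¹ * (u * y * u⁻¹) * d := by rw [h3]
      simpa [mul_assoc] using h4.symm
    -- count modulo `U`
    have := CfsgLib.FusionQuot.stronglyClosed_subgroupOf_normal hU
    let f : W →* S ⧸ U.subgroupOf S :=
      (QuotientGroup.mk' (U.subgroupOf S)).comp (Subgroup.inclusion hWS)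
    have hf : ∀ w : W, f w = 1 ↔ (w : Ω) ∈ U := fun w => QuotientGroup.eq_one_iff _
    have hfix : ∀ n : ℕ, f ((κ ^ n) d) = f d := fun n => by
      have h1 : f (d⁻¹ * (κ ^ n) d) = 1 := (hf _).2 (disp_pow κ hκmem hκW₀ n d hdW₀)
      rw [map_mul, map_inv, inv_mul_eq_one] at h1
      exact h1.symm
    have hcount : ∀ n : ℕ, f ((κ ^ n) r) = f r * f d ^ n := by
      intro n
      induction n with
      | zero => simp
      | succ n ih =>
        rw [pow_succ, MulAut.mul_apply, show κ r = r * d by rw [hd]; group, map_mul, map_mul, ih,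
          hfix, pow_succ, mul_assoc]
    have h1 : f d ^ orderOf κ = 1 := by
      have h2 := hcount (orderOf κ)
      rw [pow_orderOf_eq_one, MulAut.one_apply] at h2
      exact mul_left_cancel (h2.symm.trans (mul_one _).symm)
    obtain ⟨l, hl⟩ := hWp d
    have h2 : f d ^ p ^ l = 1 := by rw [← map_pow, hl, map_one]
    have h3 := Nat.dvd_gcd (orderOf_dvd_of_pow_eq_one h1) (orderOf_dvd_of_pow_eq_one h2)
    rw [Nat.Coprime.gcd_eq_one (Nat.Coprime.pow_right l hk), Nat.dvd_one, orderOf_eq_one_iff] at h3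
    exact (hf d).1 h3
  have hcop : Nat.Coprime (p ^ k) (orderOf a) := Nat.Coprime.pow_left k ha.symm
  obtain ⟨m, hm⟩ := exists_pow_eq_self_of_coprime hcop
  rw [← hm]
  exact pow_mem (show a ^ p ^ k ∈ M from hgood) m

/-- Every map of a normal subsystem extends to a normal subgroup, moving it only inside `U`. -/
theorem good_of_mem (hS : IsPGroup p S) (hD : D.IsNormalIn F p) (hR : F.IsNormal R)
    {P : Subgroup Ω} {φ : P →* Ω} (hφ : φ ∈ D.Hom P) : Good F U R P φ := by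
  classical
  have hU : F.StronglyClosed U := hD.1.2.2.2.1
  have hDs := hD.1.1
  have hUS : U ≤ S := hU.1
  have : Finite U := finite_of_le hUS
  have hUp : IsPGroup p U := hS.to_le hUS
  refine (Descent.hom_le_of_aut (E := goodSystem D hU hR) hUp hDs (fun Q hQ hbig => ?_) P hφ).2
  rcases eq_or_lt_of_le hQ.1 with rfl | hlt
  · exact autGroup_top_le_good hS hD hR
  have : Finite Q := finite_of_le hQ.1
  have : Finite (MulAut Q) := finite_mulAut
  obtain ⟨-, T, hT⟩ := isFullyAutomized_of_isFullyNormalized hUp hDs hQ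
  set M := ((goodSystem D hU hR).autGroup Q).subgroupOf (D.autGroup Q)
  set O := Subgroup.normalClosure ((T : Subgroup (D.autGroup Q)) : Set (D.autGroup Q))
  have hO : O ≤ M := by
    refine (Subgroup.closure_le _).2 fun x hx => ?_
    obtain ⟨c, hc, hcx⟩ := Group.mem_conjugatesOfSet_iff.1 hx
    obtain ⟨γ, rfl⟩ := isConj_iff.1 hcx
    have hc' : (c : MulAut Q) ∈ autInducedBy U Q := by
      rw [SetLike.mem_coe, hT] at hc
      exact hc
    obtain ⟨u, huN, hu, hcu⟩ := exists_eq_conjAut hc'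
    show (γ : MulAut Q) * (c : MulAut Q) * (γ : MulAut Q)⁻¹ ∈ (goodSystem D hU hR).autGroup Q
    rw [hcu]
    exact conj_conjAut_mem_good hD.1.2.2.1 hU hR hQ.1 γ.2 hu huN
  have hN : Subgroup.normalizer ((T : Subgroup (D.autGroup Q)) : Set (D.autGroup Q)) ≤ M := by
    intro a ha
    refine Descent.aut_mem_of_normalize hUp (isReceptive_of_isFullyNormalized hUp hDs hQ) hlt
      hbig a.2 fun β hβ => ?_
    have h1 : (⟨β, autInducedBy_le_autGroup D hQ.1 hβ⟩ : D.autGroup Q) ∈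
        (T : Subgroup (D.autGroup Q)) := by
      rw [hT]
      exact hβ
    have h2 := (Subgroup.mem_normalizer_iff.1 ha _).1 h1
    rw [hT] at h2
    exact h2
  intro α hα
  have htop := Sylow.normalizer_sup_eq_top' T
    (Subgroup.subset_normalClosure : (T : Set (D.autGroup Q)) ⊆ O)
  exact sup_le hN hO (htop.ge (Subgroup.mem_top ⟨α, hα⟩))

/-! ### The induction -/

variable {T : Subgroup Ω} {C : Cfsg.FusionSystem T}

omit [Finite S] [Fact p.Prime] in
/-- The maps of `C` extending to maps fixing `R`. -/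
def fixedSystem (C : Cfsg.FusionSystem T) (F : Cfsg.FusionSystem S) (R : Subgroup Ω)
    (hR : R ≤ S) (hT : T ≤ centralizerIn S R) : Cfsg.FusionSystem T where
  Hom P := {φ | φ ∈ C.Hom P ∧ φ ∈ F.centralizerHom R P}
  le_of_mem h := C.le_of_mem h.1
  injective_of_mem h := C.injective_of_mem h.1
  conj_mem hP hg := ⟨C.conj_mem hP hg, (centralizerSystem F R hR).conj_mem (hP.trans hT) (hT hg)⟩
  comp_mem hφ hψ h := ⟨C.comp_mem hφ.1 hψ.1 h, (centralizerSystem F R hR).comp_mem hφ.2 hψ.2 h⟩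
  inv_mem := by
    rintro P φ ⟨hφ, hφR⟩
    obtain ⟨χ, hχ, hinv⟩ := C.inv_mem hφ
    obtain ⟨χ', hχ', hinv'⟩ := (centralizerSystem F R hR).inv_mem hφR
    refine ⟨χ, ⟨hχ, ?_⟩, hinv⟩
    rwa [show χ = χ' from MonoidHom.ext (by rintro ⟨_, x, rfl⟩; rw [hinv, hinv'])]

/-- The inductive step: extensions fixing `R ⊓ U` give extensions fixing `R`. -/
theorem centralizerHom_of_inf (hS : IsPGroup p S) (hD : D.IsNormalIn F p) (hR : F.IsNormal R)
    (hTU : T ≤ U) (hCD : C.IsSubsystemOf D) (hC : C.Quasisimple p)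
    (hfix : ∀ P, C.Hom P ⊆ D.centralizerHom (R ⊓ U) P) :
    ∀ P, C.Hom P ⊆ F.centralizerHom R P := by
  classical
  have hU : F.StronglyClosed U := hD.1.2.2.2.1
  have hDF : D.IsSubsystemOf F := hD.1.2.2.1
  have hUS : U ≤ S := hU.1
  have hTS : T ≤ S := hTU.trans hUS
  have hRsc := isNormal_stronglyClosed hR
  have hRn : S ≤ Subgroup.normalizer (R : Set Ω) := stronglyClosed_le_normalizer hRsc
  have hUn : S ≤ Subgroup.normalizer (U : Set Ω) := stronglyClosed_le_normalizer hU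
  have hTR₀ : T ≤ centralizerIn U (R ⊓ U) := (hfix T (subtype_mem C le_rfl)).2.1
  have hext : ∀ (P : Subgroup Ω) (φ : P →* Ω), φ ∈ C.Hom P → ∃ ψ ∈ F.Hom (P ⊔ R),
      (∀ x : P, ψ (Subgroup.inclusion le_sup_left x) = φ x) ∧
      (∀ r : R, ψ (Subgroup.inclusion le_sup_right r) ∈ R) ∧
      (∀ r : R, (r : Ω)⁻¹ * ψ (Subgroup.inclusion le_sup_right r) ∈ R ⊓ U) ∧
      ∀ r : R, (r : Ω) ∈ U → ψ (Subgroup.inclusion le_sup_right r) = r := by
    intro P φ hφ
    obtain ⟨-, -, -, φ₀, hφ₀, hag₀, hfix₀⟩ := hfix P hφ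
    obtain ⟨ψ, hψ, hag, hψR, hdisp⟩ := good_of_mem hS hD hR hφ₀
    have hle : P ⊔ R ≤ (P ⊔ (R ⊓ U)) ⊔ R := sup_le_sup_right le_sup_left R
    refine ⟨_, restrict_mem hψ hle,
      fun x => (hag (Subgroup.inclusion le_sup_left x)).trans (hag₀ x), hψR,
      fun r => ⟨R.mul_mem (R.inv_mem r.2) (hψR r), hdisp r⟩, fun r hr => ?_⟩
    exact ((congrArg ψ (Subtype.ext rfl)).trans
      (hag (Subgroup.inclusion le_sup_right (⟨(r : Ω), r.2, hr⟩ : ↥(R ⊓ U))))).trans (hfix₀ _)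
  -- `T` centralizes `R`
  have hT : T ≤ centralizerIn S R := by
    refine le_inf hTS (hC.2.1.symm.le.trans ((Subgroup.closure_le _).2 ?_))
    rintro _ ⟨P, α, x, hP, -, rfl⟩
    refine Subgroup.mem_centralizer_iff.2 fun r hr => ?_
    have hα := (mem_autGroup_iff_hom hP).1 α.2
    obtain ⟨ψ, hψ, hag, hψR, hdisp, hψfix⟩ := hext P _ hα
    have hxU : (x : Ω) ∈ U := hTU (hP x.2)
    have hxS : (x : Ω) ∈ S := hUS hxU
    set y : Ω := (((α : MulAut P) x : P) : Ω) with hy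
    have hyT : y ∈ T := hP ((α : MulAut P) x).2
    set v := (x : Ω) * r * (x : Ω)⁻¹ * r⁻¹ with hv
    have hvR : v ∈ R := R.mul_mem (conj_mem_of_mem_normalizer (hRn hxS) hr) (R.inv_mem hr)
    have hvU : v ∈ U := by
      rw [hv, mul_assoc, mul_assoc, ← mul_assoc r]
      exact U.mul_mem hxU (conj_mem_of_mem_normalizer (hUn (hR.1 hr)) (U.inv_mem hxU))
    set d := r⁻¹ * ψ (Subgroup.inclusion le_sup_right ⟨r, hr⟩) with hd
    have hdy : d * y⁻¹ = y⁻¹ * d :=
      Subgroup.mem_centralizer_iff.1 (inv_mem (hTR₀ hyT).2) d (hdisp ⟨r, hr⟩)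
    have h1 : ψ (Subgroup.inclusion le_sup_left x * Subgroup.inclusion le_sup_right ⟨r, hr⟩ *
        (Subgroup.inclusion le_sup_left x)⁻¹ * (Subgroup.inclusion le_sup_right ⟨r, hr⟩)⁻¹) = v :=
      (congrArg ψ (Subtype.ext rfl)).trans (hψfix ⟨v, hvR⟩ hvU)
    have hagx : ψ (Subgroup.inclusion le_sup_left x) = y := hag x
    rw [map_mul, map_mul, map_mul, map_inv, map_inv, hagx,
      show ψ (Subgroup.inclusion le_sup_right ⟨r, hr⟩) = r * d by rw [hd]; group] at h1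
    have h2 : y * r * y⁻¹ = (x : Ω) * r * (x : Ω)⁻¹ := by
      refine mul_right_cancel (b := r⁻¹) (Eq.trans ?_ h1)
      calc y * r * y⁻¹ * r⁻¹ = y * r * (y⁻¹ * d) * (d⁻¹ * r⁻¹) := by group
        _ = y * r * (d * y⁻¹) * (d⁻¹ * r⁻¹) := by rw [hdy]
        _ = y * (r * d) * y⁻¹ * (r * d)⁻¹ := by group
    show r * ((x : Ω)⁻¹ * y) = (x : Ω)⁻¹ * y * r
    calc r * ((x : Ω)⁻¹ * y) = (x : Ω)⁻¹ * ((x : Ω) * r * (x : Ω)⁻¹) * y := by group
      _ = (x : Ω)⁻¹ * (y * r * y⁻¹) * y := by rw [h2]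
      _ = (x : Ω)⁻¹ * y * r := by group
  -- the maps
  have hTfin : Finite T := finite_of_le hTS
  have hTp : IsPGroup p T := hS.to_le hTS
  intro P φ hφ
  refine (Descent.hom_le_of_aut (E := fixedSystem C F R hR.1 hT) hTp hC.1 (fun Q hQ _ => ?_) P hφ).2
  have : Finite Q := finite_of_le hQ.1
  have : Finite (MulAut Q) := finite_mulAut
  obtain ⟨-, P₀, hP₀⟩ := isFullyAutomized_of_isFullyNormalized hTp hC.1 hQ
  set M := ((fixedSystem C F R hR.1 hT).autGroup Q).subgroupOf (C.autGroup Q) with hM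
  suffices hMt : M = ⊤ by
    intro α hα
    exact (hMt.symm ▸ Subgroup.mem_top _ : (⟨α, hα⟩ : C.autGroup Q) ∈ M)
  refine eq_top_of_sylow_of_coprime M P₀ (fun a ha => ?_) fun a ha => ?_
  · rw [hP₀, Subgroup.mem_subgroupOf] at ha
    exact Subgroup.mem_subgroupOf.2 (autInducedBy_le_autGroup _ hQ.1 ha)
  obtain ⟨ψ, hψ, hag, hψR, hdisp, hψfix⟩ := hext Q _ ((mem_autGroup_iff_hom hQ.1).1 a.2)
  obtain ⟨κ₁, hκ₁, hκ₁x⟩ := exists_aut_of_mapsTo hψ (forall_mem_of_sup
    (fun x => by rw [hag]; exact Subgroup.mem_sup_left ((a : MulAut Q) x).2)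
    (fun r => Subgroup.mem_sup_right (hψR r)))
  have hWS : Q ⊔ R ≤ S := sup_le (hQ.1.trans hTS) hR.1
  have : Finite ↥(Q ⊔ R) := finite_of_le hWS
  have : Finite (MulAut ↥(Q ⊔ R)) := finite_mulAut
  have hκ₁U : ∀ w ∈ (R ⊓ U).subgroupOf (Q ⊔ R), κ₁ w = w := fun w hw =>
    Subtype.ext ((hκ₁x w).trans
      ((congrArg ψ (Subtype.ext rfl)).trans (hψfix ⟨(w : Ω), hw.1⟩ hw.2)))
  have hκ₁R : ∀ w ∈ R.subgroupOf (Q ⊔ R), w⁻¹ * κ₁ w ∈ (R ⊓ U).subgroupOf (Q ⊔ R) := fun w hw => by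
    show (w : Ω)⁻¹ * ((κ₁ w : ↥(Q ⊔ R)) : Ω) ∈ R ⊓ U
    rw [hκ₁x]
    exact hdisp ⟨(w : Ω), hw⟩
  have hκ₁mem : ∀ w ∈ (R ⊓ U).subgroupOf (Q ⊔ R), κ₁ w ∈ (R ⊓ U).subgroupOf (Q ⊔ R) := fun w hw => by
    rw [hκ₁U w hw]
    exact hw
  obtain ⟨k, hk⟩ := CfsgLib.Transfer.exists_pow_coprime_orderOf (p := p) κ₁
  set κ := κ₁ ^ p ^ k with hκdef
  have hκfix : ∀ w ∈ (R ⊓ U).subgroupOf (Q ⊔ R), κ w = w := fun w hw => by
    have h1 := disp_pow κ₁ (L := (R ⊓ U).subgroupOf (Q ⊔ R)) (K := ⊥)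
      (fun x hx => by rw [Subgroup.mem_bot.1 hx, map_one]; exact one_mem _)
      (fun x hx => by rw [hκ₁U x hx, inv_mul_cancel]; exact one_mem _) (p ^ k) w hw
    exact (inv_mul_eq_one.1 (Subgroup.mem_bot.1 h1)).symm
  have hκQ := pow_agree (le_sup_left : Q ≤ Q ⊔ R) κ₁ (a : MulAut Q)
    (fun x => Subtype.ext ((hκ₁x _).trans (hag x))) (p ^ k)
  have hκhom := (mem_autGroup_iff_hom hWS).1 (pow_mem hκ₁ (p ^ k))
  have hgood : ((a : MulAut Q) ^ p ^ k) ∈ (fixedSystem C F R hR.1 hT).autGroup Q := by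
    refine (mem_autGroup_iff_hom hQ.1).2 ⟨(mem_autGroup_iff_hom hQ.1).1 (pow_mem a.2 _),
      (mem_autGroup_iff_hom (hQ.1.trans hTS)).1
        (pow_mem (CfsgLib.FusionQuot.autGroup_le_of_subsystem
          (fun X => (hCD X).trans (hDF X)) Q a.2) _),
      hQ.1.trans hT, fun x => hT (hQ.1 (((a : MulAut Q) ^ p ^ k) x).2), _, hκhom,
      fun x => congrArg Subtype.val (hκQ x), fun r => ?_⟩
    refine congrArg Subtype.val (Stability.eq_self_of_disp_fixed (hS.to_le hWS) κ hk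
      (x := Subgroup.inclusion le_sup_right r) (hκfix _ ?_))
    exact disp_pow κ₁ hκ₁mem hκ₁R _ _ r.2
  have hcop : Nat.Coprime (p ^ k) (orderOf a) := Nat.Coprime.pow_left k ha.symm
  obtain ⟨m, hm⟩ := exists_pow_eq_self_of_coprime hcop
  rw [← hm]
  exact pow_mem (show a ^ p ^ k ∈ M from hgood) m

omit [Finite S] [Fact p.Prime] in
/-- The maps of a quasisimple subnormal subsystem extend to maps fixing a normal subgroup. -/
theorem component_le_centralizerHom {S T : Subgroup Ω} {C : Cfsg.FusionSystem T}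
    {F : Cfsg.FusionSystem S} (h : C.IsSubnormalIn F p) :
    Fact p.Prime → C.Quasisimple p → Finite S → IsPGroup p S → F.IsSaturated p →
      ∀ R : Subgroup Ω, F.IsNormal R → ∀ P, C.Hom P ⊆ F.centralizerHom R P := by
  induction h with
  | refl F₀ q =>
    intro hp hC hfin hS hF R hR P φ hφ
    have hRZ := le_center_of_quasisimple hS hC hR
    obtain ⟨ψ, hψ, hag, hfix⟩ := (CfsgLib.FusionQuot.isCentral_center F₀).2 P φ hφ
    exact ⟨hφ, fun x hx => ⟨dom_le hφ hx, Subgroup.mem_centralizer_iff.2 fun r hr =>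
        (F₀.center_le_centralizer (hRZ hr) x (dom_le hφ hx)).symm⟩,
      fun x => ⟨map_mem hφ x, Subgroup.mem_centralizer_iff.2 fun r hr =>
        (F₀.center_le_centralizer (hRZ hr) _ (map_mem hφ x)).symm⟩, _,
      restrict_mem hψ (sup_le_sup_left hRZ P), fun x => hag x, fun r => hfix ⟨r, hRZ r.2⟩⟩
  | @step U₀ S₀ C₀ D₀ F₀ q hCD hDF ih =>
    intro hp hC hfin hS hF R hR
    have hU : F₀.StronglyClosed U₀ := hDF.1.2.2.2.1
    have hfinU : Finite U₀ := finite_of_le hU.1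
    have hUp : IsPGroup q U₀ := hS.to_le hU.1
    have hTU : _ ≤ U₀ := Cfsg.Agent.S5153.le_of_subnormal hCD
    have : Finite ↥(R ⊓ U₀) := finite_of_le (inf_le_left.trans hR.1)
    have hR₀ : D₀.IsNormal (R ⊓ U₀) := by
      refine Stability.isNormal_of_restrictions hUp hDF.1.1 inf_le_right fun P hP φ hφ => ?_
      obtain ⟨ψ, hψ, hag, hψR⟩ := hR.2 P φ (hDF.1.2.2.1 P hφ)
      have hle : R ⊓ U₀ ≤ P ⊔ R := inf_le_left.trans le_sup_right
      obtain ⟨β, -, hβ⟩ := exists_aut_of_mapsTo (restrict_mem hψ hle) fun x =>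
        ⟨mem_of_map_subgroupOf_sup_eq hψR ⟨(x : Ω), x.2.1⟩,
          stronglyClosed_apply_mem hU (restrict_mem hψ hle) x x.2.2⟩
      exact ⟨β, fun x => (hag x).symm.trans
        (Eq.trans (congrArg ψ (Subtype.ext rfl)) (hβ ⟨(x : Ω), hP x.2⟩).symm)⟩
    exact centralizerHom_of_inf hS hDF hR hTU (subnormal_sub hCD) hC
      (ih hp hC hfinU hUp hDF.1.1 _ hR₀)
where
  subnormal_sub {T' U' : Subgroup Ω} {C' : Cfsg.FusionSystem T'} {D' : Cfsg.FusionSystem U'}
      {q : ℕ} (h : C'.IsSubnormalIn D' q) : C'.IsSubsystemOf D' := by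
    induction h with
    | refl => exact fun _ => subset_rfl
    | step _ hn ih => exact fun P => (ih P).trans (hn.1.2.2.1 P)

/-- The layer centralizes the largest normal subgroup. -/
theorem layer_le_centralizerHom {T : Subgroup Ω} {E : Cfsg.FusionSystem T} (hS : IsPGroup p S)
    (hF : F.IsSaturated p) (hE : E.IsLayerOf F p) (P : Subgroup Ω) :
    E.Hom P ⊆ F.centralizerHom F.core P := by
  have hK := CfsgLib.FusionQuot.isNormal_core F
  exact hE.2.2 _ _ (NormalPieces.centralizer_isNormalIn hS hF hK)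
    (fun U' C hC Q => component_le_centralizerHom hC.1 inferInstance hC.2 inferInstance hS hF _ hK Q) P

end CfsgLib.Fusion.LayerCore
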