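import Cfsg.Agent.Lib.Fusion.Centralizer.Focal
import Cfsg.Agent.Lib.Fusion.Centralizer.StronglyClosed
import Cfsg.Agent.Lib.Fusion.PPowerIndex.Residual
import Cfsg.Agent.Lib.Fusion.LayerCore
import Cfsg.Agent.Lib.FusionQuot.Joins

/-!
# The centralizer of a normal subsystem as a normal subsystem

For a normal subsystem `E` over `T`, the subgroup `X = C_S(E)` contains the focal subgroup of
`C_F(T)`; the subsystem of `p`-power index of `C_F(T)` over `X` is normal in `F`.
-/

set_option autoImplicit false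

open Cfsg Cfsg.FusionSystem CfsgLib.Fusion

namespace CfsgLib.Fusion.CenNormal

variable {Ω : Type*} [Group Ω] {S T X : Subgroup Ω} {F : Cfsg.FusionSystem S} {p : ℕ}

/-- A map between subgroups centralizing `T` extends by a map carrying `T` into itself. -/
theorem exists_ext_sup [Finite S] [Fact p.Prime] (hS : IsPGroup p S) (hF : F.IsSaturated p)
    (hT : F.StronglyClosed T) {P : Subgroup Ω} {φ : P →* Ω} (hφ : φ ∈ F.Hom P)
    (hP : P ≤ centralizerIn S T) (hφC : ∀ x, φ x ∈ centralizerIn S T) :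
    ∃ ψ ∈ F.Hom (P ⊔ T), (∀ x : P, ψ (Subgroup.inclusion le_sup_left x) = φ x) ∧
      ∀ t : T, ψ (Subgroup.inclusion le_sup_right t) ∈ T := by
  have : Finite T := finite_of_le hT.1
  have hTP : T ≤ centralizerIn S P := fun t ht => ⟨hT.1 ht,
    Subgroup.mem_centralizer_iff.2 fun x hx => (Subgroup.mem_centralizer_iff.1 (hP hx).2 t ht).symm⟩
  have hTr : T ≤ centralizerIn S φ.range := fun t ht => ⟨hT.1 ht,
    Subgroup.mem_centralizer_iff.2 (by
      rintro _ ⟨x, rfl⟩
      exact (Subgroup.mem_centralizer_iff.1 (hφC x).2 t ht).symm)⟩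
  obtain ⟨Q, hQc, hQ⟩ := exists_isFullyNormalized F (range_le hφ)
  obtain ⟨e₂, he₂, ψ₂, hψ₂, -, hag₂⟩ := exists_normalizer_map hS hF hQ hQc
  obtain ⟨f, hf, hfx⟩ := exists_iso hφ rfl
  obtain ⟨ψ', hψ', hag', -⟩ := CenSub.exists_ext_centralizer
    (isReceptive_of_isFullyNormalized hS hF hQ) (hf.trans he₂) (range_subtype_comp _)
  set r := ψ₂.comp (Subgroup.inclusion (sup_le (le_normalizerIn (range_le hφ))
    (hTr.trans (centralizerIn_le_normalizerIn S _)) : φ.range ⊔ T ≤ normalizerIn S φ.range)) with hr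
  have hrF : r ∈ F.Hom (φ.range ⊔ T) := restrict_mem hψ₂ _
  obtain ⟨ρ, hρ, hρinv⟩ := F.inv_mem hrF
  have hTsurj : (r.comp (Subgroup.inclusion le_sup_right)).range = T := range_eq_of_le
    (hom_inj (restrict_mem hrF le_sup_right))
    fun t => stronglyClosed_apply_mem hT (restrict_mem hrF le_sup_right) t t.2
  have hle : P ⊔ T ≤ P ⊔ centralizerIn S P := sup_le_sup_left hTP P
  set q := ψ'.comp (Subgroup.inclusion hle) with hq
  have hqF : q ∈ F.Hom (P ⊔ T) := restrict_mem hψ' hle
  have hqP : ∀ x : P, q (Subgroup.inclusion le_sup_left x) = r (Subgroup.inclusion le_sup_left (f x)) := by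
    intro x
    refine (hag' x).trans ?_
    show ((e₂ (f x) : Q) : Ω) = _
    exact (hag₂ (f x)).symm
  have hqT : ∀ t : T, q (Subgroup.inclusion le_sup_right t) ∈ T := fun t =>
    stronglyClosed_apply_mem hT hqF _ t.2
  have hmem : ∀ z, q z ∈ r.range := forall_mem_of_sup
    (fun x => ⟨_, (hqP x).symm⟩)
    (fun t => by
      obtain ⟨t', ht'⟩ := hTsurj.ge (hqT t)
      exact ⟨_, ht'⟩)
  refine ⟨_, F.comp_mem hqF hρ hmem, fun x => ?_, fun t => ?_⟩
  · show ρ ⟨q (Subgroup.inclusion le_sup_left x), hmem _⟩ = φ x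
    rw [← hfx]
    refine Eq.trans ?_ (hρinv (Subgroup.inclusion le_sup_left (f x)))
    exact congrArg ρ (Subtype.ext (hqP x))
  · obtain ⟨t', ht'⟩ := hTsurj.ge (hqT t)
    show ρ ⟨q (Subgroup.inclusion le_sup_right t), hmem _⟩ ∈ T
    refine (congrArg (· ∈ T) ?_).mpr t'.2
    refine Eq.trans ?_ (hρinv (Subgroup.inclusion le_sup_right t'))
    exact congrArg ρ (Subtype.ext ht'.symm)

/-- The focal subgroup of `C_F(T)` contains its hyperfocal subgroup. -/
theorem hyperfocal_centralizer_le (hT : T ≤ S) :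
    (centralizerSystem F T hT).hyperfocalSubgroup p ≤ CenSub.centFocal F T := by
  refine (Subgroup.closure_le _).2 ?_
  rintro _ ⟨P, α, x, hP, -, rfl⟩
  exact Subgroup.subset_closure ⟨P, _, x, (mem_autGroup_iff_hom hP).1 α.2, rfl⟩

/-- Displacements of coprime automorphisms that are displaced further only inside a normal
subgroup lie in it. -/
theorem disp_mem_of_disp {G : Type*} [Group G] [Finite G] {p : ℕ} [Fact p.Prime]
    (hG : IsPGroup p G) (κ : MulAut G) (hκ : (orderOf κ).Coprime p) {L N : Subgroup G} [N.Normal]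
    (hN : ∀ x ∈ N, κ x ∈ N) (h : ∀ w ∈ L, w⁻¹ * κ w ∈ N) {x : G} (hx : x⁻¹ * κ x ∈ L) :
    x⁻¹ * κ x ∈ N := by
  set d := x⁻¹ * κ x with hd
  set f := QuotientGroup.mk' N
  have hf : ∀ w : G, f w = 1 ↔ w ∈ N := fun w => QuotientGroup.eq_one_iff _
  have hfix : ∀ n : ℕ, f ((κ ^ n) d) = f d := fun n => by
    have h1 : f (d⁻¹ * (κ ^ n) d) = 1 := (hf _).2 (LayerCore.disp_pow κ hN h n d hx)
    rw [map_mul, map_inv, inv_mul_eq_one] at h1
    exact h1.symm
  have hcount : ∀ n : ℕ, f ((κ ^ n) x) = f x * f d ^ n := by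
    intro n
    induction n with
    | zero => simp
    | succ n ih =>
      rw [pow_succ, MulAut.mul_apply, show κ x = x * d by rw [hd]; group, map_mul, map_mul, ih,
        hfix, pow_succ, mul_assoc]
  have h1 : f d ^ orderOf κ = 1 := by
    have h2 := hcount (orderOf κ)
    rw [pow_orderOf_eq_one, MulAut.one_apply] at h2
    exact mul_left_cancel (h2.symm.trans (mul_one _).symm)
  obtain ⟨l, hl⟩ := hG d
  have h2 : f d ^ p ^ l = 1 := by rw [← map_pow, hl, map_one]
  have h3 := Nat.dvd_gcd (orderOf_dvd_of_pow_eq_one h1) (orderOf_dvd_of_pow_eq_one h2)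
  rw [Nat.Coprime.gcd_eq_one (Nat.Coprime.pow_right l hκ), Nat.dvd_one, orderOf_eq_one_iff] at h3
  exact (hf d).1 h3

variable [Finite S] [Fact p.Prime]

/-- Existence of a normal subsystem over `C_S(E)` inside `C_F(T)`. -/
theorem exists_centralizer_normal (hS : IsPGroup p S) (hF : F.IsSaturated p)
    {E : Cfsg.FusionSystem T} (hE : E.IsNormalIn F p) :
    ∃ K : Cfsg.FusionSystem (CenSub.fixSub E F),
      K.IsNormalIn F p ∧ ∀ P, K.Hom P ⊆ F.centralizerHom T P := by
  classical
  have hT : F.StronglyClosed T := hE.1.2.2.2.1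
  have hTS := hT.1
  set X := CenSub.fixSub E F with hX
  have hXC : X ≤ centralizerIn S T := CenSub.fixSub_le
  have hXsc : F.StronglyClosed X := CenSub.stronglyClosed_fixSub hS hF hE
  have hXS := hXsc.1
  have : Finite X := finite_of_le hXS
  have : Finite T := finite_of_le hTS
  have hXp : IsPGroup p X := hS.to_le hXS
  have hTfc : F.IsFullyCentralized T := isFullyCentralized_of_isFullyNormalized hS hF
    (CfsgLib.FusionQuot.isFullyNormalized_of_stronglyClosed hT)
  set CT := centralizerSystem F T hTS with hCT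
  have hCTs : CT.IsSaturated p := isSaturated_centralizerSystem hS hF hTfc
    (isCentralizerSystem_centralizerSystem F T hTS)
  have hCTF : CT.IsSubsystemOf F := fun P φ h => h.1
  have : Finite (centralizerIn S T) := finite_of_le (centralizerIn_le S T)
  have hCp : IsPGroup p (centralizerIn S T) := hS.to_le (centralizerIn_le S T)
  have hfoc : CenSub.centFocal F T ≤ X := (CenSub.isFixed_centFocal hS hF hE).le_fixSub
  have hhyp : CT.hyperfocalSubgroup p ≤ X := (hyperfocal_centralizer_le hTS).trans hfoc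
  obtain ⟨K, hKs, hKi, -⟩ := PPowerIndex.exists_pPowerIndex hCp hCTs hXC hhyp
  have hXn : (X.subgroupOf (centralizerIn S T)).Normal := ⟨fun a ha s =>
    conj_mem_of_mem_normalizer (stronglyClosed_le_normalizer hXsc s.2.1) ha⟩
  have hKn := PPowerIndex.isNormalIn_of_pPowerIndex hCp hCTs hXC hXn hhyp hKs hKi
  have hKF : K.IsSubsystemOf F := fun P φ h => hCTF P (hKi.1 P h)
  refine ⟨K, ⟨⟨hKs, hF, hKF, hXsc, ?_, ?_⟩, ?_⟩, hKi.1⟩
  · -- invariance
    intro P hPX φ hφ a ha
    obtain ⟨γ, hγ, hγX, hγT⟩ := exists_ext_sup hS hF hT ((mem_autGroup_iff_hom hXS).1 ha)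
      hXC fun x => hXC (a x).2
    have htw : ∀ Q, Q ≤ X →
        (pResidual p (CT.autGroup Q)).map (CT.autGroup Q).subtype ≤
          (twistSystem K a).autGroup Q := by
      intro Q hQ
      rw [CfsgLib.Transfer.map_subtype_pResidual, Subgroup.closure_le]
      rintro β ⟨hβ, hcop⟩
      have hQC : Q ≤ centralizerIn S T := hQ.trans hXC
      obtain ⟨-, -, -, δ, hδ, hδQ, hδT⟩ := (mem_autGroup_iff_hom hQC).1 hβ
      obtain ⟨e, he, hex⟩ := exists_iso (Q := autImg a Q)
        (restrict_mem ((mem_autGroup_iff_hom hXS).1 ha) hQ) (range_comp_inclusion hQ)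
      have hleW : Q ⊔ T ≤ X ⊔ T := sup_le_sup_right hQ T
      set r := γ.comp (Subgroup.inclusion hleW) with hr
      have hrF : r ∈ F.Hom (Q ⊔ T) := restrict_mem hγ hleW
      obtain ⟨ρ, hρ, hρinv⟩ := F.inv_mem hrF
      have hrQ : ∀ x : Q, r (Subgroup.inclusion le_sup_left x) = ((e x : autImg a Q) : Ω) := fun x =>
        (hγX (Subgroup.inclusion hQ x)).trans (hex x).symm
      have hTsurj : (r.comp (Subgroup.inclusion le_sup_right)).range = T := range_eq_of_le
        (hom_inj (restrict_mem hrF le_sup_right)) fun t => hγT t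
      have hle : autImg a Q ⊔ T ≤ r.range := by
        refine sup_le (fun y hy => ⟨Subgroup.inclusion le_sup_left (e.symm ⟨y, hy⟩), ?_⟩)
          fun t ht => ?_
        · rw [hrQ, MulEquiv.apply_symm_apply]
        · obtain ⟨t', ht'⟩ := hTsurj.ge ht
          exact ⟨_, ht'⟩
      have hρm : ∀ z, ρ z ∈ Q ⊔ T := by rintro ⟨_, z, rfl⟩; rw [hρinv]; exact z.2
      have hδm : ∀ z, δ z ∈ Q ⊔ T := forall_mem_of_sup
        (fun x => by rw [hδQ]; exact Subgroup.mem_sup_left (β x).2)
        (fun t => by rw [hδT]; exact Subgroup.mem_sup_right t.2)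
      have hcF := restrict_mem (F.comp_mem (F.comp_mem hρ hδ hρm) hrF fun z => hδm _) hle
      set c := (r.comp ((δ.comp (ρ.codRestrict _ hρm)).codRestrict _ fun z => hδm _)).comp
        (Subgroup.inclusion hle) with hc
      have hcval : ∀ (z : ↥(Q ⊔ T)) (w : ↥(autImg a Q ⊔ T)), (w : Ω) = r z →
          c w = r ⟨δ z, hδm z⟩ := by
        intro z w hw
        show r ⟨δ ⟨ρ ⟨(w : Ω), hle w.2⟩, _⟩, _⟩ = r ⟨δ z, hδm z⟩
        refine congrArg r (Subtype.ext (congrArg δ (Subtype.ext ?_)))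
        exact (congrArg ρ (Subtype.ext hw)).trans (hρinv z)
      have hImC : autImg a Q ≤ centralizerIn S T := (autImg_le a Q).trans hXC
      have hag : ∀ y : autImg a Q, c (Subgroup.inclusion le_sup_left y) =
          ((MulAut.congr e β y : autImg a Q) : Ω) := fun y => by
        rw [hcval (Subgroup.inclusion le_sup_left (e.symm y)) _
          (by rw [hrQ, MulEquiv.apply_symm_apply]; rfl), congr_apply, ← hrQ]
        exact congrArg r (Subtype.ext (hδQ _))
      have hcong : MulAut.congr e β ∈ CT.autGroup (autImg a Q) := by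
        refine (mem_autGroup_iff_hom hImC).2 ⟨mem_of_restrict hcF le_sup_left _ fun y => (hag y).symm,
          hImC, fun y => hImC (MulAut.congr e β y).2, c, hcF, hag, fun t => ?_⟩
        obtain ⟨t', ht'⟩ := hTsurj.ge t.2
        rw [hcval (Subgroup.inclusion le_sup_right t') _ ht'.symm]
        refine Eq.trans (congrArg r (Subtype.ext (hδT t'))) ht'
      have h1 : MulAut.congr e β ∈ K.autGroup (autImg a Q) := by
        refine hKi.2.2 _ (autImg_le a Q) ?_
        rw [CfsgLib.Transfer.map_subtype_pResidual]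
        exact Subgroup.subset_closure ⟨hcong, by rwa [MulEquiv.orderOf_eq]⟩
      refine (mem_autGroup_iff_hom hQ).2 ⟨hQ, Q.subtype_injective.comp β.injective,
        fun x => hQ (β x).2, _, (mem_autGroup_iff_hom (autImg_le a Q)).1 h1, fun x hx hax => ?_⟩
      show ((MulAut.congr e β ⟨_, hax⟩ : autImg a Q) : Ω) = _
      rw [show (⟨_, hax⟩ : autImg a Q) = e x from Subtype.ext (hex x).symm, congr_apply,
        MulEquiv.symm_apply_apply]
      exact hex _
    obtain ⟨-, -, hφX, χ, hχ, hχx⟩ :=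
      PPowerIndex.le_of_residual (F := CT) hXp hXC hKs hKi.1 (twistSystem K a) htw P hφ
    exact ⟨χ, hχ, fun x _ hax => hχx x (hPX x.2) hax⟩
  · -- factorization
    intro P hPX φ hφ
    have hφX : ∀ x, φ x ∈ X := fun x => hXsc.2 P hPX φ hφ x
    obtain ⟨ψ, hψ, hψP, hψT⟩ := exists_ext_sup hS hF hT hφ (hPX.trans hXC) fun x => hXC (hφX x)
    obtain ⟨τ, hτ, hτx⟩ := exists_aut (restrict_mem hψ (le_sup_right : T ≤ P ⊔ T))
      (range_eq_of_le (hom_inj (restrict_mem hψ le_sup_right)) hψT)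
    have hTX : T ⊔ X ≤ extender S T (T.subtype.comp τ.toMonoidHom) :=
      sup_le (le_extender hTS fun t => hTS (τ t).2) (hXC.trans (centralizerIn_le_extender _))
    obtain ⟨τe, hτe, hτeT⟩ := (isReceptive_of_isFullyNormalized hS hF
      (CfsgLib.FusionQuot.isFullyNormalized_of_stronglyClosed hT)).2 T _
        ((mem_autGroup_iff_hom hTS).1 hτ) (range_subtype_comp τ)
    set g := τe.comp (Subgroup.inclusion hTX) with hg
    have hgF : g ∈ F.Hom (T ⊔ X) := restrict_mem hτe hTX
    have hgT : ∀ t : T, g (Subgroup.inclusion le_sup_left t) =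
        ψ (Subgroup.inclusion le_sup_right t) := fun t => (hτeT t t.2 _).trans (hτx t)
    obtain ⟨α, hα, hαx⟩ := exists_aut (restrict_mem hgF (le_sup_right : X ≤ T ⊔ X))
      (range_eq_of_le (hom_inj (restrict_mem hgF le_sup_right))
        fun x => stronglyClosed_apply_mem hXsc (restrict_mem hgF le_sup_right) x x.2)
    obtain ⟨ρ, hρ, hρinv⟩ := F.inv_mem hgF
    have hmem : ∀ z, ψ z ∈ g.range := forall_mem_of_sup
      (fun x => by
        obtain ⟨y, hy⟩ := α.surjective ⟨φ x, hφX x⟩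
        exact ⟨_, ((hαx y).symm.trans (congrArg Subtype.val hy)).trans (hψP x).symm⟩)
      (fun t => ⟨_, hgT t⟩)
    have hcF := F.comp_mem hψ hρ hmem
    set ψ₀ := ρ.comp (ψ.codRestrict _ hmem) with hψ₀
    have hval : ∀ x : P, ψ₀ (Subgroup.inclusion le_sup_left x) = (α⁻¹ ⟨φ x, hφX x⟩ : X) := fun x => by
      show ρ ⟨ψ (Subgroup.inclusion le_sup_left x), hmem _⟩ = _
      have h0 : g (Subgroup.inclusion le_sup_right (α⁻¹ ⟨φ x, hφX x⟩)) = φ x :=
        (hαx _).symm.trans (congrArg Subtype.val (MulAut.apply_inv_self _ α _))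
      exact Eq.trans (congrArg ρ (Subtype.ext ((hψP x).trans h0.symm))) (hρinv (Subgroup.inclusion le_sup_right (α⁻¹ ⟨φ x, hφX x⟩)))
    have hT₀ : ∀ t : T, ψ₀ (Subgroup.inclusion le_sup_right t) = t := fun t =>
      show ρ ⟨ψ (Subgroup.inclusion le_sup_right t), hmem _⟩ = (t : Ω) from
        Eq.trans (congrArg ρ (Subtype.ext (hgT t).symm)) (hρinv (Subgroup.inclusion le_sup_left t))
    have hφ₀ : ψ₀.comp (Subgroup.inclusion le_sup_left) ∈ CT.Hom P :=
      ⟨restrict_mem hcF le_sup_left, hPX.trans hXC,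
        fun x => hXC ((congrArg (· ∈ X) (hval x)).mpr (α⁻¹ ⟨φ x, hφX x⟩).2),
        ψ₀, hcF, fun x => rfl, hT₀⟩
    obtain ⟨α', hα', φ₁, hφ₁, hφ₁x⟩ := hKn.1.2.2.2.2.2 P hPX _ hφ₀
    refine ⟨α * α', mul_mem hα (CfsgLib.FusionQuot.autGroup_le_of_subsystem hCTF X hα'), φ₁, hφ₁,
      fun x hx => ?_⟩
    have h1 : α' ⟨φ₁ x, hx⟩ = α⁻¹ ⟨φ x, hφX x⟩ := Subtype.ext
      ((hφ₁x x hx).symm.trans (hval x))
    rw [MulAut.mul_apply, h1, MulAut.apply_inv_self]
  · -- extension
    set W := X ⊔ centralizerIn S X with hW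
    have hWS : W ≤ S := sup_le hXS (centralizerIn_le S X)
    have hXW : X ≤ W := le_sup_left
    have : Finite W := finite_of_le hWS
    have : Finite (MulAut W) := finite_mulAut
    have : Finite (MulAut X) := finite_mulAut
    have hWp : IsPGroup p W := hS.to_le hWS
    have hpres : ∀ (β : MulAut W), β ∈ F.autGroup W → ∀ c : W, (c : Ω) ∈ centralizerIn S X →
        ((β c : W) : Ω) ∈ centralizerIn S X := by
      intro β hβ c hc
      refine ⟨hWS (β c).2, Subgroup.mem_centralizer_iff.2 fun y hy => ?_⟩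
      obtain ⟨v, hv⟩ := β.surjective ⟨y, hXW hy⟩
      have hvX : (v : Ω) ∈ X := by
        rw [show v = β⁻¹ ⟨y, hXW hy⟩ by rw [← hv, MulAut.inv_apply_self]]
        exact Stability.aut_mem hXsc hWS (inv_mem hβ) hy
      have h1 : v * c = c * v := Subtype.ext (Subgroup.mem_centralizer_iff.1 hc.2 _ hvX)
      have h2 := congrArg (fun z : W => ((β z : W) : Ω)) h1
      simp only [map_mul, Subgroup.coe_mul, hv] at h2
      exact h2
    let M : Subgroup (K.autGroup X) :=
      { carrier := {a | ∃ β ∈ F.autGroup W,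
          (∀ x : X, β (Subgroup.inclusion hXW x) = Subgroup.inclusion hXW ((a : MulAut X) x)) ∧
          ∀ c : W, (c : Ω) ∈ centralizerIn S X →
            ((c⁻¹ * β c : W) : Ω) ∈ X ⊓ Subgroup.centralizer (X : Set Ω)}
        one_mem' := ⟨1, one_mem _, fun x => rfl, fun c _ => by simp⟩
        mul_mem' := by
          rintro a a' ⟨β, hβ, hβx, hβc⟩ ⟨β', hβ', hβ'x, hβ'c⟩
          refine ⟨β * β', mul_mem hβ hβ', fun x => ?_, fun c hc => ?_⟩
          · rw [MulAut.mul_apply, hβ'x, hβx]
            rfl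
          · rw [show c⁻¹ * (β * β') c = (c⁻¹ * β' c) * ((β' c)⁻¹ * β (β' c)) by
              rw [MulAut.mul_apply]; group, Subgroup.coe_mul]
            exact mul_mem (hβ'c c hc) (hβc _ (hpres β' hβ' c hc))
        inv_mem' := by
          rintro a ⟨β, hβ, hβx, hβc⟩
          refine ⟨β⁻¹, inv_mem hβ, fun x => β.injective ?_, fun c hc => ?_⟩
          · rw [MulAut.apply_inv_self, hβx, Subgroup.coe_inv, MulAut.apply_inv_self]
          · have h1 := inv_mem (hβc _ (hpres β⁻¹ (inv_mem hβ) c hc))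
            rw [← Subgroup.coe_inv, mul_inv_rev, inv_inv, MulAut.apply_inv_self] at h1
            exact h1 }
    suffices hM : M = ⊤ by
      intro a ha
      obtain ⟨β, hβ, hβx, hβc⟩ : (⟨a, ha⟩ : K.autGroup X) ∈ M := hM ▸ Subgroup.mem_top _
      exact ⟨β, hβ, fun x => congrArg Subtype.val (hβx x), fun c hc => by simpa using hβc c hc⟩
    obtain ⟨-, PK, hPK⟩ := isFullyAutomized_of_isFullyNormalized hXp hKs (isFullyNormalized_top K)
    refine LayerCore.eq_top_of_sylow_of_coprime M PK (fun a ha => ?_) fun a ha => ?_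
    · rw [hPK, Subgroup.mem_subgroupOf] at ha
      obtain ⟨x₀, hx₀, hax₀⟩ := mem_autInducedBy_iff.1 ha
      have hn := Subgroup.le_normalizer (hXW hx₀)
      refine ⟨conjAut W x₀ hn, autInducedBy_le_autGroup F hWS
        (conjAut_mem_autInducedBy (hXS hx₀) hn), fun x => Subtype.ext (hax₀ x).symm, fun c hc => ?_⟩
      show (c : Ω)⁻¹ * (x₀ * c * x₀⁻¹) ∈ _
      rw [Subgroup.mem_centralizer_iff.1 hc.2 x₀ hx₀, mul_inv_cancel_right, inv_mul_cancel]
      exact one_mem _
    -- an element of order prime to `p`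
    have haX : X.subtype.comp (a : MulAut X).toMonoidHom ∈ K.Hom X :=
      (mem_autGroup_iff_hom le_rfl).1 a.2
    set V := X ⊔ T with hV
    obtain ⟨-, -, -, ψ₀, hψ₀, hψ₀X, hψ₀T⟩ := hKi.1 X haX
    have hVS : V ≤ S := sup_le hXS hTS
    have : Finite V := finite_of_le hVS
    have hψ₀m : ∀ z, ψ₀ z ∈ V := forall_mem_of_sup
      (fun x => by rw [hψ₀X]; exact Subgroup.mem_sup_left ((a : MulAut X) x).2)
      (fun t => by rw [hψ₀T]; exact Subgroup.mem_sup_right t.2)
    obtain ⟨ζ, hζ, hζx⟩ := LayerCore.exists_aut_of_mapsTo hψ₀ hψ₀m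
    have hVsc : F.StronglyClosed V := CfsgLib.FusionQuot.stronglyClosed_sup hS hF hXsc hT
    have hTW : T ≤ W := le_trans (fun t ht => ⟨hTS ht, Subgroup.mem_centralizer_iff.2 fun x hx =>
      (Subgroup.mem_centralizer_iff.1 (hXC hx).2 t ht).symm⟩ :
        T ≤ centralizerIn S X) le_sup_right
    have hVW : V ≤ W := sup_le hXW hTW
    have hTn := stronglyClosed_le_normalizer hT
    have hXnS := stronglyClosed_le_normalizer hXsc
    have hVn : S ≤ Subgroup.normalizer (V : Set Ω) := fun s hs =>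
      normalizer_sup_of_mem (hXnS hs) (hTn hs)
    have hWN : W ≤ normalizerIn S V := fun w hw => ⟨hWS hw, hVn (hWS hw)⟩
    obtain ⟨ψe, hψe, hψeN, hψex⟩ := ((mem_autGroup_iff hVS).1 hζ).exists_extension
      (isReceptive_of_isFullyNormalized hS hF
        (CfsgLib.FusionQuot.isFullyNormalized_of_stronglyClosed hVsc)) hVW hWN fun w hw => by
        have hw' : w ∈ ((X ⊔ centralizerIn S X : Subgroup Ω) : Set Ω) := hw
        rw [Subgroup.coe_mul_of_right_le_normalizer_left X _
          ((centralizerIn_le S X).trans hXnS)] at hw'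
        obtain ⟨x₀, hx₀, c, hc, rfl⟩ := hw'
        have hx₀V : x₀ ∈ V := Subgroup.mem_sup_left hx₀
        have hcN := hVn hc.1
        have hsplit : conjAut V (x₀ * c) (hWN hw).2 =
            conjAut V x₀ (hVn (hVS hx₀V)) * conjAut V c hcN :=
          MulEquiv.ext fun v => Subtype.ext (by
            simp only [conjAut_apply, MulAut.mul_apply, mul_inv_rev, mul_assoc])
        rw [hsplit, map_mul]
        refine mul_mem ?_ ?_
        · rw [congr_conjAut_eq_of_extends (ψ := V.subtype.comp ζ.toMonoidHom) le_rfl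
            (fun v => rfl) hx₀V (hVn (hVS hx₀V))]
          exact conjAut_mem_autInducedBy (hVS (ζ ⟨x₀, hx₀V⟩).2) _
        · -- conjugation by `c` commutes with `ζ`
          have hζT : ∀ t : T, ζ (Subgroup.inclusion le_sup_right t) = Subgroup.inclusion le_sup_right t :=
            fun t => Subtype.ext ((hζx _).trans (hψ₀T t))
          have key : ∀ v : V, ζ (conjAut V c hcN v) = conjAut V c hcN (ζ v) := by
            suffices hle : V ≤ (((ζ.toMonoidHom.comp (conjAut V c hcN).toMonoidHom).eqLocus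
                ((conjAut V c hcN).toMonoidHom.comp ζ.toMonoidHom))).map V.subtype by
              intro v
              obtain ⟨z, hz, hzv⟩ := hle v.2
              exact (Subtype.ext hzv : z = v) ▸ hz
            refine sup_le (fun v hv => ⟨⟨v, Subgroup.mem_sup_left hv⟩, ?_, rfl⟩)
              (fun v hv => ⟨⟨v, Subgroup.mem_sup_right hv⟩, ?_, rfl⟩)
            · show ζ (conjAut V c hcN ⟨v, _⟩) = conjAut V c hcN (ζ ⟨v, _⟩)
              have hfixX : ∀ u : V, (u : Ω) ∈ X → conjAut V c hcN u = u := fun u hu =>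
                Subtype.ext (by
                  rw [conjAut_apply, ← Subgroup.mem_centralizer_iff.1 hc.2 _ hu, mul_inv_cancel_right])
              rw [hfixX ⟨v, _⟩ hv, hfixX (ζ ⟨v, _⟩)]
              exact Stability.aut_mem hXsc hVS hζ hv
            · show ζ (conjAut V c hcN ⟨v, _⟩) = conjAut V c hcN (ζ ⟨v, _⟩)
              have hcT : c * v * c⁻¹ ∈ T := conj_mem_of_mem_normalizer (hTn hc.1) hv
              rw [show ζ ⟨v, Subgroup.mem_sup_right hv⟩ = ⟨v, Subgroup.mem_sup_right hv⟩ from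
                hζT ⟨v, hv⟩]
              exact hζT ⟨_, hcT⟩
          have h1 : MulAut.congr ((ζ : MulAut V) : V ≃* V) (conjAut V c hcN) = conjAut V c hcN := by
            refine MulEquiv.ext fun v => ?_
            rw [congr_apply, key, MulEquiv.apply_symm_apply]
          rw [h1]
          exact conjAut_mem_autInducedBy hc.1 hcN
    have hψeX : ∀ x : X, ψe ⟨(x : Ω), hXW x.2⟩ = (((a : MulAut X) x : X) : Ω) := fun x =>
      ((hψex (Subgroup.inclusion le_sup_left x)).trans (hζx _)).trans (hψ₀X x)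
    have hψeT : ∀ t : T, ψe ⟨(t : Ω), hTW t.2⟩ = t := fun t =>
      ((hψex (Subgroup.inclusion le_sup_right t)).trans (hζx _)).trans (hψ₀T t)
    have hψem : ∀ z, ψe z ∈ W := forall_mem_of_sup
      (fun x => by
        show ψe ⟨(x : Ω), _⟩ ∈ W
        rw [hψeX]
        exact hXW ((a : MulAut X) x).2)
      (fun c => by
        refine Subgroup.mem_sup_right ⟨map_mem hψe _, Subgroup.mem_centralizer_iff.2 fun y hy => ?_⟩
        obtain ⟨x, hx⟩ := (a : MulAut X).surjective ⟨y, hy⟩
        have h1 : (Subgroup.inclusion hXW x) * Subgroup.inclusion le_sup_right c =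
            Subgroup.inclusion le_sup_right c * Subgroup.inclusion hXW x :=
          Subtype.ext (Subgroup.mem_centralizer_iff.1 c.2.2 _ x.2)
        have h2 := congrArg ψe h1
        rw [map_mul, map_mul, show ψe (Subgroup.inclusion hXW x) = y from
          (hψeX x).trans (congrArg Subtype.val hx)] at h2
        exact h2)
    obtain ⟨κ₁, hκ₁, hκ₁x⟩ := LayerCore.exists_aut_of_mapsTo hψe hψem
    have hκ₁X : ∀ x : X, κ₁ (Subgroup.inclusion hXW x) =
        Subgroup.inclusion hXW ((a : MulAut X) x) := fun x => Subtype.ext ((hκ₁x _).trans (hψeX x))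
    have hκ₁T : ∀ w ∈ T.subgroupOf W, κ₁ w = w := fun w hw =>
      Subtype.ext ((hκ₁x w).trans (hψeT ⟨(w : Ω), hw⟩))
    obtain ⟨k, hk⟩ := CfsgLib.Transfer.exists_pow_coprime_orderOf (p := p) κ₁
    set κ := κ₁ ^ p ^ k with hκdef
    have hκ : κ ∈ F.autGroup W := pow_mem hκ₁ _
    have hκX := LayerCore.pow_agree hXW κ₁ _ hκ₁X (p ^ k)
    have hκT : ∀ w ∈ T.subgroupOf W, κ w = w := fun w hw => by
      have h1 := LayerCore.disp_pow κ₁ (L := T.subgroupOf W) (K := ⊥)
        (fun x hx => by rw [Subgroup.mem_bot.1 hx, map_one]; exact one_mem _)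
        (fun x hx => by rw [hκ₁T x hx, inv_mul_cancel]; exact one_mem _) (p ^ k) w hw
      exact (inv_mul_eq_one.1 (Subgroup.mem_bot.1 h1)).symm
    have hgood : a ^ p ^ k ∈ M := by
      refine ⟨κ, hκ, hκX, fun c hc => ?_⟩
      have hdC : ((c⁻¹ * κ c : W) : Ω) ∈ centralizerIn S X := by
        rw [Subgroup.coe_mul, Subgroup.coe_inv]
        exact mul_mem (inv_mem hc) (hpres κ hκ c hc)
      refine ⟨?_, hdC.2⟩
      have : (X.subgroupOf W).Normal := ⟨fun x hx w =>
        conj_mem_of_mem_normalizer (hXnS (hWS w.2)) hx⟩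
      refine disp_mem_of_disp hWp κ hk (L := (centralizerIn S T).subgroupOf W) (N := X.subgroupOf W)
        (fun x hx => Stability.aut_mem hXsc hWS hκ hx) (fun w hw => ?_) ?_
      · -- maps fixing `T` move elements inside the focal subgroup
        show (w : Ω)⁻¹ * ((κ w : W) : Ω) ∈ X
        have hle : (W ⊓ centralizerIn S T) ⊔ T ≤ W := sup_le inf_le_left hTW
        have hκh := restrict_mem ((mem_autGroup_iff_hom hWS).1 hκ) hle
        refine hfoc (Subgroup.subset_closure ⟨W ⊓ centralizerIn S T, _, ⟨(w : Ω), w.2, hw⟩,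
          ⟨restrict_mem hκh le_sup_left, inf_le_right, fun z => ?_, _, hκh, fun z => rfl,
            fun t => congrArg Subtype.val (hκT ⟨(t : Ω), hTW t.2⟩ t.2)⟩, rfl⟩)
        refine ⟨hWS (κ _).2, Subgroup.mem_centralizer_iff.2 fun t ht => ?_⟩
        have h1 : (⟨t, hTW ht⟩ : W) * ⟨(z : Ω), z.2.1⟩ = ⟨(z : Ω), z.2.1⟩ * ⟨t, hTW ht⟩ :=
          Subtype.ext (Subgroup.mem_centralizer_iff.1 z.2.2.2 t ht)
        have h2 := congrArg κ h1
        rw [map_mul, map_mul, hκT ⟨t, hTW ht⟩ ht] at h2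
        exact congrArg Subtype.val h2
      · -- the displacement centralizes `T`
        refine ⟨hWS (c⁻¹ * κ c).2, Subgroup.mem_centralizer_iff.2 fun t ht => ?_⟩
        set u : W := ⟨(c : Ω) * t * (c : Ω)⁻¹,
          hTW (conj_mem_of_mem_normalizer (hTn hc.1) ht)⟩ with hu
        have h1 : u * c = c * ⟨t, hTW ht⟩ := Subtype.ext (by simp [hu])
        have h2 := congrArg κ h1
        rw [map_mul, map_mul, hκT u (conj_mem_of_mem_normalizer (hTn hc.1) ht),
          hκT ⟨t, hTW ht⟩ ht] at h2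
        have h3 := congrArg Subtype.val h2
        simp only [Subgroup.coe_mul, hu] at h3 ⊢
        calc t * ((c : Ω)⁻¹ * ((κ c : W) : Ω))
            = (c : Ω)⁻¹ * ((c : Ω) * t * (c : Ω)⁻¹ * ((κ c : W) : Ω)) := by group
          _ = (c : Ω)⁻¹ * ((κ c : W) : Ω) * t := by rw [h3, mul_assoc]
    have hcop : Nat.Coprime (p ^ k) (orderOf a) := Nat.Coprime.pow_left k ha.symm
    obtain ⟨m, hm⟩ := exists_pow_eq_self_of_coprime hcop
    rw [← hm]
    exact pow_mem hgood m

end CfsgLib.Fusion.CenNormal
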