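import Cfsg.Agent.Lib.Fusion.Realize
import Cfsg.Agent.Lib.Fusion.Saturation
import Cfsg.Agent.Lib.FusionQuot.Joins
import Cfsg.Prelude.Def_FusionComponents
import Mathlib.GroupTheory.Abelianization.Defs

/-!
A characteristic biset of a saturated fusion system: a finite `(S,S)`-biset with stable marks, free
on the right with a number of right orbits prime to `p`, on which the centre of the system acts in
the same way from the left and from the right; and the transfer `S → S/S'` it defines.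
-/

set_option autoImplicit false

namespace CfsgLib.Fusion.Biset

open Cfsg Cfsg.FusionSystem CfsgLib.Fusion CfsgLib.Fusion.Realize CfsgLib.Marks MulAction

universe u

variable {Ω : Type u} [Group Ω] {S : Subgroup Ω} (F : Cfsg.FusionSystem S) {p : ℕ}

/-- the centre, inside `S` -/
def zS : Subgroup S := F.center.subgroupOf S

/-- the diagonal of the centre -/
def dz : Subgroup (S × S) := diag (zS F)

theorem zS_comm {z : S} (hz : z ∈ zS F) (x : S) : x * z = z * x :=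
  Subtype.ext (F.center_le_centralizer hz x x.2)

theorem conjS_dz (g : S × S) : conjS g (dz F) = dz F := by
  ext x
  rw [mem_conjS]
  have key : ∀ (g : S × S) (x : S × S), x ∈ dz F → g⁻¹ * x * g = x := by
    rintro g _ ⟨z, hz, rfl⟩
    exact Prod.ext (by simp [mul_assoc, ← zS_comm F hz g.1]) (by simp [mul_assoc, ← zS_comm F hz g.2])
  refine ⟨fun h => ?_, fun h => (key g x h).symm ▸ h⟩
  have h1 := key g⁻¹ _ h
  have h2 : g⁻¹⁻¹ * (g⁻¹ * x * g) * g⁻¹ = x := by simp [mul_assoc]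
  rw [h2] at h1
  rw [h1]
  exact h

/-- graph subgroups containing the diagonal of the centre -/
def relSubs : Set (Subgroup (S × S)) := {D | D ∈ graphSubs F ∧ dz F ≤ D}

theorem relSubs_conjS (g : S × S) {D : Subgroup (S × S)} (hD : D ∈ relSubs F) :
    conjS g D ∈ relSubs F :=
  ⟨graphSubs_conjS F g hD.1, (conjS_dz F g).symm.le.trans (Subgroup.map_mono hD.2)⟩

theorem center_fix [Finite S] {P : Subgroup Ω} {φ : P →* Ω} (hφ : φ ∈ F.Hom P) (x : P)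
    (hx : (x : Ω) ∈ F.center) : φ x = x := by
  obtain ⟨ψ, -, h1, h2⟩ := (CfsgLib.FusionQuot.isCentral_center F).2 P φ hφ
  rw [← h1 x]
  exact (congrArg ψ (Subtype.ext rfl : Subgroup.inclusion (le_sup_left : P ≤ P ⊔ F.center) x =
    Subgroup.inclusion le_sup_right (⟨(x : Ω), hx⟩ : F.center))).trans (h2 _)

/-- the graph of a map -/
def gr {P : Subgroup Ω} (φ : P →* Ω) : Subgroup (S × S) where
  carrier := {x | ∃ h : (x.2 : Ω) ∈ P, φ ⟨(x.2 : Ω), h⟩ = (x.1 : Ω)}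
  one_mem' := ⟨P.one_mem, map_one φ⟩
  mul_mem' := by
    rintro x y ⟨hx, hx'⟩ ⟨hy, hy'⟩
    refine ⟨P.mul_mem hx hy, ?_⟩
    show φ (⟨(x.2 : Ω), hx⟩ * ⟨(y.2 : Ω), hy⟩) = (x.1 : Ω) * (y.1 : Ω)
    rw [map_mul, hx', hy']
  inv_mem' := by
    rintro x ⟨hx, hx'⟩
    refine ⟨P.inv_mem hx, ?_⟩
    show φ (⟨(x.2 : Ω), hx⟩⁻¹) = (x.1 : Ω)⁻¹
    rw [map_inv, hx']

theorem gr_mem {P : Subgroup Ω} {φ : P →* Ω} (hφ : φ ∈ F.Hom P) :
    gr φ ∈ graphSubs F := ⟨P, φ, hφ, fun _ hx => hx⟩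

theorem dz_le_gr [Finite S] {P : Subgroup Ω} {φ : P →* Ω} (hφ : φ ∈ F.Hom P) (hZ : F.center ≤ P) :
    dz F ≤ gr φ := by
  rintro _ ⟨z, hz, rfl⟩
  exact ⟨hZ hz, center_fix F hφ ⟨z, hZ hz⟩ hz⟩

theorem sup_dz_mem [Finite S] {E : Subgroup (S × S)} (hE : E ∈ graphSubs F) :
    E ⊔ dz F ∈ relSubs F := by
  obtain ⟨P, φ, hφ, hg⟩ := hE
  obtain ⟨ψ, hψ, h1, -⟩ := (CfsgLib.FusionQuot.isCentral_center F).2 P φ hφ
  refine ⟨graphSubs_mono F (gr_mem F hψ) (sup_le (fun x hx => ?_) (dz_le_gr F hψ le_sup_right)),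
    le_sup_right⟩
  obtain ⟨h, hv⟩ := hg x hx
  exact ⟨Subgroup.mem_sup_left h, (h1 ⟨_, h⟩).trans hv⟩

theorem card_le_of_mem [Finite S] {E : Subgroup (S × S)} (hE : E ∈ graphSubs F) :
    Nat.card E ≤ Nat.card S := by
  rw [← card_sndImage F hE]
  exact Subgroup.card_le_card_group _

theorem sndImage_sup (E E' : Subgroup (S × S)) :
    sndImage (E ⊔ E') = sndImage E ⊔ sndImage E' := Subgroup.map_sup _ _ _

theorem sndImage_conjS (g : S × S) (E : Subgroup (S × S)) :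
    sndImage (conjS g E) = conjS g.2 (sndImage E) := by
  ext y
  constructor
  · rintro ⟨_, ⟨x, hx, rfl⟩, rfl⟩
    exact ⟨x.2, ⟨x, hx, rfl⟩, rfl⟩
  · rintro ⟨_, ⟨x, hx, rfl⟩, rfl⟩
    exact ⟨_, ⟨x, hx, rfl⟩, rfl⟩

theorem sndImage_dz : sndImage (dz F) = zS F := by
  have h : (MonoidHom.snd S S).comp ((MonoidHom.id S).prod (MonoidHom.id S)) = MonoidHom.id S := rfl
  rw [sndImage, dz, diag, Subgroup.map_map, h, Subgroup.map_id]

/-! ### The reference subgroup over a given second projection -/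

/-- `E₀` receives every graph subgroup with the same second image, normalizers included. -/
def IsStar (E₀ : Subgroup (S × S)) (Q : Subgroup S) : Prop :=
  E₀ ∈ relSubs F ∧ sndImage E₀ = Q ∧
    ∀ E ∈ relSubs F, sndImage E = Q →
      ∃ θ : (Subgroup.normalizer (E : Set (S × S))) →* S × S,
        Function.Injective θ ∧ θ.range ≤ Subgroup.normalizer (E₀ : Set (S × S)) ∧
        (E.subgroupOf (Subgroup.normalizer (E : Set (S × S)))).map θ = E₀ ∧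
        (∀ n, (θ n).2 = (n : S × S).2) ∧
        ∀ D : Subgroup (S × S), ∀ hD : D ≤ Subgroup.normalizer (E : Set (S × S)),
          D ∈ graphSubs F ↔ (D.subgroupOf (Subgroup.normalizer (E : Set (S × S)))).map θ ∈ graphSubs F

theorem exists_star [Finite S] [Fact p.Prime] (hS : IsPGroup p S) (hF : F.IsSaturated p)
    (Q : Subgroup S) (hZQ : zS F ≤ Q) : ∃ E₀, IsStar F E₀ Q := by
  classical
  set QΩ : Subgroup Ω := Q.map S.subtype with hQΩ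
  have hQS : QΩ ≤ S := Subgroup.map_subtype_le Q
  have hmemQ : ∀ x : S, (x : Ω) ∈ QΩ ↔ x ∈ Q := fun x =>
    ⟨fun ⟨y, hy, h⟩ => (Subtype.ext h : y = x) ▸ hy, fun h => ⟨x, h, rfl⟩⟩
  have hZ : F.center ≤ QΩ := fun z hz =>
    (hmemQ ⟨z, CfsgLib.FusionQuot.center_le F hz⟩).2 (hZQ hz)
  obtain ⟨T, hQT, hT⟩ := exists_isFullyNormalized F hQS
  obtain ⟨e, he, ψ, hψ, -, hag⟩ := exists_normalizer_map hS hF hT hQT
  set ε : QΩ →* Ω := T.subtype.comp e.toMonoidHom with hε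
  have hεF : ε ∈ F.Hom QΩ := he
  refine ⟨gr ε, ⟨gr_mem F hεF, dz_le_gr F hεF hZ⟩, ?_, fun E hE hEQ => ?_⟩
  · ext y
    constructor
    · rintro ⟨x, ⟨h, -⟩, rfl⟩
      exact (hmemQ _).1 h
    · intro hy
      have h : (y : Ω) ∈ QΩ := (hmemQ _).2 hy
      exact ⟨(⟨ε ⟨_, h⟩, map_mem hεF _⟩, y), ⟨h, rfl⟩, rfl⟩
  -- the map of `E`
  obtain ⟨P, φ, hφ, hg⟩ := hE.1
  have hQP : QΩ ≤ P := by
    rintro _ ⟨y, hy, rfl⟩
    rw [← hEQ] at hy
    obtain ⟨x, hx, rfl⟩ := hy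
    exact (hg x hx).1
  set P' := (φ.comp (Subgroup.inclusion hQP)).range with hP'
  obtain ⟨f, hf, hfx⟩ := exists_iso (restrict_mem hφ hQP) hP'.symm
  have hEmem : ∀ (x : S × S), x ∈ E ↔ ∃ h : (x.2 : Ω) ∈ QΩ, φ ⟨(x.2 : Ω), hQP h⟩ = (x.1 : Ω) := by
    intro x
    constructor
    · intro hx
      have h : (x.2 : Ω) ∈ QΩ := (hmemQ _).2 (hEQ ▸ ⟨x, hx, rfl⟩)
      obtain ⟨h', hv⟩ := hg x hx
      exact ⟨h, hv⟩
    · rintro ⟨h, hv⟩
      obtain ⟨y, hy, hyx⟩ : x.2 ∈ sndImage E := hEQ.symm ▸ (hmemQ _).1 h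
      obtain ⟨h', hv'⟩ := hg y hy
      have e2 : y.2 = x.2 := hyx
      have e1 : y.1 = x.1 := by
        refine Subtype.ext ?_
        rw [← hv', ← hv]
        exact congrArg φ (Subtype.ext (show (y.2 : Ω) = x.2 by rw [e2]))
      exact (Prod.ext e1 e2 : y = x) ▸ hy
  set N := Subgroup.normalizer (E : Set (S × S)) with hN
  -- conjugating inside `E`
  have hconj : ∀ n ∈ N, ∀ (q : Ω) (hq : q ∈ QΩ),
      ∃ h : (n.2 : Ω) * q * (n.2 : Ω)⁻¹ ∈ QΩ,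
        φ ⟨_, hQP h⟩ = (n.1 : Ω) * φ ⟨q, hQP hq⟩ * (n.1 : Ω)⁻¹ := by
    intro n hn q hq
    have hx : ((⟨φ ⟨q, hQP hq⟩, map_mem hφ _⟩, ⟨q, hQS hq⟩) : S × S) ∈ E :=
      (hEmem _).2 ⟨hq, rfl⟩
    obtain ⟨h, hv⟩ := (hEmem _).1 ((Subgroup.mem_normalizer_iff.1 hn _).1 hx)
    exact ⟨h, hv⟩
  let A : Subgroup Ω := (N.map (MonoidHom.fst S S)).map S.subtype
  have hP'S : P' ≤ S := hf.le_right
  have hP'N : ∀ a ∈ A, ∀ y ∈ P', a * y * a⁻¹ ∈ P' := by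
    rintro _ ⟨_, ⟨n, hn, rfl⟩, rfl⟩ _ ⟨⟨q, hq⟩, rfl⟩
    obtain ⟨h, hv⟩ := hconj n hn q hq
    exact ⟨⟨_, h⟩, hv⟩
  have hAN : A ≤ normalizerIn S P' :=
    le_inf (Subgroup.map_subtype_le _) (Subgroup.le_normalizer_iff.2 hP'N)
  have hP'A : P' ≤ A := by
    rintro _ ⟨⟨q, hq⟩, rfl⟩
    refine ⟨⟨φ ⟨q, hQP hq⟩, map_mem hφ _⟩,
      ⟨(⟨φ ⟨q, hQP hq⟩, map_mem hφ _⟩, ⟨q, hQS hq⟩), ?_, rfl⟩, rfl⟩
    exact Subgroup.le_normalizer ((hEmem _).2 ⟨hq, rfl⟩)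
  -- the comparison isomorphism extends
  set α : P' ≃* T := f.symm.trans e with hα
  have hαF : IsFIso F α := hf.symm.trans he
  have hαq : ∀ (q : Ω) (hq : q ∈ QΩ), (α ⟨φ ⟨q, hQP hq⟩, ⟨⟨q, hq⟩, rfl⟩⟩ : Ω) = ε ⟨q, hq⟩ := by
    intro q hq
    show ((e (f.symm _) : T) : Ω) = (e ⟨q, hq⟩ : T)
    congr 2
    rw [MulEquiv.symm_apply_eq]
    exact Subtype.ext (hfx ⟨q, hq⟩).symm
  have hNQ : ∀ n ∈ N, (n.2 : Ω) ∈ normalizerIn S QΩ := by
    intro n hn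
    have : Finite QΩ := finite_of_le hQS
    refine ⟨n.2.2, Subgroup.mem_normalizer_iff.2 fun q => ⟨fun hq => (hconj n hn q hq).1, fun hq => ?_⟩⟩
    obtain ⟨h, -⟩ := hconj n⁻¹ (inv_mem hn) _ hq
    simpa [mul_assoc] using h
  obtain ⟨χ, hχ, -, hχag⟩ := hαF.exists_extension (isReceptive_of_isFullyNormalized hS hF hT)
    hP'A hAN fun a ha => by
      obtain ⟨_, ⟨n, hn, rfl⟩, rfl⟩ := ha
      refine mem_autInducedBy_iff.2 ⟨ψ ⟨_, hNQ n hn⟩, map_mem hψ _, fun y => ?_⟩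
      obtain ⟨z, rfl⟩ := α.surjective y
      obtain ⟨q, hq⟩ := f.surjective z
      subst hq
      obtain ⟨h, hv⟩ := hconj n hn q q.2
      rw [congr_apply, MulEquiv.symm_apply_apply]
      refine (congrArg (fun z : P' => ((α z : T) : Ω)) (Subtype.ext
        ((congrArg (fun z : Ω => (n.1 : Ω) * z * (n.1 : Ω)⁻¹) (hfx q)).trans hv.symm) :
          _ = (⟨φ ⟨_, hQP h⟩, ⟨⟨_, h⟩, rfl⟩⟩ : P'))).trans ?_
      refine (hαq _ h).trans ?_
      have e2 : α (f q) = e q := by simp [hα]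
      rw [e2, ← hag q]
      show ((e ⟨_, h⟩ : T) : Ω) = _
      rw [← hag ⟨_, h⟩]
      have e3 : (⟨_, le_normalizerIn hQS h⟩ : normalizerIn S QΩ) =
          ⟨_, hNQ n hn⟩ * ⟨(q : Ω), le_normalizerIn hQS q.2⟩ * ⟨_, hNQ n hn⟩⁻¹ := Subtype.ext rfl
      rw [e3, map_mul, map_mul, map_inv]
  let θ : N →* S × S := MonoidHom.prod
    ((χ.comp (((S.subtype.comp (MonoidHom.fst S S)).comp N.subtype).codRestrict A
      fun n => ⟨_, ⟨n, n.2, rfl⟩, rfl⟩)).codRestrict S fun n => map_mem hχ _)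
    ((MonoidHom.snd S S).comp N.subtype)
  have hA : ∀ n : N, ((n : S × S).1 : Ω) ∈ A := fun n => ⟨_, ⟨n, n.2, rfl⟩, rfl⟩
  have hθ1 : ∀ n : N, ((θ n).1 : Ω) = χ ⟨_, hA n⟩ := fun n => rfl
  have hθ2 : ∀ n : N, (θ n).2 = (n : S × S).2 := fun n => rfl
  have hθE : ∀ n : N, (n : S × S) ∈ E → θ n ∈ gr ε := by
    intro n hn
    obtain ⟨h, hv⟩ := (hEmem _).1 hn
    refine ⟨h, ?_⟩
    refine (hαq _ h).symm.trans ?_
    rw [hθ1, ← hχag]
    exact congrArg χ (Subtype.ext hv)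
  refine ⟨θ, ?_, ?_, ?_, hθ2, fun D hD => ⟨fun hDg => ?_, fun hDg => ?_⟩⟩
  · intro a b hab
    refine Subtype.ext (Prod.ext (Subtype.ext ?_) ?_)
    · have h1 := hθ1 a
      rw [hab, hθ1] at h1
      exact ((congrArg (fun z : A => (z : Ω)) (hom_inj hχ h1)).symm :)
    · rw [← hθ2, hab, hθ2]
  · rintro _ ⟨n, rfl⟩
    have key : ∀ (n : N) (x : S × S), x ∈ gr (S := S) ε → θ n * x * (θ n)⁻¹ ∈ gr (S := S) ε := by
      rintro n x ⟨h, hx⟩
      have hmem : ((⟨φ ⟨_, hQP h⟩, map_mem hφ _⟩, x.2) : S × S) ∈ E := (hEmem _).2 ⟨h, rfl⟩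
      set m : N := ⟨_, Subgroup.le_normalizer hmem⟩
      have hm : θ m = x := by
        refine Prod.ext (Subtype.ext ?_) rfl
        rw [hθ1, ← hx, ← hαq _ h, ← hχag]
      rw [← hm, ← map_inv, ← map_mul, ← map_mul]
      exact hθE _ ((Subgroup.mem_normalizer_iff.1 n.2 _).1 hmem)
    refine Subgroup.mem_normalizer_iff.2 fun x => ⟨key n x, fun hx => ?_⟩
    have h1 := key n⁻¹ _ hx
    simpa [mul_assoc] using h1
  · refine le_antisymm (by rintro _ ⟨n, hn, rfl⟩; exact hθE n hn) fun x hx => ?_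
    obtain ⟨h, hv⟩ := hx
    have hmem : ((⟨φ ⟨_, hQP h⟩, map_mem hφ _⟩, x.2) : S × S) ∈ E := (hEmem _).2 ⟨h, rfl⟩
    refine ⟨⟨_, Subgroup.le_normalizer hmem⟩, hmem, Prod.ext (Subtype.ext ?_) rfl⟩
    rw [hθ1, ← hv, ← hαq _ h, ← hχag]
  · refine graphSubs_twist F hDg hχ ?_
    rintro _ ⟨n, hn, rfl⟩
    exact ⟨n, hn, (hθ2 n).symm, hA n, (hθ1 n).symm⟩
  · obtain ⟨χ', hχ', hinv⟩ := F.inv_mem hχ
    refine graphSubs_twist F hDg hχ' fun x hx => ?_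
    refine ⟨θ ⟨x, hD hx⟩, ⟨⟨x, hD hx⟩, hx, rfl⟩, hθ2 _, ⟨⟨_, hA ⟨x, hD hx⟩⟩, rfl⟩, ?_⟩
    exact hinv ⟨_, hA ⟨x, hD hx⟩⟩

end CfsgLib.Fusion.Biset
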