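import Cfsg.Agent.Lib.Fusion.Biset
import Mathlib.GroupTheory.Sylow

/-!
Construction of the characteristic biset.
-/

set_option autoImplicit false

namespace CfsgLib.Fusion.Biset

open Cfsg Cfsg.FusionSystem CfsgLib.Fusion CfsgLib.Fusion.Realize CfsgLib.Marks MulAction

universe u

variable {Ω : Type u} [Group Ω] {S : Subgroup Ω} (F : Cfsg.FusionSystem S) {p : ℕ}

theorem zS_le_sndImage {E : Subgroup (S × S)} (hE : E ∈ relSubs F) : zS F ≤ sndImage E :=
  (sndImage_dz F).symm.le.trans (Subgroup.map_mono hE.2)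

theorem zS_le_rep {Q : Subgroup S} (h : zS F ≤ Q) : zS F ≤ rep Q := by
  obtain ⟨g, hg⟩ := exists_conjS_rep Q
  intro z hz
  have h1 : z ∈ conjS g (rep Q) := hg ▸ h hz
  rw [mem_conjS, mul_assoc, ← zS_comm F hz g, inv_mul_cancel_left] at h1
  exact h1

theorem mark_eq_zero_of_not_mem [Finite S] {c : Subgroup (S × S) → ℕ}
    (hc : ∀ D, c D ≠ 0 → D ∈ relSubs F) {D : Subgroup (S × S)} (hD : D ∉ graphSubs F) :
    mark c D = 0 := by
  by_contra h0
  obtain ⟨D', hD', g, hg⟩ := mark_ne_zero h0
  exact hD (graphSubs_mono F (graphSubs_conjS F g (hc D' hD').1) hg)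

/-- the mark at `E` is congruent to the mark at the reference subgroup over `sndImage E` -/
theorem mark_congr [Finite S] {c : Subgroup (S × S) → ℕ} (hc : ∀ D, c D ≠ 0 → D ∈ relSubs F)
    {f : Subgroup S → ℕ} {k : ℕ}
    (hf : ∀ D ∈ relSubs F, k < Nat.card D → mark c D = f (sndImage D))
    {E E₀ : Subgroup (S × S)} (hE : E ∈ relSubs F) (hk : Nat.card E = k)
    (hE₀ : IsStar F E₀ (rep (sndImage E))) :
    (fixN E E : ℤ) ∣ (mark c E₀ : ℤ) - mark c E := by
  obtain ⟨g, hg⟩ := exists_conjS_rep (sndImage E)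
  set γ : S × S := (1, g⁻¹) with hγ
  set E' := conjS γ E with hE'
  have hE'R : E' ∈ relSubs F := relSubs_conjS F γ hE
  have hE'Q : sndImage E' = rep (sndImage E) := by
    rw [hE', sndImage_conjS]
    show conjS g⁻¹ (sndImage E) = _
    conv_lhs => rw [hg]
    rw [conjS_conjS, inv_mul_cancel, conjS_one]
  have hk' : Nat.card E' = k := by rw [hE', card_conjS, hk]
  rw [← fixN_self_conjS γ E, ← mark_conjS c γ E, ← hE']
  obtain ⟨θ, hθ, hθN, hθE, hθ2, hθD⟩ := hE₀.2.2 E' hE'R hE'Q
  have hcong := fix_congr (X := GSet c) E' E₀ (Subgroup.normalizer (E' : Set (S × S)))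
    Subgroup.le_normalizer le_rfl θ hθ hθN hθE fun n hn => by
      rw [card_fixSet_gset, card_fixSet_gset]
      set D₀ := E'.subgroupOf (Subgroup.normalizer (E' : Set (S × S))) ⊔ Subgroup.zpowers n with hD₀
      set D := D₀.map (Subgroup.normalizer (E' : Set (S × S))).subtype with hD
      have hDeq : E' ⊔ Subgroup.zpowers (n : S × S) = D := by
        rw [hD, hD₀, Subgroup.map_sup, Subgroup.map_subgroupOf_eq_of_le Subgroup.le_normalizer,
          MonoidHom.map_zpowers]
        rfl
      have hDN : D ≤ Subgroup.normalizer (E' : Set (S × S)) := Subgroup.map_subtype_le _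
      have hD₀' : D.subgroupOf (Subgroup.normalizer (E' : Set (S × S))) = D₀ :=
        Subgroup.comap_map_eq_self_of_injective (Subgroup.subtype_injective _) D₀
      have hD'eq : E₀ ⊔ Subgroup.zpowers (θ n) = D₀.map θ := by
        rw [hD₀, Subgroup.map_sup, hθE, MonoidHom.map_zpowers]
      rw [hDeq, hD'eq]
      have hiff := hθD D hDN
      rw [hD₀'] at hiff
      by_cases hg' : D ∈ graphSubs F
      · have hlt : k < Nat.card D := by
          rw [← hk', ← hDeq]
          refine lt_of_not_ge fun hge => hn ?_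
          have h1 := Subgroup.eq_of_le_of_card_ge (le_sup_left : E' ≤ E' ⊔ Subgroup.zpowers (n : S × S)) hge
          exact h1.ge (Subgroup.mem_sup_right (Subgroup.mem_zpowers _))
        have hsnd : sndImage (D₀.map θ) = sndImage D := by
          rw [sndImage, sndImage, hD, Subgroup.map_map, Subgroup.map_map]
          congr 1
          exact MonoidHom.ext fun m => hθ2 m
        have hR : D ∈ relSubs F := ⟨hg', hE'R.2.trans (hDeq ▸ le_sup_left)⟩
        have hR' : D₀.map θ ∈ relSubs F :=
          ⟨hiff.1 hg', hE₀.1.2.trans (hD'eq ▸ le_sup_left)⟩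
        rw [hf D hR hlt, hf _ hR' (by
          rw [← card_sndImage F hR'.1, hsnd, card_sndImage F hg']; exact hlt), hsnd]
      · rw [mark_eq_zero_of_not_mem F hc hg', mark_eq_zero_of_not_mem F hc fun h => hg' (hiff.2 h)]
  rw [card_fixSet_gset, card_fixSet_gset, ← fixN_self_mul_card E', Nat.cast_mul,
    mul_comm (fixN E' E' : ℤ)] at hcong
  have hne : (Nat.card E' : ℤ) ≠ 0 := by exact_mod_cast Nat.card_pos.ne'
  have := (mul_dvd_mul_iff_left hne).1 hcong
  simpa using dvd_neg.2 this

/-- the graph of an automorphism of `S` -/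
def grA (α : MulAut S) : Subgroup (S × S) :=
  (diag (⊤ : Subgroup S)).map (MulEquiv.prodCongr α (MulEquiv.refl S)).toMonoidHom

theorem mem_grA {α : MulAut S} {x : S × S} : x ∈ grA α ↔ x.1 = α x.2 := by
  constructor
  · rintro ⟨_, ⟨y, -, rfl⟩, rfl⟩; rfl
  · intro h
    exact ⟨(x.2, x.2), ⟨x.2, trivial, rfl⟩, Prod.ext h.symm rfl⟩

theorem card_grA (α : MulAut S) : Nat.card (grA α) = Nat.card S := by
  rw [grA, diag, Subgroup.card_map_of_injective
    (MulEquiv.prodCongr α (MulEquiv.refl S)).injective,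
    Subgroup.card_map_of_injective (fun a b h => congrArg Prod.snd h), Subgroup.card_top]

theorem fixN_grA [Finite S] (α : MulAut S) :
    fixN (grA α) (grA α) = fixN (diag (⊤ : Subgroup S)) (diag (⊤ : Subgroup S)) := by
  have h1 := fixN_self_mul_card (grA α)
  have h2 := fixN_self_mul_card (diag (⊤ : Subgroup S))
  have hN : Subgroup.normalizer ((grA α : Subgroup (S × S)) : Set (S × S)) =
      (Subgroup.normalizer ((diag (⊤ : Subgroup S) : Subgroup (S × S)) : Set (S × S))).map
        (MulEquiv.prodCongr α (MulEquiv.refl S)).toMonoidHom :=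
    (Subgroup.map_equiv_normalizer_eq _ (MulEquiv.prodCongr α (MulEquiv.refl S))).symm
  rw [hN, Subgroup.card_map_of_injective (MulEquiv.prodCongr α (MulEquiv.refl S)).injective, ← h2]
    at h1
  have hcard : Nat.card (grA α) = Nat.card (diag (⊤ : Subgroup S)) := by
    rw [card_grA, diag, Subgroup.card_map_of_injective (fun a b h => congrArg Prod.snd h),
      Subgroup.card_top]
  rw [hcard] at h1
  exact Nat.eq_of_mul_eq_mul_right Nat.card_pos h1

theorem top_iff [Finite S] {D : Subgroup (S × S)} :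
    (D ∈ relSubs F ∧ Nat.card D = Nat.card S) ↔ ∃ α ∈ F.autGroup S, D = grA α := by
  constructor
  · rintro ⟨hD, hcard⟩
    obtain ⟨P, φ, hφ, hg⟩ := hD.1
    have htop : sndImage D = ⊤ :=
      Subgroup.eq_top_of_card_eq _ (by rw [card_sndImage F hD.1, hcard])
    have hSP : S ≤ P := by
      intro y hy
      have h1 : (⟨y, hy⟩ : S) ∈ sndImage D := htop ▸ Subgroup.mem_top _
      obtain ⟨x, hx, hxy⟩ := h1
      have h2 : (x.2 : Ω) = y := congrArg Subtype.val hxy
      exact h2 ▸ (hg x hx).1
    have hφS := restrict_mem hφ hSP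
    have hr : (φ.comp (Subgroup.inclusion hSP)).range = S :=
      isConj_top_eq (isConj_of_mem hφS)
    obtain ⟨α, hα, hαx⟩ := exists_aut hφS hr
    refine ⟨α, hα, Subgroup.eq_of_le_of_card_ge (fun x hx => mem_grA.2 (Subtype.ext ?_))
      (by rw [card_grA, hcard])⟩
    obtain ⟨h, hv⟩ := hg x hx
    rw [hαx, ← hv]
    rfl
  · rintro ⟨α, hα, rfl⟩
    have hαF : S.subtype.comp α.toMonoidHom ∈ F.Hom S := (mem_autGroup_iff_hom le_rfl).1 hα
    have h1 : grA α ≤ gr (S := S) (S.subtype.comp α.toMonoidHom) := fun x hx =>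
      ⟨x.2.2, congrArg Subtype.val (mem_grA.1 hx).symm⟩
    refine ⟨⟨graphSubs_mono F (gr_mem F hαF) h1, fun x hx => mem_grA.2 (Subtype.ext ?_)⟩, card_grA α⟩
    obtain ⟨z, hz, rfl⟩ := hx
    exact (center_fix F hαF z hz).symm

/-- The start: one orbit for each outer automorphism. -/
theorem exists_top [Finite S] [Fact p.Prime] (hS : IsPGroup p S) (hF : F.IsSaturated p) :
    ∃ (c : Subgroup (S × S) → ℕ) (v : ℕ), 0 < v ∧
      (∀ D, c D ≠ 0 → D ∈ relSubs F ∧ Nat.card D = Nat.card S) ∧
      (∀ E ∈ relSubs F, Nat.card E = Nat.card S → mark c E = v) ∧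
      ¬ p ∣ ∑ᶠ D, c D := by
  classical
  let c : Subgroup (S × S) → ℕ :=
    fun D => if D ∈ relSubs F ∧ Nat.card D = Nat.card S ∧ rep D = D then 1 else 0
  refine ⟨c, fixN (diag (⊤ : Subgroup S)) (diag (⊤ : Subgroup S)), fixN_self_pos _,
    fun D hD => ?_, fun E hE hcard => ?_, ?_⟩
  · by_contra h
    exact hD (if_neg fun h' => h ⟨h'.1, h'.2.1⟩)
  · obtain ⟨g, hg⟩ := exists_conjS_rep E
    have hrE : rep E = conjS g⁻¹ E := by
      conv_rhs => rw [hg]
      rw [conjS_conjS, inv_mul_cancel, conjS_one]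
    obtain ⟨α, -, hα⟩ := (top_iff F).1 ⟨hE, hcard⟩
    rw [mark, finsum_eq_single _ (rep E)]
    · rw [show c (rep E) = 1 from if_pos ⟨hrE ▸ relSubs_conjS F _ hE,
        by rw [hrE, card_conjS, hcard], rep_rep E⟩, one_mul]
      have h1 : fixN E (rep E) = fixN (rep E) (rep E) := by
        conv_lhs => arg 1; rw [hg]
        exact fixN_conjS g _ _
      rw [h1, hrE, fixN_self_conjS, hα, fixN_grA]
    · intro D hD
      by_cases h : D ∈ relSubs F ∧ Nat.card D = Nat.card S ∧ rep D = D
      · by_contra h0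
        obtain ⟨x, hx⟩ := conjS_of_fixN_ne_zero (h.2.1.trans hcard.symm) (right_ne_zero_of_mul h0)
        exact hD (by rw [hx, rep_conjS, h.2.2])
      · rw [show c D = 0 from if_neg h, zero_mul]
  · set T : Set (Subgroup (S × S)) := {D | D ∈ relSubs F ∧ Nat.card D = Nat.card S ∧ rep D = D}
    have hsum : ∑ᶠ D, c D = Nat.card T := by
      haveI := Fintype.ofFinite (Subgroup (S × S))
      rw [finsum_eq_sum_of_fintype]
      simp only [c, Finset.sum_boole, Nat.cast_id]
      exact (Nat.subtype_card _ (by simp [T]; tauto)).symm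
    rw [hsum]
    set I : Subgroup (F.autGroup S) := (Cfsg.Inn S).subgroupOf (F.autGroup S) with hI
    have : Finite (MulAut S) := finite_mulAut
    obtain ⟨-, Tp, hTp⟩ := isFullyAutomized_of_isFullyNormalized hS hF (isFullyNormalized_top F)
    have hIT : I = (Tp : Subgroup (F.autGroup S)) := by
      rw [hI, hTp, inn_eq_autInducedBy]
    let q : F.autGroup S → Subgroup (S × S) := fun α => rep (grA (α⁻¹ : F.autGroup S).1)
    have hkey : ∀ α β : F.autGroup S, q α = q β ↔ α⁻¹ * β ∈ I := by
      intro α β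
      constructor
      · intro h
        obtain ⟨g₁, hg₁⟩ := exists_conjS_rep (grA (α⁻¹ : F.autGroup S).1)
        obtain ⟨g₂, hg₂⟩ := exists_conjS_rep (grA (β⁻¹ : F.autGroup S).1)
        have h' : grA (α⁻¹ : F.autGroup S).1 = conjS (g₁ * g₂⁻¹) (grA (β⁻¹ : F.autGroup S).1) := by
          rw [hg₁, hg₂, conjS_conjS, mul_assoc, inv_mul_cancel, mul_one]
          exact congrArg (conjS g₁) h
        set g := g₁ * g₂⁻¹
        refine ⟨g.1 * ((β⁻¹ : F.autGroup S).1 g.2)⁻¹, MulEquiv.ext fun y => ?_⟩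
        obtain ⟨z, rfl⟩ : ∃ z, (β : MulAut S)⁻¹ z = y := ⟨(β : MulAut S) y, MulAut.inv_apply_self _ _ _⟩
        have h1 : g * ((β⁻¹ : F.autGroup S).1 (g.2⁻¹ * z * g.2), g.2⁻¹ * z * g.2) * g⁻¹ ∈
            grA (α⁻¹ : F.autGroup S).1 := by
          rw [h', mem_conjS]
          simp [mul_assoc, mem_grA]
        rw [mem_grA] at h1
        have h2 : (α : MulAut S)⁻¹ z =
            g.1 * ((β : MulAut S)⁻¹ g.2)⁻¹ * (β : MulAut S)⁻¹ z *
              ((β : MulAut S)⁻¹ g.2 * g.1⁻¹) := by
          simpa [mul_assoc] using h1.symm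
        show MulAut.conj _ _ = ((α : MulAut S)⁻¹ * (β : MulAut S)) ((β : MulAut S)⁻¹ z)
        rw [MulAut.mul_apply, MulAut.apply_inv_self, h2, MulAut.conj_apply]
        simp [mul_assoc]
      · rintro ⟨s, hs⟩
        show rep _ = rep _
        rw [show grA (α⁻¹ : F.autGroup S).1 = conjS (s, 1) (grA (β⁻¹ : F.autGroup S).1) from ?_,
          rep_conjS]
        ext x
        rw [mem_conjS, mem_grA, mem_grA]
        have hs' : ∀ y, (α : MulAut S)⁻¹ y = s * (β : MulAut S)⁻¹ y * s⁻¹ := by
          intro y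
          have := MulEquiv.congr_fun hs ((β : MulAut S)⁻¹ y)
          simpa using this.symm
        show x.1 = (α : MulAut S)⁻¹ x.2 ↔ s⁻¹ * x.1 * s = (β : MulAut S)⁻¹ (1⁻¹ * x.2 * 1)
        rw [hs', inv_one, one_mul, mul_one]
        constructor
        · intro h; rw [h]; simp [mul_assoc]
        · intro h; rw [← h]; simp [mul_assoc]
    let q' : F.autGroup S ⧸ I → T := fun x => Quotient.liftOn' x
      (fun α => ⟨q α, by
        obtain ⟨g, hg⟩ := exists_conjS_rep (grA (α⁻¹ : F.autGroup S).1)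
        have h1 : q α = conjS g⁻¹ (grA (α⁻¹ : F.autGroup S).1) := by
          conv_rhs => rw [hg]
          rw [conjS_conjS, inv_mul_cancel, conjS_one]
        obtain ⟨hR, hc'⟩ := (top_iff F).2 ⟨_, (α⁻¹ : F.autGroup S).2, rfl⟩
        exact ⟨h1 ▸ relSubs_conjS F _ hR, by rw [h1, card_conjS, hc'], rep_rep _⟩⟩)
      fun α β h => Subtype.ext ((hkey α β).2 (QuotientGroup.leftRel_apply.1 h))
    have hbij : Function.Bijective q' := by
      constructor
      · intro x y
        induction x using QuotientGroup.induction_on with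
        | H α =>
          induction y using QuotientGroup.induction_on with
          | H β =>
            intro h
            exact QuotientGroup.eq.2 ((hkey α β).1 (congrArg Subtype.val h))
      · rintro ⟨D, hD, hcard, hrep⟩
        obtain ⟨α, hα, rfl⟩ := (top_iff F).1 ⟨hD, hcard⟩
        refine ⟨((⟨α, hα⟩⁻¹ : F.autGroup S) : F.autGroup S ⧸ I), Subtype.ext ?_⟩
        show rep (grA (((⟨α, hα⟩⁻¹ : F.autGroup S))⁻¹ : F.autGroup S).1) = _
        rw [inv_inv]
        exact hrep
    rw [← Nat.card_eq_of_bijective q' hbij, ← Subgroup.index, hIT]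
    exact Tp.not_dvd_index

theorem fixN_dvd_card [Finite S] (E : Subgroup (S × S)) : fixN E E ∣ Nat.card (S × S) :=
  dvd_trans ⟨Nat.card E, (fixN_self_mul_card E).symm⟩
    (Subgroup.normalizer (E : Set (S × S))).card_subgroup_dvd_card

/-- The characteristic biset, as a weight function. -/
theorem exists_char [Finite S] [Fact p.Prime] (hS : IsPGroup p S) (hF : F.IsSaturated p) :
    ∃ (c : Subgroup (S × S) → ℕ) (f : Subgroup S → ℕ),
      (∀ D, c D ≠ 0 → D ∈ relSubs F) ∧
      (∀ E ∈ relSubs F, mark c E = f (sndImage E) ∧ 0 < f (sndImage E)) ∧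
      ¬ p ∣ ∑ᶠ D, c D * (Nat.card S / Nat.card D) := by
  classical
  suffices h : ∀ j < Nat.card S, ∃ (c : Subgroup (S × S) → ℕ) (f : Subgroup S → ℕ),
      (∀ D, c D ≠ 0 → D ∈ relSubs F) ∧
      (∀ E ∈ relSubs F, Nat.card S ≤ Nat.card E + j →
        mark c E = f (sndImage E) ∧ 0 < f (sndImage E)) ∧
      ¬ p ∣ ∑ᶠ D, c D * (Nat.card S / Nat.card D) by
    have hpos : 0 < Nat.card S := Nat.card_pos
    obtain ⟨c, f, hc, hf, hp⟩ := h (Nat.card S - 1) (by omega)
    refine ⟨c, f, hc, fun E hE => hf E hE ?_, hp⟩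
    have : 0 < Nat.card E := Nat.card_pos
    omega
  intro j
  induction j with
  | zero =>
    intro _
    obtain ⟨c, v, hv, hc, hmark, hp⟩ := exists_top F hS hF
    refine ⟨c, fun _ => v, fun D hD => (hc D hD).1, fun E hE h => ?_, ?_⟩
    · exact ⟨hmark E hE (le_antisymm (card_le_of_mem F hE.1) (by omega)), hv⟩
    · rwa [finsum_congr fun D => ?_]
      by_cases h : c D = 0
      · rw [h, zero_mul]
      · rw [(hc D h).2, Nat.div_self Nat.card_pos, mul_one]
  | succ j ih =>
    intro hj
    obtain ⟨c, f, hc, hf, hp⟩ := ih (by omega)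
    set k := Nat.card S - (j + 1) with hk
    set K := Nat.card (S × S) with hK
    obtain ⟨B, hB⟩ := (Set.finite_range (mark c)).bddAbove
    let m : Subgroup S → ℕ := fun Q => if h : zS F ≤ rep Q then
      mark c (exists_star F hS hF (rep Q) h).choose + K * (B + 1) else 0
    have hm : ∀ E ∈ relSubs F, ∃ E₀, IsStar F E₀ (rep (sndImage E)) ∧
        m (sndImage E) = mark c E₀ + K * (B + 1) := by
      intro E hE
      have h := zS_le_rep F (zS_le_sndImage F hE)
      exact ⟨_, (exists_star F hS hF _ h).choose_spec, dif_pos h⟩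
    have hle : ∀ E ∈ relSubs F, mark c E ≤ m (sndImage E) := by
      intro E hE
      obtain ⟨E₀, -, he⟩ := hm E hE
      have h1 : mark c E ≤ B := hB ⟨E, rfl⟩
      have h2 : B + 1 ≤ K * (B + 1) := Nat.le_mul_of_pos_left _ Nat.card_pos
      omega
    obtain ⟨d, hd, hbig, heq⟩ := exists_step (relSubs F) (fun g D hD => relSubs_conjS F g hD) k c
      (fun E => m (sndImage E))
      (fun g E hE _ => by
        show m _ = m _
        simp only [m, sndImage_conjS, rep_conjS])
      (fun E hE _ => hle E hE)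
      (fun E hE hEk => by
        obtain ⟨E₀, hE₀, he⟩ := hm E hE
        have h1 := mark_congr F hc (f := f) (k := k)
          (fun D hD hlt => (hf D hD (by omega)).1) hE hEk hE₀
        rw [← Int.natCast_dvd_natCast, Nat.cast_sub (hle E hE)]
        show (fixN E E : ℤ) ∣ (m (sndImage E) : ℤ) - mark c E
        rw [he, Nat.cast_add, Nat.cast_mul, add_sub_right_comm]
        exact dvd_add h1 (Dvd.dvd.mul_right (Int.natCast_dvd_natCast.2 (fixN_dvd_card E)) _))
    refine ⟨c + d, fun Q => if k < Nat.card Q then f Q else m Q, fun D hD => ?_,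
      fun E hE hEj => ?_, ?_⟩
    · by_cases h : c D = 0
      · exact (hd D (by simpa [h] using hD)).1
      · exact hc D h
    · simp only [card_sndImage F hE.1]
      by_cases h : k < Nat.card E
      · simp only [if_pos h]
        rw [hbig E h]
        exact hf E hE (by omega)
      · simp only [if_neg h]
        refine ⟨heq E hE (by omega), ?_⟩
        obtain ⟨E₀, -, he⟩ := hm E hE
        rw [he]
        have : 0 < K * (B + 1) := Nat.mul_pos Nat.card_pos (Nat.succ_pos B)
        omega
    · have hdk : ∀ D, p ∣ d D * (Nat.card S / Nat.card D) := by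
        intro D
        by_cases h : d D = 0
        · simp [h]
        obtain ⟨hDR, hDk, -⟩ := hd D h
        refine Dvd.dvd.mul_left ?_ _
        obtain ⟨n, hn⟩ := hS.exists_card_eq
        have h1 : Nat.card D ∣ Nat.card S := by
          rw [← card_sndImage F hDR.1]; exact Subgroup.card_subgroup_dvd_card _
        rw [hn] at h1
        obtain ⟨i, hi, hi'⟩ := (Nat.dvd_prime_pow Fact.out).1 h1
        rw [hn, hi', Nat.pow_div hi (Fact.out : p.Prime).pos]
        refine dvd_pow_self p fun h0 => ?_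
        have : Nat.card D = Nat.card S := by rw [hn, hi', show i = n by omega]
        omega
      intro hdvd
      refine hp ?_
      rw [finsum_congr (fun D => by rw [Pi.add_apply, add_mul]),
        finsum_add_distrib (Set.toFinite _) (Set.toFinite _)] at hdvd
      refine (Nat.dvd_add_left ?_).1 hdvd
      haveI := Fintype.ofFinite (Subgroup (S × S))
      rw [finsum_eq_sum_of_fintype]
      exact Finset.dvd_sum fun D _ => hdk D

end CfsgLib.Fusion.Biset
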