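import Cfsg.Agent.Lib.Fusion.Descent

/-!
Maps of a saturated system which agree on a centric subgroup, and extension of membership in a
saturated subsystem from a centric subgroup.
-/

set_option autoImplicit false

namespace CfsgLib.Fusion.CentricExtend

open Cfsg Cfsg.FusionSystem CfsgLib.Fusion

variable {Ω : Type*} [Group Ω] {S : Subgroup Ω} {F F' : Cfsg.FusionSystem S}
variable {P Q N : Subgroup Ω} {p : ℕ}

theorem centric_of_isConj (hQ : F.IsCentric Q) (h : F.IsConj Q P) : F.IsCentric P :=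
  ⟨isConj_le_right h, fun R hR => hQ.2 R (isConj_trans h hR)⟩

theorem centric_of_le (hQ : F.IsCentric Q) (hQP : Q ≤ P) (hP : P ≤ S) : F.IsCentric P := by
  refine ⟨hP, fun R hR => ?_⟩
  obtain ⟨φ, hφ, rfl⟩ := hR
  set ψ := φ.comp (Subgroup.inclusion hQP) with hψ
  have h1 := hQ.2 ψ.range ⟨ψ, restrict_mem hφ hQP, rfl⟩
  have h2 : ψ.range ≤ φ.range := by rintro _ ⟨x, rfl⟩; exact ⟨_, rfl⟩
  intro c hc
  refine h2 (h1 ⟨hc.1, ?_⟩)
  exact fun y hy => hc.2 y (h2 hy)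

theorem centric_sub (hle : F' ≤ F) (hQ : F.IsCentric Q) : F'.IsCentric Q :=
  ⟨hQ.1, fun R hR => hQ.2 R (by
    obtain ⟨φ, hφ, hr⟩ := hR
    exact ⟨φ, hle Q hφ, hr⟩)⟩

theorem fullyCentralized_of_centric [Finite S] (hQ : F.IsCentric Q) : F.IsFullyCentralized Q := by
  refine ⟨hQ.1, fun R hR => ?_⟩
  have e1 : centralizerIn S Q = centralizerIn Q Q :=
    le_antisymm (fun g hg => ⟨hQ.2 Q (isConj_refl F hQ.1) hg, hg.2⟩)
      (fun g hg => ⟨hQ.1 hg.1, hg.2⟩)
  have e2 : centralizerIn S R = centralizerIn R R :=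
    le_antisymm (fun g hg => ⟨hQ.2 R hR hg, hg.2⟩)
      (fun g hg => ⟨isConj_le_right hR hg.1, hg.2⟩)
  rw [e1, e2, Descent.centralizerIn_eq_card_of_conj hR]

/-- An automorphism fixing a centric normal subgroup pointwise is conjugation by an element of that
subgroup. -/
theorem exists_conj_of_fix [Finite S] [Fact p.Prime] (hS : IsPGroup p S) (hF : F.IsSaturated p)
    (hQ : F.IsCentric Q) (hQN : Q ≤ N) (hN : N ≤ normalizerIn S Q) {η : MulAut N}
    (hη : η ∈ F.autGroup N) (hfix : ∀ x : N, (x : Ω) ∈ Q → η x = x) :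
    ∃ z : N, (z : Ω) ∈ Q ∧ η = MulAut.conj z := by
  have hNS : N ≤ S := hN.trans (normalizerIn_le S Q)
  have : Finite N := finite_of_le hNS
  have : Finite (MulAut N) := finite_mulAut
  -- displacements lie in `Q`
  have hdisp : ∀ n : N, ((n⁻¹ * η n : N) : Ω) ∈ Q := by
    intro n
    refine hQ.2 Q (isConj_refl F hQ.1) ⟨hNS (n⁻¹ * η n : N).2, ?_⟩
    show ((n⁻¹ * η n : N) : Ω) ∈ Subgroup.centralizer (Q : Set Ω)
    rw [Subgroup.mem_centralizer_iff]
    intro q hq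
    have hconj : (n : Ω) * q * (n : Ω)⁻¹ ∈ Q := conj_mem_of_mem_normalizer (hN n.2).2 hq
    have h1 : η (n * ⟨q, hQN hq⟩ * n⁻¹) = n * ⟨q, hQN hq⟩ * n⁻¹ := hfix _ hconj
    rw [map_mul, map_mul, map_inv, hfix ⟨q, hQN hq⟩ hq] at h1
    have h2 : (n⁻¹ * η n) * ⟨q, hQN hq⟩ * (n⁻¹ * η n)⁻¹ = ⟨q, hQN hq⟩ := by
      calc (n⁻¹ * η n) * ⟨q, hQN hq⟩ * (n⁻¹ * η n)⁻¹
          = n⁻¹ * (η n * ⟨q, hQN hq⟩ * (η n)⁻¹) * n := by group
        _ = _ := by rw [h1]; group
    have h3 := congrArg Subtype.val h2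
    simp only [Subgroup.coe_mul, Subgroup.coe_inv] at h3
    exact (mul_inv_eq_iff_eq_mul.1 h3).symm
  -- `η` has `p`-power order
  have hpow : ∀ (j : ℕ) (n : N), (η ^ j) n = n * (n⁻¹ * η n) ^ j := by
    intro j
    induction j with
    | zero => intro n; simp
    | succ j ih =>
      intro n
      rw [pow_succ', MulAut.mul_apply, ih, map_mul, map_pow, hfix (n⁻¹ * η n) (hdisp n), pow_succ', ← mul_assoc, mul_inv_cancel_left]
  have hηp : IsPGroup p (Subgroup.zpowers (⟨η, hη⟩ : F.autGroup N)) := by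
    obtain ⟨k, hk⟩ := IsPGroup.iff_card.1 (isPGroup_of_le hS hNS)
    refine IsPGroup.of_card_dvd_pow (n := k) ?_
    rw [Nat.card_zpowers, orderOf_dvd_iff_pow_eq_one, ← hk]
    refine Subtype.ext (MulEquiv.ext fun n => ?_)
    show (η ^ Nat.card N) n = n
    rw [hpow, pow_card_eq_one', mul_one]
  obtain ⟨R, hNR, hR⟩ := exists_isFullyNormalized F hNS
  obtain ⟨χ₀, hχ₀⟩ := exists_iso_of_isConj hNR
  have : Finite R := finite_of_le hR.1
  have : Finite (MulAut R) := finite_mulAut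
  obtain ⟨T, hT⟩ := (isFullyAutomized_of_isFullyNormalized hS hF hR).2
  obtain ⟨γ, hγ⟩ := exists_conj_le_sylow T (IsPGroup.map hηp hχ₀.autEquiv.toMonoidHom)
  let χ : N ≃* R := χ₀.trans ((γ : MulAut R) : R ≃* R)
  have hχ : IsFIso F χ := hχ₀.trans ((mem_autGroup_iff hR.1).1 γ.2)
  have hmem : MulAut.congr χ η ∈ autInducedBy S R := by
    have h1 := hγ (hχ₀.autEquiv ⟨η, hη⟩) ⟨_, Subgroup.mem_zpowers _, rfl⟩
    rw [hT, Subgroup.mem_subgroupOf] at h1
    have heq : MulAut.congr χ η = (γ : MulAut R) * MulAut.congr χ₀ η * (γ : MulAut R)⁻¹ :=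
      MulEquiv.ext fun x => rfl
    rw [heq]; exact h1
  obtain ⟨s, hsN, hsS, hseq⟩ := exists_eq_conjAut hmem
  set ψ : Q →* Ω := (R.subtype.comp χ.toMonoidHom).comp (Subgroup.inclusion hQN) with hψ
  have hsQ : s ∈ ψ.range := by
    refine hQ.2 ψ.range ⟨ψ, restrict_mem hχ hQN, rfl⟩ ⟨hsS, ?_⟩
    show s ∈ Subgroup.centralizer (ψ.range : Set Ω)
    rw [Subgroup.mem_centralizer_iff]
    rintro _ ⟨q, rfl⟩
    have h1 := congrArg (fun a : MulAut R => ((a (χ ⟨q, hQN q.2⟩) : R) : Ω)) hseq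
    simp only [congr_apply, MulEquiv.symm_apply_apply, conjAut_apply,
      hfix ⟨(q : Ω), hQN q.2⟩ q.2] at h1
    show (χ ⟨q, hQN q.2⟩ : Ω) * s = s * (χ ⟨q, hQN q.2⟩ : Ω)
    exact eq_mul_inv_iff_mul_eq.1 h1
  obtain ⟨q, hq⟩ := hsQ
  refine ⟨⟨q, hQN q.2⟩, q.2, MulEquiv.ext fun n => ?_⟩
  apply χ.injective
  apply Subtype.ext
  have h1 := congrArg (fun a : MulAut R => ((a (χ n) : R) : Ω)) hseq
  simp only [congr_apply, MulEquiv.symm_apply_apply, conjAut_apply] at h1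
  rw [h1, MulAut.conj_apply, map_mul, map_mul, map_inv, ← hq]
  rfl

/-- A map agreeing with a map of the subsystem on a centric subgroup lies in the subsystem. -/
theorem mem_of_restrict_centric [Finite S] [Fact p.Prime] (hS : IsPGroup p S)
    (hF : F.IsSaturated p) (hF' : F'.IsSaturated p) (hle : F' ≤ F) :
    ∀ (k : ℕ) (Q : Subgroup Ω), Nat.card S ≤ Nat.card Q + k → F.IsCentric Q →
      ∀ (R : Subgroup Ω) (ψ : R →* Ω) (hQR : Q ≤ R), ψ ∈ F.Hom R →
        ψ.comp (Subgroup.inclusion hQR) ∈ F'.Hom Q → ψ ∈ F'.Hom R := by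
  intro k
  induction k using Nat.strong_induction_on with
  | _ k ih =>
    intro Q hk hQ R ψ hQR hψ hres
    rcases eq_or_lt_of_le hQR with rfl | hlt
    · exact mem_of_restrict hres le_rfl ψ fun x => rfl
    have hRS : R ≤ S := dom_le hψ
    have : Finite R := finite_of_le hRS
    set N := normalizerIn R Q with hNdef
    have hQN : Q < N := lt_normalizerIn (isPGroup_of_le hS hRS) hlt
    have hNR : N ≤ R := normalizerIn_le R Q
    have hN : N ≤ normalizerIn S Q := inf_le_inf_right _ hRS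
    have hNS : N ≤ S := hNR.trans hRS
    have hsuff : ψ.comp (Subgroup.inclusion hNR) ∈ F'.Hom N := by
      obtain ⟨Q', hQ'⟩ : ∃ Q', (ψ.comp (Subgroup.inclusion hQR)).range = Q' := ⟨_, rfl⟩
      obtain ⟨e, he, hev⟩ := exists_iso hres hQ'
      have hQ'c : F.IsCentric Q' := centric_of_isConj hQ ⟨_, hle Q hres, hQ'⟩
      have hag0 : ∀ x : Q, ψ ⟨x, hQR x.2⟩ = (e x : Ω) := fun x => (hev x).symm
      obtain ⟨ψ', hψ', -, hag⟩ := he.exists_extension
        (isReceptive_of_isFullyCentralized hS hF'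
          (fullyCentralized_of_centric (centric_sub hle hQ'c))) hQN.le hN
        (fun g hg => by
          rw [congr_conjAut_eq_of_extends (R := R) hQR hag0 (hNR hg) (hN hg).2]
          exact conjAut_mem_autInducedBy (map_mem hψ _) _)
      have hrange : ∀ n : N, (ψ.comp (Subgroup.inclusion hNR)) n ∈ ψ'.range := by
        intro n
        have hc : (ψ' n)⁻¹ * ψ ⟨n, hNR n.2⟩ ∈ centralizerIn S Q' := by
          refine ⟨S.mul_mem (S.inv_mem (map_mem hψ' n)) (map_mem hψ _), ?_⟩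
          show (ψ' n)⁻¹ * ψ ⟨n, hNR n.2⟩ ∈ Subgroup.centralizer (Q' : Set Ω)
          rw [Subgroup.mem_centralizer_iff]
          intro y hy
          have h1 := congr_conjAut_of_extends hQR hag0 (hNR n.2) (hN n.2).2 ⟨y, hy⟩
          have h2 := congr_conjAut_of_extends hQN.le hag (g := (n : Ω)) n.2 (hN n.2).2 ⟨y, hy⟩
          have h3 : ψ' n * y * (ψ' n)⁻¹ = ψ ⟨n, hNR n.2⟩ * y * (ψ ⟨n, hNR n.2⟩)⁻¹ :=
            h2.symm.trans h1
          calc y * ((ψ' n)⁻¹ * ψ ⟨n, hNR n.2⟩)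
              = (ψ' n)⁻¹ * (ψ' n * y * (ψ' n)⁻¹) * ψ ⟨n, hNR n.2⟩ := by simp [mul_assoc]
            _ = (ψ' n)⁻¹ * (ψ ⟨n, hNR n.2⟩ * y * (ψ ⟨n, hNR n.2⟩)⁻¹) * ψ ⟨n, hNR n.2⟩ := by
                rw [h3]
            _ = (ψ' n)⁻¹ * ψ ⟨n, hNR n.2⟩ * y := by simp [mul_assoc]
        have hmem := hQ'c.2 Q' (isConj_refl F hQ'c.1) hc
        have hsub : Q' ≤ ψ'.range := fun y hy => ⟨⟨e.symm ⟨y, hy⟩, hQN.le (e.symm ⟨y, hy⟩).2⟩,
          by rw [hag, MulEquiv.apply_symm_apply]⟩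
        have := ψ'.range.mul_mem ⟨n, rfl⟩ (hsub hmem)
        rwa [mul_inv_cancel_left] at this
      obtain ⟨χ, hχ, hχv⟩ := F'.inv_mem hψ'
      have hη := F.comp_mem (restrict_mem hψ hNR) (hle _ hχ) hrange
      have hinto : ∀ n : N, (χ.comp ((ψ.comp (Subgroup.inclusion hNR)).codRestrict _ hrange)) n ∈ N := by
        intro n
        obtain ⟨m, hm⟩ := hrange n
        show χ ⟨_, hrange n⟩ ∈ N
        have : (⟨_, hrange n⟩ : ψ'.range) = ⟨ψ' m, ⟨m, rfl⟩⟩ := Subtype.ext hm.symm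
        rw [this, hχv]
        exact m.2
      have : Finite N := finite_of_le hNS
      obtain ⟨η, hηF, hηv⟩ := exists_aut hη (range_eq_of_le (hom_inj hη) hinto)
      have hfix : ∀ x : N, (x : Ω) ∈ Q → η x = x := by
        intro x hx
        apply Subtype.ext
        rw [hηv]
        show χ ⟨_, hrange x⟩ = x
        have : (⟨_, hrange x⟩ : ψ'.range) = ⟨ψ' x, ⟨x, rfl⟩⟩ :=
          Subtype.ext ((hag0 ⟨x, hx⟩).trans (hag ⟨x, hx⟩).symm)
        rw [this, hχv]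
      obtain ⟨z, hz, hηz⟩ := exists_conj_of_fix hS hF hQ hQN.le hN hηF hfix
      have hηF' : N.subtype.comp η.toMonoidHom ∈ F'.Hom N :=
        mem_of_eq_conj hNS (hNS z.2) _ fun x => by rw [hηz]; rfl
      refine mem_of_comp hηF' hψ' (fun x => (η x).2) _ fun n => ?_
      obtain ⟨m, hm⟩ := hrange n
      have h1 : η n = m := by
        apply Subtype.ext
        rw [hηv]
        show χ ⟨_, hrange n⟩ = m
        have : (⟨_, hrange n⟩ : ψ'.range) = ⟨ψ' m, ⟨m, rfl⟩⟩ := Subtype.ext hm.symm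
        rw [this, hχv]
      show _ = ψ' (η n)
      rw [h1, hm]
    have hcard := Descent.card_lt_card_of_lt hNS hQN
    have hcardS := Descent.card_le_of_le hNS
    exact ih (Nat.card S - Nat.card N) (by omega) N (by omega)
      (centric_of_le hQ hQN.le hNS) R ψ hNR hψ hsuff

end CfsgLib.Fusion.CentricExtend
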