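import Cfsg.Agent.Lib.Fusion.Group
import Cfsg.Agent.Lib.Fusion.Normal
import Cfsg.Agent.Lib.FusionQuot.NormalClosed

/-!
# Invariant subsystems and strong invariance
-/

set_option autoImplicit false

namespace CfsgLib.Fusion

open Cfsg Cfsg.FusionSystem

variable {Ω : Type*} [Group Ω] {S T : Subgroup Ω} {F : Cfsg.FusionSystem S} {E : Cfsg.FusionSystem T}
variable {P Q : Subgroup Ω} {p : ℕ}

/-- The strong invariance condition. -/
def IsStronglyInvariant (E : Cfsg.FusionSystem T) (F : Cfsg.FusionSystem S) : Prop :=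
  ∀ (P Q : Subgroup Ω) (hPQ : P ≤ Q) (_ : Q ≤ T) (φ : P →* Ω) (_ : φ ∈ E.Hom P)
    (hφQ : ∀ x : P, φ x ∈ Q) (ψ : Q →* Ω) (_ : ψ ∈ F.Hom Q),
    ∃ χ ∈ E.Hom ((P.subgroupOf Q).map ψ),
      ∀ (x : P) (hx : ψ (Subgroup.inclusion hPQ x) ∈ (P.subgroupOf Q).map ψ),
        χ ⟨ψ (Subgroup.inclusion hPQ x), hx⟩ = ψ ⟨φ x, hφQ x⟩

/-- A map decomposed as an automorphism of `T` after a map of `E`. -/
def Factors (E : Cfsg.FusionSystem T) (F : Cfsg.FusionSystem S) (φ : P →* Ω) : Prop :=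
  ∃ α ∈ F.autGroup T, ∃ φ₀ ∈ E.Hom P, ∀ (x : P) (hx : φ₀ x ∈ T), φ x = ((α ⟨φ₀ x, hx⟩ : T) : Ω)

/-- Invariance under `Aut_F(T)`: the third clause of `IsInvariantIn`. -/
def IsAutInvariant (E : Cfsg.FusionSystem T) (F : Cfsg.FusionSystem S) : Prop :=
  ∀ (P : Subgroup Ω) (hPT : P ≤ T) (φ : P →* Ω), φ ∈ E.Hom P → ∀ α ∈ F.autGroup T,
    ∃ χ ∈ E.Hom ((P.subgroupOf T).map (T.subtype.comp α.toMonoidHom)),
      ∀ (x : P) (hφx : φ x ∈ T)
        (hαx : ((α ⟨x, hPT x.2⟩ : T) : Ω) ∈ (P.subgroupOf T).map (T.subtype.comp α.toMonoidHom)),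
        χ ⟨(α ⟨x, hPT x.2⟩ : T), hαx⟩ = ((α ⟨φ x, hφx⟩ : T) : Ω)

theorem autImage_eq (α : MulAut T) (hPT : P ≤ T) (y : Ω) :
    y ∈ (P.subgroupOf T).map (T.subtype.comp α.toMonoidHom) ↔
      ∃ x : P, ((α ⟨x, hPT x.2⟩ : T) : Ω) = y := by
  constructor
  · rintro ⟨x, hx, rfl⟩
    exact ⟨⟨x, hx⟩, rfl⟩
  · rintro ⟨x, rfl⟩
    exact ⟨⟨x, hPT x.2⟩, x.2, rfl⟩

theorem stronglyInvariant_conj (h : IsStronglyInvariant E F) (hTS : T ≤ S) {φ : P →* Ω}
    (hφ : φ ∈ E.Hom P) {α : MulAut T} (hα : α ∈ F.autGroup T) :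
    ∃ χ ∈ E.Hom ((P.subgroupOf T).map (T.subtype.comp α.toMonoidHom)),
      ∀ (x : P) (hx : ((α ⟨x, dom_le hφ x.2⟩ : T) : Ω) ∈
        (P.subgroupOf T).map (T.subtype.comp α.toMonoidHom)),
        χ ⟨_, hx⟩ = ((α ⟨φ x, map_mem hφ x⟩ : T) : Ω) :=
  h P T (dom_le hφ) le_rfl φ hφ (map_mem hφ) _ ((mem_autGroup_iff_hom hTS).1 hα)

theorem factors_of_mem (hTS : T ≤ S) {φ : P →* Ω} (hφ : φ ∈ E.Hom P) : Factors E F φ :=
  ⟨1, (F.autGroup T).one_mem, φ, hφ, fun _ _ => rfl⟩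

theorem factors_restrict {φ : Q →* Ω} (hPQ : P ≤ Q) (χ : P →* Ω) (hχ : ∀ x : P, χ x = φ ⟨x, hPQ x.2⟩)
    (h : Factors E F φ) : Factors E F χ := by
  obtain ⟨α, hα, φ₀, hφ₀, hx⟩ := h
  exact ⟨α, hα, _, restrict_mem hφ₀ hPQ, fun x hx' => (hχ x).trans (hx _ hx')⟩

theorem autInvariant_conj (h : IsAutInvariant E F) {φ : P →* Ω}
    (hφ : φ ∈ E.Hom P) {α : MulAut T} (hα : α ∈ F.autGroup T) :
    ∃ χ ∈ E.Hom ((P.subgroupOf T).map (T.subtype.comp α.toMonoidHom)),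
      ∀ (x : P) (hx : ((α ⟨x, dom_le hφ x.2⟩ : T) : Ω) ∈
        (P.subgroupOf T).map (T.subtype.comp α.toMonoidHom)),
        χ ⟨_, hx⟩ = ((α ⟨φ x, map_mem hφ x⟩ : T) : Ω) := by
  obtain ⟨χ, hχ, hx⟩ := h P (dom_le hφ) φ hφ α hα
  exact ⟨χ, hχ, fun x hx' => hx x (map_mem hφ x) hx'⟩

theorem isAutInvariant_of_stronglyInvariant (h : IsStronglyInvariant E F) (hTS : T ≤ S) :
    IsAutInvariant E F := by
  intro P hPT φ hφ α hα
  obtain ⟨χ, hχ, hx⟩ := stronglyInvariant_conj h hTS hφ hα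
  exact ⟨χ, hχ, fun x hφx hαx => hx x hαx⟩

theorem factors_comp (hinv : IsAutInvariant E F) (hTS : T ≤ S) {φ : P →* Ω} {ψ : Q →* Ω}
    (hφQ : ∀ x, φ x ∈ Q) (χ : P →* Ω) (hχ : ∀ x, χ x = ψ ⟨φ x, hφQ x⟩)
    (h₁ : Factors E F φ) (h₂ : Factors E F ψ) : Factors E F χ := by
  obtain ⟨a, ha, φ₀, hφ₀, hφx⟩ := h₁
  obtain ⟨b, hb, ψ₀, hψ₀, hψx⟩ := h₂
  obtain ⟨η, hη, hηx⟩ := autInvariant_conj hinv hψ₀ ((F.autGroup T).inv_mem ha)
  have hm : ∀ x, φ₀ x ∈ (Q.subgroupOf T).map (T.subtype.comp (a⁻¹ : MulAut T).toMonoidHom) := by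
    intro x
    rw [autImage_eq _ (dom_le hψ₀)]
    refine ⟨⟨φ x, hφQ x⟩, ?_⟩
    have h1 : (⟨φ x, dom_le hψ₀ (hφQ x)⟩ : T) = a ⟨φ₀ x, map_mem hφ₀ x⟩ :=
      Subtype.ext (hφx x (map_mem hφ₀ x))
    rw [h1, MulAut.inv_apply_self]
  refine ⟨b * a, (F.autGroup T).mul_mem hb ha, _, E.comp_mem hφ₀ hη hm, fun x hx => ?_⟩
  rw [hχ x, hψx ⟨φ x, hφQ x⟩ (map_mem hψ₀ _)]
  show _ = ((b (a ⟨_, hx⟩) : T) : Ω)
  congr 2
  have h1 : ((a⁻¹ : MulAut T) ⟨φ x, dom_le hψ₀ (hφQ x)⟩ : Ω) = φ₀ x := by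
    have h2 : (⟨φ x, dom_le hψ₀ (hφQ x)⟩ : T) = a ⟨φ₀ x, map_mem hφ₀ x⟩ :=
      Subtype.ext (hφx x (map_mem hφ₀ x))
    rw [h2, MulAut.inv_apply_self]
  have h3 := hηx ⟨φ x, hφQ x⟩ (h1.symm ▸ hm x)
  have h4 : (⟨η ⟨φ₀ x, hm x⟩, map_mem hη _⟩ : T) =
      (a⁻¹ : MulAut T) ⟨ψ₀ ⟨φ x, hφQ x⟩, map_mem hψ₀ _⟩ := by
    refine Subtype.ext (Eq.trans ?_ h3)
    exact congrArg η (Subtype.ext h1.symm)
  have h5 : (⟨_, hx⟩ : T) = ⟨η ⟨φ₀ x, hm x⟩, map_mem hη _⟩ := rfl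
  rw [h5, h4, MulAut.apply_inv_self]

theorem factors_symm (hinv : IsAutInvariant E F) (hTS : T ≤ S) (hT : F.StronglyClosed T)
    {e : P ≃* Q} (he : IsFIso F e) (hPT : P ≤ T)
    (h : Factors E F (Q.subtype.comp e.toMonoidHom)) :
    Factors E F (P.subtype.comp e.symm.toMonoidHom) := by
  obtain ⟨a, ha, φ₀, hφ₀, hφx⟩ := h
  obtain ⟨ψ, hψ, hψinv⟩ := E.inv_mem hφ₀
  obtain ⟨η, hη, hηx⟩ := autInvariant_conj hinv hψ ha
  have hQT : ∀ y : Q, (y : Ω) ∈ T := fun y => by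
    have := stronglyClosed_apply_mem hT he (e.symm y) (hPT (e.symm y).2)
    simpa using this
  have hval : ∀ y : Q, ((a ⟨φ₀ (e.symm y), map_mem hφ₀ _⟩ : T) : Ω) = y := fun y => by
    rw [← hφx]
    simp
  have hle : Q ≤ (φ₀.range.subgroupOf T).map (T.subtype.comp a.toMonoidHom) := fun y hy => by
    rw [autImage_eq _ (dom_le hψ)]
    exact ⟨⟨_, e.symm ⟨y, hy⟩, rfl⟩, hval ⟨y, hy⟩⟩
  refine ⟨a⁻¹, (F.autGroup T).inv_mem ha, _, restrict_mem hη hle, fun y hx => ?_⟩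
  have h1 := hηx ⟨φ₀ (e.symm y), _, rfl⟩ (by
    rw [hval]; exact hle y.2)
  simp only [hψinv] at h1
  have h2 : (⟨_, hx⟩ : T) = a ⟨(e.symm y : Ω), hPT (e.symm y).2⟩ := by
    refine Subtype.ext (Eq.trans ?_ h1)
    exact congrArg η (Subtype.ext (hval y).symm)
  rw [h2, MulAut.inv_apply_self]
  rfl

theorem card_lt_card' [Finite S] (hQ : Q ≤ S) (h : P < Q) : Nat.card P < Nat.card Q := by
  have : Finite Q := finite_of_le hQ
  exact lt_of_not_ge fun hge => h.ne (Subgroup.eq_of_le_of_card_ge h.le hge)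

/-- Strong invariance implies the Frattini condition. -/
theorem factors_of_stronglyInvariant [Finite S] [Fact p.Prime] (hS : IsPGroup p S)
    (hF : F.IsSaturated p) (hT : F.StronglyClosed T) (hinv : IsStronglyInvariant E F) :
    ∀ (P : Subgroup Ω), P ≤ T → ∀ φ : P →* Ω, φ ∈ F.Hom P → Factors E F φ := by
  have hTS : T ≤ S := hT.1
  have hinv' := isAutInvariant_of_stronglyInvariant hinv hTS
  have : Finite T := finite_of_le hTS
  have hTp : IsPGroup p T := isPGroup_of_le hS hTS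
  intro P
  induction hn : Nat.card T - Nat.card P using Nat.strong_induction_on generalizing P with
  | _ n ih =>
  intro hPT φ hφ
  obtain ⟨e, he, heφ⟩ := exists_iso hφ rfl
  suffices h : Factors E F (φ.range.subtype.comp e.toMonoidHom) from
    factors_restrict le_rfl φ (fun x => (heφ x).symm) h
  rcases eq_or_lt_of_le hPT with rfl | hlt
  · have hr : φ.range = P :=
      CfsgLib.FusionQuot.eq_of_isConj_of_stronglyClosed hT (isConj_of_mem hφ)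
    obtain ⟨α, hα, hαφ⟩ := exists_aut hφ hr
    exact ⟨α, hα, P.subtype, subtype_mem E le_rfl, fun x hx => (heφ x).trans (hαφ _).symm⟩
  have hIH : ∀ (R : Subgroup Ω), R ≤ T → Nat.card P < Nat.card R → ∀ χ : R →* Ω,
      χ ∈ F.Hom R → Factors E F χ := by
    intro R hR hc χ hχ
    have : Nat.card R ≤ Nat.card T := Subgroup.card_le_of_le hR
    exact ih _ (by omega) R rfl hR χ hχ
  obtain ⟨Q, hPQ, hQ⟩ := exists_isFullyNormalized F (hPT.trans hTS)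
  have hcl : ∀ {R R' : Subgroup Ω}, R ≤ T → F.IsConj R R' → R' ≤ T := by
    rintro R _ hR ⟨χ, hχ, rfl⟩ _ ⟨x, rfl⟩
    exact stronglyClosed_apply_mem hT hχ x (hR x.2)
  have hQT : Q ≤ T := hcl hPT hPQ
  have hlift : ∀ {R : Subgroup Ω}, F.IsConj R Q → R < T → Nat.card R = Nat.card P →
      ∃ f : R ≃* Q, IsFIso F f ∧ Factors E F (Q.subtype.comp f.toMonoidHom) := by
    intro R hRQ hR hc
    obtain ⟨f, hf, ψ, hψ, -, hag⟩ := exists_normalizer_map hS hF hQ hRQ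
    refine ⟨f, hf, ?_⟩
    have hle : normalizerIn T R ≤ normalizerIn S R := inf_le_inf_right _ hTS
    exact factors_restrict (φ := ψ.comp (Subgroup.inclusion hle)) (le_normalizerIn hR.le) _
      (fun x => (hag x).symm)
      (hIH _ (normalizerIn_le T R) (hc ▸ card_lt_card' ((normalizerIn_le T R).trans hTS)
        (lt_normalizerIn hTp hR)) _ (restrict_mem hψ hle))
  have hRlt : φ.range < T := lt_of_le_of_ne (hcl hPT (isConj_of_mem hφ)) fun h => by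
    have h1 := card_lt_card' hTS hlt
    have h2 := isConj_card_eq (isConj_of_mem hφ)
    rw [h] at h2
    omega
  have hQlt : Q < T := lt_of_le_of_ne hQT fun h => by
    have h1 := card_lt_card' hTS hlt
    have h2 := isConj_card_eq hPQ
    rw [h] at h2
    omega
  obtain ⟨f₁, hf₁, hf₁C⟩ := hlift hPQ hlt rfl
  obtain ⟨f₂, hf₂, hf₂C⟩ := hlift (isConj_trans (isConj_symm (isConj_of_mem hφ)) hPQ) hRlt
    (isConj_card_eq (isConj_of_mem hφ)).symm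
  -- the automorphism of `Q`
  have hQS : Q ≤ S := hQ.1
  have : Finite Q := finite_of_le hQS
  have : Finite (MulAut Q) := finite_mulAut
  have hauto : ∀ α ∈ F.autGroup Q, Factors E F (Q.subtype.comp α.toMonoidHom) := by
    intro α hα
    set A := (E.autGroup Q).subgroupOf (F.autGroup Q) with hA
    have hAn : A.Normal := by
      constructor
      intro c hc β
      have hc' := (mem_autGroup_iff_hom hQT).1 (show (c : MulAut Q) ∈ E.autGroup Q from hc)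
      have hβ := (mem_autGroup_iff_hom hQS).1 β.2
      obtain ⟨χ, hχ, hχx⟩ := hinv Q Q le_rfl hQT _ hc' (fun x => ((c : MulAut Q) x).2) _ hβ
      have hle : Q ≤ (Q.subgroupOf Q).map (Q.subtype.comp (β : MulAut Q).toMonoidHom) := fun y hy =>
        ⟨(β : MulAut Q)⁻¹ ⟨y, hy⟩, Subgroup.mem_subgroupOf.2 ((β : MulAut Q)⁻¹ ⟨y, hy⟩).2,
          congrArg Subtype.val (MulAut.apply_inv_self _ (β : MulAut Q) _)⟩
      show (β : MulAut Q) * (c : MulAut Q) * (β : MulAut Q)⁻¹ ∈ E.autGroup Q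
      refine (mem_autGroup_iff_hom hQT).2 (mem_of_restrict hχ hle _ fun y => ?_)
      have h1 := hχx ((β : MulAut Q)⁻¹ y) (by simpa using hle y.2)
      refine Eq.trans ?_ (h1.symm.trans (congrArg χ (Subtype.ext ?_)))
      · rfl
      · have h2 := congrArg Subtype.val (MulAut.apply_inv_self _ (β : MulAut Q) y)
        exact h2
    obtain ⟨-, TS, hTS'⟩ := isFullyAutomized_of_isFullyNormalized hS hF hQ
    have hsyl : IsSylowIn p ((TS : Subgroup (F.autGroup Q)) ⊓ A) A := by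
      refine isSylowIn_of_card_le (TS.2.to_le inf_le_left) inf_le_right fun U hU hUA => ?_
      obtain ⟨g, hg⟩ := exists_conj_le_sylow TS hU
      exact Nat.card_le_card_of_injective
        (fun u : U => (⟨g * u * g⁻¹, hg u u.2, hAn.conj_mem _ (hUA u.2) g⟩ :
          ((TS : Subgroup (F.autGroup Q)) ⊓ A : Subgroup _)))
        fun a b hab => Subtype.ext (mul_left_cancel (mul_right_cancel (Subtype.ext_iff.1 hab)))
    obtain ⟨U, hU⟩ := hsyl
    have hfr := Sylow.normalizer_sup_eq_top U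
    have hUmap : (U : Subgroup A).map A.subtype = (TS : Subgroup (F.autGroup Q)) ⊓ A := by
      rw [hU, Subgroup.map_subgroupOf_eq_of_le inf_le_right]
    rw [sup_comm, hUmap] at hfr
    have hmem : (⟨α, hα⟩ : F.autGroup Q) ∈ (↑(A ⊔ Subgroup.normalizer
        (((TS : Subgroup (F.autGroup Q)) ⊓ A : Subgroup _) : Set _)) : Set _) := by
      rw [hfr]; trivial
    rw [Subgroup.normal_mul] at hmem
    obtain ⟨κ, hκ, β, hβ, hκβ⟩ := hmem
    have hβiso : IsFIso F ((β : MulAut Q) : Q ≃* Q) := (mem_autGroup_iff hQS).1 β.2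
    obtain ⟨ψ, hψ, -, hag⟩ := hβiso.exists_extension (R := normalizerIn T Q)
      (isReceptive_of_isFullyNormalized hS hF hQ) (le_normalizerIn hQT) (inf_le_inf_right _ hTS)
      fun g hg => by
        have hgS : g ∈ S := hTS hg.1
        have hc : (⟨conjAut Q g hg.2,
            autInducedBy_le_autGroup F hQS (conjAut_mem_autInducedBy hgS hg.2)⟩ : F.autGroup Q) ∈
            (TS : Subgroup (F.autGroup Q)) ⊓ A :=
          ⟨by rw [hTS']; exact conjAut_mem_autInducedBy (P := Q) hgS hg.2,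
            autInducedBy_le_autGroup E hQT (conjAut_mem_autInducedBy hg.1 hg.2)⟩
        have h2 := (conj_mem_of_mem_normalizer hβ hc).1
        rw [hTS'] at h2
        exact h2
    have hCβ : Factors E F (Q.subtype.comp (β : MulAut Q).toMonoidHom) :=
      factors_restrict (φ := ψ) (le_normalizerIn hQT) _ (fun x => (hag x).symm)
        (hIH _ (normalizerIn_le T Q) ((isConj_card_eq hPQ).symm ▸ card_lt_card'
          ((normalizerIn_le T Q).trans hTS) (lt_normalizerIn hTp hQlt)) _ hψ)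
    refine factors_comp hinv' hTS (fun x => ((β : MulAut Q) x).2) _ (fun x => ?_) hCβ
      (factors_of_mem hTS ((mem_autGroup_iff_hom hQT).1 (show (κ : MulAut Q) ∈ _ from hκ)))
    exact (congrArg (fun γ : F.autGroup Q => (((γ : MulAut Q) x : Q) : Ω)) hκβ).symm
  have hγ : (f₁.symm.trans (e.trans f₂) : MulAut Q) ∈ F.autGroup Q :=
    (mem_autGroup_iff hQS).2 (hf₁.symm.trans (he.trans hf₂))
  have h12 : Factors E F (Q.subtype.comp (f₁.trans (f₁.symm.trans (e.trans f₂))).toMonoidHom) :=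
    factors_comp hinv' hTS (fun x => (f₁ x).2) _ (fun x => rfl) hf₁C (hauto _ hγ)
  refine factors_comp hinv' hTS (φ := Q.subtype.comp (f₁.trans (f₁.symm.trans (e.trans f₂))).toMonoidHom)
    (fun x => ((f₁.trans (f₁.symm.trans (e.trans f₂))) x).2) _ (fun x => ?_) h12
    (factors_symm hinv' hTS hT hf₂ hRlt.le hf₂C)
  simp

/-- Invariance gives strong invariance. -/
theorem stronglyInvariant_of_isInvariantIn (hE : E.IsInvariantIn F) :
    IsStronglyInvariant E F := by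
  obtain ⟨hsub, hT, hinv, hfrat⟩ := hE
  intro P Q hPQ hQT φ hφ hφQ ψ hψ
  obtain ⟨α, hα, ψ₀, hψ₀, hψx⟩ := hfrat Q hQT ψ hψ
  obtain ⟨ρ, hρ, hρinv⟩ := E.inv_mem hψ₀
  set P₀ := (P.subgroupOf Q).map ψ₀ with hP₀
  have hle₀ : P₀ ≤ ψ₀.range := Subgroup.map_le_range _ _
  have hmem : ∀ y : P₀, ρ.comp (Subgroup.inclusion hle₀) y ∈ P := by
    rintro ⟨_, x, hx, rfl⟩
    show ρ ⟨ψ₀ x, _⟩ ∈ P
    rw [hρinv]
    exact hx
  have hη₁ := E.comp_mem (restrict_mem hρ hle₀) hφ hmem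
  set η₁ := φ.comp ((ρ.comp (Subgroup.inclusion hle₀)).codRestrict P hmem) with hη₁def
  have hη : ∀ y, η₁ y ∈ Q := fun y => hφQ _
  have hη₂ := E.comp_mem hη₁ hψ₀ hη
  set η₂ := ψ₀.comp (η₁.codRestrict Q hη)
  obtain ⟨χ, hχ, hχx⟩ := hinv P₀ (dom_le hη₂) η₂ hη₂ α hα
  have hle : (P.subgroupOf Q).map ψ ≤ (P₀.subgroupOf T).map (T.subtype.comp α.toMonoidHom) := by
    rintro _ ⟨x, hx, rfl⟩
    refine ⟨⟨ψ₀ x, map_mem hψ₀ x⟩, ⟨x, hx, rfl⟩, ?_⟩
    exact (hψx x _).symm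
  refine ⟨_, restrict_mem hχ hle, fun x hx => ?_⟩
  have hy : ψ₀ (Subgroup.inclusion hPQ x) ∈ P₀ := apply_mem_map_subgroupOf _ x.2
  have hη₂y : η₂ ⟨_, hy⟩ = ψ₀ ⟨φ x, hφQ x⟩ := by
    show ψ₀ ⟨η₁ ⟨_, hy⟩, _⟩ = _
    congr 1
    refine Subtype.ext ?_
    show φ ⟨ρ ⟨ψ₀ (Subgroup.inclusion hPQ x), _⟩, _⟩ = φ x
    congr 1
    exact Subtype.ext (hρinv _)
  have h1 := hχx ⟨_, hy⟩ (map_mem hη₂ _) (by
    rw [← hψx]; exact hle hx)
  refine Eq.trans (congrArg χ (Subtype.ext ?_)) (h1.trans ?_)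
  · exact hψx (Subgroup.inclusion hPQ x) (map_mem hψ₀ _)
  rw [hψx ⟨φ x, hφQ x⟩ (map_mem hψ₀ _)]
  congr 2
  exact Subtype.ext hη₂y

theorem isInvariantIn_iff_stronglyInvariant [Finite S] [Fact p.Prime] (hS : IsPGroup p S)
    (hF : F.IsSaturated p) (hE : E.IsSubsystemOf F) (hT : F.StronglyClosed T) :
    E.IsInvariantIn F ↔ IsStronglyInvariant E F := by
  refine ⟨stronglyInvariant_of_isInvariantIn, fun h => ⟨hE, hT, ?_,
    fun P hP φ hφ => factors_of_stronglyInvariant hS hF hT h P hP φ hφ⟩⟩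
  intro P hPT φ hφ α hα
  obtain ⟨χ, hχ, hx⟩ := stronglyInvariant_conj h hT.1 hφ hα
  exact ⟨χ, hχ, fun x hφx hαx => hx x hαx⟩

end CfsgLib.Fusion
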