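import Cfsg.Agent.Lib.Fusion.Invariant
import Cfsg.Agent.Lib.Fusion.Centric
import Cfsg.Agent.Lib.Fusion.Descent
import Cfsg.Agent.Lib.FusionQuot.Invariant
import Cfsg.Agent.Lib.FusionQuot.Induction

/-!
# The subsystem generated by `O^{p'}` of the automizers of centric subgroups

`pPrimeGenSystem F p`, its invariance, the Frattini factorization and index prime to `p`.
-/

set_option autoImplicit false

namespace CfsgLib.Fusion

open Cfsg Cfsg.FusionSystem

variable {Ω : Type*} [Group Ω] {S : Subgroup Ω} {F : Cfsg.FusionSystem S}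
variable {P Q : Subgroup Ω} {p : ℕ}

/-- `O^{p'}(Aut_F(P))`, generated by the elements of `p`-power order. -/
def oPAut (F : Cfsg.FusionSystem S) (p : ℕ) (P : Subgroup Ω) : Subgroup (MulAut P) :=
  (Subgroup.closure {α : F.autGroup P | ∃ k : ℕ, orderOf α = p ^ k}).map (F.autGroup P).subtype

theorem oPAut_le (F : Cfsg.FusionSystem S) (p : ℕ) (P : Subgroup Ω) : oPAut F p P ≤ F.autGroup P :=
  Subgroup.map_subtype_le _

theorem mem_oPAut {α : MulAut P} (hα : α ∈ F.autGroup P) {k : ℕ} (hk : orderOf α = p ^ k) :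
    α ∈ oPAut F p P :=
  ⟨⟨α, hα⟩, Subgroup.subset_closure ⟨k, by rw [← Subgroup.orderOf_coe]; exact hk⟩, rfl⟩

theorem oPAut_le_of_forall {H : Subgroup (MulAut P)}
    (h : ∀ α ∈ F.autGroup P, (∃ k : ℕ, orderOf α = p ^ k) → α ∈ H) : oPAut F p P ≤ H := by
  rw [oPAut, MonoidHom.map_closure, Subgroup.closure_le]
  rintro _ ⟨α, ⟨k, hk⟩, rfl⟩
  exact h _ α.2 ⟨k, by rw [Subgroup.coe_subtype, Subgroup.orderOf_coe]; exact hk⟩

theorem autInducedBy_le_oPAut [Fact p.Prime] (hS : IsPGroup p S) (hP : P ≤ S) :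
    autInducedBy S P ≤ oPAut F p P := fun α hα => by
  obtain ⟨k, hk⟩ := isPGroup_autInducedBy hS P ⟨α, hα⟩
  obtain ⟨j, -, hj⟩ := (Nat.dvd_prime_pow Fact.out).1 (orderOf_dvd_of_pow_eq_one hk)
  exact mem_oPAut (autInducedBy_le_autGroup F hP hα) (by rw [← hj, ← Subgroup.orderOf_coe])

theorem IsFIso.congr_mem_oPAut {e : P ≃* Q} (he : IsFIso F e) {α : MulAut P}
    (hα : α ∈ oPAut F p P) : MulAut.congr e α ∈ oPAut F p Q := by
  have h : oPAut F p P ≤ (oPAut F p Q).comap (MulAut.congr e).toMonoidHom :=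
    oPAut_le_of_forall fun β hβ ⟨k, hk⟩ =>
      Subgroup.mem_comap.2 (mem_oPAut (he.congr_mem hβ) (by rw [← hk]; exact (MulAut.congr e).orderOf_eq β))
  exact h hα

/-- A system contains `O^{p'}` of the automizers of the centric subgroups. -/
def IsPPrimeGen (F : Cfsg.FusionSystem S) (p : ℕ) (E : Cfsg.FusionSystem S) : Prop :=
  ∀ P : Subgroup Ω, F.IsCentric P → oPAut F p P ≤ E.autGroup P

/-- The least subsystem of `F` containing `O^{p'}` of the automizers of the centric subgroups. -/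
def pPrimeGenSystem (F : Cfsg.FusionSystem S) (p : ℕ) : Cfsg.FusionSystem S where
  Hom P := {φ | φ ∈ F.Hom P ∧ ∀ E : Cfsg.FusionSystem S, IsPPrimeGen F p E → φ ∈ E.Hom P}
  le_of_mem h := F.le_of_mem h.1
  injective_of_mem h := F.injective_of_mem h.1
  conj_mem hP hg := ⟨F.conj_mem hP hg, fun E _ => E.conj_mem hP hg⟩
  comp_mem h h' hQ := ⟨F.comp_mem h.1 h'.1 hQ, fun E hE => E.comp_mem (h.2 E hE) (h'.2 E hE) hQ⟩
  inv_mem := by
    intro P φ h
    obtain ⟨ψ, hψ, hx⟩ := F.inv_mem h.1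
    refine ⟨ψ, ⟨hψ, fun E hE => ?_⟩, hx⟩
    obtain ⟨ψ', hψ', hx'⟩ := E.inv_mem (h.2 E hE)
    have : ψ = ψ' := MonoidHom.ext fun ⟨_, x, rfl⟩ => (hx x).trans (hx' x).symm
    exact this ▸ hψ'

theorem pPrimeGenSystem_subsystem (F : Cfsg.FusionSystem S) (p : ℕ) :
    (pPrimeGenSystem F p).IsSubsystemOf F := fun _ _ h => h.1

theorem pPrimeGenSystem_le {E : Cfsg.FusionSystem S} (hE : IsPPrimeGen F p E) (P : Subgroup Ω) :
    (pPrimeGenSystem F p).Hom P ⊆ E.Hom P := fun _ h => h.2 E hE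

theorem isPPrimeGen_pPrimeGenSystem (F : Cfsg.FusionSystem S) (p : ℕ) :
    IsPPrimeGen F p (pPrimeGenSystem F p) := fun _ hP _ hα =>
  (mem_autGroup_iff_hom hP.1).2 ⟨(mem_autGroup_iff_hom hP.1).1 (oPAut_le F p _ hα),
    fun _ hE => (mem_autGroup_iff_hom hP.1).1 (hE _ hP hα)⟩

/-! ### Transport along an automorphism of `S` -/

/-- The image of a subgroup of `S` under an automorphism of `S`. -/
def autImg (a : MulAut S) (P : Subgroup Ω) : Subgroup Ω :=
  (P.subgroupOf S).map (S.subtype.comp a.toMonoidHom)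

theorem mem_autImg {a : MulAut S} {y : Ω} :
    y ∈ autImg a P ↔ ∃ x : S, (x : Ω) ∈ P ∧ ((a x : S) : Ω) = y := Iff.rfl

theorem autImg_le (a : MulAut S) (P : Subgroup Ω) : autImg a P ≤ S := by
  rintro _ ⟨x, -, rfl⟩
  exact (a x).2

/-- A system over `S` transported along an automorphism of `S`. -/
def twistSystem (E : Cfsg.FusionSystem S) (a : MulAut S) : Cfsg.FusionSystem S where
  Hom P := {φ | P ≤ S ∧ Function.Injective φ ∧ ∃ hφ : ∀ x, φ x ∈ S, ∃ χ ∈ E.Hom (autImg a P),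
    ∀ (x : P) (hx : (x : Ω) ∈ S) (hax : ((a ⟨x, hx⟩ : S) : Ω) ∈ autImg a P),
      χ ⟨_, hax⟩ = ((a ⟨φ x, hφ x⟩ : S) : Ω)}
  le_of_mem h := ⟨h.1, h.2.2.1⟩
  injective_of_mem h := h.2.1
  conj_mem := by
    intro P g hP hg
    refine ⟨hP, fun x y h => Subtype.ext (mul_left_cancel (mul_right_cancel h)), fun x =>
      S.mul_mem (S.mul_mem hg (hP x.2)) (S.inv_mem hg), conjHom _ (a ⟨g, hg⟩ : S),
      E.conj_mem (autImg_le a P) (a ⟨g, hg⟩).2, fun x hx hax => ?_⟩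
    show ((a ⟨g, hg⟩ : S) : Ω) * (a ⟨x, hx⟩ : S) * ((a ⟨g, hg⟩ : S) : Ω)⁻¹ = _
    have h1 : (⟨conjHom P g x, S.mul_mem (S.mul_mem hg (hP x.2)) (S.inv_mem hg)⟩ : S) =
        ⟨g, hg⟩ * ⟨x, hx⟩ * ⟨g, hg⟩⁻¹ := Subtype.ext rfl
    rw [h1, map_mul, map_mul, map_inv]
    rfl
  comp_mem := by
    rintro P Q φ ψ ⟨hP, hinj, hφ, χ, hχ, hχx⟩ ⟨-, hinj', hψ, η, hη, hηx⟩ hQ
    have hm : ∀ y, χ y ∈ autImg a Q := by
      rintro ⟨y, hy⟩
      obtain ⟨x, hx, rfl⟩ := mem_autImg.1 hy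
      rw [show χ ⟨_, hy⟩ = _ from hχx ⟨x, hx⟩ x.2 hy]
      exact mem_autImg.2 ⟨⟨φ ⟨x, hx⟩, hφ _⟩, hQ _, rfl⟩
    refine ⟨hP, fun x y h => hinj (congrArg Subtype.val (hinj' h :)), fun x => hψ _, _,
      E.comp_mem hχ hη hm, fun x hx hax => ?_⟩
    show η ⟨χ ⟨_, hax⟩, hm _⟩ = _
    have h1 : (⟨χ ⟨_, hax⟩, hm _⟩ : autImg a Q) =
        ⟨((a ⟨φ x, hφ x⟩ : S) : Ω), mem_autImg.2 ⟨⟨φ x, hφ x⟩, hQ x, rfl⟩⟩ :=
      Subtype.ext (hχx x hx hax)
    rw [h1]
    exact hηx ⟨φ x, hQ x⟩ (hφ x) _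
  inv_mem := by
    rintro P φ ⟨hP, hinj, hφ, χ, hχ, hχx⟩
    obtain ⟨η, hη, hηx⟩ := E.inv_mem hχ
    have hle : autImg a φ.range ≤ χ.range := by
      intro y hy
      obtain ⟨s, hs, rfl⟩ := mem_autImg.1 hy
      obtain ⟨x, hx⟩ := hs
      refine ⟨⟨_, mem_autImg.2 ⟨⟨x, hP x.2⟩, x.2, rfl⟩⟩, (hχx x (hP x.2) _).trans ?_⟩
      exact congrArg (fun t : S => ((a t : S) : Ω)) (Subtype.ext hx)
    have hbij : Function.Bijective φ.rangeRestrict :=
      ⟨fun x y h => hinj (congrArg Subtype.val h :), φ.rangeRestrict_surjective⟩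
    let e := MulEquiv.ofBijective φ.rangeRestrict hbij
    refine ⟨P.subtype.comp e.symm.toMonoidHom, ⟨?_, ?_, ?_, _, restrict_mem hη hle, ?_⟩, fun x => ?_⟩
    · rintro _ ⟨x, rfl⟩
      exact hφ x
    · exact P.subtype_injective.comp e.symm.injective
    · exact fun y => hP (e.symm y).2
    · intro y hy hay
      obtain ⟨x, rfl⟩ := e.surjective y
      refine Eq.trans (congrArg η (Subtype.ext ?_))
        ((hηx ⟨_, mem_autImg.2 ⟨⟨x, hP x.2⟩, x.2, rfl⟩⟩).trans ?_)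
      · exact (hχx x (hP x.2) _).symm
      · exact congrArg (fun t : S => ((a t : S) : Ω))
          (Subtype.ext (congrArg Subtype.val (e.symm_apply_apply x)).symm)
    · exact congrArg Subtype.val (e.symm_apply_apply x)

theorem exists_autIso [Finite S] {a : MulAut S} (ha : a ∈ F.autGroup S) (hP : P ≤ S) :
    ∃ e : P ≃* autImg a P, IsFIso F e ∧ ∀ x : P, (e x : Ω) = ((a ⟨x, hP x.2⟩ : S) : Ω) := by
  obtain ⟨e, he, hx⟩ := exists_iso (Q := autImg a P)
    (restrict_mem ((mem_autGroup_iff_hom le_rfl).1 ha) hP) (range_comp_inclusion hP)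
  exact ⟨e, he, hx⟩

theorem isPPrimeGen_twist [Finite S] {E : Cfsg.FusionSystem S} (hE : IsPPrimeGen F p E)
    {a : MulAut S} (ha : a ∈ F.autGroup S) : IsPPrimeGen F p (twistSystem E a) := by
  intro P hP α hα
  obtain ⟨e, he, hex⟩ := exists_autIso ha hP.1
  have h1 := hE _ (isCentric_of_isConj hP he.isConj) (he.congr_mem_oPAut hα)
  refine (mem_autGroup_iff_hom hP.1).2
    ⟨hP.1, P.subtype_injective.comp α.injective, fun x => hP.1 (α x).2, _,
      (mem_autGroup_iff_hom (autImg_le a P)).1 h1, fun x hx hax => ?_⟩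
  show ((MulAut.congr e α ⟨_, hax⟩ : autImg a P) : Ω) = _
  rw [show (⟨_, hax⟩ : autImg a P) = e x from Subtype.ext (hex x).symm, congr_apply,
    MulEquiv.symm_apply_apply, hex]
  rfl

theorem pPrimeGenSystem_autInvariant [Finite S] (F : Cfsg.FusionSystem S) (p : ℕ) :
    IsAutInvariant (pPrimeGenSystem F p) F := by
  intro P hPS φ hφ a ha
  obtain ⟨e, he, hex⟩ := exists_autIso (P := P) ha hPS
  have hχ0 : (((S.subtype.comp a.toMonoidHom).comp (φ.codRestrict S (map_mem hφ))).comp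
      e.symm.toMonoidHom) ∈ F.Hom (autImg a P) :=
    mem_of_comp he.symm (mem_of_comp hφ.1 ((mem_autGroup_iff_hom le_rfl).1 ha) (map_mem hφ)
      ((S.subtype.comp a.toMonoidHom).comp (φ.codRestrict S (map_mem hφ))) fun _ => rfl)
      (fun y => (e.symm y).2) _ fun _ => rfl
  refine ⟨_, ⟨hχ0, fun E hE => ?_⟩, fun x hφx hax => ?_⟩
  · obtain ⟨-, -, hφS, χ, hχ, hχx⟩ := hφ.2 _ (isPPrimeGen_twist hE ha)
    refine mem_of_restrict hχ le_rfl _ fun y => ?_
    obtain ⟨x, rfl⟩ := e.surjective y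
    have h2 : (⟨((e x : autImg a P) : Ω), (e x).2⟩ : autImg a P) =
        ⟨((a ⟨x, hPS x.2⟩ : S) : Ω), mem_autImg.2 ⟨_, x.2, rfl⟩⟩ := Subtype.ext (hex x)
    rw [h2, hχx x (hPS x.2)]
    show ((a ⟨φ (e.symm (e x)), _⟩ : S) : Ω) = _
    simp
  · show ((a ⟨φ (e.symm ⟨_, hax⟩), _⟩ : S) : Ω) = _
    have : e.symm ⟨_, hax⟩ = x := e.injective (by
      rw [MulEquiv.apply_symm_apply]; exact Subtype.ext (hex x).symm)
    simp [this]

/-! ### The Frattini factorization -/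

theorem pPrimeGenSystem_factors [Finite S] [Fact p.Prime] (hS : IsPGroup p S) (hF : F.IsSaturated p) :
    ∀ (P : Subgroup Ω) (φ : P →* Ω), φ ∈ F.Hom P → Factors (pPrimeGenSystem F p) F φ := by
  set E := pPrimeGenSystem F p
  have hinv : IsAutInvariant E F := pPrimeGenSystem_autInvariant F p
  refine CfsgLib.FusionQuot.hom_induction hS hF (fun _ φ => Factors E F φ) ?_ ?_ ?_ ?_ ?_
  · exact fun P Q φ _ h χ hχ hf => factors_restrict h χ hχ hf
  · exact fun P Q φ ψ _ _ h χ hχ h₁ h₂ => factors_comp hinv le_rfl h χ hχ h₁ h₂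
  · intro P φ hφ Q hr ψ hψ hψx hf
    obtain ⟨e, he, hex⟩ := exists_iso hφ hr
    have h1 : Q.subtype.comp e.toMonoidHom = φ := MonoidHom.ext hex
    have h2 : P.subtype.comp e.symm.toMonoidHom = ψ := by
      refine MonoidHom.ext fun y => ?_
      obtain ⟨x, rfl⟩ := e.surjective y
      show ((e.symm (e x) : P) : Ω) = _
      rw [MulEquiv.symm_apply_apply, ← hψx x (hex x ▸ (e x).2)]
      exact congrArg ψ (Subtype.ext (hex x).symm)
    rw [← h2]
    exact factors_symm hinv le_rfl ⟨le_rfl, fun R hR χ hχ => map_mem hχ⟩ he (dom_le hφ) (h1.symm ▸ hf)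
  · intro φ hφ
    obtain ⟨e, he, hex⟩ := exists_iso hφ (isConj_top_eq (isConj_of_mem hφ))
    exact ⟨e, (mem_autGroup_iff le_rfl).2 he, S.subtype, subtype_mem E le_rfl,
      fun x _ => (hex x).symm⟩
  · intro Q hQ hlt hIH α hα
    have hQS : Q ≤ S := hQ.1
    have hrec := isReceptive_of_isFullyNormalized hS hF hQ
    have hbig : ∀ R : Subgroup Ω, Q < R → R ≤ normalizerIn S Q →
        ∀ γ ∈ F.autGroup Q, (∀ g (hg : g ∈ R) (hgN : g ∈ Subgroup.normalizer (Q : Set Ω)),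
          MulAut.congr (γ : Q ≃* Q) (conjAut Q g hgN) ∈ autInducedBy S Q) →
        Factors E F (Q.subtype.comp γ.toMonoidHom) := by
      intro R hQR hR γ hγ hact
      have hiso : IsFIso F (γ : Q ≃* Q) := (mem_autGroup_iff hQS).1 hγ
      obtain ⟨ψ, hψ, -, hag⟩ := hiso.exists_extension hrec hQR.le hR fun g hg => hact g hg (hR hg).2
      exact factors_restrict (φ := ψ) hQR.le _ (fun x => (hag x).symm)
        (hIH R ψ hψ (Descent.card_lt_card_of_lt (hR.trans (normalizerIn_le S Q)) hQR))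
    by_cases hC : centralizerIn S Q ≤ Q
    swap
    · refine hbig (Q ⊔ centralizerIn S Q) (lt_of_le_of_ne le_sup_left fun h => hC (le_sup_right.trans h.ge))
        (sup_le (le_normalizerIn hQS) (centralizerIn_le_normalizerIn S Q)) α hα fun g hg hgN => ?_
      have hle : Q ⊔ centralizerIn S Q ≤ extender S Q (Q.subtype.comp α.toMonoidHom) :=
        sup_le (le_extender hQS fun x => hQS (α x).2) (centralizerIn_le_extender _)
      have h1 := mem_extender_iff.1 (hle hg)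
      exact (mem_extender_iff_congr (α : Q ≃* Q) (φ := Q.subtype.comp α.toMonoidHom) (fun _ => rfl)
        h1.1 hgN).1 (hle hg)
    have hcen : F.IsCentric Q := Descent.isCentric_of_centralizerIn_le
      (isFullyCentralized_of_isFullyNormalized hS hF hQ) hC
    have : Finite Q := finite_of_le hQS
    have : Finite (MulAut Q) := finite_mulAut
    obtain ⟨-, TS, hTS'⟩ := isFullyAutomized_of_isFullyNormalized hS hF hQ
    set O := (oPAut F p Q).subgroupOf (F.autGroup Q) with hO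
    have hOn : O.Normal := ⟨fun c hc β => Subgroup.mem_subgroupOf.2 (by
      have h1 := IsFIso.congr_mem_oPAut ((mem_autGroup_iff hQS).1 β.2) hc
      exact h1)⟩
    have hTO : (TS : Subgroup (F.autGroup Q)) ≤ O := by
      rw [hTS']
      exact fun x hx => autInducedBy_le_oPAut hS hQS hx
    have hfr := Sylow.normalizer_sup_eq_top (TS.subtype hTO)
    rw [sup_comm, Sylow.coe_subtype, Subgroup.map_subgroupOf_eq_of_le hTO] at hfr
    have hmem : (⟨α, hα⟩ : F.autGroup Q) ∈ (↑(O ⊔ Subgroup.normalizer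
        ((TS : Subgroup (F.autGroup Q)) : Set _)) : Set _) := by
      rw [hfr]; trivial
    rw [Subgroup.normal_mul] at hmem
    obtain ⟨κ, hκ, β, hβ, hκβ⟩ := hmem
    have hCβ : Factors E F (Q.subtype.comp (β : MulAut Q).toMonoidHom) := by
      refine hbig (normalizerIn S Q) (lt_normalizerIn hS hlt) le_rfl _ β.2 fun g hg hgN => ?_
      have hc : (⟨conjAut Q g hgN, autInducedBy_le_autGroup F hQS (conjAut_mem_autInducedBy hg.1 hgN)⟩ :
          F.autGroup Q) ∈ (TS : Subgroup (F.autGroup Q)) := by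
        rw [hTS']
        exact conjAut_mem_autInducedBy (P := Q) hg.1 hgN
      have h2 := conj_mem_of_mem_normalizer hβ hc
      rw [hTS'] at h2
      exact h2
    refine factors_comp hinv le_rfl (fun x => ((β : MulAut Q) x).2) _ (fun x => ?_) hCβ
      (factors_of_mem le_rfl ((mem_autGroup_iff_hom hQS).1
        (isPPrimeGen_pPrimeGenSystem F p Q hcen hκ)))
    exact (congrArg (fun γ : F.autGroup Q => (((γ : MulAut Q) x : Q) : Ω)) hκβ).symm

theorem pPrimeGenSystem_isInvariantIn [Finite S] [Fact p.Prime] (hS : IsPGroup p S)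
    (hF : F.IsSaturated p) : (pPrimeGenSystem F p).IsInvariantIn F :=
  ⟨pPrimeGenSystem_subsystem F p, ⟨le_rfl, fun _ _ _ hχ => map_mem hχ⟩,
    pPrimeGenSystem_autInvariant F p, fun P _ φ hφ => pPrimeGenSystem_factors hS hF P φ hφ⟩

/-- `Aut_E(P)` contains `O^{p'}(Aut_F(P))` for all `P`, for an invariant subsystem over `S`. -/
theorem oPAut_le_autGroup_of_invariant [Finite S] [Fact p.Prime] (hS : IsPGroup p S)
    (hF : F.IsSaturated p) {E : Cfsg.FusionSystem S} (hE : E.IsInvariantIn F) (hP : P ≤ S) :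
    oPAut F p P ≤ E.autGroup P := by
  obtain ⟨Q, hPQ, hQ⟩ := exists_isFullyNormalized F hP
  have : Finite Q := finite_of_le hQ.1
  have : Finite (MulAut Q) := finite_mulAut
  obtain ⟨-, TS, hTS⟩ := isFullyAutomized_of_isFullyNormalized hS hF hQ
  have hQle : oPAut F p Q ≤ E.autGroup Q := oPAut_le_of_forall fun α hα ⟨k, hk⟩ => by
    have hp : IsPGroup p (Subgroup.zpowers (⟨α, hα⟩ : F.autGroup Q)) :=
      IsPGroup.of_card (n := k) (by rw [Nat.card_zpowers, ← Subgroup.orderOf_coe]; exact hk)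
    obtain ⟨γ, hγ⟩ := exists_conj_le_sylow TS hp
    have h1 := hγ _ (Subgroup.mem_zpowers _)
    rw [hTS] at h1
    have h2 := CfsgLib.FusionQuot.conj_mem_autGroup_of_invariant hE hQ.1
      ((F.autGroup Q).inv_mem γ.2) (autInducedBy_le_autGroup E hQ.1 h1)
    simpa [mul_assoc] using h2
  obtain ⟨φ, hφ, hr⟩ := hPQ
  obtain ⟨a, ha, φ₀, hφ₀, hx⟩ := hE.2.2.2 P hP φ hφ
  obtain ⟨f, hf, hfx⟩ := exists_iso hφ₀ rfl
  obtain ⟨e, he, hex⟩ := exists_autIso (P := φ₀.range) ha (range_le hφ₀)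
  intro α hα
  have hα1 : MulAut.congr f α ∈ oPAut F p φ₀.range := IsFIso.congr_mem_oPAut (hE.1 P hf) hα
  -- transport through `a`
  have himg : autImg a φ₀.range = Q := by
    rw [← hr]
    ext y
    rw [mem_autImg]
    constructor
    · rintro ⟨s, ⟨x, hxs⟩, rfl⟩
      refine ⟨x, (hx x (map_mem hφ₀ x)).trans ?_⟩
      exact congrArg (fun t : S => ((a t : S) : Ω)) (Subtype.ext hxs)
    · rintro ⟨x, rfl⟩
      exact ⟨⟨φ₀ x, map_mem hφ₀ x⟩, ⟨x, rfl⟩, (hx x _).symm⟩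
  subst himg
  have h2 : MulAut.congr e (MulAut.congr f α) ∈ E.autGroup (autImg a φ₀.range) :=
    hQle (he.congr_mem_oPAut hα1)
  have h3 : MulAut.congr f α ∈ E.autGroup φ₀.range := by
    obtain ⟨e', he', hex'⟩ := exists_autIso (P := autImg a φ₀.range) ((F.autGroup S).inv_mem ha)
      (autImg_le _ _)
    have hback : autImg a⁻¹ (autImg a φ₀.range) = φ₀.range := by
      ext y
      constructor
      · intro hy
        obtain ⟨s, ⟨t, ht, hts⟩, rfl⟩ := mem_autImg.1 hy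
        rw [show s = a t from Subtype.ext hts.symm, MulAut.inv_apply_self]
        exact ht
      · intro hy
        exact mem_autImg.2 ⟨a ⟨y, range_le hφ₀ hy⟩, mem_autImg.2 ⟨_, hy, rfl⟩,
          by rw [MulAut.inv_apply_self]⟩
    refine (mem_autGroup_iff (range_le hφ₀)).2 (CfsgLib.FusionQuot.isFIso_transport hE
      ((mem_autGroup_iff (autImg_le _ _)).1 h2) a⁻¹ ((F.autGroup S).inv_mem ha) _ hback ?_)
    intro y hyS hy hy'
    obtain ⟨z, rfl⟩ := e.surjective y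
    have hz : (⟨_, hy'⟩ : φ₀.range) = z := Subtype.ext (by
      show (((a⁻¹ : MulAut S) ⟨(e z : Ω), hyS⟩ : S) : Ω) = z
      rw [show (⟨(e z : Ω), hyS⟩ : S) = a ⟨z, range_le hφ₀ z.2⟩ from Subtype.ext (hex z),
        MulAut.inv_apply_self])
    rw [hz]
    have h4 : (⟨(MulAut.congr e (MulAut.congr f α) (e z) : Ω), hy⟩ : S) =
        a ⟨(MulAut.congr f α z : Ω), range_le hφ₀ (MulAut.congr f α z).2⟩ := Subtype.ext (by
      show ((MulAut.congr e (MulAut.congr f α) (e z) : autImg a φ₀.range) : Ω) = _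
      rw [congr_apply e, MulEquiv.symm_apply_apply, hex])
    rw [h4, MulAut.inv_apply_self]
  have h5 := IsFIso.congr_mem hf.symm h3
  have e1 : MulAut.congr f.symm (MulAut.congr f α) = α := MulEquiv.ext fun x => by simp
  rwa [e1] at h5

theorem pPrimeGenSystem_hasPrimeToPIndexIn [Finite S] [Fact p.Prime] (hS : IsPGroup p S)
    (hF : F.IsSaturated p) : (pPrimeGenSystem F p).HasPrimeToPIndexIn F p :=
  ⟨pPrimeGenSystem_subsystem F p, fun _ hP =>
    oPAut_le_autGroup_of_invariant hS hF (pPrimeGenSystem_isInvariantIn hS hF) hP⟩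

theorem isCentric_iff_of_factors {E : Cfsg.FusionSystem S} (hEF : E.IsSubsystemOf F)
    (hfac : ∀ (P : Subgroup Ω) (φ : P →* Ω), φ ∈ F.Hom P → Factors E F φ) :
    E.IsCentric P ↔ F.IsCentric P := by
  refine ⟨fun h => ⟨h.1, fun Q hQ => ?_⟩,
    fun h => ⟨h.1, fun Q ⟨φ, hφ, hr⟩ => h.2 Q ⟨φ, hEF P hφ, hr⟩⟩⟩
  obtain ⟨φ, hφ, rfl⟩ := hQ
  obtain ⟨a, ha, φ₀, hφ₀, hx⟩ := hfac P φ hφ
  intro c hc
  have hc' : ((a⁻¹ : MulAut S) ⟨c, hc.1⟩ : Ω) ∈ centralizerIn S φ₀.range := by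
    refine ⟨((a⁻¹ : MulAut S) ⟨c, hc.1⟩).2, Subgroup.mem_centralizer_iff.2 ?_⟩
    rintro _ ⟨x, rfl⟩
    have h1 := Subgroup.mem_centralizer_iff.1 hc.2 (φ x) ⟨x, rfl⟩
    rw [hx x (map_mem hφ₀ x)] at h1
    have h2 : a ⟨φ₀ x, map_mem hφ₀ x⟩ * ⟨c, hc.1⟩ = ⟨c, hc.1⟩ * a ⟨φ₀ x, map_mem hφ₀ x⟩ :=
      Subtype.ext h1
    have h3 := congrArg (a⁻¹ : MulAut S) h2
    rw [map_mul, map_mul, MulAut.inv_apply_self] at h3
    exact congrArg Subtype.val h3
  obtain ⟨x, hx'⟩ := h.2 _ (isConj_of_mem hφ₀) hc'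
  refine ⟨x, (hx x (map_mem hφ₀ x)).trans ?_⟩
  rw [show (⟨φ₀ x, map_mem hφ₀ x⟩ : S) = (a⁻¹ : MulAut S) ⟨c, hc.1⟩ from Subtype.ext hx',
    MulAut.apply_inv_self]

end CfsgLib.Fusion
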