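import Cfsg.Agent.Lib.Fusion.PPrimeResidual
import Cfsg.Agent.Lib.Fusion.Hyperfocal
import Cfsg.Agent.Lib.Fusion.Stability
import Cfsg.Agent.Lib.FusionQuot.Joins
import Cfsg.Agent.Lib.FusionQuot.NormalClosed
import Cfsg.Agent.S5291
import Cfsg.Agent.S5120

/-!
A system whose `p`-residual or `p'`-residual subsystem is constrained is constrained.
-/

set_option autoImplicit false
open Cfsg Cfsg.FusionSystem CfsgLib.Fusion

namespace CfsgLib.Fusion

variable {Ω : Type*} [Group Ω] {S T : Subgroup Ω} {F : Cfsg.FusionSystem S}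
  {E : Cfsg.FusionSystem T} {p : ℕ}

/-- A constrained weakly normal subsystem gives a normal subgroup of the whole system with
centralizer inside it, taken in the group of the subsystem. -/
theorem exists_normal_of_constrained_weaklyNormal [Finite S] [Fact p.Prime] (hS : IsPGroup p S)
    (hF : F.IsSaturated p) (hE : E.IsWeaklyNormalIn F p) (hc : E.IsConstrained p) :
    ∃ R : Subgroup Ω, R ≤ T ∧ F.IsNormal R ∧ centralizerIn T R ≤ R := by
  obtain ⟨-, Q, hQ, hQc⟩ := hc
  have hTsc := hE.2.2.2.1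
  set R := Subgroup.closure {x : Ω | ∃ φ ∈ F.Hom Q, ∃ r : Q, x = φ r} with hR
  have hQR : Q ≤ R := fun x hx => Subgroup.subset_closure
    ⟨Q.subtype, subtype_mem F (hQ.1.trans hTsc.1), ⟨x, hx⟩, rfl⟩
  refine ⟨R, (Subgroup.closure_le _).2 ?_, Cfsg.Agent.S5291.result p hS F hF E hE Q hQ,
    fun c hc => hQR (hQc.2 Q ⟨Q.subtype, subtype_mem E hQ.1, Q.range_subtype⟩
      ⟨hc.1, Subgroup.centralizer_le hQR hc.2⟩)⟩
  rintro _ ⟨φ, hφ, r, rfl⟩
  exact hTsc.2 Q hQ.1 φ hφ r

/-- A normal overgroup of the hyperfocal subgroup is strongly closed. -/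
theorem stronglyClosed_of_hyperfocal_le [Finite S] [Fact p.Prime] (hS : IsPGroup p S)
    (hF : F.IsSaturated p) {A : Subgroup Ω} (hAS : A ≤ S) (hA : F.hyperfocalSubgroup p ≤ A)
    (hn : ∀ s ∈ S, ∀ a ∈ A, s * a * s⁻¹ ∈ A) : F.StronglyClosed A := by
  refine ⟨hAS, fun X hX φ hφ x => ?_⟩
  obtain ⟨s, hs, h⟩ := exists_conj_mod_hyperfocal hS hF hφ
  rw [show φ x = s * (x : Ω) * s⁻¹ * ((s * (x : Ω) * s⁻¹)⁻¹ * φ x) by group]
  exact A.mul_mem (hn s hs _ (hX x.2)) (hA (h x))

theorem isConstrained_of_pPowerIndex [Finite S] [Fact p.Prime] (hS : IsPGroup p S)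
    (hF : F.IsSaturated p) {H : Subgroup Ω} (hHS : H ≤ S) (hH : F.hyperfocalSubgroup p ≤ H)
    (hHn : ∀ s ∈ S, ∀ a ∈ H, s * a * s⁻¹ ∈ H) (D : Cfsg.FusionSystem H) (hDs : D.IsSaturated p)
    (hDi : D.HasPPowerIndexIn F p) (hc : D.IsConstrained p) : F.IsConstrained p := by
  have hHnormal : (H.subgroupOf S).Normal := ⟨fun a ha s => hHn s s.2 a ha⟩
  have hw := (Cfsg.Agent.S5120.result p hS F hF H hHS hHnormal hH D hDs hDi).1
  obtain ⟨R, hRH, hR, hRc⟩ := exists_normal_of_constrained_weaklyNormal hS hF hw hc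
  set W := centralizerIn S R with hW
  -- `W` is strongly closed
  have hWsc : F.StronglyClosed W := by
    refine ⟨inf_le_left, fun X hX φ hφ x => ⟨map_mem hφ x, fun r hr => ?_⟩⟩
    obtain ⟨ψ, -, hψP, hψR⟩ := hR.2 X φ hφ
    obtain ⟨⟨z, hzX⟩, hz, rfl⟩ := hψR.ge hr
    rw [← hψP x, ← map_mul, ← map_mul]
    exact congrArg ψ (Subtype.ext (Subgroup.mem_centralizer_iff.1 (hX x.2).2 z hz))
  have : Finite S := inferInstance
  obtain ⟨n, hn⟩ := (Subgroup.isNilpotent_iff_lowerCentralSeries S).1 hS.isNilpotent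
  have hlcs : ∀ i, S.lowerCentralSeries i ≤ S := CfsgLib.FusionQuot.lowerCentralSeries_le_self S
  have hlcn : ∀ i, ∀ s ∈ S, ∀ a ∈ S.lowerCentralSeries i, s * a * s⁻¹ ∈ S.lowerCentralSeries i := by
    intro i s hs a ha
    have h1 := Subgroup.commutator_mem_commutator (H₁ := S.lowerCentralSeries i) (H₂ := S)
      (inv_mem ha) hs
    rw [← Subgroup.lowerCentralSeries_succ, commutatorElement_def, inv_inv] at h1
    rw [show s * a * s⁻¹ = a * (a⁻¹ * s * a * s⁻¹) by group]
    exact mul_mem ha (Subgroup.lowerCentralSeries_antitone S (Nat.le_succ i) h1)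
  let B : ℕ → Subgroup Ω := fun i => W ⊓ (S.lowerCentralSeries i ⊔ H)
  have hBsc : ∀ i, F.StronglyClosed (B i) := fun i =>
    CfsgLib.FusionQuot.stronglyClosed_inf hWsc (stronglyClosed_of_hyperfocal_le hS hF
      (sup_le (hlcs i) hHS) (hH.trans le_sup_right) fun s hs a ha => by
        have hle : S.lowerCentralSeries i ⊔ H ≤
            (S.lowerCentralSeries i ⊔ H).comap (MulAut.conj s).toMonoidHom :=
          sup_le (fun u hu => Subgroup.mem_sup_left (hlcn i s hs u hu))
            (fun u hu => Subgroup.mem_sup_right (hHn s hs u hu))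
        exact hle ha)
  let L : ℕ → Subgroup Ω := fun i => if i ≤ n then B i else ⊥
  have hW0 : L 0 = W := by
    simp only [L, B, Nat.zero_le, if_true, Subgroup.lowerCentralSeries_zero]
    exact inf_eq_left.2 (le_trans inf_le_left le_sup_left)
  have hBn : B n ≤ R := by
    intro x hx
    have hx2 : x ∈ H := by
      have := hx.2
      rwa [hn, bot_sup_eq] at this
    exact hRc ⟨hx2, hx.1.2⟩
  have hWn : F.IsNormal W := by
    rw [← hW0]
    refine Stability.isNormal_of_series hS hF L (n + 1) (fun i hi => ?_)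
      (if_neg (by omega)) (fun i hi r hr x hx => ?_)
    · show F.StronglyClosed (if i ≤ n then B i else ⊥)
      split_ifs
      · exact hBsc i
      · exact CfsgLib.FusionQuot.stronglyClosed_bot F
    rw [hW0] at hr
    have hi' : i ≤ n := by omega
    simp only [L, hi', if_true] at hx
    rcases lt_or_eq_of_le hi' with hlt | rfl
    · simp only [L, show i + 1 ≤ n from hlt, if_true]
      refine ⟨W.mul_mem (W.inv_mem hx.1) (W.mul_mem (W.mul_mem hr hx.1) (W.inv_mem hr)), ?_⟩
      set A := S.lowerCentralSeries (i + 1) ⊔ H with hA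
      have hAn : ∀ s ∈ S, ∀ a ∈ A, s * a * s⁻¹ ∈ A := by
        intro s hs a ha
        have hle : A ≤ A.comap (MulAut.conj s).toMonoidHom :=
          sup_le (fun u hu => Subgroup.mem_sup_left (hlcn _ s hs u hu))
            (fun u hu => Subgroup.mem_sup_right (hHn s hs u hu))
        exact hle ha
      -- the elements moved into the next term by `r`
      let M : Subgroup Ω :=
        { carrier := {u | u ∈ S ∧ u⁻¹ * (r * u * r⁻¹) ∈ A}
          one_mem' := ⟨S.one_mem, by simp⟩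
          mul_mem' := by
            rintro a b ⟨ha, hA1⟩ ⟨hb, hB1⟩
            refine ⟨S.mul_mem ha hb, ?_⟩
            have := A.mul_mem (hAn b⁻¹ (S.inv_mem hb) _ hA1) hB1
            rw [show (a * b)⁻¹ * (r * (a * b) * r⁻¹) =
              b⁻¹ * (a⁻¹ * (r * a * r⁻¹)) * b⁻¹⁻¹ * (b⁻¹ * (r * b * r⁻¹)) by group]
            exact this
          inv_mem' := by
            rintro a ⟨ha, hA1⟩
            refine ⟨S.inv_mem ha, ?_⟩
            rw [show a⁻¹⁻¹ * (r * a⁻¹ * r⁻¹) = a * (a⁻¹ * (r * a * r⁻¹))⁻¹ * a⁻¹ by group]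
            exact hAn a ha _ (A.inv_mem hA1) }
      have hle : S.lowerCentralSeries i ⊔ H ≤ M := by
        refine sup_le (fun u hu => ⟨hlcs i hu, Subgroup.mem_sup_left ?_⟩)
          (fun u hu => ⟨hHS hu, Subgroup.mem_sup_right (H.mul_mem (H.inv_mem hu) (hHn r hr.1 u hu))⟩)
        have h1 := Subgroup.commutator_mem_commutator (H₁ := S.lowerCentralSeries i) (H₂ := S)
          (inv_mem hu) hr.1
        rw [commutatorElement_def, inv_inv] at h1
        simpa [Subgroup.lowerCentralSeries_succ, mul_assoc] using h1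
      exact (hle hx.2).2
    · simp only [L, show ¬ i + 1 ≤ i by omega, if_false, Subgroup.mem_bot]
      rw [inv_mul_eq_one, eq_comm, mul_inv_eq_iff_eq_mul]
      exact (Subgroup.mem_centralizer_iff.1 hr.2 x (hBn hx)).symm
  refine ⟨hF, R ⊔ W, CfsgLib.FusionQuot.isNormal_sup F hR hWn,
    sup_le (hRH.trans hHS) inf_le_left, fun Q hQ => ?_⟩
  rw [CfsgLib.FusionQuot.eq_of_isConj_of_stronglyClosed
    (CfsgLib.FusionQuot.stronglyClosed_of_isNormal (CfsgLib.FusionQuot.isNormal_sup F hR hWn)) hQ]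
  intro c hc
  exact Subgroup.mem_sup_right ⟨hc.1, Subgroup.centralizer_le (SetLike.coe_subset_coe.2 le_sup_left) hc.2⟩

theorem pPrimeResidual_isNormalIn [Finite S] [Fact p.Prime] (hS : IsPGroup p S) (hF : F.IsSaturated p)
    {D : Cfsg.FusionSystem S} (hD : F.IsPPrimeResidual p D) : D.IsNormalIn F p := by
  have hR := pPrimeResidualSystem_isPPrimeResidual (p := p) hS hF
  have he : D = pPrimeResidualSystem F p := by
    have h1 := hD.2.2 _ hR.1 hR.2.1
    have h2 := hR.2.2 D hD.1 hD.2.1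
    cases D
    generalize pPrimeResidualSystem F p = E at h1 h2 ⊢
    cases E
    congr 1
    funext P
    exact Set.Subset.antisymm (h1 P) (h2 P)
  subst he
  refine ⟨⟨hR.1, hF, pPrimeResidualSystem_isInvariantIn hS hF⟩, fun α hα => ?_⟩
  have he : S ⊔ centralizerIn S S = S := sup_eq_left.2 inf_le_left
  have hαF : α ∈ F.autGroup S :=
    CfsgLib.FusionQuot.autGroup_le_of_subsystem hR.2.1.1 S hα
  let e : ↥(S ⊔ centralizerIn S S) ≃* ↥S := MulEquiv.subgroupCongr he
  refine ⟨(e.trans α).trans e.symm, (mem_autGroup_iff_hom he.le).2 ?_, fun x => ?_, fun c hc => ?_⟩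
  · exact mem_of_restrict ((mem_autGroup_iff_hom le_rfl).1 hαF) he.le _ fun y => rfl
  · exact congrArg (fun z : S => ((α z : S) : Ω)) (Subtype.ext rfl)
  · have hfix : ∀ z : S, (z : Ω) ∈ Subgroup.centralizer (S : Set Ω) →
        ((α z : S) : Ω) ∈ Subgroup.centralizer (S : Set Ω) := by
      intro z hz w hw
      have h1 := Subgroup.mem_centralizer_iff.1 hz _ (α.symm ⟨w, hw⟩).2
      have h2 : α (α.symm ⟨w, hw⟩ * z) = α (z * α.symm ⟨w, hw⟩) := congrArg α (Subtype.ext h1)
      rw [map_mul, map_mul, MulEquiv.apply_symm_apply] at h2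
      exact congrArg Subtype.val h2
    refine ⟨S.mul_mem (S.inv_mem hc.1) (α (e c)).2, ?_⟩
    exact Subgroup.mul_mem _ (Subgroup.inv_mem _ hc.2) (hfix (e c) hc.2)

end CfsgLib.Fusion
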