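import Cfsg.Agent.Lib.Fusion.Realized

/-!
# The subsystem of a normal subgroup
-/

set_option autoImplicit false

namespace CfsgLib.Fusion

open Cfsg Cfsg.FusionSystem

variable {G : Type*} [Group G] [Finite G] {p : ℕ} [Fact p.Prime]

theorem isSylowIn_inf_normal (S : Sylow p G) (H : Subgroup G) [H.Normal] :
    IsSylowIn p ((S : Subgroup G) ⊓ H) H := by
  refine isSylowIn_of_card_le (S.2.to_le inf_le_left) inf_le_right fun U hU hUH => ?_
  obtain ⟨g, hg⟩ := exists_conj_le_sylow S hU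
  exact Nat.card_le_card_of_injective
    (fun u : U => (⟨g * u * g⁻¹, hg u u.2, Subgroup.Normal.conj_mem ‹_› _ (hUH u.2) g⟩ :
      ((S : Subgroup G) ⊓ H : Subgroup G)))
    fun a b hab => Subtype.ext (mul_left_cancel (mul_right_cancel (Subtype.ext_iff.1 hab)))

theorem stronglyClosed_inf_normal (S : Sylow p G) (H : Subgroup G) [H.Normal] :
    (groupFusionSystem (S : Subgroup G)).StronglyClosed ((S : Subgroup G) ⊓ H) := by
  refine ⟨inf_le_left, fun R hR φ hφ x => ⟨hφ.2.1 x, ?_⟩⟩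
  obtain ⟨g, hg⟩ := hφ.2.2
  rw [hg]
  exact Subgroup.Normal.conj_mem ‹_› _ (hR x.2).2 g

theorem fusionSystemOfSubgroup_isRealized {H T : Subgroup G} (hTH : T ≤ H) :
    (fusionSystemOfSubgroup H T hTH).IsRealizedBy (Subgroup.inclusion hTH) := by
  refine ⟨Subgroup.inclusion_injective _, fun P hP φ hφ => ⟨?_, ?_⟩⟩
  · rintro ⟨-, -, g, hg, hx⟩
    exact ⟨⟨g, hg⟩, fun x => Subtype.ext (hx x)⟩
  · rintro ⟨g, hx⟩
    exact ⟨hP, hφ, g, g.2, fun x => congrArg Subtype.val (hx x)⟩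

theorem fusionSystemOfSubgroup_isSaturated {H T : Subgroup G} (hTH : T ≤ H)
    (hT : IsSylowIn p T H) : (fusionSystemOfSubgroup H T hTH).IsSaturated p := by
  obtain ⟨R, hR⟩ := hT
  refine realized_isSaturated (fusionSystemOfSubgroup_isRealized hTH) ⟨R, hR.trans ?_⟩
  ext x
  constructor
  · intro hx
    exact ⟨⟨x, hx⟩, rfl⟩
  · rintro ⟨y, rfl⟩
    exact y.2

theorem fusionSystemOfSubgroup_isInvariantIn (S : Sylow p G) (H : Subgroup G) [H.Normal] :
    (fusionSystemOfSubgroup H ((S : Subgroup G) ⊓ H) inf_le_right).IsInvariantIn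
      (groupFusionSystem (S : Subgroup G)) := by
  have hTc := stronglyClosed_inf_normal S H
  obtain ⟨R, hR⟩ := isSylowIn_inf_normal S H
  set T := (S : Subgroup G) ⊓ H
  refine ⟨fun P φ hφ => ?_, hTc, ?_, ?_⟩
  · obtain ⟨hP, hφT, g, -, hg⟩ := hφ
    exact ⟨hP.trans inf_le_left, fun x => (hφT x).1, g, hg⟩
  · intro P hPT φ hφ α hα
    obtain ⟨-, hφT, h, hh, hφh⟩ := hφ
    obtain ⟨-, -, n, hn⟩ := (mem_autGroup_iff_hom (F := groupFusionSystem (S : Subgroup G)) hTc.1).1 hα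
    have hn' : ∀ x : T, ((α x : T) : G) = n * x * n⁻¹ := hn
    refine ⟨conjHom _ (n * h * n⁻¹), ⟨?_, ?_, _, Subgroup.Normal.conj_mem ‹_› _ hh n, fun _ => rfl⟩,
      fun x hx hαx => ?_⟩
    · rintro _ ⟨x, -, rfl⟩
      exact (α x).2
    · rintro ⟨_, x, hx, rfl⟩
      show n * h * n⁻¹ * ((α x : T) : G) * (n * h * n⁻¹)⁻¹ ∈ T
      have h1 : n * h * n⁻¹ * ((α x : T) : G) * (n * h * n⁻¹)⁻¹ =
          ((α ⟨φ ⟨x, hx⟩, hφT _⟩ : T) : G) := by
        rw [hn', hn']
        show _ = n * φ ⟨x, hx⟩ * n⁻¹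
        rw [hφh]
        simp [mul_assoc]
      rw [h1]
      exact (α _).2
    · show n * h * n⁻¹ * ((α ⟨x, hPT x.2⟩ : T) : G) * (n * h * n⁻¹)⁻¹ = _
      rw [hn', hn']
      show _ = n * φ x * n⁻¹
      rw [hφh]
      simp [mul_assoc]
  · intro P hPT φ hφ
    have hφT : ∀ x, φ x ∈ T := fun x => hTc.2 P hPT φ hφ x
    obtain ⟨g, hg⟩ := hφ.2.2
    have hfr := Sylow.normalizer_sup_eq_top R
    rw [hR, Subgroup.map_subgroupOf_eq_of_le inf_le_right] at hfr
    have hmem : g ∈ (↑(Subgroup.normalizer (T : Set G) ⊔ H) : Set G) := by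
      rw [hfr]; trivial
    rw [Subgroup.mul_normal] at hmem
    obtain ⟨n, hn, h, hh, rfl⟩ := hmem
    have hφ₀ : ∀ x : P, h * (x : G) * h⁻¹ ∈ T := fun x => by
      have h1 := conj_mem_of_mem_normalizer (inv_mem hn) (hφT x)
      rw [hg] at h1
      simpa [mul_assoc] using h1
    refine ⟨conjAut T n hn, ?_, conjHom P h, ⟨hPT, hφ₀, h, hh, fun _ => rfl⟩, fun x hx => ?_⟩
    · rw [group_autGroup_eq hTc.1]
      exact conjAut_mem_autInducedBy (P := T) (Subgroup.mem_top n) hn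
    · rw [hg]
      show _ = n * (h * (x : G) * h⁻¹) * n⁻¹
      simp [mul_assoc]

theorem fusionSystemOfSubgroup_isNormalIn (S : Sylow p G) (H : Subgroup G) [H.Normal] :
    (fusionSystemOfSubgroup H ((S : Subgroup G) ⊓ H) inf_le_right).IsNormalIn
      (groupFusionSystem (S : Subgroup G)) p := by
  refine ⟨⟨fusionSystemOfSubgroup_isSaturated _ (isSylowIn_inf_normal S H),
    groupFusionSystem_isSaturated S, fusionSystemOfSubgroup_isInvariantIn S H⟩, ?_⟩
  have hTc := stronglyClosed_inf_normal S H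
  have hnT : IsSylowIn p (normalizerIn (S : Subgroup G) ((S : Subgroup G) ⊓ H))
      (Subgroup.normalizer (((S : Subgroup G) ⊓ H : Subgroup G) : Set G)) :=
    (group_isFullyNormalized_iff S inf_le_left).1
      (CfsgLib.FusionQuot.isFullyNormalized_of_stronglyClosed hTc)
  have hcT := isSylowIn_centralizer_of_normalizer S hnT
  set T := (S : Subgroup G) ⊓ H with hTdef
  set C := centralizerIn (S : Subgroup G) T
  set Z := Subgroup.centralizer (T : Set G)
  intro α hα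
  obtain ⟨-, -, h, hh, hαh⟩ := (mem_autGroup_iff_hom (F := fusionSystemOfSubgroup H T inf_le_right) le_rfl).1 hα
  have hαh' : ∀ x : T, ((α x : T) : G) = h * x * h⁻¹ := hαh
  have hhN : h ∈ Subgroup.normalizer (T : Set G) := mem_normalizer_of_forall hαh'
  have hnorm : ∀ {z}, z ∈ Z → ∀ {n}, n ∈ Subgroup.normalizer (T : Set G) → n * z * n⁻¹ ∈ Z := by
    intro z hz n hn
    refine Subgroup.mem_centralizer_iff.2 fun t ht => ?_
    have h1 := Subgroup.mem_centralizer_iff.1 hz _ (conj_mem_of_mem_normalizer (inv_mem hn) ht)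
    calc t * (n * z * n⁻¹) = n * (n⁻¹ * t * n⁻¹⁻¹ * z) * n⁻¹ := by simp [mul_assoc]
      _ = n * (z * (n⁻¹ * t * n⁻¹⁻¹)) * n⁻¹ := by rw [h1]
      _ = n * z * n⁻¹ * t := by simp [mul_assoc]
  -- `L = C_S(T) C_H(T)`
  set D := H ⊓ Z with hD
  set L := C ⊔ D with hL
  have hCZ : C ≤ Z := inf_le_right
  have hLZ : L ≤ Z := sup_le hCZ inf_le_right
  have hsyl : IsSylowIn p C L :=
    isSylowIn_of_card_le (S.2.to_le inf_le_left) le_sup_left fun U hU hUL =>
      hcT.card_le hCZ hU (hUL.trans hLZ)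
  have hU : C.map (MulAut.conj h).toMonoidHom ≤ L := by
    rintro _ ⟨c, hc, rfl⟩
    show h * c * h⁻¹ ∈ L
    have h1 : c⁻¹ * (h * c * h⁻¹) ∈ D := by
      refine ⟨?_, Z.mul_mem (Z.inv_mem (hCZ hc)) (hnorm (hCZ hc) hhN)⟩
      have h2 := H.mul_mem (Subgroup.Normal.conj_mem ‹_› _ hh c⁻¹) (H.inv_mem hh)
      simpa [mul_assoc] using h2
    have h3 := L.mul_mem (Subgroup.mem_sup_left hc) (Subgroup.mem_sup_right h1)
    simpa using h3
  obtain ⟨m, hm, hmC⟩ := hsyl.exists_conj_le (isPGroup_map_conj (S.2.to_le inf_le_left) h) hU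
  have hDn : C ≤ Subgroup.normalizer (D : Set G) := by
    intro c hc
    refine Subgroup.mem_normalizer_iff.2 fun d => ⟨fun hd => ?_, fun hd => ?_⟩
    · exact ⟨Subgroup.Normal.conj_mem ‹_› _ hd.1 c,
        Z.mul_mem (Z.mul_mem (hCZ hc) hd.2) (Z.inv_mem (hCZ hc))⟩
    · have h1 := Subgroup.Normal.conj_mem ‹_› _ hd.1 c⁻¹
      have h2 := Z.mul_mem (Z.mul_mem (Z.inv_mem (hCZ hc)) hd.2) (hCZ hc)
      exact ⟨by simpa [mul_assoc] using h1, by simpa [mul_assoc] using h2⟩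
  have hm' : m ∈ (↑(C ⊔ D) : Set G) := hm
  rw [Subgroup.coe_mul_of_left_le_normalizer_right C D hDn] at hm'
  obtain ⟨k, hk, a, ha, rfl⟩ := hm'
  -- the corrected element
  set g := a * h with hg
  have haN : a ∈ Subgroup.normalizer (T : Set G) := centralizer_le_normalizer T ha.2
  have hgH : g ∈ H := H.mul_mem ha.1 hh
  have hgT : ∀ t : T, g * t * g⁻¹ = ((α t : T) : G) := fun t => by
    have h1 := Subgroup.mem_centralizer_iff.1 ha.2 _ (α t).2
    rw [hαh'] at h1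
    rw [hαh']
    calc g * t * g⁻¹ = a * (h * t * h⁻¹) * a⁻¹ := by rw [hg]; simp [mul_assoc]
      _ = h * t * h⁻¹ := by rw [← h1]; simp
  have hgC : ∀ c ∈ C, g * c * g⁻¹ ∈ C := by
    intro c hc
    have h1 : k * (g * c * g⁻¹) * k⁻¹ ∈ C := by
      have := hmC _ ⟨c, hc, rfl⟩
      simpa [hg, mul_assoc] using this
    have h2 := C.mul_mem (C.mul_mem (C.inv_mem hk) h1) hk
    simpa [mul_assoc] using h2
  have hTC : T ⊔ C ≤ (S : Subgroup G) := sup_le inf_le_left inf_le_left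
  have : Finite (↥(T ⊔ C)) := inferInstance
  have hgN : g ∈ Subgroup.normalizer ((T ⊔ C : Subgroup G) : Set G) := by
    have hle : (T ⊔ C).map (MulAut.conj g).toMonoidHom ≤ T ⊔ C := by
      rw [Subgroup.map_sup]
      refine sup_le ?_ ?_
      · rintro _ ⟨t, ht, rfl⟩
        exact Subgroup.mem_sup_left (show g * t * g⁻¹ ∈ T from hgT ⟨t, ht⟩ ▸ (α _).2)
      · rintro _ ⟨c, hc, rfl⟩
        exact Subgroup.mem_sup_right (hgC c hc)
    have heq := Subgroup.eq_of_le_of_card_ge hle (card_map_conj _ g).ge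
    refine Subgroup.mem_normalizer_iff.2 fun x => ⟨fun hx => heq ▸ conj_mem_map_conj hx, fun hx => ?_⟩
    rw [← heq, mem_map_conj] at hx
    simpa [mul_assoc] using hx
  refine ⟨conjAut _ g hgN, ?_, fun t => ?_, fun c hc => ?_⟩
  · rw [group_autGroup_eq hTC]
    exact conjAut_mem_autInducedBy (P := T ⊔ C) (Subgroup.mem_top g) hgN
  · rw [conjAut_apply]
    exact hgT t
  · show (c : G)⁻¹ * (g * c * g⁻¹) ∈ _
    have h1 := C.mul_mem (C.inv_mem hc) (hgC c hc)
    refine ⟨⟨h1.1, ?_⟩, h1.2⟩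
    have h2 := H.mul_mem (Subgroup.Normal.conj_mem ‹_› _ hgH (c : G)⁻¹) (H.inv_mem hgH)
    simpa [mul_assoc] using h2

end CfsgLib.Fusion
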