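import Cfsg.Agent.Lib.Fusion.Normal
import Cfsg.Agent.Lib.Fusion.Stability

/-!
# Elements stabilising a series of invariant subgroups of a centric radical subgroup
-/

set_option autoImplicit false

namespace CfsgLib.FusionSeries

open Cfsg Cfsg.FusionSystem CfsgLib.Fusion CfsgLib.Fusion.Stability

variable {Ω : Type*} [Group Ω] {S : Subgroup Ω} {F : Cfsg.FusionSystem S} {p : ℕ}

/-- `L` meets `P` in an `Aut_F(P)`-invariant subgroup. -/
def InvIn (F : Cfsg.FusionSystem S) (P L : Subgroup Ω) : Prop :=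
  ∀ α ∈ F.autGroup P, ∀ x : P, (x : Ω) ∈ L → ((α x : P) : Ω) ∈ L

theorem invIn_of_stronglyClosed {P L : Subgroup Ω} (hP : P ≤ S) (hL : F.StronglyClosed L) :
    InvIn F P L := fun _ hα _ hx => aut_mem hL hP hα hx

theorem invIn_top_source {P : Subgroup Ω} : InvIn F P P := fun α _ x _ => (α x).2

theorem invIn_of_weaklyClosed [Finite S] {P L : Subgroup Ω} (hP : P ≤ S) (hL : F.WeaklyClosed L)
    (hLP : L ≤ P) : InvIn F P L := by
  intro α hα x hx
  have h := hL.2 _ (restrict_mem ((mem_autGroup_iff_hom hP).1 hα) hLP)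
  show ((α x : P) : Ω) ∈ L
  exact h.le ⟨⟨x, hx⟩, rfl⟩

/-- The automorphisms in `Aut_F(P)` displacing each `L i` into `K i`. -/
def seriesStab {P : Subgroup Ω} {n : ℕ} (L K : Fin n → Subgroup Ω)
    (hL : ∀ i, InvIn F P (L i)) : Subgroup (F.autGroup P) where
  carrier := {α | ∀ i, DispIn P (L i) (K i) α}
  one_mem' := fun i x _ => by simp
  mul_mem' {α β} hα hβ i x hx := by
    have := (K i).mul_mem (hβ i x hx) (hα i ((β : MulAut P) x) (hL i _ β.2 x hx))
    rw [← Subgroup.coe_mul] at this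
    simpa [mul_assoc] using this
  inv_mem' {α} hα i x hx := by
    have := (K i).inv_mem (hα i ((α : MulAut P)⁻¹ x) (hL i _ (inv_mem α.2) x hx))
    rw [← Subgroup.coe_inv] at this
    simpa [mul_assoc] using this

theorem mem_seriesStab {P : Subgroup Ω} {n : ℕ} {L K : Fin n → Subgroup Ω}
    {hL : ∀ i, InvIn F P (L i)} {α : F.autGroup P} :
    α ∈ seriesStab L K hL ↔ ∀ i, DispIn P (L i) (K i) α := Iff.rfl

theorem seriesStab_normal {P : Subgroup Ω} {n : ℕ} (L K : Fin n → Subgroup Ω)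
    (hL : ∀ i, InvIn F P (L i)) (hK : ∀ i, InvIn F P (K i)) :
    (seriesStab L K hL).Normal := by
  constructor
  intro α hα γ i x hx
  have h1 := hK i _ γ.2 _ (hα i ((γ : MulAut P)⁻¹ x) (hL i _ (inv_mem γ.2) x hx))
  simpa using h1

/-- An element of `N_S(P)` stabilising a series, all of whose `p'`-stabilisers are trivial, lies
in the centric radical subgroup `P`. -/
theorem mem_of_seriesStab [Finite S] [Fact p.Prime] {P : Subgroup Ω}
    (hPc : F.IsCentric P) (hPr : F.IsRadical p P) {n : ℕ} (L K : Fin n → Subgroup Ω)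
    (hL : ∀ i, InvIn F P (L i)) (hK : ∀ i, InvIn F P (K i))
    (hfree : ∀ α ∈ F.autGroup P, (orderOf α).Coprime p → (∀ i, DispIn P (L i) (K i) α) → α = 1)
    {g : Ω} (hg : g ∈ S) (hgN : g ∈ Subgroup.normalizer (P : Set Ω))
    (hdisp : ∀ i, DispIn P (L i) (K i) (conjAut P g hgN)) : g ∈ P := by
  have hPS := hPc.1
  have : Finite P := finite_of_le hPS
  have : Finite (MulAut P) := finite_mulAut
  have hBp : IsPGroup p (seriesStab L K hL) := by
    refine isPGroup_of_coprime_eq_one fun α hα => ?_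
    have hord : (orderOf ((α : F.autGroup P) : MulAut P)).Coprime p := by
      rw [Subgroup.orderOf_coe, Subgroup.orderOf_coe]; exact hα
    exact Subtype.ext (Subtype.ext (hfree _ (α : F.autGroup P).2 hord α.2))
  have hle : (seriesStab L K hL).map (F.autGroup P).subtype ≤ Cfsg.Inn P :=
    (Subgroup.map_mono (CfsgLib.Solvable.le_pCore (seriesStab_normal L K hL hK) hBp)).trans hPr.2.le
  refine mem_of_conjAut_mem_inn (centralizerIn_le_of_isCentric hPc) hPS hg hgN (hle ?_)
  exact ⟨⟨conjAut P g hgN, autInducedBy_le_autGroup F hPS (conjAut_mem_autInducedBy hg hgN)⟩,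
    hdisp, rfl⟩

/-- Displacement of a conjugation, by a commutator bound. -/
theorem dispIn_conjAut {P L K : Subgroup Ω} {g : Ω} (hgN : g ∈ Subgroup.normalizer (P : Set Ω))
    (h : ∀ x ∈ P, x ∈ L → x⁻¹ * (g * x * g⁻¹) ∈ K) : DispIn P L K (conjAut P g hgN) :=
  fun x hx => h x x.2 hx

end CfsgLib.FusionSeries
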