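import Mathlib.GroupTheory.GroupAction.Quotient
import Mathlib.GroupTheory.Index
import Mathlib.GroupTheory.Sylow
import Mathlib.Algebra.BigOperators.Finprod
import Mathlib.Data.Set.Card
import Mathlib.Data.Set.Finite.Lemmas

/-!
Marks (fixed point counts) of finite sets with an action of a finite group `Γ`, in the form of
weight functions `c : Subgroup Γ → ℕ` (the set `⊔_D c D × Γ/D`), the Burnside congruence, and
the fact that two finite sets with the same marks are isomorphic.
-/

set_option autoImplicit false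

namespace CfsgLib.Marks

open MulAction

universe u v w

variable {Γ : Type u} [Group Γ]

/-- points fixed by a subgroup -/
def fixSet (E : Subgroup Γ) (X : Type v) [MulAction Γ X] : Set X := {x | E ≤ stabilizer Γ x}

lemma mem_fixSet {E : Subgroup Γ} {X : Type v} [MulAction Γ X] {x : X} :
    x ∈ fixSet E X ↔ ∀ e ∈ E, e • x = x := Iff.rfl

lemma fixSet_bot (X : Type v) [MulAction Γ X] : fixSet (⊥ : Subgroup Γ) X = Set.univ :=
  Set.eq_univ_of_forall fun x => show (⊥ : Subgroup Γ) ≤ stabilizer Γ x from bot_le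

lemma card_fixSet_bot (X : Type v) [MulAction Γ X] :
    Nat.card (fixSet (⊥ : Subgroup Γ) X) = Nat.card X := by
  rw [fixSet_bot]
  exact Nat.card_congr (Equiv.Set.univ X)

/-- number of cosets of `D` fixed by `E` -/
noncomputable def fixN (E D : Subgroup Γ) : ℕ := Nat.card (fixSet E (Γ ⧸ D))

/-- conjugate subgroup -/
def conjS (g : Γ) (D : Subgroup Γ) : Subgroup Γ := D.map (MulAut.conj g).toMonoidHom

lemma mem_conjS {g : Γ} {D : Subgroup Γ} {x : Γ} : x ∈ conjS g D ↔ g⁻¹ * x * g ∈ D := by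
  constructor
  · rintro ⟨y, hy, rfl⟩
    simpa [mul_assoc] using hy
  · intro h
    exact ⟨g⁻¹ * x * g, h, by simp [mul_assoc]⟩

lemma conjS_one (D : Subgroup Γ) : conjS 1 D = D := by
  ext x; simp [mem_conjS]

lemma conjS_conjS (g h : Γ) (D : Subgroup Γ) : conjS g (conjS h D) = conjS (g * h) D := by
  ext x; simp [mem_conjS, mul_assoc]

lemma card_conjS (g : Γ) (D : Subgroup Γ) : Nat.card (conjS g D) = Nat.card D :=
  (Nat.card_congr (D.equivMapOfInjective (MulAut.conj g).toMonoidHom
    (MulAut.conj g).injective).toEquiv).symm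

lemma fixN_ne_zero [Finite Γ] {E D : Subgroup Γ} (h : fixN E D ≠ 0) :
    ∃ g : Γ, E ≤ conjS g D := by
  rw [fixN, Nat.card_ne_zero] at h
  obtain ⟨⟨⟨x, hx⟩⟩, -⟩ := h
  induction x using QuotientGroup.induction_on with
  | H g =>
    refine ⟨g, fun e he => mem_conjS.2 ?_⟩
    have h1 : ((e * g : Γ) : Γ ⧸ D) = (g : Γ ⧸ D) := mem_fixSet.1 hx e he
    have h2 := QuotientGroup.eq.1 h1.symm
    simpa [mul_assoc] using h2

lemma fixN_eq_zero_of_card_lt [Finite Γ] {E D : Subgroup Γ} (h : Nat.card D < Nat.card E) :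
    fixN E D = 0 := by
  by_contra h0
  obtain ⟨g, hg⟩ := fixN_ne_zero h0
  have := Nat.le_of_dvd Nat.card_pos (Subgroup.card_dvd_of_le hg)
  rw [card_conjS] at this
  omega

lemma conjS_of_fixN_ne_zero [Finite Γ] {E D : Subgroup Γ} (h : Nat.card D = Nat.card E)
    (h0 : fixN E D ≠ 0) : ∃ g : Γ, E = conjS g D := by
  obtain ⟨g, hg⟩ := fixN_ne_zero h0
  exact ⟨g, Subgroup.eq_of_le_of_card_ge hg (by rw [card_conjS, h])⟩

/-- translation identifies the fixed points of conjugate subgroups -/
def fixSetConjEquiv (g : Γ) (E : Subgroup Γ) (X : Type v) [MulAction Γ X] :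
    fixSet (conjS g E) X ≃ fixSet E X where
  toFun x := ⟨g⁻¹ • (x : X), fun e he => by
    have h := mem_fixSet.1 x.2 (g * e * g⁻¹) (mem_conjS.2 (by simpa [mul_assoc] using he))
    show e • g⁻¹ • (x : X) = g⁻¹ • (x : X)
    conv_rhs => rw [← h]
    simp [smul_smul, mul_assoc]⟩
  invFun x := ⟨g • (x : X), fun e he => by
    have h := mem_fixSet.1 x.2 (g⁻¹ * e * g) (mem_conjS.1 he)
    show e • g • (x : X) = g • (x : X)
    conv_rhs => rw [← h]
    simp [smul_smul, mul_assoc]⟩
  left_inv x := Subtype.ext (smul_inv_smul g (x : X))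
  right_inv x := Subtype.ext (inv_smul_smul g (x : X))

lemma fixN_conjS (g : Γ) (E D : Subgroup Γ) : fixN (conjS g E) D = fixN E D :=
  Nat.card_congr (fixSetConjEquiv g E (Γ ⧸ D))

lemma fixN_self_mul_card [Finite Γ] (E : Subgroup Γ) :
    fixN E E * Nat.card E = Nat.card (Subgroup.normalizer (E : Set Γ)) := by
  classical
  have h : fixSet E (Γ ⧸ E) = (QuotientGroup.mk '' (Subgroup.normalizer (E : Set Γ) : Set Γ)) := by
    ext x
    induction x using QuotientGroup.induction_on with
    | H g =>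
      constructor
      · intro hx
        refine ⟨g, ?_, rfl⟩
        have hle : E ≤ conjS g E := fun e he => by
          have h1 : ((e * g : Γ) : Γ ⧸ E) = (g : Γ ⧸ E) := mem_fixSet.1 hx e he
          simpa [mem_conjS, mul_assoc] using QuotientGroup.eq.1 h1.symm
        have heq := Subgroup.eq_of_le_of_card_ge hle (le_of_eq (card_conjS g E))
        rw [SetLike.mem_coe, Subgroup.mem_normalizer_iff'']
        intro y
        constructor
        · intro hy; exact mem_conjS.1 (heq ▸ hy)
        · intro hy; rw [heq]; exact mem_conjS.2 hy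
      · rintro ⟨n, hn, hng⟩
        rw [← hng]
        intro e he
        show ((e * n : Γ) : Γ ⧸ E) = (n : Γ ⧸ E)
        apply QuotientGroup.eq.2
        have := (Subgroup.mem_normalizer_iff''.1 hn e⁻¹).1 (E.inv_mem he)
        simpa [mul_assoc] using this
  have hpre : (QuotientGroup.mk ⁻¹' (fixSet E (Γ ⧸ E)) : Set Γ) =
      (Subgroup.normalizer (E : Set Γ) : Set Γ) := by
    rw [h]
    ext g
    constructor
    · rintro ⟨n, hn, hng⟩
      have hE : n⁻¹ * g ∈ E := QuotientGroup.eq.1 hng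
      have := (Subgroup.normalizer (E : Set Γ)).mul_mem hn (Subgroup.le_normalizer hE)
      simpa using this
    · intro hg; exact ⟨g, hg, rfl⟩
  have h2 := Nat.card_congr (QuotientGroup.preimageMkEquivSubgroupProdSet E (fixSet E (Γ ⧸ E)))
  rw [Nat.card_prod] at h2
  rw [fixN, mul_comm, ← h2, hpre]
  rfl

lemma fixN_self_pos [Finite Γ] (E : Subgroup Γ) : 0 < fixN E E := by
  have h : 0 < fixN E E * Nat.card E := by rw [fixN_self_mul_card]; exact Nat.card_pos
  exact Nat.pos_of_mul_pos_right h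

lemma fixN_self_conjS [Finite Γ] (g : Γ) (E : Subgroup Γ) :
    fixN (conjS g E) (conjS g E) = fixN E E := by
  have hN : Subgroup.normalizer ((conjS g E : Subgroup Γ) : Set Γ)
      = conjS g (Subgroup.normalizer (E : Set Γ)) :=
    (Subgroup.map_equiv_normalizer_eq E (MulAut.conj g)).symm
  have h := fixN_self_mul_card (conjS g E)
  rw [hN, card_conjS, card_conjS, ← fixN_self_mul_card E] at h
  exact Nat.eq_of_mul_eq_mul_right Nat.card_pos h

/-- the mark at `E` of the set described by the weight function `c` -/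
noncomputable def mark (c : Subgroup Γ → ℕ) (E : Subgroup Γ) : ℕ := ∑ᶠ D, c D * fixN E D

lemma mark_conjS (c : Subgroup Γ → ℕ) (g : Γ) (E : Subgroup Γ) :
    mark c (conjS g E) = mark c E := by
  simp only [mark, fixN_conjS]

lemma mark_zero (E : Subgroup Γ) : mark (0 : Subgroup Γ → ℕ) E = 0 := by simp [mark]

lemma mark_add [Finite Γ] (c d : Subgroup Γ → ℕ) (E : Subgroup Γ) :
    mark (c + d) E = mark c E + mark d E := by
  simp only [mark, Pi.add_apply, add_mul]
  exact finsum_add_distrib (Set.toFinite _) (Set.toFinite _)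

lemma mark_smul [Finite Γ] (K : ℕ) (c : Subgroup Γ → ℕ) (E : Subgroup Γ) :
    mark (fun D => K * c D) E = K * mark c E := by
  simp only [mark, mul_assoc]
  rw [mul_finsum]

lemma mark_ne_zero [Finite Γ] {c : Subgroup Γ → ℕ} {E : Subgroup Γ} (h : mark c E ≠ 0) :
    ∃ D : Subgroup Γ, c D ≠ 0 ∧ ∃ g : Γ, E ≤ conjS g D := by
  by_contra hc
  apply h
  rw [mark]
  refine finsum_eq_zero_of_forall_eq_zero fun D => ?_
  by_contra hD
  exact hc ⟨D, left_ne_zero_of_mul hD, fixN_ne_zero (right_ne_zero_of_mul hD)⟩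

/-- conjugacy of subgroups -/
def conjSetoid (Γ : Type u) [Group Γ] : Setoid (Subgroup Γ) where
  r D E := ∃ g : Γ, E = conjS g D
  iseqv :=
    { refl := fun D => ⟨1, (conjS_one D).symm⟩
      symm := fun {D E} h => by
        obtain ⟨g, rfl⟩ := h
        exact ⟨g⁻¹, by rw [conjS_conjS, inv_mul_cancel, conjS_one]⟩
      trans := fun {D E F} h1 h2 => by
        obtain ⟨g, rfl⟩ := h1
        obtain ⟨h, rfl⟩ := h2
        exact ⟨h * g, conjS_conjS h g D⟩ }

/-- a chosen representative of the conjugacy class -/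
noncomputable def rep (D : Subgroup Γ) : Subgroup Γ := (Quotient.mk (conjSetoid Γ) D).out

lemma rep_conjS (g : Γ) (D : Subgroup Γ) : rep (conjS g D) = rep D := by
  unfold rep
  rw [Quotient.sound (s := conjSetoid Γ) (show (conjSetoid Γ) D (conjS g D) from ⟨g, rfl⟩)]

lemma exists_conjS_rep (D : Subgroup Γ) : ∃ g : Γ, D = conjS g (rep D) :=
  Quotient.mk_out (s := conjSetoid Γ) D

lemma rep_rep (D : Subgroup Γ) : rep (rep D) = rep D := by
  unfold rep
  rw [Quotient.out_eq]

open Classical in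
/-- One step of the construction by decreasing order of the subgroups. -/
theorem exists_step [Finite Γ] (R : Set (Subgroup Γ)) (hR : ∀ g, ∀ D ∈ R, conjS g D ∈ R)
    (k : ℕ) (c M : Subgroup Γ → ℕ) (hM : ∀ g, ∀ E ∈ R, Nat.card E = k → M (conjS g E) = M E)
    (hle : ∀ E ∈ R, Nat.card E = k → mark c E ≤ M E)
    (hdvd : ∀ E ∈ R, Nat.card E = k → fixN E E ∣ M E - mark c E) :
    ∃ d : Subgroup Γ → ℕ,
      (∀ D, d D ≠ 0 → D ∈ R ∧ Nat.card D = k ∧ rep D = D ∧
        d D = (M D - mark c D) / fixN D D) ∧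
      (∀ E : Subgroup Γ, k < Nat.card E → mark (c + d) E = mark c E) ∧
      ∀ E ∈ R, Nat.card E = k → mark (c + d) E = M E := by
  refine ⟨fun D => if D ∈ R ∧ Nat.card D = k ∧ rep D = D then
    (M D - mark c D) / fixN D D else 0, fun D hD => ?_, fun E hE => ?_, fun E hE hk => ?_⟩
  · by_cases h : D ∈ R ∧ Nat.card D = k ∧ rep D = D
    · exact ⟨h.1, h.2.1, h.2.2, if_pos h⟩
    · exact absurd (if_neg h) hD
  · rw [mark_add, add_eq_left, mark]
    refine finsum_eq_zero_of_forall_eq_zero fun D => ?_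
    by_cases h : D ∈ R ∧ Nat.card D = k ∧ rep D = D
    · rw [fixN_eq_zero_of_card_lt (E := E) (D := D) (by omega), mul_zero]
    · rw [if_neg h, zero_mul]
  · obtain ⟨g, hg⟩ := exists_conjS_rep E
    have hrR : rep E ∈ R := by
      have := hR g⁻¹ E hE
      rw [hg, conjS_conjS, inv_mul_cancel, conjS_one] at this
      exact this
    have hrk : Nat.card (rep E) = k := by rw [← hk]; conv_rhs => rw [hg, card_conjS]
    rw [mark_add]
    conv_lhs => arg 2; rw [mark]
    rw [finsum_eq_single _ (rep E)]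
    · rw [if_pos ⟨hrR, hrk, rep_rep E⟩]
      have h1 : fixN E (rep E) = fixN (rep E) (rep E) := by
        conv_lhs => arg 1; rw [hg]
        exact fixN_conjS g _ _
      rw [h1, Nat.div_mul_cancel (hdvd _ hrR hrk)]
      have h2 : M E = M (rep E) := by
        conv_lhs => rw [hg]
        exact hM g _ hrR hrk
      have h3 : mark c E = mark c (rep E) := by
        conv_lhs => rw [hg]
        exact mark_conjS c g _
      have := hle _ hrR hrk
      omega
    · intro D hD
      by_cases h : D ∈ R ∧ Nat.card D = k ∧ rep D = D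
      · by_contra h0
        obtain ⟨x, hx⟩ := conjS_of_fixN_ne_zero (h.2.1.trans hk.symm) (right_ne_zero_of_mul h0)
        exact hD (by rw [hx, rep_conjS, h.2.2])
      · rw [if_neg h, zero_mul]

/-- the set described by a weight function -/
def GSet (c : Subgroup Γ → ℕ) : Type u := Σ D : Subgroup Γ, Fin (c D) × (Γ ⧸ D)

instance instMulActionGSet (c : Subgroup Γ → ℕ) : MulAction Γ (GSet c) where
  smul g x := ⟨x.1, x.2.1, g • x.2.2⟩
  one_smul x := by
    obtain ⟨D, i, x⟩ := x
    show (⟨D, i, (1 : Γ) • x⟩ : GSet c) = ⟨D, i, x⟩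
    rw [one_smul]
  mul_smul g h x := by
    obtain ⟨D, i, x⟩ := x
    show (⟨D, i, (g * h) • x⟩ : GSet c) = ⟨D, i, g • h • x⟩
    rw [mul_smul]

lemma smul_gset_def (c : Subgroup Γ → ℕ) (g : Γ) (x : GSet c) :
    g • x = ⟨x.1, x.2.1, g • x.2.2⟩ := rfl

instance instFiniteGSet [Finite Γ] (c : Subgroup Γ → ℕ) : Finite (GSet c) :=
  inferInstanceAs (Finite (Σ D : Subgroup Γ, Fin (c D) × (Γ ⧸ D)))

/-- fixed points of the set described by a weight function -/
def fixSetGSetEquiv (c : Subgroup Γ → ℕ) (E : Subgroup Γ) :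
    fixSet E (GSet c) ≃ Σ D : Subgroup Γ, Fin (c D) × fixSet E (Γ ⧸ D) where
  toFun x := ⟨x.1.1, x.1.2.1, ⟨x.1.2.2, fun e he => by
    have h := mem_fixSet.1 x.2 e he
    obtain ⟨⟨D, i, y⟩, _⟩ := x
    rw [smul_gset_def] at h
    exact (Prod.ext_iff.1 (eq_of_heq (Sigma.mk.inj h).2)).2⟩⟩
  invFun y := ⟨⟨y.1, y.2.1, y.2.2.1⟩, fun e he => by
    show (⟨y.1, y.2.1, e • y.2.2.1⟩ : GSet c) = ⟨y.1, y.2.1, y.2.2.1⟩
    rw [mem_fixSet.1 y.2.2.2 e he]⟩
  left_inv x := rfl
  right_inv y := rfl

lemma card_fixSet_gset [Finite Γ] (c : Subgroup Γ → ℕ) (E : Subgroup Γ) :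
    Nat.card (fixSet E (GSet c)) = mark c E := by
  haveI := Fintype.ofFinite (Subgroup Γ)
  rw [Nat.card_congr (fixSetGSetEquiv c E), Nat.card_sigma, mark, finsum_eq_sum_of_fintype]
  simp [Nat.card_prod, fixN]

lemma mark_bot [Finite Γ] (c : Subgroup Γ → ℕ) :
    mark c ⊥ = Nat.card (GSet c) := by
  rw [← card_fixSet_gset, card_fixSet_bot]

/-- the `N`-action on the points fixed by a subgroup normalized by `N` -/
@[reducible] def fixAction (E N : Subgroup Γ) (hN : N ≤ Subgroup.normalizer (E : Set Γ))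
    (X : Type v) [MulAction Γ X] : MulAction N (fixSet E X) where
  smul n x := ⟨(n : Γ) • (x : X), fun e he => by
    have h := mem_fixSet.1 x.2 ((n : Γ)⁻¹ * e * n)
      ((Subgroup.mem_normalizer_iff''.1 (hN n.2) e).1 he)
    show e • (n : Γ) • (x : X) = (n : Γ) • (x : X)
    conv_rhs => rw [← h]
    simp [smul_smul, mul_assoc]⟩
  one_smul x := Subtype.ext (one_smul Γ (x : X))
  mul_smul a b x := Subtype.ext (mul_smul (a : Γ) (b : Γ) (x : X))

/-- Burnside's lemma on the points fixed by a normalized subgroup. -/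
theorem card_dvd_sum_fix [Finite Γ] (E N : Subgroup Γ)
    (hN : N ≤ Subgroup.normalizer (E : Set Γ)) (X : Type v) [MulAction Γ X] [Finite X]
    [Fintype N] :
    Nat.card N ∣ ∑ n : N, Nat.card (fixSet (E ⊔ Subgroup.zpowers (n : Γ)) X) := by
  classical
  letI := fixAction E N hN X
  haveI : Fintype (fixSet E X) := Fintype.ofFinite _
  have e : ∀ n : N, MulAction.fixedBy (fixSet E X) n ≃
      fixSet (E ⊔ Subgroup.zpowers (n : Γ)) X := fun n =>
    { toFun := fun x => ⟨x.1.1, show E ⊔ Subgroup.zpowers (n : Γ) ≤ stabilizer Γ x.1.1 from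
        sup_le x.1.2 (Subgroup.zpowers_le.2 (congrArg Subtype.val x.2))⟩
      invFun := fun x => ⟨⟨x.1, show E ≤ stabilizer Γ x.1 from le_trans le_sup_left x.2⟩,
        Subtype.ext (mem_fixSet.1 x.2 (n : Γ)
          (Subgroup.mem_sup_right (Subgroup.mem_zpowers (n : Γ))))⟩
      left_inv := fun x => rfl
      right_inv := fun x => rfl }
  haveI : ∀ n : N, Fintype (MulAction.fixedBy (fixSet E X) n) := fun n => Fintype.ofFinite _
  haveI : Fintype (MulAction.orbitRel.Quotient N (fixSet E X)) := Fintype.ofFinite _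
  have h := MulAction.sum_card_fixedBy_eq_card_orbits_mul_card_group N (fixSet E X)
  simp only [← Nat.card_eq_fintype_card] at h
  have h2 : ∑ n : N, Nat.card (MulAction.fixedBy (fixSet E X) n)
      = ∑ n : N, Nat.card (fixSet (E ⊔ Subgroup.zpowers (n : Γ)) X) :=
    Finset.sum_congr rfl fun n _ => Nat.card_congr (e n)
  rw [← h2, h]
  exact dvd_mul_left _ _

/-- The congruence between the marks of two subgroups whose normalizers match. -/
theorem fix_congr [Finite Γ] {X : Type v} [MulAction Γ X] [Finite X] (E E' N : Subgroup Γ)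
    (hE : E ≤ N) (hN : N ≤ Subgroup.normalizer (E : Set Γ)) (θ : N →* Γ)
    (hθ : Function.Injective θ) (hθN : θ.range ≤ Subgroup.normalizer (E' : Set Γ))
    (hθE : (E.subgroupOf N).map θ = E')
    (hfix : ∀ n : N, (n : Γ) ∉ E → Nat.card (fixSet (E ⊔ Subgroup.zpowers (n : Γ)) X) =
      Nat.card (fixSet (E' ⊔ Subgroup.zpowers (θ n)) X)) :
    (Nat.card N : ℤ) ∣
      (Nat.card E : ℤ) * ((Nat.card (fixSet E X) : ℤ) - Nat.card (fixSet E' X)) := by
  classical
  haveI := Fintype.ofFinite N
  haveI : Fintype θ.range := Fintype.ofFinite _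
  set a : N → ℕ := fun n => Nat.card (fixSet (E ⊔ Subgroup.zpowers (n : Γ)) X) with ha
  set b : N → ℕ := fun n => Nat.card (fixSet (E' ⊔ Subgroup.zpowers (θ n)) X) with hb
  have h1 : Nat.card N ∣ ∑ n : N, a n := card_dvd_sum_fix E N hN X
  have h2 : Nat.card N ∣ ∑ n : N, b n := by
    have h := card_dvd_sum_fix E' θ.range hθN X
    rw [← Nat.card_congr (MonoidHom.ofInjective hθ).toEquiv] at h
    convert h using 1
    exact Equiv.sum_comp (MonoidHom.ofInjective hθ).toEquiv
      (fun m : θ.range => Nat.card (fixSet (E' ⊔ Subgroup.zpowers (m : Γ)) X))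
  have key : (∑ n : N, ((a n : ℤ) - b n)) =
      (Nat.card E : ℤ) * ((Nat.card (fixSet E X) : ℤ) - Nat.card (fixSet E' X)) := by
    rw [← Finset.sum_filter_add_sum_filter_not Finset.univ (fun n : N => (n : Γ) ∈ E)]
    have hz : ∀ n ∈ Finset.univ.filter (fun n : N => ¬ (n : Γ) ∈ E),
        ((a n : ℤ) - b n) = 0 := by
      intro n hn
      simp only [Finset.mem_filter] at hn
      simp only [ha, hb]
      rw [hfix n hn.2, sub_self]
    rw [Finset.sum_eq_zero hz, add_zero]
    have hc : ∀ n ∈ Finset.univ.filter (fun n : N => (n : Γ) ∈ E),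
        ((a n : ℤ) - b n) = (Nat.card (fixSet E X) : ℤ) - Nat.card (fixSet E' X) := by
      intro n hn
      simp only [Finset.mem_filter] at hn
      have e1 : E ⊔ Subgroup.zpowers (n : Γ) = E := by
        simpa [Subgroup.zpowers_le] using hn.2
      have e2 : E' ⊔ Subgroup.zpowers (θ n) = E' := by
        have : θ n ∈ E' := hθE ▸ ⟨n, hn.2, rfl⟩
        simpa [Subgroup.zpowers_le] using this
      simp only [ha, hb]
      rw [e1, e2]
    rw [Finset.sum_congr rfl hc, Finset.sum_const, nsmul_eq_mul]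
    congr 1
    norm_cast
    rw [← Fintype.card_subtype, ← Nat.card_eq_fintype_card]
    exact Nat.card_congr (Subgroup.subgroupOfEquivOfLe hE).toEquiv
  rw [← key, Finset.sum_sub_distrib]
  refine dvd_sub ?_ ?_ <;> rw [← Nat.cast_sum] <;> exact Int.natCast_dvd_natCast.2 ‹_›

/-- Two finite sets with the same marks: the relative induction. -/
theorem exists_bijOn_of_marks {H : Type u} [Group H] [Finite H] {X : Type v} {Y : Type w}
    [MulAction H X] [MulAction H Y] [Finite X] [Finite Y] [Nonempty Y] :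
    ∀ (n : ℕ) (s : Set X) (t : Set Y), s.ncard = n → (∀ h : H, ∀ x ∈ s, h • x ∈ s) →
      (∀ h : H, ∀ y ∈ t, h • y ∈ t) →
      (∀ E : Subgroup H, (fixSet E X ∩ s).ncard = (fixSet E Y ∩ t).ncard) →
      ∃ f : X → Y, Set.BijOn f s t ∧ ∀ h : H, ∀ x ∈ s, f (h • x) = h • f x := by
  intro n
  induction n using Nat.strong_induction_on with
  | _ n ih =>
    intro s t hn hs ht hm
    classical
    rcases s.eq_empty_or_nonempty with rfl | hne
    · have h0 := hm ⊥
      have : fixSet (⊥ : Subgroup H) Y = Set.univ := fixSet_bot Y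
      rw [this, Set.univ_inter, Set.inter_empty, Set.ncard_empty] at h0
      have htE : t = ∅ := (Set.ncard_eq_zero (Set.toFinite t)).1 h0.symm
      subst htE
      exact ⟨fun _ => Classical.arbitrary Y, Set.bijOn_empty _, by simp⟩
    obtain ⟨x, hxs, hmax⟩ := Set.exists_max_image s (fun x => Nat.card (stabilizer H x))
      (Set.toFinite s) hne
    have h1 : 0 < (fixSet (stabilizer H x) Y ∩ t).ncard := by
      rw [← hm]
      exact (Set.ncard_pos (Set.toFinite _)).2 ⟨x, show stabilizer H x ≤ stabilizer H x from le_refl _, hxs⟩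
    obtain ⟨y, hy, hyt⟩ := (Set.ncard_pos (Set.toFinite _)).1 h1
    have hxy : stabilizer H x = stabilizer H y := by
      have h2 : 0 < (fixSet (stabilizer H y) X ∩ s).ncard := by
        rw [hm]
        exact (Set.ncard_pos (Set.toFinite _)).2 ⟨y, show stabilizer H y ≤ stabilizer H y from le_refl _, hyt⟩
      obtain ⟨z, hz, hzs⟩ := (Set.ncard_pos (Set.toFinite _)).1 h2
      refine Subgroup.eq_of_le_of_card_ge hy ?_
      exact le_trans (Nat.le_of_dvd Nat.card_pos (Subgroup.card_dvd_of_le hz)) (hmax z hzs)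
    let g : X → Y := fun z => if h : z ∈ orbit H x then h.choose • y else y
    have hg : ∀ h : H, g (h • x) = h • y := by
      intro h
      have hmem : h • x ∈ orbit H x := ⟨h, rfl⟩
      show dite _ _ _ = _
      rw [dif_pos hmem]
      have h3 : hmem.choose • x = h • x := hmem.choose_spec
      have h4 : h⁻¹ * hmem.choose ∈ stabilizer H x := by
        rw [mem_stabilizer_iff, mul_smul, h3, inv_smul_smul]
      rw [hxy, mem_stabilizer_iff, mul_smul] at h4
      rw [inv_smul_eq_iff] at h4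
      exact h4
    have hgbij : Set.BijOn g (orbit H x) (orbit H y) := by
      refine ⟨?_, ?_, ?_⟩
      · rintro _ ⟨h, rfl⟩
        rw [hg]; exact ⟨h, rfl⟩
      · rintro _ ⟨h, rfl⟩ _ ⟨k, rfl⟩ he
        rw [hg, hg] at he
        have : k⁻¹ * h ∈ stabilizer H x := by
          rw [hxy, mem_stabilizer_iff, mul_smul, he, inv_smul_smul]
        rw [mem_stabilizer_iff, mul_smul, inv_smul_eq_iff] at this
        exact this
      · rintro _ ⟨h, rfl⟩
        exact ⟨h • x, ⟨h, rfl⟩, hg h⟩
    have hgeq : ∀ h : H, ∀ z ∈ orbit H x, g (h • z) = h • g z := by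
      rintro h _ ⟨k, rfl⟩
      show g (h • k • x) = h • g (k • x)
      rw [smul_smul, hg, hg, mul_smul]
    have hOs : orbit H x ⊆ s := by rintro _ ⟨h, rfl⟩; exact hs h x hxs
    have hOt : orbit H y ⊆ t := by rintro _ ⟨h, rfl⟩; exact ht h y hyt
    have hO : ∀ E : Subgroup H,
        (fixSet E X ∩ orbit H x).ncard = (fixSet E Y ∩ orbit H y).ncard := by
      intro E
      refine (Set.BijOn.ncard_eq (f := g) ⟨?_, hgbij.injOn.mono Set.inter_subset_right, ?_⟩)
      · rintro z ⟨hz, hzO⟩
        exact ⟨fun e he => by show e • g z = g z; rw [← hgeq e z hzO, mem_fixSet.1 hz e he],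
          hgbij.mapsTo hzO⟩
      · rintro w ⟨hw, hwO⟩
        obtain ⟨z, hzO, rfl⟩ := hgbij.surjOn hwO
        refine ⟨z, ⟨fun e he => ?_, hzO⟩, rfl⟩
        refine hgbij.injOn ?_ hzO ?_
        · obtain ⟨k, rfl⟩ := hzO
          exact ⟨e * k, mul_smul e k x⟩
        · rw [hgeq e z hzO, mem_fixSet.1 hw e he]
    have hlt : (s \ orbit H x).ncard < n := by
      rw [← hn]
      exact Set.ncard_lt_ncard
        ⟨Set.sdiff_subset, fun hsub => (hsub hxs).2 (mem_orbit_self x)⟩ (Set.toFinite s)
    have hm' : ∀ E : Subgroup H, (fixSet E X ∩ (s \ orbit H x)).ncard =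
        (fixSet E Y ∩ (t \ orbit H y)).ncard := by
      intro E
      have hX := Set.ncard_inter_add_ncard_sdiff_eq_ncard (fixSet E X ∩ s) (orbit H x)
        (Set.toFinite _)
      have hY := Set.ncard_inter_add_ncard_sdiff_eq_ncard (fixSet E Y ∩ t) (orbit H y)
        (Set.toFinite _)
      rw [Set.inter_assoc, Set.inter_eq_self_of_subset_right hOs, Set.inter_sdiff_assoc] at hX
      rw [Set.inter_assoc, Set.inter_eq_self_of_subset_right hOt, Set.inter_sdiff_assoc] at hY
      have := hm E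
      have := hO E
      omega
    obtain ⟨f, hf, hfeq⟩ := ih _ hlt (s \ orbit H x) (t \ orbit H y) rfl
      (fun h z hz => ⟨hs h z hz.1, fun hc => hz.2 (by
        obtain ⟨k, hk⟩ := hc
        exact ⟨h⁻¹ * k, by
          show (h⁻¹ * k) • x = z
          rw [mul_smul]; simp only at hk; rw [hk, inv_smul_smul]⟩)⟩)
      (fun h z hz => ⟨ht h z hz.1, fun hc => hz.2 (by
        obtain ⟨k, hk⟩ := hc
        exact ⟨h⁻¹ * k, by
          show (h⁻¹ * k) • y = z
          rw [mul_smul]; simp only at hk; rw [hk, inv_smul_smul]⟩)⟩)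
      hm'
    let F : X → Y := fun z => if z ∈ orbit H x then g z else f z
    have hF1 : Set.EqOn F g (orbit H x) := fun z hz => if_pos hz
    have hF2 : Set.EqOn F f (s \ orbit H x) := fun z hz => if_neg hz.2
    refine ⟨F, ?_, ?_⟩
    · have h3 := (hgbij.congr hF1.symm).union (hf.congr hF2.symm) ?_
      · rwa [Set.union_sdiff_cancel hOs, Set.union_sdiff_cancel hOt] at h3
      · intro a ha b hb hab
        rcases ha with ha | ha <;> rcases hb with hb | hb
        · exact hgbij.injOn ha hb (by rwa [hF1 ha, hF1 hb] at hab)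
        · rw [hF1 ha, hF2 hb] at hab
          exact absurd (hab ▸ hgbij.mapsTo ha) (hf.mapsTo hb).2
        · rw [hF2 ha, hF1 hb] at hab
          exact absurd (hab ▸ hgbij.mapsTo hb) (hf.mapsTo ha).2
        · exact hf.injOn ha hb (by rwa [hF2 ha, hF2 hb] at hab)
    · intro h z hz
      by_cases hzO : z ∈ orbit H x
      · have : h • z ∈ orbit H x := by
          obtain ⟨k, rfl⟩ := hzO
          exact ⟨h * k, mul_smul h k x⟩
        rw [hF1 this, hF1 hzO, hgeq h z hzO]
      · have : h • z ∈ s \ orbit H x := ⟨hs h z hz, fun hc => hzO (by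
          obtain ⟨k, hk⟩ := hc
          exact ⟨h⁻¹ * k, by
            show (h⁻¹ * k) • x = z
            rw [mul_smul]; simp only at hk; rw [hk, inv_smul_smul]⟩)⟩
        rw [hF2 this, hF2 ⟨hz, hzO⟩, hfeq h z ⟨hz, hzO⟩]

/-- Two finite sets with the same marks are isomorphic. -/
theorem exists_equiv_of_marks {H : Type u} [Group H] [Finite H] {X : Type v} {Y : Type w}
    [MulAction H X] [MulAction H Y] [Finite X] [Finite Y]
    (hm : ∀ E : Subgroup H, Nat.card (fixSet E X) = Nat.card (fixSet E Y)) :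
    ∃ e : X ≃ Y, ∀ (h : H) (x : X), e (h • x) = h • e x := by
  have hbot : Nat.card X = Nat.card Y := by
    have := hm ⊥
    rwa [card_fixSet_bot, card_fixSet_bot] at this
  rcases isEmpty_or_nonempty Y with hY | hY
  · have : IsEmpty X := by
      rw [← Finite.card_eq_zero_iff, hbot, Finite.card_eq_zero_iff]; exact hY
    exact ⟨Equiv.equivOfIsEmpty X Y, fun h x => isEmptyElim x⟩
  obtain ⟨f, hf, hfe⟩ := exists_bijOn_of_marks (H := H) _ (Set.univ : Set X) (Set.univ : Set Y)
    rfl (fun _ _ _ => trivial) (fun _ _ _ => trivial)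
    (fun E => by simpa [Nat.card_coe_set_eq] using hm E)
  refine ⟨Equiv.ofBijective f ⟨fun a b hab => hf.injOn trivial trivial hab, fun y => ?_⟩,
    fun h x => hfe h x trivial⟩
  obtain ⟨x, -, hx⟩ := hf.surjOn (Set.mem_univ y)
  exact ⟨x, hx⟩

end CfsgLib.Marks
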