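import Cfsg.Prelude.Def_FusionSystem
import Cfsg.Agent.Lib.Fusion.Marks

/-!
Park's theorem: every fusion system over a finite group `S` is realized inside a finite group,
by means of an `S`-`S`-biset whose marks are stable under the maps of the system.
-/

set_option autoImplicit false

namespace CfsgLib.Fusion.Realize

open CfsgLib.Marks MulAction

universe u v w

variable {Ω : Type u} [Group Ω] {S : Subgroup Ω}

/-- the subgroups of `S × S` contained in the graph of a map of the system (first coordinate the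
value, second coordinate the argument) -/
def graphSubs (F : Cfsg.FusionSystem S) : Set (Subgroup (S × S)) :=
  {D | ∃ (P : Subgroup Ω) (φ : P →* Ω), φ ∈ F.Hom P ∧
    ∀ x ∈ D, ∃ h : ((x : S × S).2 : Ω) ∈ P, φ ⟨(x.2 : Ω), h⟩ = (x.1 : Ω)}

variable (F : Cfsg.FusionSystem S)

lemma graphSubs_mono {D E : Subgroup (S × S)} (hE : E ∈ graphSubs F) (h : D ≤ E) :
    D ∈ graphSubs F := by
  obtain ⟨P, φ, hφ, hg⟩ := hE
  exact ⟨P, φ, hφ, fun x hx => hg x (h hx)⟩

lemma graphSubs_conjS (g : S × S) {D : Subgroup (S × S)} (hD : D ∈ graphSubs F) :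
    conjS g D ∈ graphSubs F := by
  obtain ⟨P, φ, hφ, hg⟩ := hD
  obtain ⟨⟨a, ha⟩, ⟨b, hb⟩⟩ := g
  set P' : Subgroup Ω := P.map (MulAut.conj b).toMonoidHom with hP'
  have hP'S : P' ≤ S := by
    rintro _ ⟨x, hx, rfl⟩
    exact S.mul_mem (S.mul_mem hb ((F.le_of_mem hφ).1 hx)) (S.inv_mem hb)
  have h1 : ∀ x : P', Cfsg.conjHom P' b⁻¹ x ∈ P := by
    rintro ⟨_, x, hx, rfl⟩
    simpa [Cfsg.conjHom, mul_assoc] using hx
  have m1 := F.comp_mem (F.conj_mem hP'S (S.inv_mem hb)) hφ h1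
  have h2 : ∀ x : P', (φ.comp ((Cfsg.conjHom P' b⁻¹).codRestrict P h1)) x ∈ S :=
    fun x => (F.le_of_mem m1).2 x
  refine ⟨P', _, F.comp_mem m1 (F.conj_mem le_rfl ha) h2, fun x hx => ?_⟩
  obtain ⟨y, hy, rfl⟩ := hx
  obtain ⟨hyP, hval⟩ := hg y hy
  have hmem : b * (y.2 : Ω) * b⁻¹ ∈ P' := ⟨_, hyP, by simp⟩
  refine ⟨hmem, ?_⟩
  have h3 : (Cfsg.conjHom P' b⁻¹).codRestrict P h1 ⟨b * (y.2 : Ω) * b⁻¹, hmem⟩
      = ⟨(y.2 : Ω), hyP⟩ := by
    apply Subtype.ext
    simp [Cfsg.conjHom, mul_assoc]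
  show a * φ ((Cfsg.conjHom P' b⁻¹).codRestrict P h1 ⟨b * (y.2 : Ω) * b⁻¹, hmem⟩) * a⁻¹ =
    a * (y.1 : Ω) * a⁻¹
  rw [h3, hval]

/-- composing the first coordinate with a map of the system -/
lemma graphSubs_twist {D D' : Subgroup (S × S)} (hD : D ∈ graphSubs F) {P : Subgroup Ω}
    {φ : P →* Ω} (hφ : φ ∈ F.Hom P)
    (h : ∀ x' ∈ D', ∃ x ∈ D, x.2 = x'.2 ∧ ∃ hx : (x.1 : Ω) ∈ P, φ ⟨(x.1 : Ω), hx⟩ = (x'.1 : Ω)) :
    D' ∈ graphSubs F := by
  obtain ⟨Q, ψ, hψ, hg⟩ := hD
  set Q' : Subgroup Ω := (P.comap ψ).map Q.subtype with hQ'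
  have hQ'Q : Q' ≤ Q := Subgroup.map_subtype_le _
  have hQ'S : Q' ≤ S := hQ'Q.trans (F.le_of_mem hψ).1
  have h1 : ∀ x : Q', Cfsg.conjHom Q' 1 x ∈ Q := fun x => by
    simpa [Cfsg.conjHom] using hQ'Q x.2
  have m1 := F.comp_mem (F.conj_mem hQ'S (one_mem S)) hψ h1
  have h2 : ∀ x : Q', (ψ.comp ((Cfsg.conjHom Q' 1).codRestrict Q h1)) x ∈ P := by
    rintro ⟨_, x, hx, rfl⟩
    have : (Cfsg.conjHom Q' 1).codRestrict Q h1 ⟨(x : Ω), ⟨x, hx, rfl⟩⟩ = x :=
      Subtype.ext (by simp [Cfsg.conjHom])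
    show ψ _ ∈ P
    rw [show (⟨(Q.subtype x), ⟨x, hx, rfl⟩⟩ : Q') = ⟨(x : Ω), ⟨x, hx, rfl⟩⟩ from rfl, this]
    exact hx
  refine ⟨Q', _, F.comp_mem m1 hφ h2, fun x' hx' => ?_⟩
  obtain ⟨x, hx, hx2, hxP, hval⟩ := h x' hx'
  obtain ⟨hxQ, hψx⟩ := hg x hx
  rw [← hx2]
  have hmem : (x.2 : Ω) ∈ Q' := ⟨⟨_, hxQ⟩, by
    show ψ ⟨_, hxQ⟩ ∈ P
    rw [hψx]; exact hxP, rfl⟩
  refine ⟨hmem, ?_⟩
  rw [← hval]
  show φ _ = _
  congr 1
  apply Subtype.ext
  show ψ _ = (x.1 : Ω)
  rw [← hψx]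
  congr 1
  apply Subtype.ext
  simp [Cfsg.conjHom]

/-- the diagonal of a subgroup of `S` -/
def diag (Q : Subgroup S) : Subgroup (S × S) :=
  Q.map ((MonoidHom.id S).prod (MonoidHom.id S))

lemma diag_mem_graphSubs (Q : Subgroup S) : diag Q ∈ graphSubs F := by
  refine ⟨S, Cfsg.conjHom S 1, F.conj_mem le_rfl (one_mem S), ?_⟩
  rintro _ ⟨q, _, rfl⟩
  refine ⟨q.2, ?_⟩
  simp [Cfsg.conjHom]

lemma graphSubs_snd_eq_one {D : Subgroup (S × S)} (hD : D ∈ graphSubs F) {x : S × S}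
    (hx : x ∈ D) (h2 : x.2 = 1) : x.1 = 1 := by
  obtain ⟨P, φ, hφ, hg⟩ := hD
  obtain ⟨h, hval⟩ := hg x hx
  apply Subtype.ext
  rw [← hval]
  have : (⟨(x.2 : Ω), h⟩ : P) = 1 := Subtype.ext (by simp [h2])
  rw [this, map_one, OneMemClass.coe_one]

lemma graphSubs_fst_eq_one {D : Subgroup (S × S)} (hD : D ∈ graphSubs F) {x : S × S}
    (hx : x ∈ D) (h1 : x.1 = 1) : x.2 = 1 := by
  obtain ⟨P, φ, hφ, hg⟩ := hD
  obtain ⟨h, hval⟩ := hg x hx
  rw [h1, OneMemClass.coe_one, ← map_one φ] at hval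
  have := congrArg Subtype.val (F.injective_of_mem hφ hval)
  exact Subtype.ext this

/-- an action pulled back along a homomorphism -/
def Pull {H : Type w} [Group H] {G : Type v} [Group G] (_α : H →* G) (X : Type u) : Type u := X

instance instMulActionPull {H : Type w} [Group H] {G : Type v} [Group G] (α : H →* G)
    (X : Type u) [MulAction G X] : MulAction H (Pull α X) :=
  MulAction.compHom X α

instance instFinitePull {H : Type w} [Group H] {G : Type v} [Group G] (α : H →* G)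
    (X : Type u) [Finite X] : Finite (Pull α X) := inferInstanceAs (Finite X)

lemma card_fixSet_pull {H : Type w} [Group H] {G : Type v} [Group G] (α : H →* G)
    (X : Type u) [MulAction G X] (E : Subgroup H) :
    Nat.card (fixSet E (Pull α X)) = Nat.card (fixSet (E.map α) X) := by
  refine Nat.card_congr
    { toFun := fun x => ⟨(x.1 : X), ?_⟩
      invFun := fun x => ⟨(x.1 : X), ?_⟩
      left_inv := fun x => rfl
      right_inv := fun x => rfl }
  · rintro _ ⟨e, he, rfl⟩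
    exact mem_fixSet.1 x.2 e he
  · intro e he
    exact mem_fixSet.1 x.2 (α e) ⟨e, he, rfl⟩

/-- the group of permutations of the biset commuting with the right action -/
def rightCentralizer (c : Subgroup (S × S) → ℕ) : Subgroup (Equiv.Perm (GSet c)) :=
  Subgroup.centralizer (Set.range fun b : S => MulAction.toPerm ((1, b) : S × S))

/-- the left action as a homomorphism into that group -/
def leftHom (c : Subgroup (S × S) → ℕ) : S →* rightCentralizer c :=
  ((MulAction.toPermHom (S × S) (GSet c)).comp (MonoidHom.inl S S)).codRestrict _ <| by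
    intro a
    rw [rightCentralizer, Subgroup.mem_centralizer_iff]
    rintro _ ⟨b, rfl⟩
    ext x
    show ((1, b) : S × S) • ((a, 1) : S × S) • x = ((a, 1) : S × S) • ((1, b) : S × S) • x
    rw [smul_smul, smul_smul]
    congr 1
    simp

lemma stabilizer_gset_mem [Finite S] {c : Subgroup (S × S) → ℕ}
    (hc : ∀ D, c D ≠ 0 → D ∈ graphSubs F) (x : GSet c) :
    stabilizer (S × S) x ∈ graphSubs F := by
  have h0 : mark c (stabilizer (S × S) x) ≠ 0 := by
    rw [← card_fixSet_gset, Nat.card_ne_zero]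
    exact ⟨⟨⟨x, show stabilizer (S × S) x ≤ stabilizer (S × S) x from le_refl _⟩⟩, inferInstance⟩
  obtain ⟨D, hD, g, hg⟩ := mark_ne_zero h0
  exact graphSubs_mono F (graphSubs_conjS F g (hc D hD)) hg

/-- the second coordinates of a subgroup of `S × S` -/
def sndImage (D : Subgroup (S × S)) : Subgroup S := D.map (MonoidHom.snd S S)

/-- Realization from a weight function with stable marks. -/
theorem isRealizedBy_leftHom [Finite S] (c : Subgroup (S × S) → ℕ)
    (hc : ∀ D, c D ≠ 0 → D ∈ graphSubs F) (f : Subgroup S → ℕ)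
    (hf : ∀ E ∈ graphSubs F, mark c E = f (sndImage E))
    (hpos : ∀ E ∈ graphSubs F, 0 < mark c E) :
    F.IsRealizedBy (leftHom c) := by
  constructor
  · intro a a' haa
    obtain ⟨⟨x, -⟩⟩ : Nonempty (fixSet (diag (⊥ : Subgroup S)) (GSet c)) := by
      have h := hpos _ (diag_mem_graphSubs F ⊥)
      rw [← card_fixSet_gset] at h
      exact (Nat.card_pos_iff.1 h).1
    have h1 : ((a, 1) : S × S) • x = ((a', 1) : S × S) • x :=
      Equiv.ext_iff.1 (congrArg Subtype.val haa) x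
    have h2 : ((a'⁻¹ * a, 1) : S × S) ∈ stabilizer (S × S) x := by
      rw [mem_stabilizer_iff]
      have h3 := congrArg (fun y => ((a'⁻¹, 1) : S × S) • y) h1
      simpa [smul_smul, Prod.mk_mul_mk, Prod.mk_one_one] using h3
    have h4 : a'⁻¹ * a = 1 := graphSubs_snd_eq_one F (stabilizer_gset_mem F hc x) h2 rfl
    exact (inv_mul_eq_one.1 h4).symm
  intro P hP φ hφ
  constructor
  · intro hmem
    set P₀ : Subgroup S := P.subgroupOf S with hP₀
    let φ₀ : P₀ →* S := (φ.comp (Subgroup.subgroupOfEquivOfLe hP).toMonoidHom).codRestrict S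
      fun x => hφ _
    let α₁ : P₀ × S →* S × S := P₀.subtype.prodMap (MonoidHom.id S)
    let α₂ : P₀ × S →* S × S := φ₀.prodMap (MonoidHom.id S)
    have hm : ∀ E : Subgroup (P₀ × S),
        Nat.card (fixSet E (Pull α₁ (GSet c))) = Nat.card (fixSet E (Pull α₂ (GSet c))) := by
      intro E
      rw [card_fixSet_pull, card_fixSet_pull, card_fixSet_gset, card_fixSet_gset]
      have hsnd : sndImage (E.map α₁) = sndImage (E.map α₂) := by
        unfold sndImage
        rw [Subgroup.map_map, Subgroup.map_map]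
        congr 1
      have h12 : E.map α₁ ∈ graphSubs F → E.map α₂ ∈ graphSubs F := by
        intro h
        refine graphSubs_twist F h hmem ?_
        rintro _ ⟨e, he, rfl⟩
        exact ⟨α₁ e, ⟨e, he, rfl⟩, rfl, e.1.2, rfl⟩
      have h21 : E.map α₂ ∈ graphSubs F → E.map α₁ ∈ graphSubs F := by
        intro h
        obtain ⟨χ, hχ, hχval⟩ := F.inv_mem hmem
        refine graphSubs_twist F h hχ ?_
        rintro _ ⟨e, he, rfl⟩
        refine ⟨α₂ e, ⟨e, he, rfl⟩, rfl, ⟨⟨_, e.1.2⟩, rfl⟩, ?_⟩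
        exact hχval ⟨_, e.1.2⟩
      by_cases h : E.map α₁ ∈ graphSubs F
      · rw [hf _ h, hf _ (h12 h), hsnd]
      · have hz : ∀ D : Subgroup (S × S), D ∉ graphSubs F → mark c D = 0 := by
          intro D hD
          by_contra h0
          obtain ⟨D', hD', g, hg⟩ := mark_ne_zero h0
          exact hD (graphSubs_mono F (graphSubs_conjS F g (hc D' hD')) hg)
        rw [hz _ h, hz _ fun h' => h (h21 h')]
    obtain ⟨e, he⟩ := exists_equiv_of_marks hm
    let g₀ : Equiv.Perm (GSet c) := e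
    have hg₀ : g₀ ∈ rightCentralizer c := by
      rw [rightCentralizer, Subgroup.mem_centralizer_iff]
      rintro _ ⟨b, rfl⟩
      ext x
      show ((1, b) : S × S) • g₀ x = g₀ (((1, b) : S × S) • x)
      have h := he ((1, b) : P₀ × S) x
      have e1 : α₂ ((1, b) : P₀ × S) = ((1, b) : S × S) := by simp [α₂]
      have e2 : α₁ ((1, b) : P₀ × S) = ((1, b) : S × S) := by simp [α₁]
      show _ = e _
      have h' : g₀ (α₁ ((1, b) : P₀ × S) • x) = α₂ ((1, b) : P₀ × S) • g₀ x :=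
        h
      rw [e1, e2] at h'
      exact h'.symm
    refine ⟨⟨g₀, hg₀⟩, fun u => ?_⟩
    rw [eq_mul_inv_iff_mul_eq]
    apply Subtype.ext
    ext x
    show ((⟨φ u, hφ u⟩, 1) : S × S) • g₀ x = g₀ (((⟨u, hP u.2⟩, 1) : S × S) • x)
    exact (he ((⟨⟨(u : Ω), hP u.2⟩, u.2⟩, 1) : P₀ × S) x).symm
  · rintro ⟨g, hg⟩
    set P₀ : Subgroup S := P.subgroupOf S with hP₀
    obtain ⟨⟨x, hx⟩⟩ : Nonempty (fixSet (diag P₀) (GSet c)) := by
      have h := hpos _ (diag_mem_graphSubs F P₀)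
      rw [← card_fixSet_gset] at h
      exact (Nat.card_pos_iff.1 h).1
    obtain ⟨Q, ψ, hψ, hgraph⟩ := stabilizer_gset_mem F hc (g.1 x)
    have hfix : ∀ u : P, ∃ h : (u : Ω) ∈ Q, ψ ⟨(u : Ω), h⟩ = φ u := by
      intro u
      have hux := mem_fixSet.1 hx ((⟨(u : Ω), hP u.2⟩, ⟨(u : Ω), hP u.2⟩) : S × S)
        ⟨⟨(u : Ω), hP u.2⟩, u.2, rfl⟩
      have hu := hg u
      rw [eq_mul_inv_iff_mul_eq] at hu
      have hu' := Equiv.ext_iff.1 (congrArg Subtype.val hu)
        (((1, ⟨(u : Ω), hP u.2⟩) : S × S) • x)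
      have hcom := Subgroup.mem_centralizer_iff.1 g.2 _ ⟨⟨(u : Ω), hP u.2⟩, rfl⟩
      have hcom' := Equiv.ext_iff.1 hcom x
      have hstab : ((⟨φ u, hφ u⟩, ⟨(u : Ω), hP u.2⟩) : S × S) ∈ stabilizer (S × S) (g.1 x) := by
        rw [mem_stabilizer_iff]
        have l1 : ((⟨φ u, hφ u⟩, ⟨(u : Ω), hP u.2⟩) : S × S) • g.1 x =
            ((⟨φ u, hφ u⟩, 1) : S × S) • ((1, ⟨(u : Ω), hP u.2⟩) : S × S) • g.1 x := by
          simp [smul_smul, Prod.mk_mul_mk]
        have l2 : ((⟨(u : Ω), hP u.2⟩, 1) : S × S) • ((1, ⟨(u : Ω), hP u.2⟩) : S × S) • x = x := by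
          rw [smul_smul, Prod.mk_mul_mk, mul_one, one_mul]
          exact hux
        rw [l1]
        conv_rhs => rw [← l2]
        have l3 : ((1, ⟨(u : Ω), hP u.2⟩) : S × S) • g.1 x =
            g.1 (((1, ⟨(u : Ω), hP u.2⟩) : S × S) • x) := hcom'
        rw [l3]
        exact hu'
      exact hgraph _ hstab
    have hPQ : P ≤ Q := fun y hy => (hfix ⟨y, hy⟩).1
    have h1 : ∀ y : P, Cfsg.conjHom P 1 y ∈ Q := fun y => by
      simpa [Cfsg.conjHom] using hPQ y.2
    have heq : φ = ψ.comp ((Cfsg.conjHom P 1).codRestrict Q h1) := by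
      ext u
      obtain ⟨h, hv⟩ := hfix u
      rw [← hv]
      show ψ _ = ψ _
      congr 1
      apply Subtype.ext
      simp [Cfsg.conjHom]
    rw [heq]
    exact F.comp_mem (F.conj_mem hP (one_mem S)) hψ h1

/-- Park's biset: marks depend only on the order and are positive. -/
theorem exists_order_stable [Finite S] :
    ∃ (c : Subgroup (S × S) → ℕ) (f : ℕ → ℕ), (∀ D, c D ≠ 0 → D ∈ graphSubs F) ∧
      ∀ E ∈ graphSubs F, mark c E = f (Nat.card E) ∧ 0 < f (Nat.card E) := by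
  suffices h : ∀ j : ℕ, ∃ (c : Subgroup (S × S) → ℕ) (f : ℕ → ℕ),
      (∀ D, c D ≠ 0 → D ∈ graphSubs F) ∧ ∀ E ∈ graphSubs F,
        Nat.card (S × S) < Nat.card E + j → mark c E = f (Nat.card E) ∧ 0 < f (Nat.card E) by
    obtain ⟨c, f, hc, hf⟩ := h (Nat.card (S × S))
    refine ⟨c, f, hc, fun E hE => hf E hE ?_⟩
    have : 0 < Nat.card E := Nat.card_pos
    omega
  intro j
  induction j with
  | zero =>
    refine ⟨fun _ => 0, fun _ => 0, fun D h => absurd rfl h, fun E _ h => ?_⟩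
    have := Nat.le_of_dvd Nat.card_pos E.card_subgroup_dvd_card
    omega
  | succ j ih =>
    obtain ⟨c, f, hc, hf⟩ := ih
    set K := Nat.card (S × S) with hK
    obtain ⟨B, hB⟩ := (Set.finite_range (mark c)).bddAbove
    have hKpos : 0 < K := Nat.card_pos
    obtain ⟨d, hd, hbig, heq⟩ := exists_step (graphSubs F)
      (fun g D hD => graphSubs_conjS F g hD) (K - j) (fun D => K * c D)
      (fun _ => K * (B + 1)) (fun _ _ _ _ => rfl)
      (fun E _ _ => by
        rw [mark_smul]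
        exact Nat.mul_le_mul_left K (Nat.le_succ_of_le (hB ⟨E, rfl⟩)))
      (fun E _ _ => by
        rw [mark_smul, ← Nat.mul_sub]
        refine Dvd.dvd.mul_right ?_ _
        refine dvd_trans ?_ (Subgroup.normalizer (E : Set (S × S))).card_subgroup_dvd_card
        exact ⟨Nat.card E, (fixN_self_mul_card E).symm⟩)
    refine ⟨(fun D => K * c D) + d,
      fun n => if K < n + j then K * f n else K * (B + 1), ?_, ?_⟩
    · intro D hD
      by_cases h : c D = 0
      · exact (hd D (by simpa [h] using hD)).1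
      · exact hc D h
    · intro E hE hEj
      by_cases h : K < Nat.card E + j
      · simp only [if_pos h]
        rw [hbig E (by have : 0 < Nat.card E := Nat.card_pos; omega), mark_smul, (hf E hE h).1]
        exact ⟨rfl, Nat.mul_pos hKpos (hf E hE h).2⟩
      · simp only [if_neg h]
        exact ⟨heq E hE (by omega), Nat.mul_pos hKpos (Nat.succ_pos B)⟩

lemma card_sndImage {D : Subgroup (S × S)} (hD : D ∈ graphSubs F) :
    Nat.card (sndImage D) = Nat.card D := by
  refine (Nat.card_congr (Equiv.ofBijective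
    (fun x : D => (⟨(x : S × S).2, ⟨x.1, x.2, rfl⟩⟩ : sndImage D)) ⟨?_, ?_⟩)).symm
  · intro x y hxy
    have h : (x : S × S).2 = (y : S × S).2 := congrArg Subtype.val hxy
    have h2 : ((x : S × S)⁻¹ * (y : S × S)).2 = 1 := by simp [h]
    have h1 := graphSubs_snd_eq_one F hD (D.mul_mem (D.inv_mem x.2) y.2) h2
    apply Subtype.ext
    exact inv_mul_eq_one.1 (Prod.ext h1 h2)
  · rintro ⟨b, x, hx, rfl⟩
    exact ⟨⟨x, hx⟩, rfl⟩

/-- Park: every fusion system over a finite group is realized inside a finite group. -/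
theorem exists_isRealizedBy [Finite S] :
    ∃ (G : Type u) (_ : Group G) (_ : Finite G) (ι : S →* G), F.IsRealizedBy ι := by
  obtain ⟨c, f, hc, hf⟩ := exists_order_stable F
  refine ⟨rightCentralizer c, inferInstance, inferInstance, leftHom c,
    isRealizedBy_leftHom F c hc (fun Q => f (Nat.card Q)) (fun E hE => ?_) fun E hE => ?_⟩
  · rw [card_sndImage F hE]; exact (hf E hE).1
  · rw [(hf E hE).1]; exact (hf E hE).2

end CfsgLib.Fusion.Realize
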