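import Cfsg.Agent.Lib.Fusion.Saturation
import Cfsg.Agent.Lib.Fusion.Descent
import Cfsg.Agent.Lib.Fusion.Realize

/-!
# Characteristic bisets

For a saturated system there is a left stable `S`-`S`-biset with stabilizers graphs of maps of the system
and number of right orbits prime to `p`.
-/

set_option autoImplicit false

namespace CfsgLib.Fusion.CharBiset

open Cfsg Cfsg.FusionSystem CfsgLib.Fusion CfsgLib.Marks CfsgLib.Fusion.Realize MulAction

universe u

variable {Ω : Type u} [Group Ω] {S : Subgroup Ω} {F : Cfsg.FusionSystem S} {p : ℕ}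

theorem mark_eq_zero [Finite S] {c : Subgroup (S × S) → ℕ} (hc : ∀ D, c D ≠ 0 → D ∈ graphSubs F)
    {E : Subgroup (S × S)} (hE : E ∉ graphSubs F) : mark c E = 0 := by
  by_contra h
  obtain ⟨D, hD, g, hg⟩ := mark_ne_zero h
  exact hE (graphSubs_mono F (graphSubs_conjS F g (hc D hD)) hg)

theorem sndImage_conjS (g : S × S) (E : Subgroup (S × S)) :
    sndImage (conjS g E) = conjS g.2 (sndImage E) := by
  unfold sndImage conjS
  rw [Subgroup.map_map, Subgroup.map_map]
  rfl

theorem card_graph_le [Finite S] {E : Subgroup (S × S)} (hE : E ∈ graphSubs F) :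
    Nat.card E ≤ Nat.card S := by
  rw [← card_sndImage F hE]
  exact (Subgroup.card_le_of_le (le_top : sndImage E ≤ (⊤ : Subgroup S))).trans_eq Subgroup.card_top

/-! ### Automorphism graphs -/

/-- The graph of an automorphism of `S`. -/
def autGraph (α : MulAut S) : Subgroup (S × S) :=
  (⊤ : Subgroup S).map (α.toMonoidHom.prod (MonoidHom.id S))

theorem mem_autGraph {α : MulAut S} {x : S × S} : x ∈ autGraph α ↔ α x.2 = x.1 := by
  constructor
  · rintro ⟨y, -, rfl⟩
    rfl
  · intro h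
    exact ⟨x.2, trivial, Prod.ext h rfl⟩

theorem autGraph_mem {α : MulAut S} (hα : α ∈ F.autGroup S) : autGraph α ∈ graphSubs F :=
  ⟨S, _, (mem_autGroup_iff_hom le_rfl).1 hα, fun x hx =>
    ⟨x.2.2, congrArg Subtype.val (mem_autGraph.1 hx)⟩⟩

theorem card_autGraph (α : MulAut S) : Nat.card (autGraph α) = Nat.card S := by
  rw [autGraph, Subgroup.card_map_of_injective (fun x y h => congrArg Prod.snd h), Subgroup.card_top]

/-- Full graphs are graphs of automorphisms in the system. -/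
theorem exists_autGraph [Finite S] {E : Subgroup (S × S)} (hE : E ∈ graphSubs F)
    (h : Nat.card E = Nat.card S) : ∃ α ∈ F.autGroup S, E = autGraph α := by
  obtain ⟨P, φ, hφ, hg⟩ := id hE
  have hsnd : sndImage E = ⊤ := Subgroup.eq_top_of_card_eq _ (by rw [card_sndImage F hE, h])
  have hSP : S ≤ P := fun x hx => by
    obtain ⟨e, he, hee⟩ : (⟨x, hx⟩ : S) ∈ sndImage E := hsnd ▸ trivial
    obtain ⟨h', -⟩ := hg e he
    rw [show x = ((e.2 : S) : Ω) from congrArg Subtype.val hee.symm]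
    exact h'
  obtain rfl : P = S := le_antisymm (dom_le hφ) hSP
  obtain ⟨α, hα, hαφ⟩ := exists_aut hφ (range_eq_of_le (hom_inj hφ) (map_mem hφ))
  refine ⟨α, hα, Subgroup.eq_of_le_of_card_ge (fun x hx => ?_) (by rw [card_autGraph, h])⟩
  obtain ⟨h', hv⟩ := hg x hx
  exact mem_autGraph.2 (Subtype.ext ((hαφ x.2).trans hv))

theorem fixN_autGraph [Finite S] (α : MulAut S) :
    fixN (autGraph α) (autGraph α) = Nat.card (Subgroup.center S) := by
  have h := fixN_self_mul_card (autGraph α)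
  have hN : ∀ y : S × S, y ∈ Subgroup.normalizer (autGraph α : Set (S × S)) ↔
      (α y.2)⁻¹ * y.1 ∈ Subgroup.center S := by
    intro y
    rw [Subgroup.mem_normalizer_iff, Subgroup.mem_center_iff]
    constructor
    · intro hy w
      obtain ⟨x, rfl⟩ := α.surjective w
      have h1 : α (y.2 * x * y.2⁻¹) = y.1 * α x * y.1⁻¹ :=
        mem_autGraph.1 ((hy (α x, x)).1 (mem_autGraph.2 rfl))
      rw [map_mul, map_mul, map_inv, eq_mul_inv_iff_mul_eq] at h1
      calc α x * ((α y.2)⁻¹ * y.1) = (α y.2)⁻¹ * (α y.2 * α x * (α y.2)⁻¹ * y.1) := by simp [mul_assoc]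
        _ = (α y.2)⁻¹ * y.1 * α x := by rw [h1, mul_assoc]
    · intro hz x
      have hkey : ∀ w : S, α y.2 * w * (α y.2)⁻¹ = y.1 * w * y.1⁻¹ := by
        intro w
        rw [eq_mul_inv_iff_mul_eq]
        calc α y.2 * w * (α y.2)⁻¹ * y.1 = α y.2 * (w * ((α y.2)⁻¹ * y.1)) := by simp [mul_assoc]
          _ = y.1 * w := by rw [hz w]; simp [mul_assoc]
      rw [mem_autGraph, mem_autGraph]
      show α x.2 = x.1 ↔ α (y.2 * x.2 * y.2⁻¹) = y.1 * x.1 * y.1⁻¹
      rw [map_mul, map_mul, map_inv, hkey, mul_left_inj, mul_right_inj]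
  let e : Subgroup.normalizer (autGraph α : Set (S × S)) ≃ S × Subgroup.center S :=
    { toFun := fun y => ((y : S × S).2, ⟨_, (hN y).1 y.2⟩)
      invFun := fun bz => ⟨(α bz.1 * bz.2, bz.1), (hN _).2 (by simp)⟩
      left_inv := fun y => Subtype.ext (Prod.ext (by simp) rfl)
      right_inv := fun bz => Prod.ext rfl (Subtype.ext (by simp)) }
  rw [Nat.card_congr e, Nat.card_prod, card_autGraph, mul_comm (Nat.card S)] at h
  exact Nat.eq_of_mul_eq_mul_right Nat.card_pos h

/-! ### The congruence -/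

/-- Marks depend only on the second image, for graphs of order above `k`. -/
def StableAbove (F : Cfsg.FusionSystem S) (c : Subgroup (S × S) → ℕ) (k : ℕ) : Prop :=
  ∀ D ∈ graphSubs F, ∀ D' ∈ graphSubs F, k < Nat.card D → sndImage D = sndImage D' →
    mark c D = mark c D'

/-- All marks over `P` are congruent to a common number. -/
theorem exists_common_residue [Finite S] [Fact p.Prime] (hS : IsPGroup p S) (hF : F.IsSaturated p)
    {c : Subgroup (S × S) → ℕ} (hc : ∀ D, c D ≠ 0 → D ∈ graphSubs F) {k : ℕ}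
    (hst : StableAbove F c k) (P : Subgroup S) (hP : Nat.card P = k) :
    ∃ m : ℕ, ∀ E ∈ graphSubs F, sndImage E = P →
      ((fixN E E : ℕ) : ℤ) ∣ (m : ℤ) - mark c E := by
  set P' : Subgroup Ω := P.map S.subtype with hP'
  have hP'S : P' ≤ S := Subgroup.map_subtype_le _
  obtain ⟨Q, hPQ, hQ⟩ := exists_isFullyNormalized F hP'S
  obtain ⟨e, he, ψ, hψ, -, hψe⟩ := exists_normalizer_map hS hF hQ hPQ
  let ι : P →* P' := (S.subtype.comp P.subtype).codRestrict P' fun x => ⟨x, x.2, rfl⟩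
  set E₀ : Subgroup (S × S) := (((Subgroup.inclusion hQ.1).comp (e.toMonoidHom.comp ι)).prod
    P.subtype).range with hE₀
  refine ⟨mark c E₀, fun E hE hEP => ?_⟩
  obtain ⟨R₀, φ, hφ, hg⟩ := id hE
  have hP'R : P' ≤ R₀ := by
    rintro _ ⟨x, hx, rfl⟩
    obtain ⟨y, hy, rfl⟩ : x ∈ sndImage E := hEP.symm ▸ hx
    exact (hg y hy).1
  obtain ⟨R, f, hf, hfx⟩ : ∃ (R : Subgroup Ω) (f : P' ≃* R), IsFIso F f ∧
      ∀ x : P', (f x : Ω) = φ ⟨x, hP'R x.2⟩ :=
    ⟨_, exists_iso (restrict_mem hφ hP'R) rfl⟩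
  have hRS : R ≤ S := hf.le_right
  have hEf : ∀ y ∈ E, ∀ h : ((y : S × S).2 : Ω) ∈ P', (f ⟨_, h⟩ : Ω) = (y.1 : Ω) := by
    intro y hy h
    obtain ⟨h', hv⟩ := hg y hy
    rw [hfx]
    exact hv
  have hlift : ∀ x : P', ∃ y ∈ E, ((y : S × S).2 : Ω) = x := by
    rintro ⟨_, z, hz, rfl⟩
    obtain ⟨y, hy, hyz⟩ : z ∈ sndImage E := hEP.symm ▸ hz
    exact ⟨y, hy, congrArg Subtype.val hyz⟩
  have hsndmem : ∀ y ∈ E, ((y : S × S).2 : Ω) ∈ P' := fun y hy =>
    ⟨y.2, hEP ▸ (Subgroup.mem_map_of_mem _ hy : (MonoidHom.snd S S) y ∈ sndImage E), rfl⟩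
  set N := Subgroup.normalizer (E : Set (S × S)) with hN
  have hEN : E ≤ N := Subgroup.le_normalizer
  have hNb : ∀ n ∈ N, ((n : S × S).2 : Ω) ∈ Subgroup.normalizer (P' : Set Ω) := by
    intro n hn
    have key : ∀ n ∈ N, ∀ x ∈ P', ((n : S × S).2 : Ω) * x * ((n : S × S).2 : Ω)⁻¹ ∈ P' := by
      intro n hn x hx
      obtain ⟨y, hy, hyx⟩ := hlift ⟨x, hx⟩
      have h1 := hsndmem _ ((Subgroup.mem_normalizer_iff.1 hn y).1 hy)
      rw [show x = ((y.2 : S) : Ω) from hyx.symm]
      exact h1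
    refine Subgroup.mem_normalizer_iff.2 fun x => ⟨key n hn x, fun h => ?_⟩
    simpa [mul_assoc] using key n⁻¹ (N.inv_mem hn) _ h
  have hfconj : ∀ n (hn : n ∈ N) (x : P'),
      (f (conjAut P' ((n : S × S).2 : Ω) (hNb n hn) x) : Ω) =
        ((n : S × S).1 : Ω) * f x * ((n : S × S).1 : Ω)⁻¹ := by
    intro n hn x
    obtain ⟨y, hy, hyx⟩ := hlift x
    have h1 := hEf _ ((Subgroup.mem_normalizer_iff.1 hn y).1 hy) (hsndmem _ ((Subgroup.mem_normalizer_iff.1 hn y).1 hy))
    have h2 := hEf y hy (hsndmem y hy)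
    have e1 : (⟨((y : S × S).2 : Ω), hsndmem y hy⟩ : P') = x := Subtype.ext hyx
    rw [e1] at h2
    have e2 : conjAut P' ((n : S × S).2 : Ω) (hNb n hn) x =
        ⟨((n * y * n⁻¹).2 : Ω), hsndmem _ ((Subgroup.mem_normalizer_iff.1 hn y).1 hy)⟩ :=
      Subtype.ext (by rw [conjAut_apply, ← hyx]; rfl)
    rw [e2, h1, h2]
    rfl
  have hNa : ∀ n ∈ N, ((n : S × S).1 : Ω) ∈ Subgroup.normalizer (R : Set Ω) := by
    intro n hn
    refine mem_normalizer_of_forall (α := MulAut.congr f (conjAut P' _ (hNb n hn))) fun z => ?_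
    rw [congr_apply, hfconj n hn, MulEquiv.apply_symm_apply]
  set X : Subgroup Ω := (N.map (MonoidHom.fst S S)).map S.subtype with hX
  have hXR : R ≤ X := by
    intro z hz
    obtain ⟨y, hy, hyx⟩ := hlift (f.symm ⟨z, hz⟩)
    refine ⟨y.1, ⟨y, hEN hy, rfl⟩, ?_⟩
    have h2 := hEf y hy (hsndmem y hy)
    rw [show (⟨((y : S × S).2 : Ω), hsndmem y hy⟩ : P') = f.symm ⟨z, hz⟩ from Subtype.ext hyx,
      MulEquiv.apply_symm_apply] at h2
    exact h2.symm
  have hXN : X ≤ normalizerIn S R := by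
    rintro _ ⟨_, ⟨n, hn, rfl⟩, rfl⟩
    exact ⟨n.1.2, hNa n hn⟩
  obtain ⟨χ, hχ, -, hχg⟩ := (hf.symm.trans he).exists_extension
    (isReceptive_of_isFullyNormalized hS hF hQ) hXR hXN fun a ha => by
      obtain ⟨_, ⟨n, hn, rfl⟩, rfl⟩ := ha
      have h1 : MulAut.congr (f.symm.trans e) (conjAut R ((n.1 : S) : Ω) (hNa n hn)) =
          MulAut.congr e (conjAut P' ((n.2 : S) : Ω) (hNb n hn)) := by
        refine MulEquiv.ext fun z => ?_
        show e (f.symm (conjAut R ((n.1 : S) : Ω) (hNa n hn) (f (e.symm z)))) =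
          e (conjAut P' ((n.2 : S) : Ω) (hNb n hn) (e.symm z))
        refine congrArg e (f.symm_apply_eq.2 (Subtype.ext ?_))
        rw [hfconj n hn]
        rfl
      show MulAut.congr (f.symm.trans e) (conjAut R ((n.1 : S) : Ω) (hNa n hn)) ∈ autInducedBy S Q
      rw [h1]
      exact autInducedBy_mono le_rfl Q (by
        rw [congr_conjAut_eq_of_extends (ψ := ψ) (le_normalizerIn hP'S) hψe ⟨n.2.2, hNb n hn⟩ (hNb n hn)]
        exact conjAut_mem_autInducedBy (P := Q) (map_mem hψ _) _)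
  let fstX : N →* X := ((S.subtype.comp (MonoidHom.fst S S)).comp N.subtype).codRestrict X
    fun n => ⟨_, ⟨n, n.2, rfl⟩, rfl⟩
  let θ : N →* S × S :=
    (((χ.codRestrict S (map_mem hχ)).comp fstX)).prod ((MonoidHom.snd S S).comp N.subtype)
  have hθinj : Function.Injective θ := by
    intro a b hab
    have h1 : χ (fstX a) = χ (fstX b) := congrArg (fun z : S × S => (z.1 : Ω)) hab
    have h1' : fstX a = fstX b := hom_inj hχ h1
    have h2 : (((a : S × S).1 : S) : Ω) = (((b : S × S).1 : S) : Ω) := congrArg (fun z : X => (z : Ω)) h1'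
    exact Subtype.ext (Prod.ext (Subtype.ext h2) (congrArg Prod.snd hab :))
  have hθE : (E.subgroupOf N).map θ = E₀ := by
    have hE₀mem : ∀ z, z ∈ E₀ ↔ ∃ x : P', (e x : Ω) = ((z : S × S).1 : Ω) ∧ (x : Ω) = ((z : S × S).2 : Ω) := by
      intro z
      constructor
      · rintro ⟨x, rfl⟩
        exact ⟨ι x, rfl, rfl⟩
      · rintro ⟨⟨_, x, hx, rfl⟩, h1, h2⟩
        exact ⟨⟨x, hx⟩, Prod.ext (Subtype.ext h1) (Subtype.ext h2)⟩
    ext z
    rw [hE₀mem]
    constructor
    · rintro ⟨n, hn, rfl⟩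
      refine ⟨⟨_, hsndmem _ hn⟩, ?_, rfl⟩
      have h2 := hEf _ hn (hsndmem _ hn)
      have h3 := hχg (f ⟨_, hsndmem _ hn⟩)
      rw [MulEquiv.trans_apply, MulEquiv.symm_apply_apply] at h3
      show _ = χ (fstX n)
      rw [← h3]
      exact congrArg χ (Subtype.ext h2)
    · rintro ⟨x, h1, h2⟩
      obtain ⟨y, hy, hyx⟩ := hlift x
      refine ⟨⟨y, hEN hy⟩, hy, Prod.ext (Subtype.ext ?_) (Subtype.ext (hyx.trans h2))⟩
      show χ (fstX ⟨y, hEN hy⟩) = _
      have h4 := hEf y hy (hsndmem y hy)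
      rw [show (⟨((y : S × S).2 : Ω), hsndmem y hy⟩ : P') = x from Subtype.ext hyx] at h4
      have h3 := hχg (f x)
      rw [MulEquiv.trans_apply, MulEquiv.symm_apply_apply, h1] at h3
      rw [← h3]
      exact congrArg χ (Subtype.ext h4.symm)
  have hθN : θ.range ≤ Subgroup.normalizer (E₀ : Set (S × S)) := by
    rw [← hθE]
    refine le_trans ?_ (Subgroup.le_normalizer_map θ)
    have : (E.subgroupOf N).Normal := Subgroup.normal_in_normalizer
    rw [Subgroup.normalizer_eq_top, ← MonoidHom.range_eq_map]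
  have hfix : ∀ n : N, (n : S × S) ∉ E →
      Nat.card (fixSet (E ⊔ Subgroup.zpowers (n : S × S)) (GSet c)) =
        Nat.card (fixSet (E₀ ⊔ Subgroup.zpowers (θ n)) (GSet c)) := by
    intro n hn
    rw [card_fixSet_gset, card_fixSet_gset]
    set D := E ⊔ Subgroup.zpowers (n : S × S) with hD
    set D' := E₀ ⊔ Subgroup.zpowers (θ n) with hD'
    have hDN : D ≤ N := sup_le hEN (Subgroup.zpowers_le.2 n.2)
    have hD'eq : D' = (D.subgroupOf N).map θ := by
      rw [hD', ← hθE, ← MonoidHom.map_zpowers, ← Subgroup.map_sup, hD,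
        Subgroup.subgroupOf_sup hEN (Subgroup.zpowers_le.2 n.2)]
      congr 2
      refine Subgroup.map_injective N.subtype_injective ?_
      rw [MonoidHom.map_zpowers, Subgroup.map_subgroupOf_eq_of_le (Subgroup.zpowers_le.2 n.2)]
      rfl
    have h12 : D ∈ graphSubs F → D' ∈ graphSubs F := fun h => by
      refine graphSubs_twist F h hχ ?_
      rw [hD'eq]
      rintro _ ⟨m, hm, rfl⟩
      exact ⟨m, hm, rfl, (fstX m).2, rfl⟩
    have h21 : D' ∈ graphSubs F → D ∈ graphSubs F := fun h => by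
      obtain ⟨χ', hχ', hinv⟩ := F.inv_mem hχ
      refine graphSubs_twist F h hχ' fun m hm => ?_
      refine ⟨θ ⟨m, hDN hm⟩, hD'eq ▸ ⟨⟨m, hDN hm⟩, hm, rfl⟩, rfl,
        ⟨fstX ⟨m, hDN hm⟩, rfl⟩, hinv _⟩
    by_cases h : D ∈ graphSubs F
    · refine hst D h D' (h12 h) ?_ ?_
      · have hlt : E < D := lt_of_le_of_ne le_sup_left fun heq =>
          hn (heq ▸ Subgroup.mem_sup_right (Subgroup.mem_zpowers _))
        rw [← hP, ← hEP, card_sndImage F hE]
        exact lt_of_not_ge fun hge => hlt.ne (Subgroup.eq_of_le_of_card_ge hlt.le hge)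
      · rw [hD'eq]
        show _ = Subgroup.map _ (Subgroup.map θ _)
        rw [Subgroup.map_map, sndImage]
        conv_lhs => rw [← Subgroup.map_subgroupOf_eq_of_le hDN]
        rw [Subgroup.map_map]
        rfl
    · rw [mark_eq_zero hc h, mark_eq_zero hc fun h' => h (h21 h')]
  have hcong := fix_congr (X := GSet c) E E₀ N hEN le_rfl θ hθinj hθN hθE hfix
  rw [card_fixSet_gset, card_fixSet_gset, hN, ← fixN_self_mul_card E, Nat.cast_mul,
    mul_comm ((fixN E E : ℤ))] at hcong
  rw [← neg_sub, dvd_neg]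
  exact Int.dvd_of_mul_dvd_mul_left (by exact_mod_cast (Nat.card_pos (α := E)).ne') hcong

/-- Left stable marks with the marks of the full graphs equal to `|Z(S)|`. -/
theorem exists_left_stable [Finite S] [Fact p.Prime] (hS : IsPGroup p S) (hF : F.IsSaturated p) :
    ∃ (c : Subgroup (S × S) → ℕ) (f : Subgroup S → ℕ), (∀ D, c D ≠ 0 → D ∈ graphSubs F) ∧
      (∀ E ∈ graphSubs F, mark c E = f (sndImage E) ∧ 0 < f (sndImage E)) ∧
      ∀ E ∈ graphSubs F, Nat.card E = Nat.card S → mark c E = Nat.card (Subgroup.center S) := by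
  suffices h : ∀ j : ℕ, ∃ (c : Subgroup (S × S) → ℕ) (f : Subgroup S → ℕ),
      (∀ D, c D ≠ 0 → D ∈ graphSubs F) ∧
      (∀ E ∈ graphSubs F, Nat.card S ≤ Nat.card E + j → mark c E = f (sndImage E) ∧ 0 < f (sndImage E)) ∧
      ∀ E ∈ graphSubs F, Nat.card E = Nat.card S → mark c E = Nat.card (Subgroup.center S) by
    obtain ⟨c, f, hc, hf, htop⟩ := h (Nat.card S)
    exact ⟨c, f, hc, fun E hE => hf E hE (Nat.le_add_left _ _), htop⟩
  intro j
  induction j with
  | zero =>
    have hfix : ∀ E ∈ graphSubs F, Nat.card E = Nat.card S →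
        fixN E E = Nat.card (Subgroup.center S) := fun E hE hk => by
      obtain ⟨α, -, rfl⟩ := exists_autGraph hE hk
      exact fixN_autGraph α
    obtain ⟨d, hd, -, heq⟩ := exists_step (graphSubs F) (fun g D hD => graphSubs_conjS F g hD)
      (Nat.card S) 0 (fun _ => Nat.card (Subgroup.center S)) (fun _ _ _ _ => rfl)
      (fun E _ _ => by rw [mark_zero]; exact Nat.zero_le _)
      (fun E hE hk => by rw [mark_zero, hfix E hE hk, Nat.sub_zero])
    refine ⟨0 + d, fun _ => Nat.card (Subgroup.center S), fun D hD => ?_, fun E hE hk => ?_, heq⟩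
    · exact (hd D (by simpa using hD)).1
    · exact ⟨heq E hE (le_antisymm (card_graph_le hE) (by simpa using hk)), Nat.card_pos⟩
  | succ j ih =>
    obtain ⟨c, f, hc, hf, htop⟩ := ih
    by_cases hj : Nat.card S ≤ j + 1
    · by_cases hj' : Nat.card S ≤ j
      · exact ⟨c, f, hc, fun E hE _ => hf E hE (by omega), htop⟩
      · refine ⟨c, f, hc, fun E hE _ => hf E hE ?_, htop⟩
        have : 0 < Nat.card E := Nat.card_pos
        omega
    set k := Nat.card S - (j + 1) with hk
    have hst : StableAbove F c k := fun D hD D' hD' hlt heq => by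
      rw [(hf D hD (by omega)).1, (hf D' hD' (by
        rw [← card_sndImage F hD', ← heq, card_sndImage F hD]; omega)).1, heq]
    have hres : ∀ P : Subgroup S, ∃ m : ℕ, Nat.card P = k → ∀ E ∈ graphSubs F, sndImage E = P →
        ((fixN E E : ℕ) : ℤ) ∣ (m : ℤ) - mark c E := fun P => by
      by_cases hP : Nat.card P = k
      · obtain ⟨m, hm⟩ := exists_common_residue hS hF hc hst P hP
        exact ⟨m, fun _ => hm⟩
      · exact ⟨0, fun h => absurd h hP⟩
    choose m hm using hres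
    set K := Nat.card (S × S) with hK
    obtain ⟨B, hB⟩ := (Set.finite_range (mark c)).bddAbove
    let val : Subgroup S → ℕ := fun P => m (rep P) + K * (B + 1)
    have hKpos : 0 < K := Nat.card_pos
    have hval : ∀ E : Subgroup (S × S), mark c E < val (sndImage E) := fun E =>
      lt_of_lt_of_le (Nat.lt_succ_of_le (hB ⟨E, rfl⟩))
        ((Nat.le_mul_of_pos_left _ hKpos).trans (Nat.le_add_left _ _))
    obtain ⟨d, hd, hbig, heq⟩ := exists_step (graphSubs F) (fun g D hD => graphSubs_conjS F g hD) k c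
      (fun E => val (sndImage E))
      (fun g E _ _ => by show m _ + _ = m _ + _; rw [sndImage_conjS, rep_conjS])
      (fun E _ _ => (hval E).le) fun E hE hEk => by
        obtain ⟨b, hb⟩ := exists_conjS_rep (sndImage E)
        set E' := conjS ((1, b⁻¹) : S × S) E with hE'
        have hsnd : sndImage E' = rep (sndImage E) := by
          rw [hE', sndImage_conjS]
          show conjS b⁻¹ (sndImage E) = _
          conv_lhs => rw [hb]
          rw [conjS_conjS, inv_mul_cancel, conjS_one]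
        have h1 := hm (rep (sndImage E)) (by
          rw [← hsnd, card_sndImage F (graphSubs_conjS F _ hE), card_conjS, hEk])
          E' (graphSubs_conjS F _ hE) hsnd
        rw [hE', fixN_self_conjS, mark_conjS] at h1
        have h2 : fixN E E ∣ K := dvd_trans ⟨Nat.card E, (fixN_self_mul_card E).symm⟩
          (Subgroup.normalizer (E : Set (S × S))).card_subgroup_dvd_card
        rw [← Int.natCast_dvd_natCast, Nat.cast_sub (hval E).le]
        show ((fixN E E : ℕ) : ℤ) ∣ ((m (rep (sndImage E)) + K * (B + 1) : ℕ) : ℤ) - mark c E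
        push_cast
        rw [add_sub_right_comm]
        exact dvd_add h1 (dvd_mul_of_dvd_left (Int.natCast_dvd_natCast.2 h2) _)
    refine ⟨c + d, fun P => if k < Nat.card P then f P else val P, ?_, ?_, ?_⟩
    · intro D hD
      by_cases h : c D = 0
      · exact (hd D (by simpa [h] using hD)).1
      · exact hc D h
    · intro E hE hEj
      by_cases h : k < Nat.card E
      · simp only [card_sndImage F hE, if_pos h]
        rw [hbig E h]
        exact hf E hE (by omega)
      · simp only [card_sndImage F hE, if_neg h]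
        exact ⟨heq E hE (by omega), lt_of_le_of_lt (Nat.zero_le _) (hval E)⟩
    · intro E hE hEk
      rw [hbig E (by omega)]
      exact htop E hE hEk

end CfsgLib.Fusion.CharBiset
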