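import Cfsg.Agent.Lib.Fusion.TransportComp

/-!
Constrained systems pulled back along an injective homomorphism.
-/

set_option autoImplicit false
open Cfsg Cfsg.FusionSystem CfsgLib.Fusion

namespace CfsgLib.Fusion.Transport

variable {A B : Type*} [Group A] [Group B] {f : A →* B} {S : Subgroup A} {S' : Subgroup B}
  {F : Cfsg.FusionSystem S} {F' : Cfsg.FusionSystem S'}

theorem IsPush.isNormal_left (h : IsPush f F F') {Q : Subgroup A} (hQ' : F'.IsNormal (Q.map f)) :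
    F.IsNormal Q := by
  obtain ⟨hQ, hext⟩ := hQ'
  refine ⟨(map_le_map h.inj).1 (hQ.trans h.map_eq.ge), fun P φ hφ => ?_⟩
  obtain ⟨φ', hφ', hr⟩ := h.exists_right hφ
  obtain ⟨ψ', hψ', hψP, hψQ⟩ := hext _ φ' hφ'
  obtain ⟨ψ, hψ, hr'⟩ := h.exists_left hψ'
  have hle : P ⊔ Q ≤ (P.map f ⊔ Q.map f).comap f := by
    rw [← Subgroup.map_sup]; exact Subgroup.le_comap_map f _
  have key : ∀ (z : ↥(P ⊔ Q)) (hz : f z ∈ P.map f ⊔ Q.map f),
      ψ' ⟨f z, hz⟩ = f (ψ (Subgroup.inclusion hle z)) := fun z hz =>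
    hr'.2 (Subgroup.inclusion hle z) hz
  refine ⟨ψ.comp (Subgroup.inclusion hle), restrict_mem hψ hle, fun x => h.inj ?_, ?_⟩
  · exact (key (Subgroup.inclusion le_sup_left x) (Subgroup.mem_sup_left ⟨x, x.2, rfl⟩)).symm.trans
      ((hψP ⟨f x, x, x.2, rfl⟩).trans (hr.2 x ⟨x, x.2, rfl⟩))
  · ext y
    have hQle : Q.map f ≤ P.map f ⊔ Q.map f := le_sup_right
    constructor
    · rintro ⟨z, hz, rfl⟩
      refine (mem_map_inj h.inj).1 ?_
      show f (ψ (Subgroup.inclusion hle z)) ∈ Q.map f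
      have hz' : f z ∈ Q.map f := ⟨z, hz, rfl⟩
      rw [← key z (hQle hz')]
      exact hψQ.le ⟨⟨f z, hQle hz'⟩, hz', rfl⟩
    · intro hy
      obtain ⟨⟨w, hw⟩, hwQ, hwy⟩ := hψQ.ge ⟨y, hy, rfl⟩
      obtain ⟨z, hz, rfl⟩ : w ∈ Q.map f := hwQ
      exact ⟨⟨z, Subgroup.mem_sup_right hz⟩, hz,
        h.inj ((key ⟨z, Subgroup.mem_sup_right hz⟩ hw).symm.trans hwy)⟩

theorem IsPush.isConj_right (h : IsPush f F F') {P Q : Subgroup A} (hPQ : F.IsConj P Q) :
    F'.IsConj (P.map f) (Q.map f) := by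
  obtain ⟨φ, hφ, rfl⟩ := hPQ
  obtain ⟨φ', hφ', hr⟩ := h.exists_right hφ
  exact ⟨φ', hφ', (rel_range hr).symm⟩

theorem IsPush.isCentric_left (h : IsPush f F F') {Q : Subgroup A} (hQ' : F'.IsCentric (Q.map f)) :
    F.IsCentric Q := by
  refine ⟨(map_le_map h.inj).1 (hQ'.1.trans h.map_eq.ge), fun R hR => (map_le_map h.inj).1 ?_⟩
  rw [map_centralizerIn h.inj, h.map_eq]
  exact hQ'.2 _ (h.isConj_right hR)

theorem IsPush.isConstrained_left (h : IsPush f F F') [Finite S'] {p : ℕ} [Fact p.Prime]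
    (hS' : IsPGroup p S') (hF : F'.IsConstrained p) : F.IsConstrained p := by
  obtain ⟨hsat, Q', hQ', hQc⟩ := hF
  have hQe := map_comap_of_le h.map_eq hQ'.1
  exact ⟨h.isSaturated_left hS' hsat, Q'.comap f, h.isNormal_left (by rwa [hQe]),
    h.isCentric_left (by rwa [hQe])⟩

end CfsgLib.Fusion.Transport
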