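import Cfsg.Agent.Lib.Fusion.CharPType
import Cfsg.Agent.Lib.Fusion.CentralLift.CoreSystems
import Cfsg.Agent.Lib.Fusion.CentralLift.Relative
import Cfsg.Agent.Lib.Fusion.ResidualConstrained
import Cfsg.Agent.Lib.Fusion.TransportConstrained
import Cfsg.Agent.Lib.Fusion.ConjugateSubnormal
import Cfsg.Agent.Lib.Transfer.PGroup
import Cfsg.Agent.Lib.CharP.Basic

/-!
Local systems of a system all of whose centralizer systems of subgroups of order `p` are
constrained.
-/

set_option autoImplicit false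
open Cfsg Cfsg.FusionSystem CfsgLib.Fusion CfsgLib.FusionQuot

namespace CfsgLib.Fusion.CharPType

universe u

variable {Ω : Type u} [Group Ω] {S T : Subgroup Ω} {F : Cfsg.FusionSystem S}
  {E : Cfsg.FusionSystem T} {p : ℕ}

/-- A system with a normal subgroup whose centralizer system is constrained is constrained. -/
theorem isConstrained_of_centralizer [Finite S] [Fact p.Prime] (hS : IsPGroup p S)
    (hF : F.IsSaturated p) {U : Subgroup Ω} (hU : F.IsNormal U)
    (hc : (centralizerSystem F U hU.1).IsConstrained p) : F.IsConstrained p := by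
  obtain ⟨R, -, hR, hRc⟩ := exists_normal_of_constrained_weaklyNormal hS hF
    (NormalPieces.centralizer_isNormalIn hS hF hU).1 hc
  have hn := CfsgLib.FusionQuot.isNormal_sup F hU hR
  refine ⟨hF, U ⊔ R, hn, hn.1, fun Q hQ => ?_⟩
  rw [CfsgLib.FusionQuot.eq_of_isConj_of_stronglyClosed
    (CfsgLib.FusionQuot.stronglyClosed_of_isNormal hn) hQ]
  intro c hc'
  refine Subgroup.mem_sup_right (hRc ⟨⟨hc'.1, ?_⟩, ?_⟩)
  · exact Subgroup.centralizer_le (SetLike.coe_subset_coe.2 le_sup_left) hc'.2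
  · exact Subgroup.centralizer_le (SetLike.coe_subset_coe.2 le_sup_right) hc'.2

theorem isConstrained_congr {T' : Subgroup Ω} {E' : Cfsg.FusionSystem T'} (hT : T = T')
    (h : ∀ P, E.Hom P = E'.Hom P) (hc : E.IsConstrained p) : E'.IsConstrained p := by
  subst hT
  rwa [← Transport.fusionSystem_ext h]

/-- A subsystem containing all maps fixing `U` has the same centralizer system of `U`. -/
theorem centralizerHom_congr (hsub : E.IsSubsystemOf F) {U : Subgroup Ω} (hU : U ≤ T)
    (hC : centralizerIn S U ≤ T)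
    (hfull : ∀ (R : Subgroup Ω) (φ : R →* Ω) (hUR : U ≤ R), φ ∈ F.Hom R → R ≤ T →
      (∀ x, φ x ∈ T) → (∀ u : U, φ ⟨u, hUR u.2⟩ = u) → φ ∈ E.Hom R) :
    centralizerIn T U = centralizerIn S U ∧
      ∀ P, E.centralizerHom U P = F.centralizerHom U P := by
  have hTS : T ≤ S := dom_le (hsub T (subtype_mem E le_rfl))
  have heq : centralizerIn T U = centralizerIn S U :=
    le_antisymm (fun c hc => ⟨hTS hc.1, hc.2⟩) fun c hc => ⟨hC hc, hc.2⟩
  refine ⟨heq, fun P => Set.ext fun φ => ⟨?_, ?_⟩⟩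
  · rintro ⟨hφ, hP, hφC, ψ, hψ, hag, hfix⟩
    exact ⟨hsub P hφ, heq ▸ hP, fun x => heq ▸ hφC x, ψ, hsub _ hψ, hag, hfix⟩
  · rintro ⟨hφ, hP, hφC, ψ, hψ, hag, hfix⟩
    have hψT : ψ ∈ E.Hom (P ⊔ U) := hfull _ ψ le_sup_right hψ (sup_le (hP.trans hC) hU)
      (forall_mem_of_sup (fun x => by rw [hag]; exact hC (hφC x))
        (fun u => by rw [hfix]; exact hU u.2)) hfix
    have h3 : φ = ψ.comp (Subgroup.inclusion le_sup_left) :=
      MonoidHom.ext fun x => (hag x).symm
    exact ⟨h3 ▸ restrict_mem hψT le_sup_left, heq.symm ▸ hP, fun x => heq.symm ▸ hφC x, ψ, hψT,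
      hag, hfix⟩

section Transport
open CfsgLib.Fusion.Transport

variable {A B : Type*} [Group A] [Group B] {f : A →* B} {S₀ : Subgroup A} {S₁ : Subgroup B}
  {F₀ : Cfsg.FusionSystem S₀} {F₁ : Cfsg.FusionSystem S₁}

theorem isPush_isConj_left (h : IsPush f F₀ F₁) {Q : Subgroup A} {R : Subgroup B}
    (hQR : F₁.IsConj (Q.map f) R) : ∃ R₀, F₀.IsConj Q R₀ ∧ R₀.map f = R := by
  obtain ⟨φ', hφ', rfl⟩ := hQR
  obtain ⟨φ, hφ, hr⟩ := h.exists_left hφ'
  have hQ : (Q.map f).comap f = Q := Subgroup.comap_map_eq_self_of_injective h.inj Q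
  refine ⟨φ.range, ⟨φ.comp (Subgroup.inclusion hQ.ge), restrict_mem hφ hQ.ge, ?_⟩, rel_range hr⟩
  ext y
  constructor
  · rintro ⟨x, rfl⟩; exact ⟨_, rfl⟩
  · rintro ⟨x, rfl⟩; exact ⟨⟨x, hQ.le x.2⟩, rfl⟩

theorem isPush_isNormal_right (h : IsPush f F₀ F₁) {Q : Subgroup A} (hQ : F₀.IsNormal Q) :
    F₁.IsNormal (Q.map f) := by
  refine ⟨h.map_eq ▸ Subgroup.map_mono hQ.1, fun P' φ' hφ' => ?_⟩
  obtain ⟨φ, hφ, hr⟩ := h.exists_left hφ'
  obtain ⟨ψ, hψ, hag, hmap⟩ := hQ.2 _ φ hφ
  obtain ⟨ψ', hψ', hr'⟩ := h.exists_right hψ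
  have hle : P' ⊔ Q.map f ≤ (P'.comap f ⊔ Q).map f := by
    rw [Subgroup.map_sup, hr.1]
  refine ⟨ψ'.comp (Subgroup.inclusion hle), restrict_mem hψ' hle, fun y => ?_, ?_⟩
  · obtain ⟨y, hy⟩ := y
    obtain ⟨x, hx, rfl⟩ : y ∈ (P'.comap f).map f := hr.1.symm ▸ hy
    exact (hr'.2 (Subgroup.inclusion le_sup_left ⟨x, hx⟩) _).trans
      ((congrArg f (hag ⟨x, hx⟩)).trans (hr.2 ⟨x, hx⟩ hy).symm)
  · ext y
    rw [mem_map_subgroupOf]
    constructor
    · rintro ⟨-, hx', ⟨x, hx, rfl⟩, rfl⟩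
      refine ⟨ψ ⟨x, Subgroup.mem_sup_right hx⟩, ?_,
        (hr'.2 ⟨x, Subgroup.mem_sup_right hx⟩ _).symm⟩
      exact hmap.le ⟨_, hx, rfl⟩
    · rintro ⟨z, hz, rfl⟩
      obtain ⟨⟨x, hx'⟩, hx, rfl⟩ := hmap.ge hz
      exact ⟨f x, Subgroup.mem_sup_right ⟨x, hx, rfl⟩, ⟨x, hx, rfl⟩, hr'.2 ⟨x, hx'⟩ _⟩

theorem isPush_isConstrained_right [Finite S₀] [Fact p.Prime] (h : IsPush f F₀ F₁)
    (hS : IsPGroup p S₀) (hc : F₀.IsConstrained p) : F₁.IsConstrained p := by
  obtain ⟨hsat, Q, hQ, hQc⟩ := hc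
  refine ⟨h.isSaturated_right hS hsat, Q.map f, isPush_isNormal_right h hQ,
    h.map_eq ▸ Subgroup.map_mono hQc.1, fun R hR => ?_⟩
  obtain ⟨R₀, hR₀, rfl⟩ := isPush_isConj_left h hR
  rw [← h.map_eq, ← map_centralizerIn h.inj]
  exact Subgroup.map_mono (hQc.2 R₀ hR₀)

end Transport

/-- An isomorphism of the system between two normalizers carries normalizer maps to normalizer
maps. -/
theorem normalizerHom_conj {U U' : Subgroup Ω} {a : normalizerIn S U ≃* normalizerIn S U'}
    (ha : IsFIso F a) (hU : U ≤ S) (hU' : U' ≤ S)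
    (haU : ∀ x : normalizerIn S U, (a x : Ω) ∈ U' ↔ (x : Ω) ∈ U)
    {P P' : Subgroup Ω} {φ : P →* Ω} {φ' : P' →* Ω} (hφ : φ ∈ F.normalizerHom U P)
    (hP' : P' ≤ normalizerIn S U')
    (haP : ∀ x : normalizerIn S U, (a x : Ω) ∈ P' → (x : Ω) ∈ P)
    (hv : ∀ (x : normalizerIn S U) (hx' : (a x : Ω) ∈ P') (hx : (x : Ω) ∈ P)
      (hn : φ ⟨x, hx⟩ ∈ normalizerIn S U), φ' ⟨a x, hx'⟩ = a ⟨_, hn⟩) :
    φ' ∈ F.normalizerHom U' P' := by
  obtain ⟨-, -, hφN, ψ, hψ, hag, hmap⟩ := hφ
  have hUN : U ≤ normalizerIn S U := le_normalizerIn hU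
  have hU'N : U' ≤ normalizerIn S U' := le_normalizerIn hU'
  have hle : P' ⊔ U' ≤ normalizerIn S U' := sup_le hP' hU'N
  set α := ((normalizerIn S U).subtype.comp a.symm.toMonoidHom).comp (Subgroup.inclusion hle) with hα
  have hαm : α ∈ F.Hom (P' ⊔ U') := restrict_mem ha.symm hle
  have hαP : ∀ y : P', α (Subgroup.inclusion le_sup_left y) ∈ P := fun y =>
    haP (a.symm (Subgroup.inclusion hP' y)) (by rw [a.apply_symm_apply]; exact y.2)
  have hαU : ∀ y : U', α (Subgroup.inclusion le_sup_right y) ∈ U := fun y =>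
    (haU (a.symm (Subgroup.inclusion hU'N y))).1 (by rw [a.apply_symm_apply]; exact y.2)
  have hαle : ∀ y, α y ∈ P ⊔ U :=
    forall_mem_of_sup (fun y => Subgroup.mem_sup_left (hαP y))
      (fun y => Subgroup.mem_sup_right (hαU y))
  have hψN : ∀ z, ψ z ∈ normalizerIn S U :=
    forall_mem_of_sup (fun x => by rw [hag]; exact hφN x)
      (fun u => hUN (mem_of_map_subgroupOf_sup_eq hmap u))
  have h1 := F.comp_mem hαm hψ hαle
  have h2 := F.comp_mem h1 ha (fun y => hψN _)
  set χ := ((normalizerIn S U').subtype.comp a.toMonoidHom).comp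
    ((ψ.comp (α.codRestrict (P ⊔ U) hαle)).codRestrict (normalizerIn S U) fun y => hψN _) with hχ
  have hχP : ∀ y : P', χ (Subgroup.inclusion le_sup_left y) = φ' y := by
    intro y
    set x := a.symm (Subgroup.inclusion hP' y) with hx
    have hxy : (a x : Ω) = y := congrArg Subtype.val (a.apply_symm_apply _)
    have h3 := hv x (hxy.symm ▸ y.2) (hαP y) (hφN _)
    refine Eq.trans ?_ (h3.symm.trans (congrArg φ' (Subtype.ext hxy)))
    show (a ⟨ψ ⟨α (Subgroup.inclusion le_sup_left y), _⟩, _⟩ : Ω) = _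
    refine congrArg (fun t => ((a t : normalizerIn S U') : Ω)) (Subtype.ext ?_)
    exact hag ⟨(x : Ω), hαP y⟩
  have hχU : ∀ y : U', χ (Subgroup.inclusion le_sup_right y) ∈ U' := fun y =>
    (haU ⟨ψ ⟨α (Subgroup.inclusion le_sup_right y), hαle _⟩, hψN _⟩).2
      (mem_of_map_subgroupOf_sup_eq hmap ⟨_, hαU y⟩)
  have h4 : φ' = χ.comp (Subgroup.inclusion le_sup_left) := MonoidHom.ext fun y => (hχP y).symm
  refine ⟨h4 ▸ restrict_mem h2 le_sup_left, hP', fun y => ?_, χ, h2, hχP, ?_⟩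
  · rw [← hχP]
    exact (a _).2
  · ext w
    rw [mem_map_subgroupOf]
    constructor
    · rintro ⟨y, hy, hyU, rfl⟩
      exact hχU ⟨y, hyU⟩
    · intro hw
      -- pull back through the three steps
      set v := a.symm ⟨w, hU'N hw⟩ with hvdef
      have hvw : (a v : Ω) = w := congrArg Subtype.val (a.apply_symm_apply _)
      have hvU : (v : Ω) ∈ U := (haU v).1 (hvw.symm ▸ hw)
      obtain ⟨z, hz, hzU, hzv⟩ := mem_map_subgroupOf.1 (hmap.ge hvU)
      have hzN : z ∈ normalizerIn S U := hUN hzU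
      have haz : (a ⟨z, hzN⟩ : Ω) ∈ U' := (haU ⟨z, hzN⟩).2 hzU
      refine ⟨a ⟨z, hzN⟩, Subgroup.mem_sup_right haz, haz, ?_⟩
      show (a ⟨ψ ⟨(a.symm ⟨(a ⟨z, hzN⟩ : Ω), _⟩ : Ω), _⟩, _⟩ : Ω) = w
      rw [← hvw]
      refine congrArg (fun t => ((a t : normalizerIn S U') : Ω)) (Subtype.ext ?_)
      refine Eq.trans (congrArg ψ (Subtype.ext ?_)) hzv
      exact (congrArg Subtype.val (a.symm_apply_apply ⟨z, hzN⟩) :)

/-- A normalizer system isomorphic through the system to a constrained one is constrained. -/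
theorem isConstrained_normalizer_of_iso [Finite S] [Fact p.Prime] (hS : IsPGroup p S)
    {U U' : Subgroup Ω} (hU : U ≤ S) (hU' : U' ≤ S)
    {a : normalizerIn S U ≃* normalizerIn S U'} (ha : IsFIso F a)
    (haU : ∀ x : normalizerIn S U, (a x : Ω) ∈ U' ↔ (x : Ω) ∈ U)
    (hc : (normalizerSystem F U' hU').IsConstrained p) :
    (normalizerSystem F U hU).IsConstrained p := by
  set γ : (normalizerIn S U) →* Ω := (normalizerIn S U').subtype.comp a.toMonoidHom with hγ
  have hγinj : Function.Injective γ := fun x y h => a.injective (Subtype.ext h)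
  have : Finite (normalizerIn S U) := finite_of_le (normalizerIn_le S U)
  have : Finite (normalizerIn S U') := finite_of_le (normalizerIn_le S U')
  have hpush : Transport.IsPush γ (Transport.self (normalizerSystem F U hU))
      (normalizerSystem F U' hU') := by
    refine ⟨?_, hγinj, fun {P φ P' φ'} hr => ?_⟩
    · rw [← MonoidHom.range_eq_map]
      exact range_subtype_comp a
    · obtain ⟨ψ, hψ⟩ := Transport.exists_rel_right (normalizerIn S U).subtype_injective φ
      rw [(Transport.isPush_self (normalizerSystem F U hU)).iff hψ]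
      have hPN : P.map (normalizerIn S U).subtype ≤ (normalizerIn S U) := Subgroup.map_subtype_le P
      have hP' : P' ≤ normalizerIn S U' := by
        rw [← hr.1]
        rintro _ ⟨x, -, rfl⟩
        exact (a x).2
      have hmemP : ∀ x : (normalizerIn S U), (a x : Ω) ∈ P' → x ∈ P := fun x hx => by
        rw [← hr.1] at hx
        obtain ⟨y, hy, hyx⟩ := hx
        exact hγinj hyx ▸ hy
      constructor
      · intro h
        refine normalizerHom_conj ha hU hU' haU h hP' (fun x hx => ⟨x, hmemP x hx, rfl⟩) ?_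
        intro x hx' hx hn
        refine (hr.2 ⟨x, hmemP x hx'⟩ hx').trans ?_
        refine congrArg (fun t => ((a t : normalizerIn S U') : Ω)) (Subtype.ext ?_)
        exact (hψ.2 ⟨x, hmemP x hx'⟩ hx).symm
      · intro h
        refine normalizerHom_conj ha.symm hU' hU (fun y => ?_) h hPN (fun y hy => ?_) ?_
        · exact ((haU (a.symm y)).symm.trans (by rw [a.apply_symm_apply]))
        · obtain ⟨x, hx, hxy⟩ := hy
          rw [← hr.1]
          exact ⟨x, hx, congrArg Subtype.val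
            ((congrArg a (Subtype.ext hxy)).trans (a.apply_symm_apply y))⟩
        · intro y hy' hy hn
          obtain ⟨x, hx, hxy⟩ := hy'
          have hax : a x = y := (congrArg a (Subtype.ext hxy)).trans (a.apply_symm_apply y)
          refine ((congrArg ψ (Subtype.ext hxy.symm)).trans (hψ.2 ⟨x, hx⟩ ⟨x, hx, rfl⟩)).trans ?_
          refine congrArg Subtype.val ?_
          rw [MulEquiv.eq_symm_apply]
          refine Subtype.ext ((hr.2 ⟨x, hx⟩ (hr.1 ▸ ⟨x, hx, rfl⟩)).symm.trans ?_)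
          exact congrArg φ' (Subtype.ext (congrArg Subtype.val hax :))
  have h0 := hpush.isConstrained_left (hS.to_le (normalizerIn_le S U')) hc
  exact isPush_isConstrained_right (Transport.isPush_self _)
    ((hS.to_le (normalizerIn_le S U)).to_subgroup ⊤) h0

/-- If the centralizer systems of the fully normalized subgroups of order `p` are constrained then
so are all normalizer systems of nontrivial fully normalized subgroups. -/
theorem isConstrained_normalizerSystem_of_centralizers [Finite S] [Fact p.Prime]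
    (hS : IsPGroup p S) (hF : F.IsSaturated p)
    (hC : ∀ (X : Subgroup Ω) (hX : F.IsFullyNormalized X), Nat.card X = p →
      (centralizerSystem F X hX.1).IsConstrained p)
    {U : Subgroup Ω} (hUne : U ≠ ⊥) (hU : F.IsFullyNormalized U) :
    (normalizerSystem F U hU.1).IsConstrained p := by
  set N := normalizerIn S U with hN
  have hNS : N ≤ S := normalizerIn_le S U
  have : Finite N := finite_of_le hNS
  have hUN : U ≤ N := le_normalizerIn hU.1
  have hNp := hS.to_le hNS
  have : Group.IsNilpotent N := hNp.isNilpotent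
  have hUn : (U.subgroupOf N).Normal :=
    (Subgroup.normal_subgroupOf_iff_le_normalizer hUN).2 inf_le_right
  have hne : U.subgroupOf N ⊓ Subgroup.center N ≠ ⊥ := CfsgLib.Transfer.inf_center_ne_bot
    (fun h => hUne (by
      rw [← Subgroup.map_subgroupOf_eq_of_le hUN, h, Subgroup.map_bot]))
  obtain ⟨z₀, hz₀, hz₀o, -⟩ :=
    CharP.exists_center_orderOf_eq_prime _ (hNp.to_subgroup _) hne
  set z : Ω := (z₀ : Ω) with hz
  have hzU : z ∈ U := hz₀.1
  have hzc : ∀ g ∈ N, g * z = z * g := fun g hg =>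
    congrArg Subtype.val (Subgroup.mem_center_iff.1 hz₀.2 ⟨g, hg⟩)
  set X := Subgroup.zpowers z with hX
  have hXcard : Nat.card X = p := by rw [hX, Nat.card_zpowers, hz, Subgroup.orderOf_coe, hz₀o]
  have hXU : X ≤ U := Subgroup.zpowers_le.2 hzU
  have hXS : X ≤ S := hXU.trans hU.1
  have hNX : N ≤ normalizerIn S X := fun g hg => by
    refine ⟨hNS hg, Subgroup.centralizer_le_normalizer _ ?_⟩
    rintro y ⟨n, rfl⟩
    exact ((show Commute g z from hzc g hg).zpow_right n).symm
  obtain ⟨Y, hXY, hY⟩ := exists_isFullyNormalized F hXS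
  obtain ⟨e, -, ψ, hψ, -, hψe⟩ := exists_normalizer_map hS hF hY hXY
  have hYcard : Nat.card Y = p := (Nat.card_congr e.toEquiv).symm.trans hXcard
  set γ := ψ.comp (Subgroup.inclusion hNX) with hγ
  have hγm : γ ∈ F.Hom N := restrict_mem hψ hNX
  set U' := (U.subgroupOf N).map γ with hU'def
  have hconj : F.IsConj U U' :=
    ⟨γ.comp (Subgroup.inclusion hUN), restrict_mem hγm hUN, range_comp_inclusion hUN⟩
  have hU'S : U' ≤ S := isConj_le_right hconj
  have : Finite (normalizerIn S U') := finite_of_le (normalizerIn_le S U')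
  have hle : γ.range ≤ normalizerIn S U' := by
    rintro _ ⟨g, rfl⟩
    refine ⟨map_mem hγm g, ?_⟩
    have : g ∈ Subgroup.normalizer ((U.subgroupOf N : Subgroup N) : Set N) := by
      rw [Subgroup.normalizer_eq_top_iff.2 hUn]; trivial
    exact Subgroup.le_normalizer_map γ ⟨g, this, rfl⟩
  have hr : γ.range = normalizerIn S U' := Subgroup.eq_of_le_of_card_ge hle
    ((hU.2 U' hconj).trans_eq (Nat.card_congr (MonoidHom.ofInjective (hom_inj hγm)).toEquiv))
  have hU' : F.IsFullyNormalized U' := ⟨hU'S, fun R hR => by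
    refine (hU.2 R (isConj_trans hconj hR)).trans_eq ?_
    rw [← hr]
    exact Nat.card_congr (MonoidHom.ofInjective (hom_inj hγm)).toEquiv⟩
  obtain ⟨a, ha, hax⟩ := exists_iso hγm hr
  refine isConstrained_normalizer_of_iso hS hU.1 hU'S ha (fun x => ?_) ?_
  · rw [hax]
    constructor
    · rintro ⟨u, hu, hux⟩
      exact (hom_inj hγm hux) ▸ hu
    · exact fun hx => ⟨x, hx, rfl⟩
  -- the centralizer of `U'` lives in the centralizer of `Y`
  have hYU' : Y ≤ U' := fun y hy => by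
    have h1 := hψe (e.symm ⟨y, hy⟩)
    rw [MulEquiv.apply_symm_apply] at h1
    exact ⟨⟨(e.symm ⟨y, hy⟩ : Ω), hUN (hXU (e.symm ⟨y, hy⟩).2)⟩, hXU (e.symm ⟨y, hy⟩).2, h1⟩
  have hN'Y : normalizerIn S U' ≤ centralizerIn S Y := fun g hg => by
    refine ⟨hg.1, fun y hy => ?_⟩
    obtain ⟨g₀, rfl⟩ := hr.ge hg
    obtain ⟨u, -, rfl⟩ := hYU' hy
    have hm : γ u ∈ Y := hy
    obtain ⟨x, hx⟩ := e.surjective ⟨γ u, hm⟩
    have hxu : γ u = γ ⟨x, hUN (hXU x.2)⟩ := by
      refine Eq.trans ?_ (hψe x).symm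
      rw [hx]
    rw [hxu, ← map_mul, ← map_mul]
    refine congrArg γ (Subtype.ext ?_)
    obtain ⟨n, hn⟩ := x.2
    show (x : Ω) * (g₀ : Ω) = g₀ * x
    rw [← hn]
    exact ((show Commute (g₀ : Ω) z from hzc g₀ g₀.2).zpow_right n).symm
  set N' := normalizerSystem F U' hU'S with hN'def
  have hYfc := isFullyCentralized_of_isFullyNormalized hS hF hY
  set D := centralizerSystem F Y hY.1 with hD
  have hU'T : U' ≤ centralizerIn S Y := (le_normalizerIn hU'S).trans hN'Y
  have hCT : centralizerIn S U' ≤ centralizerIn S Y := fun c hc =>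
    ⟨hc.1, Subgroup.centralizer_le (SetLike.coe_subset_coe.2 hYU') hc.2⟩
  obtain ⟨heq₁, hhom₁⟩ := centralizerHom_congr (E := D) (fun P φ hφ => hφ.1) hU'T hCT
    fun R φ hUR hφ hRT hval hfix => by
      have hYR : Y ≤ R := hYU'.trans hUR
      have hsup : R ⊔ Y = R := sup_eq_left.2 hYR
      refine ⟨hφ, hRT, hval, φ.comp (Subgroup.inclusion hsup.le), restrict_mem hφ hsup.le,
        fun x => rfl, fun y => ?_⟩
      exact hfix ⟨y, hYU' y.2⟩
  have hCN : centralizerIn S U' ≤ normalizerIn S U' := fun c hc =>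
    ⟨hc.1, Subgroup.centralizer_le_normalizer _ hc.2⟩
  obtain ⟨heq₂, hhom₂⟩ := centralizerHom_congr (E := N') (fun P φ hφ => hφ.1)
    (le_normalizerIn hU'S) hCN fun R φ hUR hφ hRT hval hfix => by
      have hsup : R ⊔ U' = R := sup_eq_left.2 hUR
      refine ⟨hφ, hRT, hval, φ.comp (Subgroup.inclusion hsup.le), restrict_mem hφ hsup.le,
        fun x => rfl, ?_⟩
      ext w
      rw [mem_map_subgroupOf]
      constructor
      · rintro ⟨x, hx, hxU, rfl⟩
        exact (hfix ⟨x, hxU⟩).symm ▸ hxU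
      · exact fun hw => ⟨w, Subgroup.mem_sup_right hw, hw, hfix ⟨w, hw⟩⟩
  have hU'fc := isFullyCentralized_of_isFullyNormalized hS hF hU'
  have : Finite (centralizerIn S Y) := finite_of_le (centralizerIn_le S Y)
  have hDfc : D.IsFullyCentralized U' := by
    refine ⟨hU'T, fun R hR => ?_⟩
    obtain ⟨φ, hφ, rfl⟩ := hR
    rw [heq₁]
    refine le_trans ?_ (hU'fc.2 _ ⟨φ, hφ.1, rfl⟩)
    have : Finite (centralizerIn S φ.range) := finite_of_le (centralizerIn_le S _)
    exact Subgroup.card_le_of_le fun c hc => ⟨hc.1.1, hc.2⟩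
  have hcD := isConstrained_centralizerSystem (hS.to_le (centralizerIn_le S Y))
    (hC Y hY hYcard) hDfc
  have hcN : (centralizerSystem N' U' (le_normalizerIn hU'S)).IsConstrained p :=
    isConstrained_congr (heq₁.trans heq₂.symm) (fun P => (hhom₁ P).trans (hhom₂ P).symm) hcD
  exact isConstrained_of_centralizer (hS.to_le (normalizerIn_le S U'))
    (isSaturated_normalizerSystem hS hF hU' (isNormalizerSystem_normalizerSystem F U' hU'S))
    (CentralLift.isNormal_normalizerSystem F hU'S) hcN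

end CfsgLib.Fusion.CharPType
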