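import Cfsg.Agent.Lib.Fusion.Realized
import Cfsg.Agent.Lib.Fusion.Local
import Cfsg.Agent.Lib.LocalEven.CharP
import Cfsg.Agent.S5090

/-!
Constrained centralizer and normalizer systems.
-/

set_option autoImplicit false
open Cfsg Cfsg.FusionSystem CfsgLib.Fusion

namespace CfsgLib.Fusion.CharPType

universe u

/-- In a group of characteristic `p` the centralizer of a `p`-subgroup has characteristic `p`. -/
theorem charP_centralizer {G : Type*} [Group G] [Finite G] {p : ℕ} [Fact p.Prime]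
    (hG : Subgroup.centralizer (Cfsg.pCore p G : Set G) ≤ Cfsg.pCore p G)
    {P : Subgroup G} (hP : IsPGroup p P) :
    Subgroup.centralizer (Cfsg.pCore p (Subgroup.centralizer (P : Set G)) :
      Set (Subgroup.centralizer (P : Set G))) ≤ Cfsg.pCore p (Subgroup.centralizer (P : Set G)) := by
  set C := Subgroup.centralizer (P : Set G) with hC
  set R := Cfsg.pCore p G with hR
  refine LocalEven.charP_of_coprime_trivial fun x hx hxo => Subtype.ext ?_
  have hRC : R.subgroupOf C ≤ Cfsg.pCore p C := LocalEven.inf_core_subgroupOf_le C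
  have hPn : P ≤ Subgroup.normalizer ((R ⊓ C : Subgroup G) : Set G) := fun a ha =>
    Subgroup.centralizer_le_normalizer _ (Subgroup.mem_centralizer_iff.2 fun y hy =>
      (Subgroup.mem_centralizer_iff.1 (Subgroup.mem_inf.1 hy).2 a ha).symm)
  have hQp : IsPGroup p (P ⊔ R ⊓ C : Subgroup G) :=
    hP.to_sup_of_normal_right' ((LocalEven.core_isPGroup p G).to_le inf_le_left) hPn
  refine LocalEven.eq_one_of_commute_large hG hQp ?_ (x := (x : G))
    (by rwa [Subgroup.orderOf_coe]) ?_
  · exact fun z hz => Subgroup.mem_sup_right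
      ⟨hz.1, Subgroup.centralizer_le (SetLike.coe_subset_coe.2 le_sup_left) hz.2⟩
  · have hle : P ⊔ R ⊓ C ≤ Subgroup.centralizer ({(x : G)} : Set G) := by
      refine sup_le (fun a ha => ?_) (fun a ha => ?_)
      · rw [Subgroup.mem_centralizer_singleton_iff]
        exact Subgroup.mem_centralizer_iff.1 x.2 a ha
      · rw [Subgroup.mem_centralizer_singleton_iff]
        exact congrArg Subtype.val
          (Subgroup.mem_centralizer_iff.1 hx ⟨a, ha.2⟩ (hRC (show a ∈ R from ha.1)))
    exact Subgroup.mem_centralizer_iff.2 fun a ha =>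
      Subgroup.mem_centralizer_singleton_iff.1 (hle ha)

variable {Ω : Type u} [Group Ω] {T : Subgroup Ω} {D : Cfsg.FusionSystem T} {p : ℕ}

/-- The centralizer of a fully centralized subgroup of a constrained system is constrained. -/
theorem isConstrained_centralizerSystem [Finite T] [Fact p.Prime] (hT : IsPGroup p T)
    (hD : D.IsConstrained p) {Q : Subgroup Ω} (hQ : D.IsFullyCentralized Q) :
    (centralizerSystem D Q hQ.1).IsConstrained p := by
  obtain ⟨G, _, ι, hfin, hreal, ⟨T₀, hT₀⟩, hcen⟩ := Cfsg.Agent.S5090.result p hT D hD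
  set Qi : Subgroup G := (Q.subgroupOf T).map ι with hQi
  have hQip : IsPGroup p Qi := (hT.to_subgroup _).map ι
  set C := Subgroup.centralizer (Qi : Set G) with hC
  have hQmem : ∀ q : Q, ι ⟨q, hQ.1 q.2⟩ ∈ Qi := fun q => ⟨⟨q, hQ.1 q.2⟩, q.2, rfl⟩
  have : Finite (centralizerIn T Q) := finite_of_le (centralizerIn_le T Q)
  let ι₀ : centralizerIn T Q →* C :=
    (ι.comp (Subgroup.inclusion (centralizerIn_le T Q))).codRestrict C fun x => by
      rintro _ ⟨q, hq, rfl⟩
      show ι q * ι _ = ι _ * ι q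
      rw [← map_mul, ← map_mul]
      exact congrArg ι (Subtype.ext (Subgroup.mem_centralizer_iff.1 x.2.2 q hq))
  have hinj : Function.Injective ι₀ := fun a b hab =>
    Subgroup.inclusion_injective _ (hreal.1 (congrArg Subtype.val hab :))
  refine model_isConstrained (ι := ι₀) ⟨inferInstance, ⟨hinj, fun P hP φ hφ => ?_⟩, ?_,
    charP_centralizer hcen hQip⟩
  · have hPT : P ≤ T := hP.trans (centralizerIn_le T Q)
    constructor
    · rintro ⟨-, -, -, ψ, hψ, hag, hfix⟩
      obtain ⟨g, hg⟩ := realized_exists_conj hreal hψ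
      have hgC : g ∈ C := by
        rintro _ ⟨q, hq, rfl⟩
        have h1 := hg (Subgroup.inclusion le_sup_right ⟨(q : Ω), hq⟩)
        have h2 : ι q = g * ι q * g⁻¹ := by
          refine (congrArg ι (Subtype.ext ?_)).trans (h1.trans rfl)
          exact (hfix ⟨(q : Ω), hq⟩).symm
        calc ι q * g = g * ι q * g⁻¹ * g := by rw [← h2]
          _ = g * ι q := by group
      refine ⟨⟨g, hgC⟩, fun x => Subtype.ext ?_⟩
      refine (congrArg ι (Subtype.ext ?_)).trans ((hg (Subgroup.inclusion le_sup_left x)).trans rfl)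
      exact (hag x).symm
    · rintro ⟨⟨g, hgC⟩, hg⟩
      have hgx : ∀ x : P, ι ⟨φ x, (hφ x).1⟩ = g * ι ⟨x, hPT x.2⟩ * g⁻¹ := fun x =>
        congrArg Subtype.val (hg x)
      have hgq : ∀ q : Q, g * ι ⟨q, hQ.1 q.2⟩ * g⁻¹ = ι ⟨q, hQ.1 q.2⟩ := fun q => by
        rw [← Subgroup.mem_centralizer_iff.1 hgC _ (hQmem q), mul_inv_cancel_right]
      obtain ⟨ψ, hψ, hψv⟩ := realized_subgroup_conj hreal (sup_le hPT hQ.1) g
        (realized_conj_mem_range_of_sup hreal hPT hQ.1 (fun x => ⟨_, hgx x⟩)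
          fun q => ⟨_, (hgq q).symm⟩)
      have hag : ∀ x : P, ψ (Subgroup.inclusion le_sup_left x) = φ x := fun x =>
        realized_inj hreal (x := ⟨_, map_mem hψ _⟩) (y := ⟨_, (hφ x).1⟩)
          ((hψv _ _).trans (hgx x).symm)
      refine ⟨?_, hP, hφ, ψ, hψ, hag, fun q => ?_⟩
      · have h3 : φ = ψ.comp (Subgroup.inclusion le_sup_left) :=
          MonoidHom.ext fun x => (hag x).symm
        exact h3 ▸ restrict_mem hψ le_sup_left
      · exact realized_inj hreal (x := ⟨_, map_mem hψ _⟩) (y := ⟨_, hQ.1 q.2⟩)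
          ((hψv _ _).trans (hgq q))
  · obtain ⟨U, hU⟩ := ((hT.to_le (centralizerIn_le T Q)).to_subgroup ⊤ |>.map ι₀).exists_le_sylow
    rw [← MonoidHom.range_eq_map] at hU
    refine ⟨U, (Subgroup.eq_of_le_of_card_ge hU ?_).symm⟩
    set U₁ : Subgroup G := (U : Subgroup C).map C.subtype with hU₁
    have hU₁C : U₁ ≤ C := Subgroup.map_subtype_le _
    have hUp : IsPGroup p (U₁ ⊔ Qi : Subgroup G) :=
      (U.2.map C.subtype).to_sup_of_normal_right' hQip
        (hU₁C.trans (Subgroup.centralizer_le_normalizer _))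
    obtain ⟨g, hg⟩ := exists_conj_le_sylow T₀ hUp
    rw [hT₀] at hg
    obtain ⟨φ, hφ, hφv⟩ := realized_subgroup_conj hreal hQ.1 g fun q =>
      hg _ (Subgroup.mem_sup_right (hQmem q))
    have hmem : ∀ u : (U : Subgroup C), ∃ y : centralizerIn T φ.range,
        ι ⟨y, y.2.1⟩ = g * ((u : C) : G) * g⁻¹ := by
      intro u
      obtain ⟨y, hy⟩ := hg _ (Subgroup.mem_sup_left ⟨u, u.2, rfl⟩)
      refine ⟨⟨y, y.2, ?_⟩, hy⟩
      rintro _ ⟨q, rfl⟩
      refine realized_inj hreal (x := ⟨φ q, map_mem hφ q⟩ * y) (y := y * ⟨φ q, map_mem hφ q⟩) ?_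
      rw [map_mul, map_mul, hφv, hy]
      calc g * ι ⟨q, _⟩ * g⁻¹ * (g * ((u : C) : G) * g⁻¹)
          = g * (ι ⟨q, _⟩ * ((u : C) : G)) * g⁻¹ := by group
        _ = g * (((u : C) : G) * ι ⟨q, _⟩) * g⁻¹ := by
          rw [Subgroup.mem_centralizer_iff.1 (u : C).2 _ (hQmem q)]
        _ = g * ((u : C) : G) * g⁻¹ * (g * ι ⟨q, _⟩ * g⁻¹) := by group
    choose f hf using hmem
    have hfinj : Function.Injective f := fun a b hab => by
      have h1 := (hf a).symm.trans ((congrArg (fun y : centralizerIn T φ.range =>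
        ι ⟨y, y.2.1⟩) hab).trans (hf b))
      exact Subtype.ext (Subtype.ext (mul_left_cancel (mul_right_cancel h1)))
    have : Finite (centralizerIn T φ.range) := finite_of_le (centralizerIn_le T _)
    calc Nat.card (U : Subgroup C) ≤ Nat.card (centralizerIn T φ.range) :=
          Nat.card_le_card_of_injective f hfinj
      _ ≤ Nat.card (centralizerIn T Q) := hQ.2 _ ⟨φ, hφ, rfl⟩
      _ = Nat.card ι₀.range := Nat.card_congr (MonoidHom.ofInjective hinj).toEquiv

end CfsgLib.Fusion.CharPType
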