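import Cfsg.Agent.Lib.Fusion.CentralizerNormal
import Cfsg.Agent.Lib.Fusion.CentralLift.CoreSystems
import Cfsg.Agent.Lib.Fusion.Invariant
import Cfsg.Agent.Lib.FusionQuot.ProductSat
import Cfsg.Agent.Lib.FusionQuot.ModExtension
import Cfsg.Agent.Lib.FusionQuot.Solvable
import Cfsg.Agent.Lib.FusionConstrained.Basic

/-!
# Products of commuting normal subsystems

For normal subsystems `E₁`, `E₂` over commuting subgroups `T₁`, `T₂` whose intersection is fixed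
by both, the system generated by both is a normal subsystem over `T₁ ⊔ T₂` and is their central
product.
-/

set_option autoImplicit false

open Cfsg Cfsg.FusionSystem CfsgLib.Fusion

namespace CfsgLib.Fusion.CommProd

variable {Ω : Type*} [Group Ω] {S T T' Z : Subgroup Ω} {F : Cfsg.FusionSystem S}
  {E : Cfsg.FusionSystem T} {p : ℕ}

/-- The maps of `E` fix every element of `Z`. -/
def Fixes (E : Cfsg.FusionSystem T) (Z : Subgroup Ω) : Prop :=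
  ∀ (P : Subgroup Ω) (φ : P →* Ω), φ ∈ E.Hom P → ∀ x : P, (x : Ω) ∈ Z → φ x = x

theorem exists_copy {T' : Subgroup Ω} (E : Cfsg.FusionSystem T') (h : T' = T) :
    ∃ E' : Cfsg.FusionSystem T, (∀ P, E'.Hom P = E.Hom P) ∧
      (E.IsSaturated p → E'.IsSaturated p) := by
  subst h
  exact ⟨E, fun _ => rfl, id⟩

/-- A power of order prime to `p` of an extension of an automorphism of order prime to `p`. -/
theorem exists_coprime_ext [Finite S] [Fact p.Prime] {Q W : Subgroup Ω} (hQW : Q ≤ W) (hW : W ≤ S)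
    {β : MulAut W} (hβ : β ∈ F.autGroup W) {a : MulAut Q} (ha : (orderOf a).Coprime p)
    (h : ∀ x : Q, β (Subgroup.inclusion hQW x) = Subgroup.inclusion hQW (a x)) :
    ∃ κ ∈ F.autGroup W, (orderOf κ).Coprime p ∧
      (∀ x : Q, κ (Subgroup.inclusion hQW x) = Subgroup.inclusion hQW (a x)) ∧
      ∀ L K : Subgroup W, (∀ x ∈ K, β x ∈ K) → (∀ w ∈ L, w⁻¹ * β w ∈ K) → ∀ w ∈ L, w⁻¹ * κ w ∈ K := by
  have : Finite W := finite_of_le hW
  have : Finite (MulAut W) := finite_mulAut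
  obtain ⟨k, hk⟩ := CfsgLib.Transfer.exists_pow_coprime_orderOf (p := p) β
  obtain ⟨m, hm⟩ := exists_pow_eq_self_of_coprime
    (Nat.Coprime.pow_left k ha.symm : Nat.Coprime (p ^ k) (orderOf a))
  refine ⟨(β ^ p ^ k) ^ m, pow_mem (pow_mem hβ _) _, ?_, fun x => ?_, fun L K hK hL => ?_⟩
  · exact Nat.Coprime.coprime_dvd_left (orderOf_pow_dvd m) hk
  · rw [← pow_mul]
    rw [← pow_mul] at hm
    rw [LayerCore.pow_agree hQW β a h, hm]
  · rw [← pow_mul]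
    exact LayerCore.disp_pow β hK hL _

variable [Finite S] [Fact p.Prime]

theorem isNormal_of_stronglyClosed_abelian (hS : IsPGroup p S) (hE : E.IsNormalIn F p)
    (hZ : F.StronglyClosed Z) (hZT : Z ≤ T) (hab : ∀ x ∈ Z, ∀ y ∈ Z, x * y = y * x) :
    E.IsNormal Z := by
  have hTS : T ≤ S := hE.1.2.2.2.1.1
  have : Finite T := finite_of_le hTS
  exact Stability.isNormal_of_abelian (hS.to_le hTS) hE.1.1
    ⟨hZT, fun R hR φ hφ x => hZ.2 R hR φ (hE.1.2.2.1 R hφ) x⟩ hab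

theorem isCentral_of_fixes (hS : IsPGroup p S) (hE : E.IsNormalIn F p) (hZT : Z ≤ T)
    (h : Fixes E Z) : E.IsCentral Z := by
  have hTS : T ≤ S := hE.1.2.2.2.1.1
  have : Finite T := finite_of_le hTS
  refine (isCentral_iff_forall_conjElt (hS.to_le hTS) hE.1.1).2 ⟨hZT, fun x hx y hy => ?_⟩
  obtain ⟨φ, hφ, rfl⟩ := hy
  exact h _ φ hφ _ hx

/-- The maps of a normal subsystem fixing a subgroup normal in the system form a normal subsystem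
over the same group. -/
theorem exists_fixing (hS : IsPGroup p S) (hF : F.IsSaturated p) (hE : E.IsNormalIn F p)
    (hZ : F.StronglyClosed Z) (hZT : Z ≤ T) (hTZ : ∀ t ∈ T, ∀ z ∈ Z, z * t = t * z) :
    ∃ E' : Cfsg.FusionSystem T, E'.IsNormalIn F p ∧ Fixes E' Z ∧ (Z ≤ E.center → E' = E) := by
  have hTS : T ≤ S := hE.1.2.2.2.1.1
  have : Finite T := finite_of_le hTS
  have hTp : IsPGroup p T := hS.to_le hTS
  have : Finite Z := finite_of_le (hZT.trans hTS)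
  have hEn : E.IsNormal Z :=
    isNormal_of_stronglyClosed_abelian hS hE hZ hZT fun x hx y hy => hTZ y (hZT hy) x hx
  have hEq : centralizerIn T Z = T := le_antisymm (centralizerIn_le T Z) fun t ht =>
    ⟨ht, Subgroup.mem_centralizer_iff.2 fun z hz => hTZ t ht z hz⟩
  obtain ⟨E', hHom, hsat⟩ := exists_copy (p := p) (centralizerSystem E Z hZT) hEq
  have hHom' : ∀ P, E'.Hom P = E.centralizerHom Z P := hHom
  have hEF := hE.1.2.2.1
  refine ⟨E', ⟨⟨hsat (NormalPieces.centralizer_isNormalIn hTp hE.1.1 hEn).1.1, hF,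
    fun P φ hφ => hEF P ((hHom' P).le hφ).1, hE.1.2.2.2.1, ?_, ?_⟩, fun a ha => ?_⟩, ?_, fun hc => ?_⟩
  · intro P hP φ hφ α hα
    obtain ⟨-, -, -, ψ, hψ, hag, hfix⟩ := (hHom' P).le hφ
    have hPZ : P ⊔ Z ≤ T := sup_le hP hZT
    set W := ((P ⊔ Z).subgroupOf T).map (T.subtype.comp α.toMonoidHom) with hW
    set P₁ := (P.subgroupOf T).map (T.subtype.comp α.toMonoidHom) with hP₁
    obtain ⟨χ, hχ, hχx⟩ := hE.1.2.2.2.2.1 (P ⊔ Z) hPZ ψ hψ α hα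
    have hP₁T : P₁ ≤ T := by
      rintro _ ⟨x, -, rfl⟩
      exact (α x).2
    have hP₁W : P₁ ≤ W := Subgroup.map_mono fun x hx =>
      (show (x : Ω) ∈ P ⊔ Z from Subgroup.mem_sup_left hx)
    have hzW : ∀ z ∈ Z, ∃ w : T, (w : Ω) ∈ Z ∧ ((α w : T) : Ω) = z := by
      intro z hz
      refine ⟨α⁻¹ ⟨z, hZT hz⟩, Stability.aut_mem hZ hTS (inv_mem hα) hz, ?_⟩
      rw [MulAut.apply_inv_self]
    have hle : P₁ ⊔ Z ≤ W := by
      refine sup_le hP₁W fun z hz => ?_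
      obtain ⟨w, hw, rfl⟩ := hzW z hz
      exact ⟨w, Subgroup.mem_sup_right hw, rfl⟩
    have hval : ∀ (v : ↥(P ⊔ Z)) (hv : ((α ⟨v, hPZ v.2⟩ : T) : Ω) ∈ W),
        χ ⟨_, hv⟩ = ((α ⟨ψ v, map_mem hψ v⟩ : T) : Ω) := fun v hv => hχx v _ hv
    refine ⟨χ.comp (Subgroup.inclusion hP₁W), (hHom' _).ge ⟨restrict_mem hχ hP₁W,
      fun x hx => hEq.ge (hP₁T hx), fun x => hEq.ge (map_mem hχ _), χ.comp (Subgroup.inclusion hle),
      restrict_mem hχ hle, fun x => rfl, fun z => ?_⟩, fun x hφx hαx => ?_⟩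
    · obtain ⟨w, hw, hwz⟩ := hzW z z.2
      have h1 := hval ⟨w, Subgroup.mem_sup_right hw⟩ (by rw [hwz]; exact hle (Subgroup.mem_sup_right z.2))
      have h2 : (⟨(z : Ω), hle (Subgroup.mem_sup_right z.2)⟩ : W) =
          ⟨((α w : T) : Ω), by rw [hwz]; exact hle (Subgroup.mem_sup_right z.2)⟩ := Subtype.ext hwz.symm
      refine Eq.trans (congrArg χ h2) (h1.trans ?_)
      rw [show (⟨ψ ⟨(w : Ω), Subgroup.mem_sup_right hw⟩, map_mem hψ _⟩ : T) = w from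
        Subtype.ext (hfix ⟨(w : Ω), hw⟩), hwz]
    · refine (hval ⟨x, Subgroup.mem_sup_left x.2⟩ (hP₁W hαx)).trans ?_
      congr 2
      exact Subtype.ext (hag x)
  · intro P hP φ hφ
    obtain ⟨α, hα, e, he, hx⟩ := hE.1.2.2.2.2.2 P hP φ hφ
    obtain ⟨ψ, hψ, hag, hψZ⟩ := hEn.2 P e he
    obtain ⟨τ, hτ, hτx⟩ := exists_aut (restrict_mem hψ (le_sup_right : Z ≤ P ⊔ Z))
      (range_eq_of_le (hom_inj (restrict_mem hψ le_sup_right))
        fun z => mem_of_map_subgroupOf_sup_eq hψZ z)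
    obtain ⟨ξ, hξ, hξZ⟩ := (isReceptive_of_isFullyNormalized hTp hE.1.1
      (CfsgLib.FusionQuot.isFullyNormalized_of_stronglyClosed
        (isNormal_stronglyClosed hEn))).2 Z _ ((mem_autGroup_iff_hom hZT).1 hτ) (range_subtype_comp τ)
    have hTle : T ≤ extender T Z (Z.subtype.comp τ.toMonoidHom) :=
      hEq.ge.trans (centralizerIn_le_extender _)
    obtain ⟨ε, hε, hεx⟩ := LayerCore.exists_aut_of_mapsTo (restrict_mem hξ hTle)
      fun x => map_mem (restrict_mem hξ hTle) x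
    have hεinv := (mem_autGroup_iff_hom le_rfl).1 ((E.autGroup T).inv_mem hε)
    set ψ₀ := (T.subtype.comp (ε⁻¹ : MulAut T).toMonoidHom).comp (ψ.codRestrict T (map_mem hψ)) with hψ₀
    have hψ₀E : ψ₀ ∈ E.Hom (P ⊔ Z) := E.comp_mem hψ hεinv (map_mem hψ)
    refine ⟨α * ε, mul_mem hα (CfsgLib.FusionQuot.autGroup_le_of_subsystem hEF T hε),
      ψ₀.comp (Subgroup.inclusion le_sup_left), (hHom' P).ge ⟨restrict_mem hψ₀E le_sup_left,
        fun x hx => hEq.ge (hP hx), fun x => hEq.ge (map_mem hψ₀E _), ψ₀, hψ₀E, fun x => rfl,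
        fun z => ?_⟩, fun x hx' => ?_⟩
    · show ((ε⁻¹ ⟨ψ (Subgroup.inclusion le_sup_right z), _⟩ : T) : Ω) = z
      have h1 : ((ε ⟨z, hZT z.2⟩ : T) : Ω) = ψ (Subgroup.inclusion le_sup_right z) :=
        (hεx ⟨z, hZT z.2⟩).trans ((hξZ z z.2 _).trans (hτx z))
      rw [show (⟨ψ (Subgroup.inclusion le_sup_right z), map_mem hψ _⟩ : T) = ε ⟨z, hZT z.2⟩ from
        Subtype.ext h1.symm, MulAut.inv_apply_self]
    · rw [MulAut.mul_apply,
        show (⟨_, hx'⟩ : T) = ε⁻¹ ⟨ψ (Subgroup.inclusion le_sup_left x), map_mem hψ _⟩ from rfl,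
        MulAut.apply_inv_self]
      refine (hx x (map_mem he x)).trans ?_
      congr 2
      exact Subtype.ext (hag x).symm
  · exact hE.2 a ((mem_autGroup_iff_hom le_rfl).2
      ((hHom' T).le ((mem_autGroup_iff_hom le_rfl).1 ha)).1)
  · intro P φ hφ x hx
    obtain ⟨-, -, -, ψ, -, hag, hfix⟩ := (hHom' P).le hφ
    rw [← hag x]
    exact (congrArg ψ (Subtype.ext rfl)).trans (hfix ⟨x, hx⟩)
  · refine fusionSystem_ext fun P => (hHom' P).trans (Set.Subset.antisymm (fun φ h => h.1) fun φ hφ => ?_)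
    obtain ⟨ψ, hψ, hag, hfix⟩ := (CfsgLib.FusionQuot.isCentral_center E).2 P φ hφ
    exact ⟨hφ, fun x hx => hEq.ge (dom_le hφ hx), fun x => hEq.ge (map_mem hφ x), _,
      restrict_mem hψ (sup_le_sup_left hc P), fun x => hag x, fun z => hfix ⟨z, hc z.2⟩⟩

/-- A strongly closed subgroup commuting with `T` is fixed by `E` as soon as their intersection is. -/
theorem isFixed_of_commute (hS : IsPGroup p S) (hF : F.IsSaturated p) (hE : E.IsNormalIn F p)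
    {Y : Subgroup Ω} (hYsc : F.StronglyClosed Y) (hY : Y ≤ centralizerIn S T)
    (hfix : Fixes E (T ⊓ Y)) : CenSub.IsFixed E F Y := by
  classical
  obtain ⟨⟨hEs, -, hEinv⟩, hext⟩ := hE
  have hT := hEinv.2.1
  have hEF := hEinv.1
  have hTS := hT.1
  have hTp := hS.to_le hTS
  have : Finite T := finite_of_le hTS
  refine (CenSub.isFixed_iff hTS hEF hY).2 fun P φ hφ => ?_
  refine ((Descent.hom_le_of_aut (E := CenSub.fixSystem E F Y hY hTS) hTp hEs ?_ P) hφ).2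
  intro Q hQn hbig
  have hQT : Q ≤ T := hQn.1
  have : Finite Q := finite_of_le hQT
  have : Finite (MulAut Q) := finite_mulAut
  set D := CenSub.fixSystem E F Y hY hTS
  have hmemD : ∀ α ∈ E.autGroup Q, (∃ ψ ∈ F.Hom (Q ⊔ Y),
      (∀ q : Q, ψ (Subgroup.inclusion le_sup_left q) = (α q : Ω)) ∧
      ∀ y : Y, ψ (Subgroup.inclusion le_sup_right y) = y) → α ∈ D.autGroup Q := fun α hα h =>
    (mem_autGroup_iff_hom hQT).2 ⟨(mem_autGroup_iff_hom hQT).1 hα,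
      hEF Q ((mem_autGroup_iff_hom hQT).1 hα), CenSub.le_centralizerIn_of_fix hTS hY hQT,
      fun x => CenSub.le_centralizerIn_of_fix hTS hY hQT (α x).2, h⟩
  obtain ⟨-, PA, hPA⟩ := isFullyAutomized_of_isFullyNormalized hTp hEs hQn
  set M := (D.autGroup Q).subgroupOf (E.autGroup Q)
  suffices hMt : M = ⊤ by
    intro α hα
    exact (hMt.symm ▸ Subgroup.mem_top _ : (⟨α, hα⟩ : E.autGroup Q) ∈ M)
  have hPM : (PA : Subgroup (E.autGroup Q)) ≤ M := fun a ha => by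
    rw [hPA, Subgroup.mem_subgroupOf] at ha
    exact Subgroup.mem_subgroupOf.2 (autInducedBy_le_autGroup _ hQT ha)
  rcases hQT.eq_or_lt with rfl | hlt
  · refine LayerCore.eq_top_of_sylow_of_coprime M PA hPM fun a ha => ?_
    obtain ⟨β, hβ, hβT, hβC⟩ := hext a a.2
    set W := Q ⊔ centralizerIn S Q with hW
    have hWS : W ≤ S := sup_le hTS (centralizerIn_le S Q)
    have : Finite W := finite_of_le hWS
    obtain ⟨κ, hκ, hκo, hκx, hκd⟩ := exists_coprime_ext (le_sup_left : Q ≤ W) hWS hβ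
      (a := (a : MulAut Q)) (by rwa [Subgroup.orderOf_coe]) (fun x => Subtype.ext (hβT x))
    have hYW : Y ≤ W := hY.trans le_sup_right
    refine hmemD _ a.2 ⟨_, restrict_mem ((mem_autGroup_iff_hom hWS).1 hκ)
      (sup_le le_sup_left hYW : Q ⊔ Y ≤ W), fun q => congrArg Subtype.val (hκx q), fun y => ?_⟩
    refine congrArg Subtype.val (Stability.eq_self_of_disp_fixed (hS.to_le hWS) κ hκo
      (x := (⟨y, hYW y.2⟩ : W)) ?_)
    have hYκ := Stability.aut_mem hYsc hWS hκ (x := (⟨y, hYW y.2⟩ : W)) y.2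
    have hd := hκd ((centralizerIn S Q).subgroupOf W) (Q.subgroupOf W)
      (fun x hx => Stability.aut_mem hT hWS hβ hx)
      (fun w hw => (hβC w hw).1) ⟨y, hYW y.2⟩ (hY y.2)
    set d : W := (⟨y, hYW y.2⟩ : W)⁻¹ * κ ⟨y, hYW y.2⟩ with hddef
    have hdY : (d : Ω) ∈ Y := by
      rw [hddef, Subgroup.coe_mul, Subgroup.coe_inv]
      exact mul_mem (inv_mem y.2) hYκ
    refine Subtype.ext ((congrArg Subtype.val (hκx ⟨d, hd⟩)).trans ?_)
    exact hfix Q _ ((mem_autGroup_iff_hom le_rfl).1 a.2) ⟨d, hd⟩ ⟨hd, hdY⟩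
  set O := Subgroup.normalClosure ((PA : Subgroup (E.autGroup Q)) : Set (E.autGroup Q))
  have hO : O ≤ M := by
    refine (Subgroup.closure_le _).2 fun x hx => ?_
    obtain ⟨c, hc, hcx⟩ := Group.mem_conjugatesOfSet_iff.1 hx
    obtain ⟨γ, rfl⟩ := isConj_iff.1 hcx
    rw [SetLike.mem_coe, hPA] at hc
    obtain ⟨t, htN, ht, hct⟩ := exists_eq_conjAut (show (c : MulAut Q) ∈ autInducedBy T Q from hc)
    have hQC : Q ≤ centralizerIn S Y := CenSub.le_centralizerIn_of_fix hTS hY hQT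
    have hγF := hEF Q ((mem_autGroup_iff_hom hQT).1 γ.2)
    obtain ⟨ψ, hψ, hag, hψY⟩ := CenNormal.exists_ext_sup hS hF hYsc hγF hQC
      fun x => hQC ((γ : MulAut Q) x).2
    obtain ⟨G, hG, hGx⟩ := LayerCore.exists_aut_of_mapsTo hψ (forall_mem_of_sup
      (fun x => by rw [hag]; exact Subgroup.mem_sup_left ((γ : MulAut Q) x).2)
      (fun y => Subgroup.mem_sup_right (hψY y)))
    have hWS : Q ⊔ Y ≤ S := sup_le (hQT.trans hTS) hYsc.1
    have htY : ∀ y ∈ Y, t * y * t⁻¹ = y := fun y hy => by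
      rw [CenSub.commute_of_le_centralizerIn hY ht hy, mul_inv_cancel_right]
    have htW : t ∈ Subgroup.normalizer ((Q ⊔ Y : Subgroup Ω) : Set Ω) :=
      normalizer_sup_of_mem htN (stronglyClosed_le_normalizer hYsc (hTS ht))
    have hh := (mem_autGroup_iff_hom hWS).1 (mul_mem (mul_mem hG
      (autInducedBy_le_autGroup F hWS (conjAut_mem_autInducedBy (hTS ht) htW))) (inv_mem hG))
    refine hmemD _ (mul_mem (mul_mem γ.2 c.2) (inv_mem γ.2)) ⟨_, hh, fun q => ?_, fun y => ?_⟩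
    · have hGQ : ∀ x : Q, G (Subgroup.inclusion le_sup_left x) =
          Subgroup.inclusion le_sup_left ((γ : MulAut Q) x) := fun x =>
        Subtype.ext ((hGx _).trans (hag x))
      have hinvq : G⁻¹ (Subgroup.inclusion le_sup_left q) =
          Subgroup.inclusion le_sup_left ((γ : MulAut Q)⁻¹ q) := G.injective (by
        rw [MulAut.apply_inv_self, hGQ, MulAut.apply_inv_self])
      show ((G (conjAut (Q ⊔ Y) t htW (G⁻¹ (Subgroup.inclusion le_sup_left q))) : ↥(Q ⊔ Y)) : Ω) = _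
      rw [hinvq]
      show _ = ((((γ : MulAut Q) * (c : MulAut Q) * (γ : MulAut Q)⁻¹) q : Q) : Ω)
      rw [hct]
      exact congrArg Subtype.val (hGQ (conjAut Q t htN ((γ : MulAut Q)⁻¹ q)))
    · show ((G (conjAut (Q ⊔ Y) t htW (G⁻¹ (Subgroup.inclusion le_sup_right y))) : ↥(Q ⊔ Y)) : Ω) = y
      set v := G⁻¹ (Subgroup.inclusion le_sup_right y) with hv
      have hvY : (v : Ω) ∈ Y := Stability.aut_mem hYsc hWS (inv_mem hG) y.2
      rw [show conjAut (Q ⊔ Y) t htW v = v from Subtype.ext (htY v hvY), hv, MulAut.apply_inv_self]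
      rfl
  have hN : Subgroup.normalizer ((PA : Subgroup (E.autGroup Q)) : Set (E.autGroup Q)) ≤ M := by
    intro a ha
    refine Descent.aut_mem_of_normalize hTp (isReceptive_of_isFullyNormalized hTp hEs hQn) hlt
      hbig a.2 fun β hβ => ?_
    have h1 : (⟨β, autInducedBy_le_autGroup E hQT hβ⟩ : E.autGroup Q) ∈
        (PA : Subgroup (E.autGroup Q)) := by
      rw [hPA]
      exact hβ
    have h2 := (Subgroup.mem_normalizer_iff.1 ha _).1 h1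
    rw [hPA] at h2
    exact h2
  exact top_le_iff.1 ((Sylow.normalizer_sup_eq_top' PA
    (Subgroup.subset_normalClosure : (PA : Set (E.autGroup Q)) ⊆ O)).ge.trans (sup_le hN hO))

/-! ### The product -/

variable {T₁ T₂ : Subgroup Ω} {E₁ : Cfsg.FusionSystem T₁} {E₂ : Cfsg.FusionSystem T₂}

/-- The hypotheses on the two factors. -/
structure Data (F : Cfsg.FusionSystem S) (E₁ : Cfsg.FusionSystem T₁) (E₂ : Cfsg.FusionSystem T₂)
    (p : ℕ) : Prop where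
  grp : IsPGroup p S
  sat : F.IsSaturated p
  nor₁ : E₁.IsNormalIn F p
  nor₂ : E₂.IsNormalIn F p
  comm : ∀ a ∈ T₁, ∀ b ∈ T₂, a * b = b * a
  fix₁ : Fixes E₁ (T₁ ⊓ T₂)
  fix₂ : Fixes E₂ (T₁ ⊓ T₂)

/-- Multiplication on `T₁ × T₂`. -/
def prodMul (hc : ∀ a ∈ T₁, ∀ b ∈ T₂, a * b = b * a) : ↥(T₁.prod T₂) →* Ω :=
  MonoidHom.mk' (fun s => (s : Ω × Ω).1 * (s : Ω × Ω).2) fun s t => by
    show ((s : Ω × Ω).1 * (t : Ω × Ω).1) * ((s : Ω × Ω).2 * (t : Ω × Ω).2) = _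
    have h := hc _ (Subgroup.mem_prod.1 t.2).1 _ (Subgroup.mem_prod.1 s.2).2
    simp only [mul_assoc]
    rw [← mul_assoc (t : Ω × Ω).1, h]
    simp only [mul_assoc]

theorem prodMul_range (hc : ∀ a ∈ T₁, ∀ b ∈ T₂, a * b = b * a) :
    (prodMul hc).range = T₁ ⊔ T₂ := by
  refine le_antisymm ?_ (sup_le (fun a ha => ⟨⟨(a, 1), Subgroup.mem_prod.2 ⟨ha, one_mem _⟩⟩,
    mul_one a⟩) fun b hb => ⟨⟨(1, b), Subgroup.mem_prod.2 ⟨one_mem _, hb⟩⟩, one_mul b⟩)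
  rintro _ ⟨s, rfl⟩
  exact mul_mem (Subgroup.mem_sup_left (Subgroup.mem_prod.1 s.2).1)
    (Subgroup.mem_sup_right (Subgroup.mem_prod.1 s.2).2)

namespace Data

variable (h : Data F E₁ E₂ p)
include h

theorem sc₁ : F.StronglyClosed T₁ := h.nor₁.1.2.2.2.1
theorem sc₂ : F.StronglyClosed T₂ := h.nor₂.1.2.2.2.1
theorem scT : F.StronglyClosed (T₁ ⊔ T₂) :=
  CfsgLib.FusionQuot.stronglyClosed_sup h.grp h.sat h.sc₁ h.sc₂
theorem scZ : F.StronglyClosed (T₁ ⊓ T₂) := CfsgLib.FusionQuot.stronglyClosed_inf h.sc₁ h.sc₂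
theorem le_cen₁ : T₂ ≤ centralizerIn S T₁ := fun b hb =>
  ⟨h.sc₂.1 hb, Subgroup.mem_centralizer_iff.2 fun a ha => h.comm a ha b hb⟩
theorem le_cen₂ : T₁ ≤ centralizerIn S T₂ := fun a ha =>
  ⟨h.sc₁.1 ha, Subgroup.mem_centralizer_iff.2 fun b hb => (h.comm a ha b hb).symm⟩

theorem isFixed₁ : CenSub.IsFixed E₁ F T₂ :=
  isFixed_of_commute h.grp h.sat h.nor₁ h.sc₂ h.le_cen₁ h.fix₁
theorem isFixed₂ : CenSub.IsFixed E₂ F T₁ :=
  isFixed_of_commute h.grp h.sat h.nor₂ h.sc₁ h.le_cen₂ (by rw [inf_comm]; exact h.fix₂)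

theorem kerAlong_le : CfsgLib.FusionQuot.kerAlong (prodMul h.comm) ≤ T₁.prod T₂ := fun _ hx =>
  (CfsgLib.FusionQuot.mem_kerAlong.1 hx).1

theorem ker_mem {x : Ω × Ω} (hx : x ∈ CfsgLib.FusionQuot.kerAlong (prodMul h.comm)) :
    x.1 ∈ T₁ ⊓ T₂ ∧ x.2 ∈ T₁ ⊓ T₂ := by
  obtain ⟨hxW, hx1⟩ := CfsgLib.FusionQuot.mem_kerAlong.1 hx
  obtain ⟨h1, h2⟩ := Subgroup.mem_prod.1 hxW
  have hx1' : x.1 * x.2 = 1 := hx1
  refine ⟨⟨h1, ?_⟩, ⟨?_, h2⟩⟩
  · rw [eq_inv_of_mul_eq_one_left hx1']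
    exact T₂.inv_mem h2
  · rw [eq_inv_of_mul_eq_one_right hx1']
    exact T₁.inv_mem h1

theorem ker_central :
    (CfsgLib.FusionQuot.productSystem E₁ E₂).IsCentral
      (CfsgLib.FusionQuot.kerAlong (prodMul h.comm)) := by
  set K := CfsgLib.FusionQuot.kerAlong (prodMul h.comm) with hK
  refine ⟨h.kerAlong_le, ?_⟩
  rintro P _ ⟨hP, φ₁, hφ₁, φ₂, hφ₂, rfl⟩
  obtain ⟨ψ₁, hψ₁, hag₁, hfix₁⟩ := (isCentral_of_fixes h.grp h.nor₁ inf_le_left h.fix₁).2 _ φ₁ hφ₁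
  obtain ⟨ψ₂, hψ₂, hag₂, hfix₂⟩ := (isCentral_of_fixes h.grp h.nor₂ inf_le_right h.fix₂).2 _ φ₂ hφ₂
  have hle₁ : (P ⊔ K).map (MonoidHom.fst Ω Ω) ≤ P.map (MonoidHom.fst Ω Ω) ⊔ (T₁ ⊓ T₂) := by
    rw [Subgroup.map_sup]
    refine sup_le_sup_left ?_ _
    rintro _ ⟨x, hx, rfl⟩
    exact (h.ker_mem hx).1
  have hle₂ : (P ⊔ K).map (MonoidHom.snd Ω Ω) ≤ P.map (MonoidHom.snd Ω Ω) ⊔ (T₁ ⊓ T₂) := by
    rw [Subgroup.map_sup]
    refine sup_le_sup_left ?_ _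
    rintro _ ⟨x, hx, rfl⟩
    exact (h.ker_mem hx).2
  refine ⟨_, ⟨sup_le hP h.kerAlong_le, _, restrict_mem hψ₁ hle₁, _, restrict_mem hψ₂ hle₂, rfl⟩,
    fun x => ?_, fun x => ?_⟩
  · rw [CfsgLib.FusionQuot.prodRestrict_apply, CfsgLib.FusionQuot.prodRestrict_apply]
    exact Prod.ext (hag₁ ⟨_, CfsgLib.FusionQuot.mem_fst_map x⟩)
      (hag₂ ⟨_, CfsgLib.FusionQuot.mem_snd_map x⟩)
  · rw [CfsgLib.FusionQuot.prodRestrict_apply]
    exact Prod.ext (hfix₁ ⟨(x : Ω × Ω).1, (h.ker_mem x.2).1⟩)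
      (hfix₂ ⟨(x : Ω × Ω).2, (h.ker_mem x.2).2⟩)

/-- The central product system. -/
theorem exists_factor :
    ∃ D : Cfsg.FusionSystem (T₁ ⊔ T₂),
      (CfsgLib.FusionQuot.productSystem E₁ E₂).IsFactorSystem
        (CfsgLib.FusionQuot.kerAlong (prodMul h.comm)) (prodMul h.comm) D := by
  have : Finite T₁ := finite_of_le h.sc₁.1
  have : Finite T₂ := finite_of_le h.sc₂.1
  have : Finite ↥(T₁.prod T₂) := Finite.of_equiv _ (Subgroup.prodEquiv T₁ T₂).symm.toEquiv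
  exact CfsgLib.FusionQuot.exists_factorSystem _ _ (prodMul_range h.comm)
    (fun s => ⟨fun h1 => CfsgLib.FusionQuot.mem_kerAlong.2 ⟨s.2, h1⟩,
      fun h1 => (CfsgLib.FusionQuot.mem_kerAlong.1 h1).2⟩)
    (isNormal_stronglyClosed (CfsgLib.FusionConstrained.isNormal_of_isCentral h.ker_central))

variable {D : Cfsg.FusionSystem (T₁ ⊔ T₂)}

theorem isCentralProduct
    (hD : (CfsgLib.FusionQuot.productSystem E₁ E₂).IsFactorSystem
      (CfsgLib.FusionQuot.kerAlong (prodMul h.comm)) (prodMul h.comm) D) :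
    IsCentralProductOf E₁ E₂ D := by
  have : Finite T₁ := finite_of_le h.sc₁.1
  have : Finite T₂ := finite_of_le h.sc₂.1
  have : Finite ↥(T₁.prod T₂) := Finite.of_equiv _ (Subgroup.prodEquiv T₁ T₂).symm.toEquiv
  refine ⟨_, CfsgLib.FusionQuot.productSystem_isProductSystem E₁ E₂, _, prodMul h.comm,
    CfsgLib.FusionQuot.le_center _ h.ker_central, eq_bot_iff.2 fun x hx => ?_,
    eq_bot_iff.2 fun x hx => ?_, fun x hx => mul_one x, fun y hy => one_mul y, hD⟩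
  · obtain ⟨hx0, hxp⟩ := hx
    obtain ⟨hxW, hx1⟩ := CfsgLib.FusionQuot.mem_kerAlong.1 hx0
    have h2 : x.2 = 1 := Subgroup.mem_bot.1 (Subgroup.mem_prod.1 hxp).2
    have hx1' : x.1 * x.2 = 1 := hx1
    rw [h2, mul_one] at hx1'
    exact Subgroup.mem_bot.2 (Prod.ext hx1' h2)
  · obtain ⟨hx0, hxp⟩ := hx
    obtain ⟨hxW, hx1⟩ := CfsgLib.FusionQuot.mem_kerAlong.1 hx0
    have h2 : x.1 = 1 := Subgroup.mem_bot.1 (Subgroup.mem_prod.1 hxp).1
    have hx1' : x.1 * x.2 = 1 := hx1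
    rw [h2, one_mul] at hx1'
    exact Subgroup.mem_bot.2 (Prod.ext h2 hx1')

variable (hD : (CfsgLib.FusionQuot.productSystem E₁ E₂).IsFactorSystem
      (CfsgLib.FusionQuot.kerAlong (prodMul h.comm)) (prodMul h.comm) D)
include hD

/-- A map given on both parts is a map of the product. -/
theorem mem_of_pair {P Q₁ Q₂ : Subgroup Ω} {φ : P →* Ω} {e₁ : Q₁ →* Ω} {e₂ : Q₂ →* Ω}
    (he₁ : e₁ ∈ E₁.Hom Q₁) (he₂ : e₂ ∈ E₂.Hom Q₂) (hZ₁ : T₁ ⊓ T₂ ≤ Q₁) (hZ₂ : T₁ ⊓ T₂ ≤ Q₂)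
    (hP : ∀ y ∈ P, ∃ a ∈ Q₁, ∃ b ∈ Q₂, y = a * b)
    (hval : ∀ (a : Q₁) (b : Q₂) (hab : (a : Ω) * b ∈ P), φ ⟨_, hab⟩ = e₁ a * e₂ b) :
    φ ∈ D.Hom P := by
  have hPT : P ≤ T₁ ⊔ T₂ := fun y hy => by
    obtain ⟨a, ha, b, hb, rfl⟩ := hP y hy
    exact mul_mem (Subgroup.mem_sup_left (dom_le he₁ ha)) (Subgroup.mem_sup_right (dom_le he₂ hb))
  set R := preimageAlong (prodMul h.comm) P with hR
  have hRW : R ≤ T₁.prod T₂ := CfsgLib.FusionQuot.preimageAlong_le P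
  have hsplit : ∀ s ∈ R, s.1 ∈ Q₁ ∧ s.2 ∈ Q₂ := by
    intro s hs
    obtain ⟨hsW, hsP⟩ := CfsgLib.FusionQuot.mem_preimageAlong.1 hs
    obtain ⟨a, ha, b, hb, hab⟩ := hP _ hsP
    have hab' : s.1 * s.2 = a * b := hab
    obtain ⟨h1, h2⟩ := Subgroup.mem_prod.1 hsW
    have haT := dom_le he₁ ha
    have hbT := dom_le he₂ hb
    have e : a⁻¹ * s.1 = b * s.2⁻¹ := by
      calc a⁻¹ * s.1 = a⁻¹ * (s.1 * s.2) * s.2⁻¹ := by group
        _ = b * s.2⁻¹ := by rw [hab']; group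
    have hz : a⁻¹ * s.1 ∈ T₁ ⊓ T₂ :=
      ⟨mul_mem (T₁.inv_mem haT) h1, e ▸ mul_mem hbT (T₂.inv_mem h2)⟩
    refine ⟨?_, ?_⟩
    · have := Q₁.mul_mem ha (hZ₁ hz)
      rwa [mul_inv_cancel_left] at this
    · have := Q₂.mul_mem (Q₂.inv_mem (hZ₂ (e ▸ hz : b * s.2⁻¹ ∈ T₁ ⊓ T₂))) hb
      rwa [mul_inv_rev, inv_inv, inv_mul_cancel_right] at this
  have hle₁ : R.map (MonoidHom.fst Ω Ω) ≤ Q₁ := by rintro _ ⟨s, hs, rfl⟩; exact (hsplit s hs).1
  have hle₂ : R.map (MonoidHom.snd Ω Ω) ≤ Q₂ := by rintro _ ⟨s, hs, rfl⟩; exact (hsplit s hs).2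
  set σ := CfsgLib.FusionQuot.prodRestrict R (e₁.comp (Subgroup.inclusion hle₁))
    (e₂.comp (Subgroup.inclusion hle₂)) with hσdef
  have hσ : σ ∈ (CfsgLib.FusionQuot.productSystem E₁ E₂).Hom R :=
    ⟨hRW, _, restrict_mem he₁ hle₁, _, restrict_mem he₂ hle₂, rfl⟩
  refine (hD.2.2.2 P φ).2 ⟨hPT, σ, hσ, hRW, fun s => map_mem hσ s,
    fun s => (CfsgLib.FusionQuot.mem_preimageAlong.1 s.2).2, fun s => ?_⟩
  exact hval ⟨_, (hsplit s s.2).1⟩ ⟨_, (hsplit s s.2).2⟩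
    (CfsgLib.FusionQuot.mem_preimageAlong.1 s.2).2

/-- A map of the product is given on both parts. -/
theorem exists_pair {P : Subgroup Ω} {φ : P →* Ω} (hφ : φ ∈ D.Hom P) :
    ∃ (Q₁ Q₂ : Subgroup Ω) (e₁ : Q₁ →* Ω) (e₂ : Q₂ →* Ω), e₁ ∈ E₁.Hom Q₁ ∧ e₂ ∈ E₂.Hom Q₂ ∧
      T₁ ⊓ T₂ ≤ Q₁ ∧ T₁ ⊓ T₂ ≤ Q₂ ∧ (∀ y ∈ P, ∃ a ∈ Q₁, ∃ b ∈ Q₂, y = a * b) ∧
      ∀ (a : Q₁) (b : Q₂) (hab : (a : Ω) * b ∈ P), φ ⟨_, hab⟩ = e₁ a * e₂ b := by
  obtain ⟨hPT, σ, ⟨hR, e₁, he₁, e₂, he₂, rfl⟩, hind⟩ := (hD.2.2.2 P φ).1 hφ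
  have hZmem : ∀ z ∈ T₁ ⊓ T₂, ((z, z⁻¹) : Ω × Ω) ∈ preimageAlong (prodMul h.comm) P := fun z hz => by
    refine CfsgLib.FusionQuot.mem_preimageAlong.2
      ⟨Subgroup.mem_prod.2 ⟨hz.1, inv_mem hz.2⟩, ?_⟩
    show z * z⁻¹ ∈ P
    rw [mul_inv_cancel]
    exact one_mem P
  refine ⟨_, _, e₁, e₂, he₁, he₂, fun z hz => ⟨_, hZmem z hz, rfl⟩,
    fun z hz => ⟨_, hZmem z⁻¹ (inv_mem hz), inv_inv z⟩, fun y hy => ?_, fun a b hab => ?_⟩
  · obtain ⟨s, hs⟩ := hD.2.2.1.ge (hPT hy)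
    have hsR : (s : Ω × Ω) ∈ preimageAlong (prodMul h.comm) P :=
      CfsgLib.FusionQuot.mem_preimageAlong.2 ⟨s.2, hs.symm ▸ hy⟩
    exact ⟨_, ⟨_, hsR, rfl⟩, _, ⟨_, hsR, rfl⟩, hs.symm⟩
  · have hsR : (((a : Ω), (b : Ω)) : Ω × Ω) ∈ preimageAlong (prodMul h.comm) P :=
      CfsgLib.FusionQuot.mem_preimageAlong.2
        ⟨Subgroup.mem_prod.2 ⟨dom_le he₁ a.2, dom_le he₂ b.2⟩, hab⟩
    exact (CfsgLib.FusionQuot.induced_apply hind ⟨_, hsR⟩ (hR hsR) hab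
      (map_mem (P := preimageAlong (prodMul h.comm) P)
        (F := CfsgLib.FusionQuot.productSystem E₁ E₂) ⟨hR, e₁, he₁, e₂, he₂, rfl⟩ _))

theorem D_le_F : D.IsSubsystemOf F := by
  intro P φ hφ
  obtain ⟨Q₁, Q₂, e₁, e₂, he₁, he₂, -, -, hP, hval⟩ := h.exists_pair hD hφ
  obtain ⟨ψ₁, hψ₁, hag₁, hfix₁⟩ := h.isFixed₁.2 Q₁ e₁ he₁
  obtain ⟨ψ₂, hψ₂, hag₂, hfix₂⟩ := h.isFixed₂.2 Q₂ e₂ he₂
  have hle : Q₁ ⊔ Q₂ ≤ Q₁ ⊔ T₂ := sup_le_sup_left (dom_le he₂) Q₁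
  have hm : ∀ z, ψ₁.comp (Subgroup.inclusion hle) z ∈ Q₂ ⊔ T₁ := forall_mem_of_sup
    (fun a => Subgroup.mem_sup_right (show ψ₁ (Subgroup.inclusion le_sup_left a) ∈ T₁ by
      rw [hag₁]; exact map_mem he₁ a))
    (fun b => Subgroup.mem_sup_left (show
      ψ₁ (Subgroup.inclusion le_sup_right (⟨(b : Ω), dom_le he₂ b.2⟩ : T₂)) ∈ Q₂ by
        rw [hfix₁]; exact b.2))
  have hc := F.comp_mem (restrict_mem hψ₁ hle) hψ₂ hm
  have hPQ : P ≤ Q₁ ⊔ Q₂ := fun y hy => by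
    obtain ⟨a, ha, b, hb, rfl⟩ := hP y hy
    exact mul_mem (Subgroup.mem_sup_left ha) (Subgroup.mem_sup_right hb)
  refine mem_of_restrict hc hPQ φ ?_
  rintro ⟨y, hy⟩
  obtain ⟨a, ha, b, hb, rfl⟩ := hP y hy
  rw [hval ⟨a, ha⟩ ⟨b, hb⟩ hy]
  have e : (⟨a * b, hPQ hy⟩ : ↥(Q₁ ⊔ Q₂)) = Subgroup.inclusion le_sup_left ⟨a, ha⟩ *
      Subgroup.inclusion le_sup_right ⟨b, hb⟩ := Subtype.ext rfl
  rw [e, map_mul]
  refine (congrArg₂ (· * ·) ?_ ?_)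
  · show e₁ ⟨a, ha⟩ = ψ₂ ⟨ψ₁ (Subgroup.inclusion le_sup_left ⟨a, ha⟩), _⟩
    refine (Eq.trans (congrArg ψ₂ (a₂ := Subgroup.inclusion le_sup_right
      (⟨e₁ ⟨a, ha⟩, map_mem he₁ _⟩ : T₁)) (Subtype.ext (hag₁ ⟨a, ha⟩))) ?_).symm
    exact hfix₂ ⟨e₁ ⟨a, ha⟩, map_mem he₁ _⟩
  · show e₂ ⟨b, hb⟩ = ψ₂ ⟨ψ₁ (Subgroup.inclusion le_sup_right ⟨b, dom_le he₂ hb⟩), _⟩
    refine (Eq.trans (congrArg ψ₂ (a₂ := Subgroup.inclusion le_sup_left ⟨b, hb⟩)
      (Subtype.ext (hfix₁ ⟨b, dom_le he₂ hb⟩))) ?_).symm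
    exact hag₂ ⟨b, hb⟩

theorem E₁_le : ∀ P, E₁.Hom P ⊆ D.Hom P := by
  intro P φ hφ
  have : Finite T₂ := finite_of_le h.sc₂.1
  obtain ⟨ψ, hψ, hag, hfix⟩ := (isCentral_of_fixes h.grp h.nor₁ inf_le_left h.fix₁).2 P φ hφ
  refine h.mem_of_pair hD hψ (subtype_mem E₂ (inf_le_right : T₁ ⊓ T₂ ≤ T₂)) le_sup_right le_rfl
    (fun y hy => ⟨y, Subgroup.mem_sup_left hy, 1, one_mem _, (mul_one y).symm⟩) fun a b hab => ?_
  have hab' : (a : Ω) * b ∈ P ⊔ (T₁ ⊓ T₂) := Subgroup.mem_sup_left hab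
  have h1 : ψ ⟨_, hab'⟩ = φ ⟨_, hab⟩ := hag ⟨_, hab⟩
  rw [← h1, show (⟨_, hab'⟩ : ↥(P ⊔ (T₁ ⊓ T₂))) = a * Subgroup.inclusion le_sup_right b from
    Subtype.ext rfl, map_mul, hfix]
  rfl

theorem isAutInvariant : IsAutInvariant D F := by
  intro P hPT φ hφ α hα
  obtain ⟨Q₁, Q₂, e₁, e₂, he₁, he₂, hZ₁, hZ₂, hP, hval⟩ := h.exists_pair hD hφ
  have hTS := h.scT.1
  have hαh := (mem_autGroup_iff_hom hTS).1 hα
  have : Finite T₁ := finite_of_le h.sc₁.1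
  have : Finite T₂ := finite_of_le h.sc₂.1
  obtain ⟨α₁, hα₁, hα₁x⟩ := LayerCore.exists_aut_of_mapsTo
    (restrict_mem hαh (le_sup_left : T₁ ≤ T₁ ⊔ T₂))
    fun x => stronglyClosed_apply_mem h.sc₁ (restrict_mem hαh le_sup_left) x x.2
  obtain ⟨α₂, hα₂, hα₂x⟩ := LayerCore.exists_aut_of_mapsTo
    (restrict_mem hαh (le_sup_right : T₂ ≤ T₁ ⊔ T₂))
    fun x => stronglyClosed_apply_mem h.sc₂ (restrict_mem hαh le_sup_right) x x.2
  obtain ⟨χ₁, hχ₁, hχ₁x⟩ := h.nor₁.1.2.2.2.2.1 Q₁ (dom_le he₁) e₁ he₁ α₁ hα₁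
  obtain ⟨χ₂, hχ₂, hχ₂x⟩ := h.nor₂.1.2.2.2.2.1 Q₂ (dom_le he₂) e₂ he₂ α₂ hα₂
  set P' := (P.subgroupOf (T₁ ⊔ T₂)).map ((T₁ ⊔ T₂).subtype.comp α.toMonoidHom) with hP'
  have hP'T : P' ≤ T₁ ⊔ T₂ := by rintro _ ⟨x, -, rfl⟩; exact (α x).2
  have hback : ∀ y : P', ((α⁻¹ ⟨y, hP'T y.2⟩ : ↥(T₁ ⊔ T₂)) : Ω) ∈ P := by
    rintro ⟨_, x, hx, rfl⟩
    rw [show (⟨((T₁ ⊔ T₂).subtype.comp α.toMonoidHom) x, _⟩ : ↥(T₁ ⊔ T₂)) = α x from rfl,
      MulAut.inv_apply_self]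
    exact hx
  let g : P' →* P := ((T₁ ⊔ T₂).subtype.comp ((α⁻¹ : MulAut _).toMonoidHom.comp
    (Subgroup.inclusion hP'T))).codRestrict P hback
  let χ : P' →* Ω := ((T₁ ⊔ T₂).subtype.comp α.toMonoidHom).comp
    ((φ.codRestrict _ (map_mem hφ)).comp g)
  refine ⟨χ, h.mem_of_pair hD hχ₁ hχ₂ ?_ ?_ ?_ ?_, fun x hφx hαx => ?_⟩
  · intro z hz
    have hw : ((α₁⁻¹ ⟨z, hz.1⟩ : T₁) : Ω) ∈ T₁ ⊓ T₂ :=
      Stability.aut_mem h.scZ h.sc₁.1 (inv_mem hα₁) (x := ⟨z, hz.1⟩) hz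
    refine ⟨α₁⁻¹ ⟨z, hz.1⟩, hZ₁ hw, ?_⟩
    show ((α₁ (α₁⁻¹ ⟨z, hz.1⟩) : T₁) : Ω) = z
    rw [MulAut.apply_inv_self]
  · intro z hz
    have hw : ((α₂⁻¹ ⟨z, hz.2⟩ : T₂) : Ω) ∈ T₁ ⊓ T₂ :=
      Stability.aut_mem h.scZ h.sc₂.1 (inv_mem hα₂) (x := ⟨z, hz.2⟩) hz
    refine ⟨α₂⁻¹ ⟨z, hz.2⟩, hZ₂ hw, ?_⟩
    show ((α₂ (α₂⁻¹ ⟨z, hz.2⟩) : T₂) : Ω) = z
    rw [MulAut.apply_inv_self]
  · rintro y ⟨⟨x, hxT⟩, hx, rfl⟩
    obtain ⟨a, ha, b, hb, rfl⟩ := hP x hx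
    refine ⟨_, ⟨⟨a, dom_le he₁ ha⟩, ha, rfl⟩, _, ⟨⟨b, dom_le he₂ hb⟩, hb, rfl⟩, ?_⟩
    show ((α ⟨a * b, hxT⟩ : ↥(T₁ ⊔ T₂)) : Ω) = ((α₁ ⟨a, _⟩ : T₁) : Ω) * ((α₂ ⟨b, _⟩ : T₂) : Ω)
    rw [hα₁x, hα₂x]
    exact congrArg Subtype.val ((congrArg α (Subtype.ext rfl : (⟨a * b, hxT⟩ : ↥(T₁ ⊔ T₂)) =
      Subgroup.inclusion le_sup_left (⟨a, dom_le he₁ ha⟩ : T₁) *
        Subgroup.inclusion le_sup_right (⟨b, dom_le he₂ hb⟩ : T₂))).trans (map_mul α _ _))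
  · rintro ⟨_, a, ha, rfl⟩ ⟨_, b, hb, rfl⟩ hab
    set A : ↥(T₁ ⊔ T₂) := Subgroup.inclusion le_sup_left a
    set B : ↥(T₁ ⊔ T₂) := Subgroup.inclusion le_sup_right b
    have e1 : ((T₁.subtype.comp α₁.toMonoidHom) a) = ((α A : ↥(T₁ ⊔ T₂)) : Ω) := hα₁x a
    have e2 : ((T₂.subtype.comp α₂.toMonoidHom) b) = ((α B : ↥(T₁ ⊔ T₂)) : Ω) := hα₂x b
    have e3 : (⟨(T₁.subtype.comp α₁.toMonoidHom) a * (T₂.subtype.comp α₂.toMonoidHom) b,
        hP'T hab⟩ : ↥(T₁ ⊔ T₂)) = α (A * B) := Subtype.ext (by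
      show _ * _ = ((α (A * B) : ↥(T₁ ⊔ T₂)) : Ω)
      rw [map_mul, Subgroup.coe_mul, e1, e2])
    have hABP : (a : Ω) * b ∈ P := by
      have h1 := hback ⟨_, hab⟩
      rw [e3, MulAut.inv_apply_self] at h1
      exact h1
    have hg : g ⟨_, hab⟩ = ⟨(a : Ω) * b, hABP⟩ := Subtype.ext (by
      show ((α⁻¹ (Subgroup.inclusion hP'T ⟨_, hab⟩) : ↥(T₁ ⊔ T₂)) : Ω) = _
      rw [show Subgroup.inclusion hP'T ⟨_, hab⟩ = α (A * B) from e3, MulAut.inv_apply_self]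
      rfl)
    show ((α ⟨φ (g ⟨_, hab⟩), _⟩ : ↥(T₁ ⊔ T₂)) : Ω) = _
    have hv := hval ⟨(a : Ω), ha⟩ ⟨(b : Ω), hb⟩ hABP
    rw [show (⟨φ (g ⟨_, hab⟩), map_mem hφ _⟩ : ↥(T₁ ⊔ T₂)) =
      Subgroup.inclusion le_sup_left (⟨_, map_mem he₁ ⟨(a : Ω), ha⟩⟩ : T₁) *
        Subgroup.inclusion le_sup_right (⟨_, map_mem he₂ ⟨(b : Ω), hb⟩⟩ : T₂) from
      Subtype.ext (by rw [hg]; exact hv), map_mul]
    refine congrArg₂ (· * ·) ?_ ?_
    · refine (hα₁x _).symm.trans ?_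
      exact (hχ₁x ⟨(a : Ω), ha⟩ (map_mem he₁ _) ⟨a, ha, rfl⟩).symm
    · refine (hα₂x _).symm.trans ?_
      exact (hχ₂x ⟨(b : Ω), hb⟩ (map_mem he₂ _) ⟨b, hb, rfl⟩).symm
  · show ((α ⟨φ (g ⟨_, hαx⟩), _⟩ : ↥(T₁ ⊔ T₂)) : Ω) = _
    congr 2
    refine Subtype.ext (congrArg φ (Subtype.ext ?_))
    exact congrArg (fun z : ↥(T₁ ⊔ T₂) => (z : Ω))
      (MulAut.inv_apply_self (↥(T₁ ⊔ T₂)) α ⟨(x : Ω), hPT x.2⟩)

/-- The Frattini condition. -/
theorem factors : ∀ (P : Subgroup Ω), P ≤ T₁ ⊔ T₂ → ∀ φ : P →* Ω, φ ∈ F.Hom P → Factors D F φ := by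
  classical
  have hT := h.scT
  have hTS : T₁ ⊔ T₂ ≤ S := hT.1
  have hinv := h.isAutInvariant hD
  have hS := h.grp
  have hF := h.sat
  have : Finite ↥(T₁ ⊔ T₂) := finite_of_le hTS
  have hTp : IsPGroup p ↥(T₁ ⊔ T₂) := hS.to_le hTS
  have hZn : F.IsNormal (T₁ ⊓ T₂) := Stability.isNormal_of_abelian hS hF h.scZ
    fun x hx y hy => h.comm x hx.1 y hy.2
  intro P
  induction hn : Nat.card ↥(T₁ ⊔ T₂) - Nat.card P using Nat.strong_induction_on generalizing P with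
  | _ n ih =>
  intro hPT φ hφ
  obtain ⟨e, he, heφ⟩ := exists_iso hφ rfl
  suffices hh : Factors D F (φ.range.subtype.comp e.toMonoidHom) from
    factors_restrict le_rfl φ (fun x => (heφ x).symm) hh
  rcases eq_or_lt_of_le hPT with rfl | hlt
  · have hr : φ.range = T₁ ⊔ T₂ :=
      CfsgLib.FusionQuot.eq_of_isConj_of_stronglyClosed hT (isConj_of_mem hφ)
    obtain ⟨α, hα, hαφ⟩ := exists_aut hφ hr
    exact ⟨α, hα, (T₁ ⊔ T₂).subtype, subtype_mem D le_rfl,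
      fun x hx => (heφ x).trans (hαφ _).symm⟩
  have hIH : ∀ (R : Subgroup Ω), R ≤ T₁ ⊔ T₂ → Nat.card P < Nat.card R → ∀ χ : R →* Ω,
      χ ∈ F.Hom R → Factors D F χ := by
    intro R hR hc χ hχ
    have : Nat.card R ≤ Nat.card ↥(T₁ ⊔ T₂) := Subgroup.card_le_of_le hR
    exact ih _ (by omega) R rfl hR χ hχ
  obtain ⟨Q, hPQ, hQ⟩ := exists_isFullyNormalized F (hPT.trans hTS)
  have hcl : ∀ {R R' : Subgroup Ω}, R ≤ T₁ ⊔ T₂ → F.IsConj R R' → R' ≤ T₁ ⊔ T₂ := by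
    rintro R _ hR ⟨χ, hχ, rfl⟩ _ ⟨x, rfl⟩
    exact stronglyClosed_apply_mem hT hχ x (hR x.2)
  have hQT : Q ≤ T₁ ⊔ T₂ := hcl hPT hPQ
  have hQlt : Q < T₁ ⊔ T₂ := lt_of_le_of_ne hQT fun h' => by
    have h1 := card_lt_card' hTS hlt
    have h2 := isConj_card_eq hPQ
    rw [h'] at h2
    omega
  have hRlt : φ.range < T₁ ⊔ T₂ := lt_of_le_of_ne (hcl hPT (isConj_of_mem hφ)) fun h' => by
    have h1 := card_lt_card' hTS hlt
    have h2 := isConj_card_eq (isConj_of_mem hφ)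
    rw [h'] at h2
    omega
  have hlift : ∀ {R : Subgroup Ω}, F.IsConj R Q → R < T₁ ⊔ T₂ → Nat.card R = Nat.card P →
      ∃ f : R ≃* Q, IsFIso F f ∧ Factors D F (Q.subtype.comp f.toMonoidHom) := by
    intro R hRQ hR hc
    obtain ⟨f, hf, ψ, hψ, -, hag⟩ := exists_normalizer_map hS hF hQ hRQ
    refine ⟨f, hf, ?_⟩
    have hle : normalizerIn (T₁ ⊔ T₂) R ≤ normalizerIn S R := inf_le_inf_right _ hTS
    exact factors_restrict (φ := ψ.comp (Subgroup.inclusion hle)) (le_normalizerIn hR.le) _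
      (fun x => (hag x).symm)
      (hIH _ (normalizerIn_le _ R) (hc ▸ card_lt_card' ((normalizerIn_le _ R).trans hTS)
        (lt_normalizerIn hTp hR)) _ (restrict_mem hψ hle))
  obtain ⟨f₁, hf₁, hf₁C⟩ := hlift hPQ hlt rfl
  obtain ⟨f₂, hf₂, hf₂C⟩ := hlift (isConj_trans (isConj_symm (isConj_of_mem hφ)) hPQ) hRlt
    (isConj_card_eq (isConj_of_mem hφ)).symm
  -- the automorphisms of `Q`
  have hQS : Q ≤ S := hQ.1
  have : Finite Q := finite_of_le hQS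
  have : Finite (MulAut Q) := finite_mulAut
  have hauto : ∀ α ∈ F.autGroup Q, Factors D F (Q.subtype.comp α.toMonoidHom) := by
    intro α hα
    by_cases hZQ : T₁ ⊓ T₂ ≤ Q
    case neg =>
      obtain ⟨ψ, hψ, hag, -⟩ := hZn.2 Q _ ((mem_autGroup_iff_hom hQS).1 hα)
      refine factors_restrict (φ := ψ) le_sup_left _ (fun x => (hag x).symm) (hIH _
        (sup_le hQT (inf_le_left.trans le_sup_left)) ?_ ψ hψ)
      rw [isConj_card_eq hPQ]
      exact card_lt_card' (sup_le hQS (inf_le_left.trans h.sc₁.1))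
        (lt_of_le_of_ne le_sup_left fun h' => hZQ (le_sup_right.trans h'.ge))
    let M : Subgroup (F.autGroup Q) :=
      { carrier := {γ | Factors D F (Q.subtype.comp (γ : MulAut Q).toMonoidHom)}
        one_mem' := factors_of_mem hTS (mem_of_restrict (subtype_mem D hQT) le_rfl _ fun _ => rfl)
        mul_mem' := fun {γ δ} hγ hδ =>
          factors_comp hinv hTS (φ := Q.subtype.comp (δ : MulAut Q).toMonoidHom)
            (fun x => ((δ : MulAut Q) x).2) _ (fun x => rfl) hδ hγ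
        inv_mem' := fun {γ} hγ =>
          factors_symm hinv hTS hT (e := ((γ : MulAut Q) : Q ≃* Q))
            ((mem_autGroup_iff hQS).1 γ.2) hQT hγ }
    suffices hMt : M = ⊤ from (hMt.symm ▸ Subgroup.mem_top _ : (⟨α, hα⟩ : F.autGroup Q) ∈ M)
    obtain ⟨-, TS, hTS'⟩ := isFullyAutomized_of_isFullyNormalized hS hF hQ
    have hSM : (TS : Subgroup (F.autGroup Q)) ≤ M := by
      intro γ hγ
      rw [hTS'] at hγ
      obtain ⟨s, hsN, hsS, hγs⟩ := exists_eq_conjAut (show (γ : MulAut Q) ∈ autInducedBy S Q from hγ)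
      have hsT : s ∈ Subgroup.normalizer ((T₁ ⊔ T₂ : Subgroup Ω) : Set Ω) :=
        stronglyClosed_le_normalizer hT hsS
      refine ⟨conjAut _ s hsT, autInducedBy_le_autGroup F hTS (conjAut_mem_autInducedBy hsS hsT),
        Q.subtype, subtype_mem D hQT, fun x hx => ?_⟩
      show (((γ : MulAut Q) x : Q) : Ω) = _
      rw [hγs]
      rfl
    -- the stabilizer of the chain
    let Δ : Subgroup (F.autGroup Q) :=
      { carrier := {δ | ∀ x : Q, (((x : Ω) ∈ T₁ ⊓ T₂ → (δ : MulAut Q) x = x) ∧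
          ((x⁻¹ * (δ : MulAut Q) x : Q) : Ω) ∈ T₁ ⊓ T₂)}
        one_mem' := fun x => ⟨fun _ => rfl, by simp⟩
        mul_mem' := by
          intro γ δ hγ hδ x
          refine ⟨fun hx => ?_, ?_⟩
          · rw [Subgroup.coe_mul, MulAut.mul_apply, (hδ x).1 hx, (hγ x).1 hx]
          · show ((x⁻¹ * (γ : MulAut Q) ((δ : MulAut Q) x) : Q) : Ω) ∈ T₁ ⊓ T₂
            rw [show x⁻¹ * (γ : MulAut Q) ((δ : MulAut Q) x) = (x⁻¹ * (δ : MulAut Q) x) *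
                (((δ : MulAut Q) x)⁻¹ * (γ : MulAut Q) ((δ : MulAut Q) x)) by group]
            exact mul_mem (hδ x).2 (hγ _).2
        inv_mem' := by
          intro γ hγ x
          refine ⟨fun hx => ?_, ?_⟩
          · rw [Subgroup.coe_inv]
            apply (γ : MulAut Q).injective
            rw [MulAut.apply_inv_self, (hγ x).1 hx]
          · rw [Subgroup.coe_inv]
            have h1 := inv_mem (hγ ((γ : MulAut Q)⁻¹ x)).2
            rwa [MulAut.apply_inv_self, ← Subgroup.coe_inv, mul_inv_rev, inv_inv] at h1 }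
    have hΔn : Δ.Normal := ⟨fun δ hδ γ x => by
      have hv : (((γ : MulAut Q)⁻¹ x : Q) : Ω) ∈ T₁ ⊓ T₂ ↔ (x : Ω) ∈ T₁ ⊓ T₂ :=
        ⟨fun h1 => by simpa using Stability.aut_mem h.scZ hQS γ.2 h1,
          fun h1 => Stability.aut_mem h.scZ hQS (inv_mem γ.2) h1⟩
      refine ⟨fun hx => ?_, ?_⟩
      · show (γ : MulAut Q) ((δ : MulAut Q) ((γ : MulAut Q)⁻¹ x)) = x
        rw [(hδ _).1 (hv.2 hx), MulAut.apply_inv_self]
      · show ((x⁻¹ * (γ : MulAut Q) ((δ : MulAut Q) ((γ : MulAut Q)⁻¹ x)) : Q) : Ω) ∈ _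
        have h1 := Stability.aut_mem h.scZ hQS γ.2 (hδ ((γ : MulAut Q)⁻¹ x)).2
        rwa [map_mul, map_inv, MulAut.apply_inv_self] at h1⟩
    have hΔp : IsPGroup p Δ := Stability.isPGroup_of_coprime_eq_one fun δ hδ => by
      have hord : (orderOf ((δ : F.autGroup Q) : MulAut Q)).Coprime p := by
        rw [Subgroup.orderOf_coe, Subgroup.orderOf_coe]; exact hδ
      refine Subtype.ext (Subtype.ext (MulEquiv.ext fun x => ?_))
      exact Stability.eq_self_of_disp_fixed (isPGroup_of_le hS hQS) _ hord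
        ((δ.2 _).1 (δ.2 x).2)
    have hΔM : Δ ≤ M := ((CfsgLib.Solvable.le_pCore hΔn hΔp).trans
      (CfsgLib.Solvable.pCore_le_sylow TS)).trans hSM
    set O := Subgroup.normalClosure {c : F.autGroup Q | (c : MulAut Q) ∈ autInducedBy (T₁ ⊔ T₂) Q}
    have hOM : O ≤ M := by
      refine (Subgroup.closure_le _).2 fun x hx => ?_
      obtain ⟨c, hc, hcx⟩ := Group.mem_conjugatesOfSet_iff.1 hx
      obtain ⟨γ, rfl⟩ := isConj_iff.1 hcx
      obtain ⟨t, htN, htT, hct⟩ := exists_eq_conjAut hc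
      obtain ⟨t₁, ht₁, t₂, ht₂, htt⟩ : ∃ t₁ ∈ T₁, ∃ t₂ ∈ T₂, t = t₁ * t₂ :=
        CfsgLib.FusionQuot.exists_mul_of_mem_sup h.sc₂ h.sc₁.1 htT
      -- one side
      have side : ∀ {A B : Subgroup Ω} {EA : Cfsg.FusionSystem A}, EA.IsInvariantIn F →
          F.StronglyClosed A → F.StronglyClosed B → T₁ ⊔ T₂ = A ⊔ B →
          ∀ tA ∈ A, ∀ tB ∈ B, t = tA * tB →
          ∃ (QA : Subgroup Ω) (eA : QA →* Ω), eA ∈ EA.Hom QA ∧ A ⊓ B ≤ QA ∧
            (∀ q ∈ Q, ∀ a ∈ A, ∀ b ∈ B, q = a * b → a ∈ QA) ∧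
            ∀ (q : Q) (a : QA) (b : B), (q : Ω) = (a : Ω) * b →
              ((((γ * c * γ⁻¹ : F.autGroup Q) : MulAut Q) q : Q) : Ω)⁻¹ * eA a ∈ B := by
        intro A B EA hEA hA hB hAB tA htA tB htB ht
        have hW : Q ⊔ B ≤ S := sup_le hQS hB.1
        have : Finite ↥(Q ⊔ B) := finite_of_le hW
        obtain ⟨χ, hχ, hχm⟩ := CfsgLib.FusionQuot.exists_extendsMod hS hF hB Q _
          ((mem_autGroup_iff_hom hQS).1 γ.2)
        obtain ⟨G, hG, hGx⟩ := LayerCore.exists_aut_of_mapsTo hχ (forall_mem_of_sup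
          (fun x => by
            have h1 := mul_mem (Subgroup.mem_sup_left (T := B) ((γ : MulAut Q) x).2)
              (Subgroup.mem_sup_right (hχm x))
            simpa using h1)
          (fun b => Subgroup.mem_sup_right (stronglyClosed_apply_mem hB hχ _ b.2)))
        set QA := (Q ⊔ B) ⊓ A with hQA
        have hQAS : QA ≤ S := inf_le_left.trans hW
        have : Finite QA := finite_of_le hQAS
        have hBn := stronglyClosed_le_normalizer hB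
        have htAN : tA ∈ Subgroup.normalizer ((Q ⊔ B : Subgroup Ω) : Set Ω) := by
          rw [show tA = t * tB⁻¹ by rw [ht]; group]
          exact mul_mem (normalizer_sup_of_mem htN (hBn (hTS htT)))
            (inv_mem (Subgroup.le_normalizer (Subgroup.mem_sup_right htB)))
        have htAN' : tA ∈ Subgroup.normalizer (QA : Set Ω) := by
          rw [Subgroup.mem_normalizer_iff]
          intro n
          have hAn := stronglyClosed_le_normalizer hA (hA.1 htA)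
          exact and_congr (Subgroup.mem_normalizer_iff.1 htAN n) (Subgroup.mem_normalizer_iff.1 hAn n)
        obtain ⟨g, hg, hgx⟩ := LayerCore.exists_aut_of_mapsTo
          (restrict_mem ((mem_autGroup_iff_hom hW).1 hG) (inf_le_left : QA ≤ Q ⊔ B))
          fun z => ⟨(G ⟨(z : Ω), z.2.1⟩).2,
            Stability.aut_mem hA hW hG (x := ⟨(z : Ω), z.2.1⟩) z.2.2⟩
        have hk := CfsgLib.FusionQuot.conj_mem_autGroup_of_invariant hEA inf_le_right hg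
          (autInducedBy_le_autGroup EA inf_le_right (conjAut_mem_autInducedBy htA htAN'))
        refine ⟨QA, _, (mem_autGroup_iff_hom inf_le_right).1 hk,
          fun z hz => ⟨Subgroup.mem_sup_right hz.2, hz.1⟩, fun q hq a ha b hb hqab => ⟨?_, ha⟩,
          fun q a b hqab => ?_⟩
        · rw [show a = q * b⁻¹ by rw [hqab]; group]
          exact mul_mem (Subgroup.mem_sup_left hq) ((Q ⊔ B).inv_mem (Subgroup.mem_sup_right hb))
        set c' := conjAut (Q ⊔ B) tA htAN with hc'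
        set N := B.subgroupOf (Q ⊔ B) with hN
        have hNn : N.Normal := ⟨fun n hn w => conj_mem_of_mem_normalizer (hBn (hW w.2)) hn⟩
        set f := QuotientGroup.mk' N with hf
        have hf1 : ∀ w : ↥(Q ⊔ B), f w = 1 ↔ (w : Ω) ∈ B := fun w => QuotientGroup.eq_one_iff _
        have hfe : ∀ {u v : ↥(Q ⊔ B)}, (u : Ω)⁻¹ * v ∈ B → f u = f v := fun {u v} huv => by
          have h1 := (hf1 (u⁻¹ * v)).2 huv
          rw [map_mul, map_inv, inv_mul_eq_one] at h1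
          exact h1
        have hGc : G * c' * G⁻¹ ∈ F.autGroup (Q ⊔ B) := mul_mem (mul_mem hG
          (autInducedBy_le_autGroup F hW (conjAut_mem_autInducedBy (hA.1 htA) htAN))) (inv_mem hG)
        have hpres : ∀ (ξ : MulAut ↥(Q ⊔ B)), ξ ∈ F.autGroup (Q ⊔ B) → ∀ {u v : ↥(Q ⊔ B)}, f u = f v → f (ξ u) = f (ξ v) := by
          intro ξ hξ u v huv
          have h1 : (((u⁻¹ * v) : ↥(Q ⊔ B)) : Ω) ∈ B := (hf1 _).1 (by rw [map_mul, map_inv, huv, inv_mul_cancel])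
          refine hfe ?_
          have h2 := Stability.aut_mem hB hW hξ h1
          rwa [map_mul, map_inv] at h2
        let ι : Q →* ↥(Q ⊔ B) := Subgroup.inclusion le_sup_left
        have hGι : ∀ x : Q, f (G (ι x)) = f (ι ((γ : MulAut Q) x)) := fun x => (hfe (by
          rw [hGx]
          exact hχm x)).symm
        have hcι : ∀ x : Q, f (c' (ι x)) = f (ι ((c : MulAut Q) x)) := by
          intro x
          have e1 : ι ((c : MulAut Q) x) = c' (conjAut (Q ⊔ B) tB (Subgroup.le_normalizer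
              (Subgroup.mem_sup_right htB)) (ι x)) := Subtype.ext (by
            show (((c : MulAut Q) x : Q) : Ω) = tA * (tB * x * tB⁻¹) * tA⁻¹
            rw [hct, conjAut_apply, ht]
            group)
          rw [e1]
          refine hpres c' (autInducedBy_le_autGroup F hW (conjAut_mem_autInducedBy (hA.1 htA) htAN))
            (hfe ?_)
          show (x : Ω)⁻¹ * (tB * x * tB⁻¹) ∈ B
          rw [← mul_assoc, ← mul_assoc]
          exact mul_mem ((Subgroup.mem_normalizer_iff''.1 (hBn (hQS x.2)) tB).1 htB) (inv_mem htB)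
        have hGi : f (G⁻¹ (ι q)) = f (ι ((γ : MulAut Q)⁻¹ q)) := by
          have h1 := hGι ((γ : MulAut Q)⁻¹ q)
          rw [MulAut.apply_inv_self] at h1
          have h2 := hpres G⁻¹ (inv_mem hG) h1
          rw [MulAut.inv_apply_self] at h2
          exact h2.symm
        have hconj : f ((G * c' * G⁻¹) (ι q)) =
            f (ι (((γ * c * γ⁻¹ : F.autGroup Q) : MulAut Q) q)) := by
          rw [MulAut.mul_apply, MulAut.mul_apply, hpres G hG (hpres c'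
            (autInducedBy_le_autGroup F hW (conjAut_mem_autInducedBy (hA.1 htA) htAN)) hGi),
            hpres G hG (hcι _), hGι]
          rfl
        set aW : ↥(Q ⊔ B) := ⟨(a : Ω), a.2.1⟩ with haW
        set bW : ↥(Q ⊔ B) := ⟨(b : Ω), Subgroup.mem_sup_right b.2⟩ with hbW
        have hsplit : f ((G * c' * G⁻¹) (ι q)) = f ((G * c' * G⁻¹) aW) := by
          refine hpres _ hGc ?_
          rw [show ι q = aW * bW from Subtype.ext hqab, map_mul, (hf1 bW).2 b.2, mul_one]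
        have hval : (((g * conjAut QA tA htAN' * g⁻¹) a : QA) : Ω) =
            (((G * c' * G⁻¹) aW : ↥(Q ⊔ B)) : Ω) := by
          set v := g⁻¹ a with hv
          have hvW : G⁻¹ aW = ⟨(v : Ω), v.2.1⟩ := G.injective (by
            rw [MulAut.apply_inv_self]
            refine Subtype.ext ?_
            have h1 := hgx v
            rw [hv, MulAut.apply_inv_self] at h1
            exact h1)
          show ((g (conjAut QA tA htAN' v) : QA) : Ω) = ((G (c' (G⁻¹ aW)) : ↥(Q ⊔ B)) : Ω)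
          rw [hvW, hgx]
          rfl
        have h3 : f (ι (((γ * c * γ⁻¹ : F.autGroup Q) : MulAut Q) q))⁻¹ *
            f ((G * c' * G⁻¹) aW) = 1 := by
          rw [map_inv, ← hconj, hsplit, inv_mul_cancel]
        rw [← map_mul, hf1, Subgroup.coe_mul, Subgroup.coe_inv] at h3
        show _ * ((((g * conjAut QA tA htAN' * g⁻¹) a : QA)) : Ω) ∈ B
        rw [hval]
        exact h3
      obtain ⟨Q₁, e₁, he₁, hZ₁, hQ₁, hd₁⟩ := side h.nor₁.1.2.2 h.sc₁ h.sc₂ rfl t₁ ht₁ t₂ ht₂ htt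
      obtain ⟨Q₂, e₂, he₂, hZ₂, hQ₂, hd₂⟩ := side h.nor₂.1.2.2 h.sc₂ h.sc₁ (sup_comm _ _) t₂ ht₂ t₁
        ht₁ (htt.trans (h.comm t₁ ht₁ t₂ ht₂))
      have hqdec : ∀ q ∈ Q, ∃ a ∈ Q₁, ∃ b ∈ Q₂, q = a * b := fun q hq => by
        obtain ⟨a, ha, b, hb, rfl⟩ :=
          CfsgLib.FusionQuot.exists_mul_of_mem_sup h.sc₂ h.sc₁.1 (hQT hq)
        exact ⟨a, hQ₁ _ hq a ha b hb rfl, b, hQ₂ _ hq b hb a ha (h.comm a ha b hb), rfl⟩
      set a' : MulAut Q := ((γ * c * γ⁻¹ : F.autGroup Q) : MulAut Q) with ha'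
      have hz : ∀ (q : Q) (a : Q₁) (b : Q₂), (q : Ω) = (a : Ω) * b →
          (e₁ a * e₂ b)⁻¹ * ((a' q : Q) : Ω) ∈ T₁ ⊓ T₂ := by
        intro q a b hq
        have ha₁ : (a : Ω) ∈ T₁ := dom_le he₁ a.2
        have hb₂ : (b : Ω) ∈ T₂ := dom_le he₂ b.2
        have he₁a : e₁ a ∈ T₁ := map_mem he₁ a
        have he₂b : e₂ b ∈ T₂ := map_mem he₂ b
        have h1 := inv_mem (hd₁ q a ⟨b, hb₂⟩ hq)
        have h2 := inv_mem (hd₂ q b ⟨a, ha₁⟩ (hq.trans (h.comm _ ha₁ _ hb₂)))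
        rw [mul_inv_rev, inv_inv] at h1 h2
        refine ⟨?_, ?_⟩
        · rw [h.comm _ he₁a _ he₂b, show (e₂ b * e₁ a)⁻¹ * ((a' q : Q) : Ω) =
            (e₁ a)⁻¹ * ((e₂ b)⁻¹ * ((a' q : Q) : Ω)) by group]
          exact mul_mem (T₁.inv_mem he₁a) h2
        · rw [show (e₁ a * e₂ b)⁻¹ * ((a' q : Q) : Ω) =
            (e₂ b)⁻¹ * ((e₁ a)⁻¹ * ((a' q : Q) : Ω)) by group]
          exact mul_mem (T₂.inv_mem he₂b) h1
      -- the product map on `Q`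
      obtain ⟨ψ₁, hψ₁, hag₁, hfix₁⟩ := h.isFixed₁.2 Q₁ e₁ he₁
      obtain ⟨ψ₂, hψ₂, hag₂, hfix₂⟩ := h.isFixed₂.2 Q₂ e₂ he₂
      have hleQ : Q ≤ Q₁ ⊔ T₂ := fun q hq => by
        obtain ⟨a, ha, b, hb, rfl⟩ := hqdec q hq
        exact mul_mem (Subgroup.mem_sup_left ha) (Subgroup.mem_sup_right (dom_le he₂ hb))
      have hm : ∀ q : Q, ψ₁.comp (Subgroup.inclusion hleQ) q ∈ Q₂ ⊔ T₁ := by
        rintro ⟨q, hq⟩
        obtain ⟨a, ha, b, hb, rfl⟩ := hqdec q hq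
        show ψ₁ ⟨a * b, hleQ hq⟩ ∈ _
        rw [show (⟨a * b, hleQ hq⟩ : ↥(Q₁ ⊔ T₂)) = Subgroup.inclusion le_sup_left ⟨a, ha⟩ *
          Subgroup.inclusion le_sup_right ⟨b, dom_le he₂ hb⟩ from Subtype.ext rfl, map_mul, hag₁, hfix₁]
        exact mul_mem (Subgroup.mem_sup_right (map_mem he₁ _)) (Subgroup.mem_sup_left hb)
      set dh := ψ₂.comp ((ψ₁.comp (Subgroup.inclusion hleQ)).codRestrict _ hm) with hdh
      have hdv : ∀ (q : Q) (a : Q₁) (b : Q₂), (q : Ω) = (a : Ω) * b → dh q = e₁ a * e₂ b := by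
        intro q a b hq
        show ψ₂ ⟨ψ₁ (Subgroup.inclusion hleQ q), hm q⟩ = _
        have e1 : ψ₁ (Subgroup.inclusion hleQ q) = e₁ a * (b : Ω) := by
          rw [show Subgroup.inclusion hleQ q = Subgroup.inclusion le_sup_left a *
            Subgroup.inclusion le_sup_right (⟨(b : Ω), dom_le he₂ b.2⟩ : T₂) from Subtype.ext hq,
            map_mul, hag₁, hfix₁]
        rw [show (⟨ψ₁ (Subgroup.inclusion hleQ q), hm q⟩ : ↥(Q₂ ⊔ T₁)) =
          Subgroup.inclusion le_sup_right (⟨e₁ a, map_mem he₁ a⟩ : T₁) *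
            Subgroup.inclusion le_sup_left b from Subtype.ext e1, map_mul, hfix₂, hag₂]
      have hdD : dh ∈ D.Hom Q :=
        h.mem_of_pair hD he₁ he₂ hZ₁ (by rw [inf_comm]; exact hZ₂) hqdec
          fun a b hab => hdv ⟨_, hab⟩ a b rfl
      have hdQ : ∀ q, dh q ∈ Q := by
        rintro ⟨q, hq⟩
        obtain ⟨a, ha, b, hb, hab⟩ := hqdec q hq
        rw [hdv ⟨q, hq⟩ ⟨a, ha⟩ ⟨b, hb⟩ hab]
        have h1 := inv_mem (hZQ (hz ⟨q, hq⟩ ⟨a, ha⟩ ⟨b, hb⟩ hab))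
        rw [mul_inv_rev, inv_inv] at h1
        have h2 := Q.mul_mem (a' ⟨q, hq⟩).2 h1
        rwa [mul_inv_cancel_left] at h2
      obtain ⟨d, hd, hdx⟩ := exists_aut hdD (range_eq_of_le (hom_inj hdD) hdQ)
      have hdF : d ∈ F.autGroup Q := CfsgLib.FusionQuot.autGroup_le_of_subsystem (h.D_le_F hD) Q hd
      have hδ : (⟨d, hdF⟩ : F.autGroup Q)⁻¹ * (γ * c * γ⁻¹) ∈ Δ := by
        intro x
        have hdfix : ∀ z : Q, (z : Ω) ∈ T₁ ⊓ T₂ → d z = z := fun z hz' => Subtype.ext (by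
          rw [hdx, hdv z ⟨z, hZ₁ hz'⟩ 1 (by rw [Subgroup.coe_one, mul_one])]
          rw [map_one, mul_one]
          exact h.fix₁ Q₁ e₁ he₁ _ hz')
        have hfixinv : ∀ z : Q, (z : Ω) ∈ T₁ ⊓ T₂ → d⁻¹ z = z := fun z hz' => d.injective (by
          rw [MulAut.apply_inv_self, hdfix z hz'])
        refine ⟨fun hx => ?_, ?_⟩
        · show d⁻¹ (a' x) = x
          have h1 : a' x = x := by
            rw [ha']
            show (γ : MulAut Q) ((c : MulAut Q) ((γ : MulAut Q)⁻¹ x)) = x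
            set v := (γ : MulAut Q)⁻¹ x with hv
            have hvZ : (v : Ω) ∈ T₁ ⊓ T₂ := Stability.aut_mem h.scZ hQS (inv_mem γ.2) hx
            have hvc : (c : MulAut Q) v = v := by
              rw [hct]
              refine Subtype.ext ?_
              rw [conjAut_apply, htt]
              rw [show t₁ * t₂ * (v : Ω) * (t₁ * t₂)⁻¹ = t₁ * (t₂ * v * t₂⁻¹) * t₁⁻¹ by group,
                ← h.comm _ hvZ.1 t₂ ht₂, mul_inv_cancel_right,
                h.comm t₁ ht₁ _ hvZ.2, mul_inv_cancel_right]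
            rw [hvc, hv, MulAut.apply_inv_self]
          rw [h1, hfixinv x hx]
        · show ((x⁻¹ * d⁻¹ (a' x) : Q) : Ω) ∈ _
          obtain ⟨a, ha, b, hb, hab⟩ := hqdec x x.2
          have h1 : (((d x)⁻¹ * a' x : Q) : Ω) ∈ T₁ ⊓ T₂ := by
            rw [Subgroup.coe_mul, Subgroup.coe_inv, hdx, hdv x ⟨a, ha⟩ ⟨b, hb⟩ hab]
            exact hz x ⟨a, ha⟩ ⟨b, hb⟩ hab
          have h2 := hfixinv _ h1
          rw [map_mul, map_inv, MulAut.inv_apply_self] at h2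
          rw [h2]
          exact h1
      have hdM : (⟨d, hdF⟩ : F.autGroup Q) ∈ M :=
        factors_of_mem hTS ((mem_autGroup_iff_hom hQT).1 hd)
      rw [show γ * c * γ⁻¹ = ⟨d, hdF⟩ * ((⟨d, hdF⟩ : F.autGroup Q)⁻¹ * (γ * c * γ⁻¹)) by group]
      exact M.mul_mem hdM (hΔM hδ)
    -- Frattini
    have hOn : O.Normal := Subgroup.normalClosure_normal
    have hsyl : IsSylowIn p ((TS : Subgroup (F.autGroup Q)) ⊓ O) O := by
      refine isSylowIn_of_card_le (TS.2.to_le inf_le_left) inf_le_right fun U hU hUO => ?_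
      obtain ⟨g, hg⟩ := exists_conj_le_sylow TS hU
      exact Nat.card_le_card_of_injective
        (fun u : U => (⟨g * u * g⁻¹, hg u u.2, hOn.conj_mem _ (hUO u.2) g⟩ :
          ((TS : Subgroup (F.autGroup Q)) ⊓ O : Subgroup _)))
        fun a b hab => Subtype.ext (mul_left_cancel (mul_right_cancel (Subtype.ext_iff.1 hab)))
    obtain ⟨U, hU⟩ := hsyl
    have hfr := Sylow.normalizer_sup_eq_top U
    have hUmap : (U : Subgroup O).map O.subtype = (TS : Subgroup (F.autGroup Q)) ⊓ O := by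
      rw [hU, Subgroup.map_subgroupOf_eq_of_le inf_le_right]
    rw [hUmap] at hfr
    refine top_le_iff.1 (hfr.ge.trans (sup_le (fun β hβ => ?_) hOM))
    have hβiso : IsFIso F ((β : MulAut Q) : Q ≃* Q) := (mem_autGroup_iff hQS).1 β.2
    obtain ⟨ψ, hψ, -, hag⟩ := hβiso.exists_extension (R := normalizerIn (T₁ ⊔ T₂) Q)
      (isReceptive_of_isFullyNormalized hS hF hQ) (le_normalizerIn hQT) (inf_le_inf_right _ hTS)
      fun g hg => by
        have hgS : g ∈ S := hTS hg.1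
        have hc : (⟨conjAut Q g hg.2,
            autInducedBy_le_autGroup F hQS (conjAut_mem_autInducedBy hgS hg.2)⟩ : F.autGroup Q) ∈
            (TS : Subgroup (F.autGroup Q)) ⊓ O :=
          ⟨by rw [hTS']; exact conjAut_mem_autInducedBy (P := Q) hgS hg.2,
            Subgroup.subset_normalClosure (conjAut_mem_autInducedBy (P := Q) hg.1 hg.2)⟩
        have h2 := (conj_mem_of_mem_normalizer hβ hc).1
        rw [hTS'] at h2
        exact h2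
    exact factors_restrict (φ := ψ) (le_normalizerIn hQT) _ (fun x => (hag x).symm)
      (hIH _ (normalizerIn_le _ Q) ((isConj_card_eq hPQ).symm ▸ card_lt_card'
        ((normalizerIn_le _ Q).trans hTS) (lt_normalizerIn hTp hQlt)) _ hψ)
  have hγ : (f₁.symm.trans (e.trans f₂) : MulAut Q) ∈ F.autGroup Q :=
    (mem_autGroup_iff hQS).2 (hf₁.symm.trans (he.trans hf₂))
  have h12 : Factors D F (Q.subtype.comp (f₁.trans (f₁.symm.trans (e.trans f₂))).toMonoidHom) :=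
    factors_comp hinv hTS (fun x => (f₁ x).2) _ (fun x => rfl) hf₁C (hauto _ hγ)
  refine factors_comp hinv hTS
    (φ := Q.subtype.comp (f₁.trans (f₁.symm.trans (e.trans f₂))).toMonoidHom)
    (fun x => ((f₁.trans (f₁.symm.trans (e.trans f₂))) x).2) _ (fun x => ?_) h12
    (factors_symm hinv hTS hT hf₂ hRlt.le hf₂C)
  simp

theorem isSaturated_D : D.IsSaturated p := by
  have : Finite T₁ := finite_of_le h.sc₁.1
  have : Finite T₂ := finite_of_le h.sc₂.1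
  have : Finite ↥(T₁.prod T₂) := Finite.of_equiv _ (Subgroup.prodEquiv T₁ T₂).symm.toEquiv
  have hp₁ : IsPGroup p T₁ := h.grp.to_le h.sc₁.1
  have hp₂ : IsPGroup p T₂ := h.grp.to_le h.sc₂.1
  exact CfsgLib.FusionQuot.isSaturated_factor
    (CfsgLib.FusionQuot.isPGroup_subgroup_prod hp₁ hp₂)
    (CfsgLib.FusionQuot.productSystem_isSaturated hp₁ hp₂ h.nor₁.1.1 h.nor₂.1.1)
    (isNormal_stronglyClosed (CfsgLib.FusionConstrained.isNormal_of_isCentral h.ker_central)) hD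

/-- The product is a normal subsystem. -/
theorem isNormalIn_D : D.IsNormalIn F p := by
  classical
  have hT := h.scT
  have hTS : T₁ ⊔ T₂ ≤ S := hT.1
  have : Finite ↥(T₁ ⊔ T₂) := finite_of_le hTS
  have : Finite (MulAut ↥(T₁ ⊔ T₂)) := finite_mulAut
  have : Finite T₁ := finite_of_le h.sc₁.1
  have : Finite T₂ := finite_of_le h.sc₂.1
  have hS := h.grp
  have hsat := h.isSaturated_D hD
  refine ⟨⟨hsat, h.sat, h.D_le_F hD, hT, h.isAutInvariant hD, h.factors hD⟩, ?_⟩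
  set W := (T₁ ⊔ T₂) ⊔ centralizerIn S (T₁ ⊔ T₂) with hW
  have hTW : (T₁ ⊔ T₂) ≤ W := le_sup_left
  have hWS : W ≤ S := sup_le hTS (centralizerIn_le S (T₁ ⊔ T₂))
  have : Finite W := finite_of_le hWS
  have : Finite (MulAut W) := finite_mulAut
  have hWp : IsPGroup p W := hS.to_le hWS
  have hCT₁ : centralizerIn S (T₁ ⊔ T₂) ≤ centralizerIn S T₁ := fun c hc =>
    ⟨hc.1, Subgroup.centralizer_le (SetLike.coe_subset_coe.2 le_sup_left) hc.2⟩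
  have hCT₂ : centralizerIn S (T₁ ⊔ T₂) ≤ centralizerIn S T₂ := fun c hc =>
    ⟨hc.1, Subgroup.centralizer_le (SetLike.coe_subset_coe.2 le_sup_right) hc.2⟩
  have hcen : ∀ (β : MulAut W), β ∈ F.autGroup W → ∀ c : W, (c : Ω) ∈ centralizerIn S (T₁ ⊔ T₂) →
      ((β c : W) : Ω) ∈ centralizerIn S (T₁ ⊔ T₂) := by
    intro β hβ c hc
    refine ⟨hWS (β c).2, Subgroup.mem_centralizer_iff.2 fun y hy => ?_⟩
    set v := β⁻¹ ⟨y, hTW hy⟩ with hv
    have hvT : (v : Ω) ∈ (T₁ ⊔ T₂) := Stability.aut_mem hT hWS (inv_mem hβ) hy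
    have h1 : v * c = c * v := Subtype.ext (Subgroup.mem_centralizer_iff.1 hc.2 _ hvT)
    have h2 := congrArg β h1
    rw [map_mul, map_mul, hv, MulAut.apply_inv_self] at h2
    exact congrArg Subtype.val h2
  -- one factor
  have one : ∀ {A B : Subgroup Ω} {EA : Cfsg.FusionSystem A}, EA.IsNormalIn F p →
      Fixes EA (A ⊓ B) → F.StronglyClosed B → B ≤ centralizerIn S A →
      ∀ (hAT : A ≤ (T₁ ⊔ T₂)) (hBT : B ≤ (T₁ ⊔ T₂)), centralizerIn S (T₁ ⊔ T₂) ≤ centralizerIn S A →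
      (∀ x ∈ A ⊓ Subgroup.centralizer (A : Set Ω), x ∈ Subgroup.centralizer (B : Set Ω)) →
      (T₁ ⊔ T₂) ≤ A ⊔ B →
      ∀ (a : MulAut A), a ∈ EA.autGroup A → (orderOf a).Coprime p →
      ∃ β ∈ F.autGroup W, (∀ x : A, β ⟨x, hTW (hAT x.2)⟩ = ⟨a x, hTW (hAT (a x).2)⟩) ∧
        (∀ y : B, β ⟨y, hTW (hBT y.2)⟩ = ⟨y, hTW (hBT y.2)⟩) ∧
        ∀ c : W, (c : Ω) ∈ centralizerIn S (T₁ ⊔ T₂) →
          ((c⁻¹ * β c : W) : Ω) ∈ (T₁ ⊔ T₂) ⊓ Subgroup.centralizer ((T₁ ⊔ T₂ : Subgroup Ω) : Set Ω) := by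
    intro A B EA hEA hfx hB hBA hAT hBT hCA hcom hTAB a ha hao
    set V := A ⊔ centralizerIn S A with hV
    have hAS : A ≤ S := hEA.1.2.2.2.1.1
    have hVS : V ≤ S := sup_le hAS (centralizerIn_le S A)
    have : Finite V := finite_of_le hVS
    obtain ⟨β₀, hβ₀, hβ₀A, hβ₀C⟩ := hEA.2 a ha
    obtain ⟨κ, hκ, hκo, hκA, hκd⟩ := exists_coprime_ext (le_sup_left : A ≤ V) hVS hβ₀ hao
      (fun x => Subtype.ext (hβ₀A x))
    have hAsc := hEA.1.2.2.2.1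
    have hd : ∀ w : V, (w : Ω) ∈ centralizerIn S A →
        ((w⁻¹ * κ w : V) : Ω) ∈ A ⊓ Subgroup.centralizer (A : Set Ω) := by
      intro w hw
      refine hκd ((centralizerIn S A).subgroupOf V) ((A ⊓ Subgroup.centralizer (A : Set Ω)).subgroupOf V)
        (fun x hx => ⟨Stability.aut_mem hAsc hVS hβ₀ (x := x) hx.1,
          Subgroup.mem_centralizer_iff.2 fun y hy => ?_⟩) (fun v hv => hβ₀C v hv) w hw
      set u := β₀⁻¹ ⟨y, Subgroup.mem_sup_left hy⟩ with hu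
      have huA : (u : Ω) ∈ A := Stability.aut_mem hAsc hVS (inv_mem hβ₀) hy
      have h1 : u * x = x * u := Subtype.ext (Subgroup.mem_centralizer_iff.1 hx.2 _ huA)
      have h2 := congrArg β₀ h1
      rw [map_mul, map_mul, hu, MulAut.apply_inv_self] at h2
      exact congrArg Subtype.val h2
    have hBV : B ≤ V := hBA.trans le_sup_right
    have hκB : ∀ y : B, κ ⟨y, hBV y.2⟩ = ⟨y, hBV y.2⟩ := by
      intro y
      refine Stability.eq_self_of_disp_fixed (hS.to_le hVS) κ hκo ?_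
      set d := (⟨(y : Ω), hBV y.2⟩ : V)⁻¹ * κ ⟨y, hBV y.2⟩ with hddef
      have hdA : (d : Ω) ∈ A := (hd _ (hBA y.2)).1
      have hdB : (d : Ω) ∈ B := by
        rw [hddef, Subgroup.coe_mul, Subgroup.coe_inv]
        exact mul_mem (inv_mem y.2) (Stability.aut_mem hB hVS hκ y.2)
      refine Subtype.ext ((congrArg Subtype.val (hκA ⟨d, hdA⟩)).trans ?_)
      exact hfx A _ ((mem_autGroup_iff_hom le_rfl).1 ha) ⟨d, hdA⟩ ⟨hdA, hdB⟩
    have hdT : ∀ c : V, (c : Ω) ∈ centralizerIn S (T₁ ⊔ T₂) →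
        ((c⁻¹ * κ c : V) : Ω) ∈ (T₁ ⊔ T₂) ⊓ Subgroup.centralizer ((T₁ ⊔ T₂ : Subgroup Ω) : Set Ω) := by
      intro c hc
      obtain ⟨hdA, hdC⟩ := hd c (hCA hc)
      refine ⟨hAT hdA, Subgroup.mem_centralizer_iff.2 fun y hy => ?_⟩
      have hle : A ⊔ B ≤ Subgroup.centralizer ({((c⁻¹ * κ c : V) : Ω)} : Set Ω) := by
        refine sup_le (fun x hx => Subgroup.mem_centralizer_singleton_iff.2
          (Subgroup.mem_centralizer_iff.1 hdC x hx)) fun x hx => Subgroup.mem_centralizer_singleton_iff.2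
          (Subgroup.mem_centralizer_iff.1 (hcom _ ⟨hdA, hdC⟩) x hx)
      exact Subgroup.mem_centralizer_singleton_iff.1 (hle (hTAB hy))
    have hWV : W ≤ V := sup_le (hTAB.trans (sup_le le_sup_left hBV)) (hCA.trans le_sup_right)
    have hmap : ∀ w : W, ((κ (Subgroup.inclusion hWV w) : V) : Ω) ∈ W := by
      refine forall_mem_of_sup (φ := (V.subtype.comp κ.toMonoidHom).comp (Subgroup.inclusion hWV))
        (fun x => ?_) (fun c => ?_)
      · exact hTW (Stability.aut_mem hT hVS hκ (x := ⟨(x : Ω), hWV (hTW x.2)⟩) x.2)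
      · set cc : V := ⟨(c : Ω), hWV (Subgroup.mem_sup_right c.2)⟩ with hcc
        have h1 := mul_mem (Subgroup.mem_sup_right (S := T₁ ⊔ T₂) c.2)
          (Subgroup.mem_sup_left (hdT cc c.2).1)
        rw [Subgroup.coe_mul, Subgroup.coe_inv, hcc, mul_inv_cancel_left] at h1
        exact h1
    obtain ⟨β, hβ, hβx⟩ := LayerCore.exists_aut_of_mapsTo
      (restrict_mem ((mem_autGroup_iff_hom hVS).1 hκ) hWV) hmap
    refine ⟨β, hβ, fun x => Subtype.ext ((hβx _).trans (congrArg Subtype.val (hκA x))),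
      fun y => Subtype.ext ((hβx _).trans (congrArg Subtype.val (hκB y))), fun c hc => ?_⟩
    rw [Subgroup.coe_mul, Subgroup.coe_inv, hβx]
    exact hdT (Subgroup.inclusion hWV c) hc
  let M : Subgroup (D.autGroup (T₁ ⊔ T₂)) :=
    { carrier := {a | ∃ β ∈ F.autGroup W,
        (∀ x : ↥(T₁ ⊔ T₂), β (Subgroup.inclusion hTW x) = Subgroup.inclusion hTW ((a : MulAut ↥(T₁ ⊔ T₂)) x)) ∧
        ∀ c : W, (c : Ω) ∈ centralizerIn S (T₁ ⊔ T₂) →
          ((c⁻¹ * β c : W) : Ω) ∈ (T₁ ⊔ T₂) ⊓ Subgroup.centralizer ((T₁ ⊔ T₂ : Subgroup Ω) : Set Ω)}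
      one_mem' := ⟨1, one_mem _, fun x => rfl, fun c _ => by simp⟩
      mul_mem' := by
        rintro a a' ⟨β, hβ, hβx, hβc⟩ ⟨β', hβ', hβ'x, hβ'c⟩
        refine ⟨β * β', mul_mem hβ hβ', fun x => ?_, fun c hc => ?_⟩
        · rw [MulAut.mul_apply, hβ'x, hβx]
          rfl
        · rw [show c⁻¹ * (β * β') c = (c⁻¹ * β' c) * ((β' c)⁻¹ * β (β' c)) by
            rw [MulAut.mul_apply]; group, Subgroup.coe_mul]
          exact mul_mem (hβ'c c hc) (hβc _ (hcen β' hβ' c hc))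
      inv_mem' := by
        rintro a ⟨β, hβ, hβx, hβc⟩
        refine ⟨β⁻¹, inv_mem hβ, fun x => β.injective ?_, fun c hc => ?_⟩
        · rw [MulAut.apply_inv_self, hβx, Subgroup.coe_inv, MulAut.apply_inv_self]
        · have h1 := inv_mem (hβc _ (hcen β⁻¹ (inv_mem hβ) c hc))
          rw [← Subgroup.coe_inv, mul_inv_rev, inv_inv, MulAut.apply_inv_self] at h1
          exact h1 }
  suffices hMt : M = ⊤ by
    intro a ha
    obtain ⟨β, hβ, hβx, hβc⟩ : (⟨a, ha⟩ : D.autGroup (T₁ ⊔ T₂)) ∈ M := hMt ▸ Subgroup.mem_top _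
    exact ⟨β, hβ, fun x => congrArg Subtype.val (hβx x), fun c hc => by simpa using hβc c hc⟩
  obtain ⟨-, PD, hPD⟩ := isFullyAutomized_of_isFullyNormalized (hS.to_le hTS) hsat (isFullyNormalized_top D)
  refine LayerCore.eq_top_of_sylow_of_coprime M PD (fun a ha => ?_) fun a ha => ?_
  · rw [hPD, Subgroup.mem_subgroupOf] at ha
    obtain ⟨x₀, hx₀, hax₀⟩ := mem_autInducedBy_iff.1 ha
    have hn := Subgroup.le_normalizer (hTW hx₀)
    refine ⟨conjAut W x₀ hn, autInducedBy_le_autGroup F hWS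
      (conjAut_mem_autInducedBy (hTS hx₀) hn), fun x => Subtype.ext (hax₀ x).symm, fun c hc => ?_⟩
    show (c : Ω)⁻¹ * (x₀ * c * x₀⁻¹) ∈ _
    rw [Subgroup.mem_centralizer_iff.1 hc.2 x₀ hx₀, mul_inv_cancel_right, inv_mul_cancel]
    exact one_mem _
  have haT := (mem_autGroup_iff_hom le_rfl).1 a.2
  obtain ⟨Q₁, Q₂, e₁, e₂, he₁, he₂, hZ₁, hZ₂, hP, hval⟩ := h.exists_pair hD haT
  have hDF := h.D_le_F hD
  have haF : (a : MulAut ↥(T₁ ⊔ T₂)) ∈ F.autGroup (T₁ ⊔ T₂) := CfsgLib.FusionQuot.autGroup_le_of_subsystem hDF (T₁ ⊔ T₂) a.2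
  -- both components
  have comp : ∀ {A B QA QB : Subgroup Ω} {EA : Cfsg.FusionSystem A} {eA : QA →* Ω} {eB : QB →* Ω}
      (hAT : A ≤ (T₁ ⊔ T₂)), eA ∈ EA.Hom QA → (∀ y : QB, eB y ∈ B) → F.StronglyClosed A →
      A ⊓ B ≤ QA → (∀ y ∈ A, ∃ u ∈ QA, ∃ v ∈ QB, y = u * v) → QB ≤ B →
      (∀ u v : Ω, u ∈ A → v ∈ B → u * v = v * u) →
      (∀ (u : QA) (v : QB) (huv : (u : Ω) * v ∈ (T₁ ⊔ T₂)), (((a : MulAut ↥(T₁ ⊔ T₂)) ⟨_, huv⟩ : ↥(T₁ ⊔ T₂)) : Ω) = eA u * eB v) →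
      ∃ a₁ : MulAut A, a₁ ∈ EA.autGroup A ∧ (orderOf a₁).Coprime p ∧
        ∀ x : A, (((a : MulAut ↥(T₁ ⊔ T₂)) ⟨x, hAT x.2⟩ : ↥(T₁ ⊔ T₂)) : Ω) = a₁ x := by
    intro A B QA QB EA eA eB hAT hA hB hAsc hABQ hdec hQB hcomm hv
    have hAQ : A ≤ QA := fun y hy => by
      obtain ⟨u, hu, v, hv', rfl⟩ := hdec y hy
      refine mul_mem hu (hABQ ⟨?_, hQB hv'⟩)
      have := A.mul_mem (A.inv_mem (dom_le hA hu)) hy
      rwa [inv_mul_cancel_left] at this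
    have hev : ∀ x : A, (((a : MulAut ↥(T₁ ⊔ T₂)) ⟨x, hAT x.2⟩ : ↥(T₁ ⊔ T₂)) : Ω) = eA ⟨x, hAQ x.2⟩ := fun x => by
      have h1 := hv ⟨x, hAQ x.2⟩ 1 (show (x : Ω) * 1 ∈ T₁ ⊔ T₂ by rw [mul_one]; exact hAT x.2)
      rw [map_one] at h1
      exact (congrArg (fun z : ↥(T₁ ⊔ T₂) => (((a : MulAut ↥(T₁ ⊔ T₂)) z : ↥(T₁ ⊔ T₂)) : Ω)) (Subtype.ext (mul_one _).symm)).trans (h1.trans (mul_one _))
    have : Finite A := finite_of_le (hAsc.1)
    obtain ⟨a₁, ha₁, ha₁x⟩ := exists_aut (restrict_mem hA hAQ)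
      (range_eq_of_le (hom_inj (restrict_mem hA hAQ)) fun x => map_mem (restrict_mem hA hAQ) x)
    refine ⟨a₁, ha₁, ?_, fun x => (hev x).trans (ha₁x x).symm⟩
    refine Nat.Coprime.coprime_dvd_left ?_ ha
    rw [← Subgroup.orderOf_coe a]
    refine orderOf_dvd_of_pow_eq_one (MulEquiv.ext fun x => Subgroup.inclusion_injective hAT ?_)
    have h2 := LayerCore.pow_agree hAT (a : MulAut ↥(T₁ ⊔ T₂)) a₁
      (fun x => Subtype.ext ((hev x).trans (ha₁x x).symm)) (orderOf (a : MulAut ↥(T₁ ⊔ T₂))) x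
    rw [pow_orderOf_eq_one] at h2
    exact h2.symm
  obtain ⟨a₁, ha₁, ha₁o, ha₁x⟩ := comp (EA := E₁) (le_sup_left : T₁ ≤ (T₁ ⊔ T₂)) he₁ (B := T₂) (eB := e₂)
    (fun y => map_mem he₂ y) h.sc₁ hZ₁ (fun y hy => hP y (Subgroup.mem_sup_left hy)) (dom_le he₂)
    (fun u v hu hv => h.comm u hu v hv) (fun u v huv => hval u v huv)
  obtain ⟨a₂, ha₂, ha₂o, ha₂x⟩ := comp (EA := E₂) (le_sup_right : T₂ ≤ (T₁ ⊔ T₂)) he₂ (B := T₁) (eB := e₁)
    (fun y => map_mem he₁ y) h.sc₂ (by rw [inf_comm]; exact hZ₂)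
    (fun y hy => by
      obtain ⟨u, hu, v, hv, rfl⟩ := hP y (Subgroup.mem_sup_right hy)
      exact ⟨v, hv, u, hu, h.comm _ (dom_le he₁ hu) _ (dom_le he₂ hv)⟩) (dom_le he₁)
    (fun u v hu hv => (h.comm v hv u hu).symm)
    (fun v u huv => by
      have e := (h.comm _ (dom_le he₁ u.2) _ (dom_le he₂ v.2)).symm
      rw [show (⟨(v : Ω) * u, huv⟩ : ↥(T₁ ⊔ T₂)) = ⟨(u : Ω) * v, e ▸ huv⟩ from Subtype.ext e]
      exact (hval u v (e ▸ huv)).trans (h.comm _ (map_mem he₁ u) _ (map_mem he₂ v)))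
  obtain ⟨β₁, hβ₁, hβ₁A, hβ₁B, hβ₁c⟩ := one h.nor₁ h.fix₁ h.sc₂ h.le_cen₁ le_sup_left le_sup_right
    hCT₁ (fun x hx => Subgroup.mem_centralizer_iff.2 fun b hb => (h.comm x hx.1 b hb).symm) le_rfl
    a₁ ha₁ ha₁o
  obtain ⟨β₂, hβ₂, hβ₂A, hβ₂B, hβ₂c⟩ := one h.nor₂ (by rw [inf_comm]; exact h.fix₂) h.sc₁ h.le_cen₂
    le_sup_right le_sup_left hCT₂
    (fun x hx => Subgroup.mem_centralizer_iff.2 fun b hb => h.comm b hb x hx.1) (sup_comm T₁ T₂).le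
    a₂ ha₂ ha₂o
  refine ⟨β₁ * β₂, mul_mem hβ₁ hβ₂, fun x => ?_, fun c hc => ?_⟩
  · obtain ⟨u, hu, v, hv, huv⟩ := CfsgLib.FusionQuot.exists_mul_of_mem_sup h.sc₂ h.sc₁.1 x.2
    have hx : x = Subgroup.inclusion le_sup_left (⟨u, hu⟩ : T₁) *
        Subgroup.inclusion le_sup_right (⟨v, hv⟩ : T₂) := Subtype.ext huv
    rw [hx, map_mul, map_mul, map_mul, map_mul]
    refine congrArg₂ (· * ·) ?_ ?_
    · show β₁ (β₂ ⟨u, _⟩) = _
      rw [hβ₂B ⟨u, hu⟩, hβ₁A ⟨u, hu⟩]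
      exact Subtype.ext (ha₁x ⟨u, hu⟩).symm
    · show β₁ (β₂ ⟨v, _⟩) = _
      rw [hβ₂A ⟨v, hv⟩, hβ₁B (a₂ ⟨v, hv⟩)]
      exact Subtype.ext (ha₂x ⟨v, hv⟩).symm
  · rw [show c⁻¹ * (β₁ * β₂) c = (c⁻¹ * β₂ c) * ((β₂ c)⁻¹ * β₁ (β₂ c)) by
      rw [MulAut.mul_apply]; group, Subgroup.coe_mul]
    exact mul_mem (hβ₂c c hc) (hβ₁c _ (hcen β₂ hβ₂ c hc))

end Data

/-- The product of two commuting normal subsystems. -/
theorem exists_product (hS : IsPGroup p S) (hF : F.IsSaturated p) (h₁ : E₁.IsNormalIn F p)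
    (h₂ : E₂.IsNormalIn F p) (hc : ∀ a ∈ T₁, ∀ b ∈ T₂, a * b = b * a) :
    ∃ D : Cfsg.FusionSystem (T₁ ⊔ T₂), D.IsNormalIn F p ∧
      (T₁ ⊓ T₂ ≤ E₁.center → T₁ ⊓ T₂ ≤ E₂.center → IsCentralProductOf E₁ E₂ D) := by
  have hZ : F.StronglyClosed (T₁ ⊓ T₂) :=
    CfsgLib.FusionQuot.stronglyClosed_inf h₁.1.2.2.2.1 h₂.1.2.2.2.1
  obtain ⟨E₁', h₁', hf₁, he₁⟩ := exists_fixing hS hF h₁ hZ inf_le_left
    fun t ht z hz => (hc t ht z hz.2).symm
  obtain ⟨E₂', h₂', hf₂, he₂⟩ := exists_fixing hS hF h₂ hZ inf_le_right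
    fun t ht z hz => hc z hz.1 t ht
  have h : Data F E₁' E₂' p := ⟨hS, hF, h₁', h₂', hc, hf₁, hf₂⟩
  obtain ⟨D, hD⟩ := h.exists_factor
  refine ⟨D, h.isNormalIn_D hD, fun hc₁ hc₂ => ?_⟩
  rw [← he₁ hc₁, ← he₂ hc₂]
  exact h.isCentralProduct hD

end CfsgLib.Fusion.CommProd
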