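import Cfsg.Agent.Lib.Fusion.CentralizerNormal
import Cfsg.Agent.Lib.Fusion.CentralLift.Components
import Cfsg.Agent.S5148

/-!
# The generalized Fitting subsystem contains its centralizer
-/

set_option autoImplicit false

open Cfsg Cfsg.FusionSystem CfsgLib.Fusion CfsgLib.FusionQuot

namespace CfsgLib.Fusion.GenFitting

variable {Ω : Type*} [Group Ω] {S T U : Subgroup Ω} {F : Cfsg.FusionSystem S} {p : ℕ}
  {E : Cfsg.FusionSystem T} {D : Cfsg.FusionSystem U}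

/-- The data of a central product with an inner system, unfolded. -/
structure Setup (F : Cfsg.FusionSystem S) (E : Cfsg.FusionSystem T) (D : Cfsg.FusionSystem U) where
  D₀ : Cfsg.FusionSystem (F.core.prod T)
  prod : IsProductSystem (Cfsg.innerFusionSystem F.core) E D₀
  Z : Subgroup (Ω × Ω)
  θ : ↥(F.core.prod T) →* Ω
  Zc : Z ≤ D₀.center
  left : ∀ (x : Ω) (hx : ((x, 1) : Ω × Ω) ∈ F.core.prod T), θ ⟨(x, 1), hx⟩ = x
  right : ∀ (y : Ω) (hy : ((1, y) : Ω × Ω) ∈ F.core.prod T), θ ⟨(1, y), hy⟩ = y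
  factor : D₀.IsFactorSystem Z θ D
  sub : E.IsSubsystemOf F
  fix : ∀ P, E.Hom P ⊆ F.centralizerHom F.core P

namespace Setup

variable (h : Setup F E D)
include h

theorem theta_apply (s : ↥(F.core.prod T)) : h.θ s = (s : Ω × Ω).1 * (s : Ω × Ω).2 := by
  have h1 : ((s : Ω × Ω).1, (1 : Ω)) ∈ F.core.prod T :=
    Subgroup.mem_prod.2 ⟨(Subgroup.mem_prod.1 s.2).1, one_mem _⟩
  have h2 : ((1 : Ω), (s : Ω × Ω).2) ∈ F.core.prod T :=
    Subgroup.mem_prod.2 ⟨one_mem _, (Subgroup.mem_prod.1 s.2).2⟩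
  rw [show s = ⟨_, h1⟩ * ⟨_, h2⟩ from Subtype.ext (by simp), map_mul, h.left, h.right]
  simp

theorem core_le_U : F.core ≤ U := fun x hx => by
  rw [← h.factor.2.2.1]
  exact ⟨⟨(x, 1), Subgroup.mem_prod.2 ⟨hx, one_mem _⟩⟩, h.left x _⟩

theorem T_le_U : T ≤ U := fun y hy => by
  rw [← h.factor.2.2.1]
  exact ⟨⟨(1, y), Subgroup.mem_prod.2 ⟨one_mem _, hy⟩⟩, h.right y _⟩

theorem comm {g t : Ω} (hg : g ∈ F.core) (ht : t ∈ T) : g * t = t * g :=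
  Subgroup.mem_centralizer_iff.1 ((h.fix T (subtype_mem E le_rfl)).2.1 ht).2 g hg

/-- Shape of the maps of `D`, and their extensions to subgroups of the core commuting with `U`. -/
theorem exists_extension {P : Subgroup Ω} {φ : P →* Ω} (hφ : φ ∈ D.Hom P) {Y : Subgroup Ω}
    (hY : Y ≤ F.core) (hYU : ∀ y ∈ Y, ∀ u ∈ U, u * y = y * u) :
    ∃ χ ∈ D.Hom (P ⊔ Y), χ ∈ F.Hom (P ⊔ Y) ∧
      (∀ x : P, χ (Subgroup.inclusion le_sup_left x) = φ x) ∧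
      ∀ y : Y, χ (Subgroup.inclusion le_sup_right y) = y := by
  obtain ⟨hPU, φ₀, hφ₀, hind⟩ := (h.factor.2.2.2 P φ).1 hφ
  set P₂ := (preimageAlong h.θ P).map (MonoidHom.snd Ω Ω) with hP₂
  obtain ⟨hpre, φ₁, ⟨-, g, hg, hv₁⟩, e, he, hv⟩ := (h.prod _ φ₀).1 hφ₀
  obtain ⟨-, -, -, ψ, hψ, hψe, hψK⟩ := h.fix _ he
  have hlift : ∀ y ∈ P, ∃ s : preimageAlong h.θ P, h.θ ⟨s, hpre s.2⟩ = y := by
    intro y hy
    obtain ⟨s, hs⟩ := h.factor.2.2.1.ge (hPU hy)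
    exact ⟨⟨s, CfsgLib.FusionQuot.mem_preimageAlong.2 ⟨s.2, hs.symm ▸ hy⟩⟩, hs⟩
  have hPQ : P ≤ P₂ ⊔ F.core := by
    intro y hy
    obtain ⟨s, rfl⟩ := hlift y hy
    rw [h.theta_apply]
    exact mul_mem (Subgroup.mem_sup_right (Subgroup.mem_prod.1 (hpre s.2)).1)
      (Subgroup.mem_sup_left ⟨_, s.2, rfl⟩)
  have hle : P ⊔ Y ≤ P₂ ⊔ F.core := sup_le hPQ (hY.trans le_sup_right)
  set χ : ↥(P ⊔ Y) →* Ω :=
    (MulAut.conj g).toMonoidHom.comp (ψ.comp (Subgroup.inclusion hle)) with hχ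
  have hgS : g ∈ S := CfsgLib.FusionQuot.core_le F hg
  have hχF : χ ∈ F.Hom (P ⊔ Y) := conj_comp_mem (restrict_mem hψ hle) hgS
  have hcalc : ∀ (a b : Ω) (ha : a ∈ F.core) (hb : b ∈ P₂) (hw : a * b ∈ P ⊔ Y),
      χ ⟨a * b, hw⟩ = g * a * g⁻¹ * e ⟨b, hb⟩ := by
    intro a b ha hb hw
    show g * ψ ⟨a * b, hle hw⟩ * g⁻¹ = _
    rw [show (⟨a * b, hle hw⟩ : ↥(P₂ ⊔ F.core)) = Subgroup.inclusion le_sup_right ⟨a, ha⟩ *
      Subgroup.inclusion le_sup_left ⟨b, hb⟩ from Subtype.ext rfl, map_mul, hψK, hψe]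
    have h1 : e ⟨b, hb⟩ * g⁻¹ = g⁻¹ * e ⟨b, hb⟩ :=
      (h.comm (inv_mem hg) (map_mem he ⟨b, hb⟩)).symm
    simp only [mul_assoc]
    rw [h1]
  have hPYU : P ⊔ Y ≤ U := sup_le hPU (hY.trans h.core_le_U)
  have hP₂mem : ∀ s ∈ preimageAlong h.θ (P ⊔ Y), s.2 ∈ P₂ := by
    intro s hs
    obtain ⟨hsW, hsP⟩ := CfsgLib.FusionQuot.mem_preimageAlong.1 hs
    have hsP' : h.θ ⟨s, hsW⟩ ∈ ((P ⊔ Y : Subgroup Ω) : Set Ω) := hsP
    have hYn : Y ≤ Subgroup.normalizer (P : Set Ω) := fun y hy => by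
      rw [Subgroup.mem_normalizer_iff]
      intro n
      constructor
      · intro hn
        rwa [← hYU y hy n (hPU hn), mul_inv_cancel_right]
      · intro hn
        have h1 := hYU y hy _ (hPU hn)
        rw [inv_mul_cancel_right] at h1
        have h2 : y * n * y⁻¹ = n := (mul_left_cancel h1).symm
        rwa [h2] at hn
    rw [Subgroup.coe_mul_of_right_le_normalizer_left P Y hYn] at hsP'
    obtain ⟨a, ha, y, hy, hay⟩ := hsP'
    have hyW : ((y, 1) : Ω × Ω) ∈ F.core.prod T := Subgroup.mem_prod.2 ⟨hY hy, one_mem _⟩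
    refine ⟨s * ((y, 1) : Ω × Ω)⁻¹, ?_, by simp⟩
    refine CfsgLib.FusionQuot.mem_preimageAlong.2 ⟨mul_mem hsW (inv_mem hyW), ?_⟩
    show h.θ ((⟨s, hsW⟩ : ↥(F.core.prod T)) * (⟨(y, 1), hyW⟩)⁻¹) ∈ P
    rw [map_mul, map_inv, h.left, ← hay, mul_inv_cancel_right]
    exact ha
  refine ⟨χ, ?_, hχF, fun x => ?_, fun y => ?_⟩
  · have hsub : preimageAlong h.θ (P ⊔ Y) ≤ F.core.prod T := preimageAlong_le _
    set R₁ := preimageAlong h.θ (P ⊔ Y)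
    let σ : R₁ →* Ω × Ω := MonoidHom.prod
      ((MulAut.conj g).toMonoidHom.comp ((MonoidHom.fst Ω Ω).comp R₁.subtype))
      (e.comp (((MonoidHom.snd Ω Ω).comp R₁.subtype).codRestrict P₂ fun s => hP₂mem s s.2))
    have hσ : σ ∈ h.D₀.Hom R₁ := by
      refine (h.prod _ σ).2 ⟨hsub, conjHom _ g, ⟨?_, g, hg, fun _ => rfl⟩,
        e.comp (Subgroup.inclusion (?_ : R₁.map (MonoidHom.snd Ω Ω) ≤ P₂)), restrict_mem he _,
        fun s _ _ => rfl⟩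
      · rintro _ ⟨s, hs, rfl⟩
        exact (Subgroup.mem_prod.1 (hsub hs)).1
      · rintro _ ⟨s, hs, rfl⟩
        exact hP₂mem s hs
    refine (h.factor.2.2.2 _ χ).2 ⟨hPYU, σ, hσ, hsub, fun s => map_mem hσ s,
      fun s => (CfsgLib.FusionQuot.mem_preimageAlong.1 s.2).2, fun s => ?_⟩
    have hw := (CfsgLib.FusionQuot.mem_preimageAlong.1 s.2).2
    have e1 : (⟨h.θ ⟨(s : Ω × Ω), hsub s.2⟩, hw⟩ : ↥(P ⊔ Y)) =
        ⟨(s : Ω × Ω).1 * (s : Ω × Ω).2, h.theta_apply ⟨(s : Ω × Ω), hsub s.2⟩ ▸ hw⟩ :=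
      Subtype.ext (h.theta_apply _)
    rw [e1, hcalc _ _ (Subgroup.mem_prod.1 (hsub s.2)).1 (hP₂mem s s.2), h.theta_apply]
    rfl
  · obtain ⟨s, hs⟩ := hlift x x.2
    have hb : (s : Ω × Ω).2 ∈ P₂ := ⟨_, s.2, rfl⟩
    have hxe : (x : Ω) = (s : Ω × Ω).1 * (s : Ω × Ω).2 := hs.symm.trans (h.theta_apply _)
    rw [show Subgroup.inclusion le_sup_left x = ⟨(s : Ω × Ω).1 * (s : Ω × Ω).2,
      hxe ▸ Subgroup.mem_sup_left x.2⟩ from Subtype.ext hxe,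
      hcalc _ _ (Subgroup.mem_prod.1 (hpre s.2)).1 hb]
    obtain ⟨_, _, _, hval⟩ := hind
    have h2 : φ x = h.θ ⟨φ₀ s, map_mem hφ₀ s⟩ :=
      (congrArg φ (Subtype.ext hs.symm)).trans (hval s)
    rw [h2, h.theta_apply]
    show _ = (φ₀ s).1 * (φ₀ s).2
    rw [hv s ⟨_, s.2, rfl⟩ ⟨_, s.2, rfl⟩, hv₁]
  · have hy1 : ((y : Ω) * (1 : Ω)) ∈ P ⊔ Y := by
      rw [mul_one]
      exact Subgroup.mem_sup_right y.2
    rw [show Subgroup.inclusion le_sup_right y = ⟨(y : Ω) * 1, hy1⟩ from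
      Subtype.ext (mul_one _).symm, hcalc _ _ (hY y.2) (one_mem _)]
    rw [show (⟨1, one_mem _⟩ : P₂) = 1 from rfl, map_one, mul_one, hYU y y.2 g (h.core_le_U hg)]
    simp

theorem D_le_F : D.IsSubsystemOf F := by
  intro P φ hφ
  obtain ⟨χ, -, hχ, hag, -⟩ := h.exists_extension hφ (Y := ⊥) bot_le
    (fun y hy u _ => by rw [Subgroup.mem_bot.1 hy, mul_one, one_mul])
  exact mem_of_restrict hχ le_sup_left φ fun x => (hag x).symm

theorem E_le_D [Finite S] (hTS : T ≤ S) : ∀ P, E.Hom P ⊆ D.Hom P := by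
  intro P φ hφ
  obtain ⟨hZS, hker, hrange, hfac⟩ := h.factor
  have hPT : P ≤ T := dom_le hφ
  set W := (⊥ : Subgroup Ω).prod P with hW
  have hWS : W ≤ F.core.prod T := Subgroup.prod_mono bot_le hPT
  have hm : ∀ w : W, ((w : Ω × Ω).2 : Ω) ∈ P := fun w => (Subgroup.mem_prod.1 w.2).2
  let ψ : W →* Ω × Ω := MonoidHom.prod 1
    (φ.comp (((MonoidHom.snd Ω Ω).comp W.subtype).codRestrict P hm))
  have hψ : ψ ∈ h.D₀.Hom W := by
    have hle : W.map (MonoidHom.snd Ω Ω) ≤ P := by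
      rintro _ ⟨w, hw, rfl⟩
      exact (Subgroup.mem_prod.1 hw).2
    refine (h.prod W ψ).2 ⟨hWS, conjHom _ 1, ⟨?_, 1, one_mem _, fun _ => rfl⟩,
      φ.comp (Subgroup.inclusion hle), restrict_mem hφ hle, fun x h₁ h₂ => ?_⟩
    · rintro _ ⟨w, hw, rfl⟩
      rw [show (MonoidHom.fst Ω Ω) w = 1 from Subgroup.mem_bot.1 (Subgroup.mem_prod.1 hw).1]
      exact one_mem _
    refine Prod.ext ?_ rfl
    show (1 : Ω) = 1 * (x : Ω × Ω).1 * 1⁻¹
    rw [Subgroup.mem_bot.1 (Subgroup.mem_prod.1 x.2).1]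
    simp
  have : Finite T := finite_of_le hTS
  have : Finite F.core := finite_of_le (CfsgLib.FusionQuot.core_le F)
  have : Finite ↥(F.core.prod T) := Finite.of_equiv _ (Subgroup.prodEquiv F.core T).symm.toEquiv
  obtain ⟨χ, hχ, hag, hfixc⟩ := (CfsgLib.FusionQuot.isCentral_center h.D₀).2 W ψ hψ
  have hdiv : ∀ s : preimageAlong h.θ P, ∃ (hy : ((1 : Ω), h.θ ⟨s, preimageAlong_le P s.2⟩) ∈ W),
      h.θ ((⟨_, hWS hy⟩ : ↥(F.core.prod T))⁻¹ * ⟨s, preimageAlong_le P s.2⟩) = 1 ∧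
      ((1 : Ω), h.θ ⟨s, preimageAlong_le P s.2⟩)⁻¹ * (s : Ω × Ω) ∈ h.D₀.center := by
    intro s
    have hyP : h.θ ⟨s, preimageAlong_le P s.2⟩ ∈ P :=
      (CfsgLib.FusionQuot.mem_preimageAlong.1 s.2).2
    have hyW : ((1 : Ω), h.θ ⟨s, preimageAlong_le P s.2⟩) ∈ W :=
      Subgroup.mem_prod.2 ⟨one_mem _, hyP⟩
    have h1 : h.θ ((⟨_, hWS hyW⟩ : ↥(F.core.prod T))⁻¹ * ⟨s, preimageAlong_le P s.2⟩) = 1 := by
      rw [map_mul, map_inv, h.right, inv_mul_cancel]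
    exact ⟨hyW, h1, h.Zc ((hker _).1 h1)⟩
  have hpre : preimageAlong h.θ P ≤ W ⊔ h.D₀.center := by
    intro s hs
    obtain ⟨hy, -, h2⟩ := hdiv ⟨s, hs⟩
    have := mul_mem (Subgroup.mem_sup_left (T := h.D₀.center) hy) (Subgroup.mem_sup_right h2)
    rwa [mul_inv_cancel_left] at this
  have hσ : χ.comp (Subgroup.inclusion hpre) ∈ h.D₀.Hom (preimageAlong h.θ P) := restrict_mem hχ hpre
  refine (hfac P φ).2 ⟨hPT.trans h.T_le_U, _, hσ, preimageAlong_le P, fun s => map_mem hσ s,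
    fun s => (CfsgLib.FusionQuot.mem_preimageAlong.1 s.2).2, fun s => ?_⟩
  obtain ⟨hy, h1, h2⟩ := hdiv s
  have hdec : (Subgroup.inclusion hpre s) = Subgroup.inclusion le_sup_left (⟨_, hy⟩ : W) *
      Subgroup.inclusion le_sup_right (⟨_, h2⟩ : h.D₀.center) :=
    Subtype.ext (mul_inv_cancel_left _ _).symm
  have hyP : h.θ ⟨s, preimageAlong_le P s.2⟩ ∈ P := (CfsgLib.FusionQuot.mem_preimageAlong.1 s.2).2
  have hval : (⟨χ (Subgroup.inclusion hpre s), map_mem hσ s⟩ : ↥(F.core.prod T)) =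
      ⟨(1, φ ⟨_, hyP⟩), Subgroup.mem_prod.2 ⟨one_mem _, map_mem hφ _⟩⟩ *
        ((⟨_, hWS hy⟩ : ↥(F.core.prod T))⁻¹ * ⟨s, preimageAlong_le P s.2⟩) := Subtype.ext (by
    show χ (Subgroup.inclusion hpre s) = _
    rw [hdec, map_mul, hag, hfixc]
    rfl)
  show φ ⟨_, _⟩ = h.θ ⟨χ (Subgroup.inclusion hpre s), _⟩
  rw [hval, map_mul, h1, mul_one, h.right]

end Setup

variable [Finite S] [Fact p.Prime]

/-- The setup of a generalized Fitting subsystem. -/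
theorem exists_setup (hS : IsPGroup p S) (hF : F.IsSaturated p)
    (hD : D.IsGeneralizedFittingOf F p) :
    ∃ (T' : Subgroup Ω) (E' : Cfsg.FusionSystem T'), E'.IsLayerOf F p ∧ Nonempty (Setup F E' D) := by
  obtain ⟨T', E', hE, D₀, hD₀, Z, θ, hZ, -, -, h1, h2, hfac⟩ := hD
  exact ⟨T', E', hE, ⟨⟨D₀, hD₀, Z, θ, hZ, h1, h2, hfac, hE.1.1.2.2.1,
    LayerCore.layer_le_centralizerHom hS hF hE⟩⟩⟩

/-- The generalized Fitting subsystem contains its centralizer. -/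
theorem selfCentralizing (hS : IsPGroup p S) (hF : F.IsSaturated p)
    (hD : D.IsGeneralizedFittingOf F p) :
    (D.center ≤ centralizerIn S U ∧ ∀ P, D.Hom P ⊆ F.centralizerHom D.center P) ∧
      ∀ Y : Subgroup Ω, Y ≤ centralizerIn S U → (∀ P, D.Hom P ⊆ F.centralizerHom Y P) →
        Y ≤ D.center := by
  obtain ⟨T', E', hE, ⟨h⟩⟩ := exists_setup hS hF hD
  have hDF := h.D_le_F
  have hUS : U ≤ S := fun u hu => map_mem (hDF U (subtype_mem D le_rfl)) ⟨u, hu⟩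
  have : Finite U := finite_of_le hUS
  have hTS : T' ≤ S := hE.1.1.2.2.2.1.1
  have : Finite T' := finite_of_le hTS
  have hDc := CfsgLib.FusionQuot.isCentral_center D
  refine ⟨⟨fun z hz => ⟨hUS (hDc.1 hz), D.center_le_centralizer hz⟩, fun P φ hφ => ?_⟩, ?_⟩
  · obtain ⟨ψ, hψ, hag, hfix⟩ := hDc.2 P φ hφ
    have hUC : ∀ u ∈ U, u ∈ centralizerIn S D.center := fun u hu => ⟨hUS hu,
      Subgroup.mem_centralizer_iff.2 fun z hz => (D.center_le_centralizer hz u hu).symm⟩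
    exact ⟨hDF P hφ, fun x hx => hUC x (dom_le hφ hx), fun x => hUC _ (map_mem hφ x), ψ,
      hDF _ hψ, hag, hfix⟩
  intro Y hYC hY
  -- `Y` lies in `C_S(E)`
  have hYX : Y ≤ CenSub.fixSub E' F := by
    have hYT : Y ≤ centralizerIn S T' := fun y hy => ⟨(hYC hy).1,
      Subgroup.centralizer_le (SetLike.coe_subset_coe.2 h.T_le_U) (hYC hy).2⟩
    exact CenSub.IsFixed.le_fixSub ((CenSub.isFixed_iff hTS h.sub hYT).2
      fun P φ hφ => hY P (h.E_le_D hTS P hφ))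
  -- the centralizer of the layer is constrained
  obtain ⟨K, hK, -⟩ := CenNormal.exists_centralizer_normal hS hF hE.1
  have hXS : CenSub.fixSub E' F ≤ S := hK.1.2.2.2.1.1
  have : Finite (CenSub.fixSub E' F) := finite_of_le hXS
  have hKc : K.IsConstrained p := by
    refine (Components.isConstrained_iff_no_component (hS.to_le hXS) hK.1.1).2 ?_
    rintro ⟨V, C, hC, hq⟩
    have hVX : V ≤ CenSub.fixSub E' F := Cfsg.Agent.S5153.le_of_subnormal hC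
    have hVT : V ≤ T' := fun v hv =>
      map_mem (hE.2.1 V C ⟨.step hC hK, hq⟩ V (subtype_mem C le_rfl)) ⟨v, hv⟩
    have : Finite V := finite_of_le (hVX.trans hXS)
    refine Cfsg.Agent.S5148.result p (hS.to_le (hVX.trans hXS)) C hq ?_
    exact isMulCommutative_iff.2 fun a b => Subtype.ext
      (Subgroup.mem_centralizer_iff.1 (CenSub.fixSub_le (hVX b.2)).2 _ (hVT a.2))
  obtain ⟨R, -, hR, hRc⟩ := exists_normal_of_constrained_weaklyNormal hS hF hK.1 hKc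
  have hRcore := CfsgLib.FusionQuot.le_core F hR
  have hYcore : Y ≤ F.core := fun y hy => hRcore (hRc ⟨hYX hy,
    Subgroup.centralizer_le (SetLike.coe_subset_coe.2 (hRcore.trans h.core_le_U)) (hYC hy).2⟩)
  refine CfsgLib.FusionQuot.le_center D ⟨hYcore.trans h.core_le_U, fun P φ hφ => ?_⟩
  obtain ⟨χ, hχ, -, hag, hfix⟩ := h.exists_extension hφ hYcore
    fun y hy u hu => Subgroup.mem_centralizer_iff.1 (hYC hy).2 u hu
  exact ⟨χ, hχ, hag, hfix⟩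

end CfsgLib.Fusion.GenFitting
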