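import Mathlib.GroupTheory.GroupAction.Quotient
import Mathlib.GroupTheory.Index
import Mathlib.GroupTheory.OrderOfElement
import Mathlib.Algebra.BigOperators.Group.Finset.Basic
import Mathlib.Algebra.BigOperators.Fin

/-!
# A complement containing a given subgroup

`N` an abelian normal subgroup of `W`, `D` a subgroup with `D ⊓ N = ⊥` such that the index of
`P = D ⊔ N` is prime to the order of `N` and every coset `w P` has a representative `x` with
`x⁻¹ D x ∩ P ⊆ D`. Then `N` has a complement containing `D`.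
-/

set_option autoImplicit false

namespace CfsgLib.Fusion

theorem exists_complement_containing {W : Type*} [Group W] [Finite W] {N D : Subgroup W}
    (hN : N.Normal) (habel : ∀ a ∈ N, ∀ b ∈ N, a * b = b * a) (hDN : D ⊓ N = ⊥)
    (hcop : (D ⊔ N).index.Coprime (Nat.card N))
    (hfus : ∀ w : W, ∃ b ∈ N, ∀ d ∈ D,
      (w * b)⁻¹ * d * (w * b) ∈ D ⊔ N → (w * b)⁻¹ * d * (w * b) ∈ D) :
    ∃ H : Subgroup W, D ≤ H ∧ H ⊓ N = ⊥ ∧ H ⊔ N = ⊤ := by
  classical
  set P := D ⊔ N with hP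
  let _ : Fintype (W ⧸ P) := Fintype.ofFinite _
  let _ : CommGroup N :=
    { (inferInstance : Group N) with mul_comm := fun a b => Subtype.ext (habel a a.2 b b.2) }
  -- representatives of the cosets
  let orb : W ⧸ P → MulAction.orbitRel.Quotient D (W ⧸ P) := fun q => Quotient.mk'' q
  have hbase : ∀ o : MulAction.orbitRel.Quotient D (W ⧸ P), ∃ x : W,
      (orb (x : W ⧸ P) = o) ∧ ∀ d ∈ D, x⁻¹ * d * x ∈ P → x⁻¹ * d * x ∈ D := by
    intro o
    obtain ⟨q, rfl⟩ : ∃ q, orb q = o := Quotient.exists_rep o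
    obtain ⟨w, rfl⟩ := QuotientGroup.mk_surjective q
    obtain ⟨b, hb, hbx⟩ := hfus w
    have hw : ((w * b : W) : W ⧸ P) = (w : W ⧸ P) :=
      QuotientGroup.mk_mul_of_mem w (Subgroup.mem_sup_right hb)
    exact ⟨w * b, by rw [hw], hbx⟩
  choose base hbase₁ hbase₂ using hbase
  have hd : ∀ q : W ⧸ P, ∃ d : D, d • ((base (orb q) : W) : W ⧸ P) = q := by
    intro q
    have h1 : MulAction.orbitRel D (W ⧸ P) q (base (orb q) : W ⧸ P) :=
      Quotient.exact (hbase₁ (orb q)).symm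
    exact h1
  choose dd hdd using hd
  let rep : W ⧸ P → W := fun q => (dd q : W) * base (orb q)
  have hrep : ∀ q, ((rep q : W) : W ⧸ P) = q := fun q => hdd q
  -- the projection `P → N`
  have hPmem : ∀ p ∈ P, ∃ n ∈ N, ∃ d ∈ D, n * d = p := by
    intro p hp
    have hp' : p ∈ (↑(N ⊔ D) : Set W) := by rw [sup_comm]; exact hp
    rw [Subgroup.normal_mul N D] at hp'
    obtain ⟨n, hn, d, hd', rfl⟩ := hp'
    exact ⟨n, hn, d, hd', rfl⟩
  have hPunique : ∀ {n n' d d' : W}, n ∈ N → n' ∈ N → d ∈ D → d' ∈ D → n * d = n' * d' → n = n' := by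
    intro n n' d d' hn hn' hd1 hd2 h
    have h1 : n'⁻¹ * n = d' * d⁻¹ := by
      rw [eq_mul_inv_iff_mul_eq, mul_assoc, h, inv_mul_cancel_left]
    have h2 : n'⁻¹ * n ∈ D ⊓ N :=
      ⟨h1 ▸ D.mul_mem hd2 (D.inv_mem hd1), N.mul_mem (N.inv_mem hn') hn⟩
    rw [hDN, Subgroup.mem_bot, inv_mul_eq_one] at h2
    exact h2.symm
  choose nn hnn dP hdP hnd using hPmem
  -- the terms
  have hp : ∀ (w : W) (q : W ⧸ P), (rep (w • q))⁻¹ * (w * rep q) ∈ P := by
    intro w q
    apply QuotientGroup.eq.1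
    rw [hrep]
    show w • q = w • ((rep q : W) : W ⧸ P)
    rw [hrep]
  let c : W → W ⧸ P → N := fun w q =>
    ⟨rep (w • q) * nn _ (hp w q) * (rep (w • q))⁻¹, hN.conj_mem _ (hnn _ (hp w q)) _⟩
  let conjN : W → N →* N := fun w =>
    { toFun := fun n => ⟨w * n * w⁻¹, hN.conj_mem n n.2 w⟩
      map_one' := Subtype.ext (by simp)
      map_mul' := fun a b => Subtype.ext (by simp [mul_assoc]) }
  have hnnconj : ∀ {p₁ p₂ : W} (h₁ : p₁ ∈ P) (h₂ : p₂ ∈ P) (h₃ : p₁ * p₂ ∈ P),
      nn (p₁ * p₂) h₃ = nn p₁ h₁ * (p₁ * nn p₂ h₂ * p₁⁻¹) := by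
    intro p₁ p₂ h₁ h₂ h₃
    refine hPunique (hnn _ h₃) (N.mul_mem (hnn _ h₁) (hN.conj_mem _ (hnn _ h₂) _)) (hdP _ h₃)
      (D.mul_mem (hdP _ h₁) (hdP _ h₂)) ?_
    rw [hnd]
    set a := p₁ with ha
    have e1 : nn a h₁ * dP a h₁ = a := hnd a h₁
    have e2 : nn p₂ h₂ * dP p₂ h₂ = p₂ := hnd p₂ h₂
    -- move the element of `N` past `nn a`
    have e3 : nn a h₁ * (a * nn p₂ h₂ * a⁻¹) = (a * nn p₂ h₂ * a⁻¹) * nn a h₁ :=
      habel _ (hnn _ h₁) _ (hN.conj_mem _ (hnn _ h₂) _)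
    calc a * p₂ = a * nn p₂ h₂ * a⁻¹ * (a * dP p₂ h₂) := by
          conv_lhs => rw [← e2]
          simp [mul_assoc]
      _ = a * nn p₂ h₂ * a⁻¹ * (nn a h₁ * dP a h₁ * dP p₂ h₂) := by rw [e1]
      _ = nn a h₁ * (a * nn p₂ h₂ * a⁻¹) * (dP a h₁ * dP p₂ h₂) := by
          rw [e3]
          simp [mul_assoc]
  have hcoc : ∀ u v q, c (u * v) q = c u (v • q) * conjN u (c v q) := by
    intro u v q
    refine Subtype.ext ?_
    have hq : (u * v) • q = u • v • q := mul_smul u v q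
    show rep ((u * v) • q) * nn _ (hp (u * v) q) * (rep ((u * v) • q))⁻¹ =
      rep (u • v • q) * nn _ (hp u (v • q)) * (rep (u • v • q))⁻¹ *
        (u * (rep (v • q) * nn _ (hp v q) * (rep (v • q))⁻¹) * u⁻¹)
    have hsplit : (rep ((u * v) • q))⁻¹ * (u * v * rep q) =
        (rep (u • v • q))⁻¹ * (u * rep (v • q)) * ((rep (v • q))⁻¹ * (v * rep q)) := by
      rw [hq]
      simp [mul_assoc]
    have e : nn _ (hp (u * v) q) =
        nn _ (hp u (v • q)) * ((rep (u • v • q))⁻¹ * (u * rep (v • q)) * nn _ (hp v q) *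
          ((rep (u • v • q))⁻¹ * (u * rep (v • q)))⁻¹) := by
      have h3 : (rep (u • v • q))⁻¹ * (u * rep (v • q)) * ((rep (v • q))⁻¹ * (v * rep q)) ∈ P :=
        P.mul_mem (hp u (v • q)) (hp v q)
      rw [← hnnconj (hp u (v • q)) (hp v q) h3]
      simp only [hsplit]
    rw [e, hq]
    simp [mul_assoc]
  let θ : W → N := fun w => ∏ q : W ⧸ P, c w q
  have hθ : ∀ u v, θ (u * v) = θ u * conjN u (θ v) := by
    intro u v
    show ∏ q, c (u * v) q = (∏ q, c u q) * conjN u (∏ q, c v q)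
    simp only [hcoc, Finset.prod_mul_distrib, map_prod]
    congr 1
    exact Equiv.prod_comp (MulAction.toPerm v : Equiv.Perm (W ⧸ P)) (fun q => c u q)
  have hθ1 : θ 1 = 1 := by
    have h := hθ 1 1
    rw [mul_one] at h
    have : conjN 1 (θ 1) = θ 1 := Subtype.ext (by simp [conjN])
    rw [this] at h
    exact mul_left_cancel (a := θ 1) (by rw [mul_one]; exact h.symm)
  have hcN : ∀ (n : N) q, c n q = n := by
    intro n q
    refine Subtype.ext ?_
    have hfix : ((n : W)) • q = q := by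
      obtain ⟨x, rfl⟩ := QuotientGroup.mk_surjective q
      refine (QuotientGroup.eq.2 ?_).symm
      show x⁻¹ * ((n : W) * x) ∈ P
      exact Subgroup.mem_sup_right (by simpa [mul_assoc] using hN.conj_mem n n.2 x⁻¹)
    show rep ((n : W) • q) * nn _ (hp n q) * (rep ((n : W) • q))⁻¹ = (n : W)
    have hmem : (rep ((n : W) • q))⁻¹ * ((n : W) * rep q) ∈ N := by
      rw [hfix]
      simpa [mul_assoc] using hN.conj_mem n n.2 (rep q)⁻¹
    have e : nn _ (hp n q) = (rep ((n : W) • q))⁻¹ * ((n : W) * rep q) :=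
      hPunique (hnn _ _) hmem (hdP _ _) D.one_mem (by rw [hnd, mul_one])
    rw [e, hfix]
    simp [mul_assoc]
  have hθN : ∀ n : N, θ n = n ^ P.index := by
    intro n
    show ∏ q, c n q = _
    simp only [hcN, Finset.prod_const, Finset.card_univ, Subgroup.index, Nat.card_eq_fintype_card]
  have horb : ∀ (d : D) q, orb (d • q) = orb q := fun d q =>
    Quotient.sound (MulAction.mem_orbit q d)
  have hcD : ∀ d ∈ D, ∀ q, c d q = 1 := by
    intro d hd q
    refine Subtype.ext ?_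
    show rep (d • q) * nn _ (hp d q) * (rep (d • q))⁻¹ = 1
    have hq' : d • q = (⟨d, hd⟩ : D) • q := rfl
    have hmem : (rep (d • q))⁻¹ * (d * rep q) ∈ D := by
      have ho : orb (d • q) = orb q := hq' ▸ horb ⟨d, hd⟩ q
      have h1 : (rep (d • q))⁻¹ * (d * rep q) =
          (base (orb q))⁻¹ * ((dd (d • q) : W)⁻¹ * d * dd q) * base (orb q) := by
        simp only [rep, ho]
        simp [mul_assoc]
      rw [h1]
      refine hbase₂ _ _ (D.mul_mem (D.mul_mem (D.inv_mem (dd (d • q)).2) hd) (dd q).2) ?_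
      rw [← h1]
      exact hp d q
    have e : nn _ (hp d q) = 1 :=
      hPunique (hnn _ _) N.one_mem (hdP _ _) hmem (by rw [hnd, one_mul])
    rw [e]
    simp
  let H : Subgroup W :=
    { carrier := {w | θ w = 1}
      one_mem' := hθ1
      mul_mem' := fun {a b} (ha : θ a = 1) (hb : θ b = 1) => by
        show θ (a * b) = 1
        rw [hθ, ha, hb, map_one, one_mul]
      inv_mem' := fun {a} (ha : θ a = 1) => by
        show θ a⁻¹ = 1
        have h := hθ a a⁻¹
        rw [mul_inv_cancel, hθ1, ha, one_mul] at h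
        have h' := congrArg (conjN a⁻¹) h.symm
        rw [map_one] at h'
        rw [← h']
        exact Subtype.ext (by simp [conjN, mul_assoc]) }
  refine ⟨H, fun d hd => ?_, ?_, ?_⟩
  · show θ d = 1
    exact Finset.prod_eq_one fun q _ => hcD d hd q
  · refine eq_bot_iff.2 fun x hxm => ?_
    obtain ⟨hxH, hxN⟩ := hxm
    have hx : θ x = 1 := hxH
    rw [Subgroup.mem_bot]
    have h1 : (⟨x, hxN⟩ : N) ^ P.index = 1 := by rw [← hθN]; exact hx
    have h2 := (powCoprime hcop.symm).injective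
      (show powCoprime hcop.symm ⟨x, hxN⟩ = powCoprime hcop.symm 1 by simpa using h1)
    exact congrArg Subtype.val h2
  · refine eq_top_iff.2 fun w _ => ?_
    obtain ⟨n, hn⟩ : ∃ n : N, n ^ P.index = (θ w)⁻¹ :=
      ⟨_, (powCoprime hcop.symm).apply_symm_apply (θ w)⁻¹⟩
    have hmem : (n : W) * w ∈ H := by
      show θ ((n : W) * w) = 1
      have hc : conjN (n : W) (θ w) = θ w :=
        Subtype.ext (show (n : W) * (θ w : W) * (n : W)⁻¹ = (θ w : W) by
          rw [habel n n.2 _ (θ w).2, mul_inv_cancel_right])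
      rw [hθ, hθN, hn, hc, inv_mul_cancel]
    have := Subgroup.mul_mem_sup hmem (N.one_mem)
    have h3 := (H ⊔ N).mul_mem (Subgroup.mem_sup_right (N.inv_mem n.2)) this
    simpa using h3

end CfsgLib.Fusion
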