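import Cfsg.Agent.Lib.FusionQuot.Solvable
import Cfsg.Agent.Lib.FusionQuot.Joins
import Cfsg.Agent.Lib.Fusion.CentricExtend
import Cfsg.Agent.Lib.Fusion.Stability

/-!
The factor system of a constrained system by a central subgroup is constrained.
-/

set_option autoImplicit false
open Cfsg Cfsg.FusionSystem CfsgLib.Fusion CfsgLib.FusionQuot

namespace CfsgLib.Fusion

variable {Ω Ω' : Type*} [Group Ω] [Group Ω'] {S K : Subgroup Ω} {F : Cfsg.FusionSystem S}
  {S' : Subgroup Ω'} {θ : S →* Ω'} {E : Cfsg.FusionSystem S'} {p : ℕ}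

theorem apply_eq_self_of_center [Finite S] {P : Subgroup Ω} {φ : P →* Ω} (hφ : φ ∈ F.Hom P) (x : P)
    (hx : (x : Ω) ∈ F.center) : φ x = x := by
  obtain ⟨ψ, -, h1, h2⟩ := (isCentral_center F).2 P φ hφ
  rw [← h1 x]
  exact (congrArg ψ (Subtype.ext rfl : Subgroup.inclusion (le_sup_left : P ≤ P ⊔ F.center) x =
    Subgroup.inclusion le_sup_right (⟨(x : Ω), hx⟩ : F.center))).trans (h2 _)

theorem center_le_of_centric [Finite S] {R : Subgroup Ω} (hR : F.IsCentric R) : F.center ≤ R :=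
  fun z hz => hR.2 R ⟨R.subtype, subtype_mem F hR.1, R.range_subtype⟩
    ⟨center_le F hz, fun r hr => F.center_le_centralizer hz r (hR.1 hr)⟩

theorem isConstrained_factor_center [Finite S] [Fact p.Prime] (hS : IsPGroup p S)
    (hF : F.IsConstrained p) (hK : K ≤ F.center) (hKsc : F.StronglyClosed K)
    (hE : F.IsFactorSystem K θ E) : E.IsConstrained p := by
  obtain ⟨hFs, R₀, hR₀, hR₀c⟩ := hF
  have hsat := isSaturated_factor hS hFs hKsc hE
  obtain ⟨hKS, hker, hrange, hiff⟩ := hE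
  have hR : F.IsNormal F.core := isNormal_core F
  have hRc : F.IsCentric F.core := CentricExtend.centric_of_le hR₀c (le_core F hR₀) hR.1
  set R := F.core with hRdef
  have hRS : R ≤ S := hR.1
  have hKR : K ≤ R := hK.trans (center_le_of_centric hRc)
  have hkerR : ∀ (x : Ω) (hx : x ∈ S), θ ⟨x, hx⟩ = 1 → x ∈ R := fun x hx h => hKR ((hker _).1 h)
  have hkeep : ∀ {X : Subgroup Ω} {ψ : X →* Ω} (hψ : ψ ∈ F.Hom X) (z : X),
      θ ⟨z, dom_le hψ z.2⟩ = 1 → θ ⟨ψ z, map_mem hψ z⟩ = 1 := by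
    intro X ψ hψ z hz
    have hzK := (hker _).1 hz
    rw [hker]
    show ψ z ∈ K
    rw [apply_eq_self_of_center hψ z (hK hzK)]
    exact hzK
  set R' := imageAlong θ R with hR'
  have hR'S : R' ≤ S' := hrange ▸ imageAlong_le_range R
  have hR'n : E.IsNormal R' := by
    refine ⟨hR'S, fun P' φ' hφ' => ?_⟩
    obtain ⟨hP', φ, hφ, hind⟩ := (hiff P' φ').1 hφ'
    obtain ⟨ψ, hψ, hψP, hψR⟩ := hR.2 _ φ hφ
    have hXS := dom_le hψ
    obtain ⟨χ, hχ⟩ := exists_induced (α := θ) hXS (map_mem hψ) (hkeep hψ)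
    have hpre : preimageAlong θ (imageAlong θ (preimageAlong θ P' ⊔ R)) = preimageAlong θ P' ⊔ R :=
      preimageAlong_imageAlong hXS fun x hx h => Subgroup.mem_sup_right (hkerR x hx h)
    have hχE : χ ∈ E.Hom (imageAlong θ (preimageAlong θ P' ⊔ R)) :=
      (hiff _ _).2 ⟨hrange ▸ imageAlong_le_range _, by rw [hpre]; exact ⟨ψ, hψ, hχ⟩⟩
    have hle : P' ⊔ R' ≤ imageAlong θ (preimageAlong θ P' ⊔ R) := by
      refine sup_le ?_ (imageAlong_mono le_sup_right)
      exact (imageAlong_preimageAlong (hP'.trans hrange.ge)).ge.trans (imageAlong_mono le_sup_left)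
    refine ⟨χ.comp (Subgroup.inclusion hle), restrict_mem hχE hle, ?_, ?_⟩
    · rintro ⟨y, hy⟩
      obtain ⟨⟨x, hxS⟩, rfl⟩ := hrange.ge (hP' hy)
      have hxP : x ∈ preimageAlong θ P' := mem_preimageAlong.2 ⟨hxS, hy⟩
      refine (induced_apply hχ (Subgroup.inclusion le_sup_left ⟨x, hxP⟩) hxS _ (map_mem hψ _)).trans ?_
      refine Eq.trans ?_ (induced_apply hind ⟨x, hxP⟩ hxS hy (map_mem hφ _)).symm
      exact congrArg θ (Subtype.ext (hψP ⟨x, hxP⟩))
    · ext y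
      constructor
      · rintro ⟨⟨w, hw⟩, hwR, rfl⟩
        obtain ⟨x, hxS, hxR, rfl⟩ := mem_imageAlong.1 (show w ∈ imageAlong θ R from hwR)
        refine (congrArg (· ∈ R') (induced_apply hχ (Subgroup.inclusion le_sup_right ⟨x, hxR⟩) hxS
          (hle hw) (map_mem hψ _))).mpr ?_
        exact apply_mem_imageAlong _ (hψR.le ⟨Subgroup.inclusion le_sup_right ⟨x, hxR⟩, hxR, rfl⟩)
      · intro hy
        obtain ⟨x', hx'S, hx'R, rfl⟩ := mem_imageAlong.1 hy
        obtain ⟨⟨x, hxX⟩, hxR, he⟩ := hψR.ge hx'R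
        have hxR' : θ ⟨x, hXS hxX⟩ ∈ R' := apply_mem_imageAlong _ hxR
        exact ⟨⟨_, Subgroup.mem_sup_right hxR'⟩, hxR', (induced_apply hχ ⟨x, hxX⟩ (hXS hxX) _
          (map_mem hψ _)).trans (congrArg θ (Subtype.ext he))⟩
  refine ⟨hsat, R', hR'n, hR'S, fun Q hQ => ?_⟩
  have hfin : Finite S' := finite_of_isFactorSystem ⟨hKS, hker, hrange, hiff⟩
  obtain rfl := eq_of_isConj_of_stronglyClosed (stronglyClosed_of_isNormal hR'n) hQ
  -- the preimage of the centralizer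
  set Q₂ := preimageAlong θ (Subgroup.centralizer (R' : Set Ω')) with hQ₂
  suffices hQ₂R : Q₂ ≤ R by
    rintro y ⟨hyS, hyc⟩
    obtain ⟨x, rfl⟩ := hrange.ge hyS
    exact apply_mem_imageAlong x.2 (hQ₂R (mem_preimageAlong.2 ⟨x.2, hyc⟩))
  have hQ₂S : Q₂ ≤ S := preimageAlong_le _
  have hcomm : ∀ x ∈ Q₂, ∀ r ∈ R, x * r * x⁻¹ * r⁻¹ ∈ K := by
    intro x hx r hr
    obtain ⟨hxS, hxc⟩ := mem_preimageAlong.1 hx
    refine (hker (⟨x, hxS⟩ * ⟨r, hRS hr⟩ * ⟨x, hxS⟩⁻¹ * ⟨r, hRS hr⟩⁻¹)).1 ?_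
    rw [map_mul, map_mul, map_mul, map_inv, map_inv,
      ← Subgroup.mem_centralizer_iff.1 hxc _ (apply_mem_imageAlong (hRS hr) hr)]
    simp
  have hcK : ∀ k ∈ K, ∀ s ∈ S, s * k = k * s := fun k hk s hs =>
    F.center_le_centralizer (hK hk) s hs
  have hKc : ∀ k ∈ K, k ∈ centralizerIn S R := fun k hk =>
    ⟨hKS hk, fun r hr => hcK k hk r (hRS hr)⟩
  have hCR : centralizerIn S R ≤ R := hRc.2 R ⟨R.subtype, subtype_mem F hRS, R.range_subtype⟩
  let L : ℕ → Subgroup Ω := fun i => match i with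
    | 0 => Q₂
    | 1 => R ⊓ Subgroup.centralizer (R : Set Ω)
    | 2 => K
    | _ => ⊥
  have hQ₂sc : F.StronglyClosed Q₂ := by
    refine ⟨hQ₂S, fun X hX φ hφ x => mem_preimageAlong.2 ⟨map_mem hφ x, fun y hy => ?_⟩⟩
    obtain ⟨ψ, hψ, hψP, hψR⟩ := hR.2 X φ hφ
    obtain ⟨r', hr'S, hr', rfl⟩ := mem_imageAlong.1 (show y ∈ imageAlong θ R from hy)
    obtain ⟨⟨r, hrX⟩, hrR, rfl⟩ := hψR.ge hr'
    set x' : ↥(X ⊔ R) := Subgroup.inclusion le_sup_left x with hx'
    have h1 : (x : Ω) * r * (x : Ω)⁻¹ * r⁻¹ ∈ K := hcomm x (hX x.2) r hrR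
    set r'' : ↥(X ⊔ R) := ⟨r, hrX⟩ with hr''
    have h2 : ψ (x' * r'' * x'⁻¹ * r''⁻¹) = (x : Ω) * r * (x : Ω)⁻¹ * r⁻¹ :=
      apply_eq_self_of_center hψ (x' * r'' * x'⁻¹ * r''⁻¹) (hK h1)
    simp only [map_mul, map_inv] at h2
    have h3 : θ (⟨ψ x', map_mem hψ _⟩ * ⟨ψ ⟨r, hrX⟩, hr'S⟩ * ⟨ψ x', map_mem hψ _⟩⁻¹ *
        ⟨ψ ⟨r, hrX⟩, hr'S⟩⁻¹) = 1 := by
      refine (hker _).2 ?_
      show ψ x' * ψ ⟨r, hrX⟩ * (ψ x')⁻¹ * (ψ ⟨r, hrX⟩)⁻¹ ∈ K
      rw [h2]
      exact h1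
    rw [map_mul, map_mul, map_mul, map_inv, map_inv, mul_inv_eq_one, mul_inv_eq_iff_eq_mul] at h3
    rw [show (⟨φ x, map_mem hφ x⟩ : S) = ⟨ψ x', map_mem hψ _⟩ from Subtype.ext (hψP x).symm]
    exact h3.symm
  have hnorm : F.IsNormal (L 0) := by
    refine Stability.isNormal_of_series hS hFs L 3 (fun i hi => ?_) rfl ?_
    · interval_cases i
      · exact hQ₂sc
      · exact stronglyClosed_of_isNormal (isNormal_center_of_isNormal hR)
      · exact hKsc
      · exact stronglyClosed_bot F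
    · intro i hi r hr x hx
      interval_cases i
      · -- modulo `K` both act trivially on `R`
        have hxS := hQ₂S hx
        have hrS := hQ₂S hr
        have hyS : x⁻¹ * (r * x * r⁻¹) ∈ S :=
          S.mul_mem (S.inv_mem hxS) (S.mul_mem (S.mul_mem hrS hxS) (S.inv_mem hrS))
        have hyC : x⁻¹ * (r * x * r⁻¹) ∈ Subgroup.centralizer (R : Set Ω) := by
          intro u hu
          -- apply to `r⁻¹ u r`
          set v := r⁻¹ * u * r with hv
          have hvR : v ∈ R := by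
            have := (Subgroup.mem_normalizer_iff''.1
              (stronglyClosed_le_normalizer (stronglyClosed_of_isNormal hR) hrS) u).1 hu
            exact this
          obtain ⟨a, haK, ha⟩ : ∃ a ∈ K, x * v = a * v * x :=
            ⟨_, hcomm x hx v hvR, by group⟩
          obtain ⟨b, hbK, hb⟩ : ∃ b ∈ K, r * v = b * v * r :=
            ⟨_, hcomm r hr v hvR, by group⟩
          have e1 : (r * x) * v = a * b * v * (r * x) := by
            rw [mul_assoc r x v, ha, ← mul_assoc r, ← mul_assoc r, hcK a haK r hrS, mul_assoc a r v,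
              hb]
            simp only [mul_assoc]
          have e2 : (x * r) * v = a * b * v * (x * r) := by
            rw [mul_assoc x r v, hb, ← mul_assoc x, ← mul_assoc x, hcK b hbK x hxS, mul_assoc b x v,
              ha, ← mul_assoc b, ← mul_assoc b, ← hcK a haK b (hKS hbK) |>.symm]
            simp only [mul_assoc]
          have hu' : u = r * v * r⁻¹ := by rw [hv]; group
          have e3 : ((x * r)⁻¹ * (r * x)) * v = v * ((x * r)⁻¹ * (r * x)) := by
            apply mul_left_cancel (a := x * r)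
            calc (x * r) * (((x * r)⁻¹ * (r * x)) * v) = (r * x) * v := by group
              _ = a * b * v * (r * x) := e1
              _ = a * b * v * (x * r) * ((x * r)⁻¹ * (r * x)) := by group
              _ = (x * r) * v * ((x * r)⁻¹ * (r * x)) := by rw [e2]
              _ = (x * r) * (v * ((x * r)⁻¹ * (r * x))) := by group
          calc u * (x⁻¹ * (r * x * r⁻¹)) = r * (v * ((x * r)⁻¹ * (r * x))) * r⁻¹ := by
                rw [hu']; group
            _ = r * (((x * r)⁻¹ * (r * x)) * v) * r⁻¹ := by rw [e3]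
            _ = (x⁻¹ * (r * x * r⁻¹)) * u := by rw [hu']; group
        exact ⟨hCR ⟨hyS, hyC⟩, hyC⟩
      · show _ ∈ K
        have h1 := hcomm r hr x hx.1
        rw [show x⁻¹ * (r * x * r⁻¹) = x⁻¹ * (r * x * r⁻¹ * x⁻¹) * x by group, mul_assoc,
          ← hcK _ h1 x (hRS hx.1), inv_mul_cancel_left]
        exact h1
      · show _ ∈ (⊥ : Subgroup Ω)
        rw [Subgroup.mem_bot, hcK x hx r (hQ₂S hr), mul_inv_cancel_right, inv_mul_cancel]
  exact le_core F hnorm

end CfsgLib.Fusion
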