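import Cfsg.Agent.Lib.Fusion.LocalSaturation
import Cfsg.Agent.Lib.Fusion.Invariant
import Cfsg.Prelude.Def_TwoFusion

/-!
# Strongly closed direct factors
-/

set_option autoImplicit false

namespace CfsgLib.Fusion.DirectFactor

open Cfsg Cfsg.FusionSystem CfsgLib.Fusion
open scoped Pointwise

variable {Ω : Type*} [Group Ω] {S S₁ S₂ : Subgroup Ω} {F : Cfsg.FusionSystem S} {p : ℕ}

/-- Restriction to a strongly closed subgroup inducing all automorphisms preserves saturation. -/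
theorem isSaturated_restrict {U T : Subgroup Ω} {G : Cfsg.FusionSystem U} {E : Cfsg.FusionSystem T}
    [Finite U] [Fact p.Prime] (hU : IsPGroup p U) (hG : G.IsSaturated p) (hT : G.StronglyClosed T)
    (hconj : ∀ g ∈ U, ∃ t ∈ T, ∀ x ∈ T, g * x * g⁻¹ = t * x * t⁻¹)
    (hE : ∀ P : Subgroup Ω, P ≤ T → E.Hom P = G.Hom P) : E.IsSaturated p := by
  intro P hP
  obtain ⟨Q, hPQ, hQn⟩ := exists_isFullyNormalized G (hP.trans hT.1)
  obtain ⟨φ, hφ, hr⟩ := hPQ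
  have hQT : Q ≤ T := hr ▸ (by rintro _ ⟨x, rfl⟩; exact hT.2 P hP φ hφ x)
  have hFA := isFullyAutomized_of_isFullyNormalized hU hG hQn
  have hrec := isReceptive_of_isFullyNormalized hU hG hQn
  refine ⟨Q, ⟨φ, (hE P hP).symm ▸ hφ, hr⟩, ⟨hQT, ?_⟩, hQT, fun R ψ hψ hψr => ?_⟩
  · have hA : E.autGroup Q = G.autGroup Q := by
      show Subgroup.closure _ = Subgroup.closure _
      rw [hE Q hQT]
    have hI : autInducedBy T Q = autInducedBy U Q := le_antisymm (autInducedBy_mono hT.1 Q) <| by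
      intro α hα
      obtain ⟨g, hg, hx⟩ := mem_autInducedBy_iff.1 hα
      obtain ⟨t, ht, hgt⟩ := hconj g hg
      exact mem_autInducedBy_iff.2 ⟨t, ht, fun x => (hx x).trans (hgt x (hQT x.2))⟩
    rw [hA, hI]
    exact hFA.2
  · have hR : R ≤ T := (E.le_of_mem hψ).1
    have hψG : ψ ∈ G.Hom R := hE R hR ▸ hψ
    obtain ⟨χ, hχ, hag⟩ := hrec.2 R ψ hψG hψr
    have hN : extender T R ψ ≤ extender U R ψ := fun g hg => by
      obtain ⟨h1, h2, h, hh, h3⟩ := mem_extender_iff.1 hg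
      exact mem_extender_iff.2 ⟨hT.1 h1, h2, h, hT.1 hh, h3⟩
    have hNT : extender T R ψ ≤ T := (extender_le_normalizerIn ψ).trans (normalizerIn_le _ _)
    exact ⟨χ.comp (Subgroup.inclusion hN), (hE _ hNT).symm ▸ restrict_mem hχ hN,
      fun x hx hxN => hag x hx (hN hxN)⟩

theorem exists_mul (h : IsInternalDirectProduct S₁ S₂ S) {g : Ω} (hg : g ∈ S) :
    ∃ a ∈ S₁, ∃ b ∈ S₂, g = a * b := by
  obtain ⟨h₁, h₂, hc, -, hsup⟩ := h
  have hn : S₁ ≤ Subgroup.normalizer (S₂ : Set Ω) := Subgroup.le_normalizer_iff.2 fun a ha b hb => by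
    rw [hc a ha b hb, mul_inv_cancel_right]
    exact hb
  have : g ∈ ((S₁ : Set Ω) * (S₂ : Set Ω)) := by
    rw [← Subgroup.coe_mul_of_left_le_normalizer_right _ _ hn, hsup]
    exact hg
  obtain ⟨a, ha, b, hb, rfl⟩ := this
  exact ⟨a, ha, b, hb, rfl⟩

theorem conj_eq (h : IsInternalDirectProduct S₁ S₂ S) {a b x : Ω} (ha : a ∈ S₁) (hb : b ∈ S₂)
    (hx : x ∈ S₁) : a * b * x * (a * b)⁻¹ = a * x * a⁻¹ := by
  have h1 := h.2.2.1 x hx b hb
  rw [mul_assoc a b x, ← h1]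
  simp [mul_assoc]

theorem exists_preimage [Finite S] (hS₂ : F.StronglyClosed S₂) {R : Subgroup Ω} {ψ : R →* Ω}
    (hψ : ψ ∈ F.Hom R) (hR : S₂ ≤ R) {y : Ω} (hy : y ∈ S₂) : ∃ x : S₂, ψ ⟨x, hR x.2⟩ = y := by
  have : Finite S₂ := finite_of_le hS₂.1
  have h := range_eq_of_le (hom_inj (restrict_mem hψ hR)) fun x =>
    hS₂.2 S₂ le_rfl _ (restrict_mem hψ hR) x
  have hy' : y ∈ (ψ.comp (Subgroup.inclusion hR)).range := by rw [h]; exact hy
  exact hy'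

/-- Every map on a subgroup of one factor extends over the other factor. -/
theorem exists_sup_extension [Finite S] [Fact p.Prime] (hS : IsPGroup p S) (hF : F.IsSaturated p)
    (hprod : IsInternalDirectProduct S₁ S₂ S) (h₁ : F.StronglyClosed S₁) (h₂ : F.StronglyClosed S₂)
    {P : Subgroup Ω} (hP : P ≤ S₁) {φ : P →* Ω} (hφ : φ ∈ F.Hom P) :
    ∃ ψ ∈ F.Hom (P ⊔ S₂), ∀ x : P, ψ (Subgroup.inclusion le_sup_left x) = φ x := by
  obtain ⟨Q, hPQ, hQn⟩ := exists_isFullyNormalized F (hP.trans hprod.1)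
  have hrec := isReceptive_of_isFullyNormalized hS hF hQn
  have step : ∀ R : Subgroup Ω, R ≤ S₁ → ∀ e : R ≃* Q, IsFIso F e →
      ∃ ψ ∈ F.Hom (R ⊔ S₂), ∀ x : R, ψ (Subgroup.inclusion le_sup_left x) = (e x : Ω) := by
    intro R hR e he
    have hle : R ⊔ S₂ ≤ normalizerIn S R := by
      refine sup_le (le_normalizerIn he.le_left) fun b hb => ⟨hprod.2.1 hb, ?_⟩
      refine centralizer_le_normalizer R (Subgroup.mem_centralizer_iff.2 fun x hx => ?_)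
      exact hprod.2.2.1 x (hR hx) b hb
    obtain ⟨ψ, hψ, -, hag⟩ := he.exists_extension hrec (le_sup_left (b := S₂)) hle fun g hg => by
      have hn : R ≤ Subgroup.normalizer (S₂ : Set Ω) := Subgroup.le_normalizer_iff.2
        fun a ha b hb => by
          rw [hprod.2.2.1 a (hR ha) b hb, mul_inv_cancel_right]
          exact hb
      have hmul : g ∈ ((R : Set Ω) * (S₂ : Set Ω)) := by
        rw [← Subgroup.coe_mul_of_left_le_normalizer_right _ _ hn]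
        exact hg
      obtain ⟨a, ha, b, hb, rfl⟩ := hmul
      refine mem_autInducedBy_iff.2 ⟨(e ⟨a, ha⟩ : Ω), he.le_right (e ⟨a, ha⟩).2, fun y => ?_⟩
      have h1 : conjAut R (a * b) (hle hg).2 (e.symm y) = ⟨a, ha⟩ * e.symm y * ⟨a, ha⟩⁻¹ :=
        Subtype.ext ((conjAut_apply _ _).trans (conj_eq hprod (hR ha) hb (hR (e.symm y).2)))
      rw [congr_apply, h1, map_mul, map_mul, map_inv, MulEquiv.apply_symm_apply]
      rfl
    exact ⟨ψ, hψ, hag⟩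
  have hrange : φ.range ≤ S₁ := by rintro _ ⟨x, rfl⟩; exact h₁.2 P hP φ hφ x
  obtain ⟨f, hf, hfφ⟩ := exists_iso hφ rfl
  obtain ⟨e, he⟩ := exists_iso_of_isConj hPQ
  obtain ⟨ψ₁, hψ₁, h1⟩ := step P hP e he
  obtain ⟨ψ₂, hψ₂, h2⟩ := step φ.range hrange (f.symm.trans e) (hf.symm.trans he)
  obtain ⟨ρ, hρ, hρinv⟩ := F.inv_mem hψ₂
  have hmem : ∀ x, ψ₁ x ∈ ψ₂.range := forall_mem_of_sup
    (fun x => ⟨Subgroup.inclusion le_sup_left (f x), by rw [h2, h1]; simp⟩)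
    (fun x => by
      obtain ⟨y, hy⟩ := exists_preimage h₂ hψ₂ le_sup_right
        (h₂.2 S₂ le_rfl _ (restrict_mem hψ₁ le_sup_right) x)
      exact ⟨_, hy⟩)
  refine ⟨_, F.comp_mem hψ₁ hρ hmem, fun x => ?_⟩
  show ρ ⟨ψ₁ (Subgroup.inclusion le_sup_left x), _⟩ = φ x
  have h3 : (⟨ψ₁ (Subgroup.inclusion le_sup_left x), hmem _⟩ : ψ₂.range) =
      ⟨ψ₂ (Subgroup.inclusion le_sup_left (f x)), ⟨_, rfl⟩⟩ :=
    Subtype.ext (by show ψ₁ _ = ψ₂ _; rw [h1, h2]; simp)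
  rw [h3, hρinv]
  exact hfφ x

theorem autGroup_range {T : Subgroup Ω} (hT : T ≤ S) {α : MulAut T} (hα : α ∈ F.autGroup T) :
    T.subtype.comp α.toMonoidHom ∈ F.Hom T :=
  (mem_autGroup_iff_hom hT).1 hα

theorem isSaturated_factor [Finite S] [Fact p.Prime] (hS : IsPGroup p S) (hF : F.IsSaturated p)
    (hprod : IsInternalDirectProduct S₁ S₂ S) (h₁ : F.StronglyClosed S₁)
    {R : Cfsg.FusionSystem S₁} (hR : ∀ P : Subgroup Ω, P ≤ S₁ → R.Hom P = F.Hom P) :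
    R.IsSaturated p :=
  isSaturated_restrict hS hF h₁ (fun g hg => by
    obtain ⟨a, ha, b, hb, rfl⟩ := exists_mul hprod hg
    exact ⟨a, ha, fun x hx => conj_eq hprod ha hb hx⟩) hR

theorem mem_centralizerIn_of_mem (hprod : IsInternalDirectProduct S₁ S₂ S) {a : Ω} (ha : a ∈ S₁) :
    a ∈ centralizerIn S S₂ :=
  ⟨hprod.1 ha, Subgroup.mem_centralizer_iff.2 fun b hb => (hprod.2.2.1 a ha b hb).symm⟩

theorem isSaturated_centralFactor [Finite S] [Fact p.Prime] (hS : IsPGroup p S) (hF : F.IsSaturated p)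
    (hprod : IsInternalDirectProduct S₁ S₂ S) (h₁ : F.StronglyClosed S₁) (h₂ : F.StronglyClosed S₂)
    {R' : Cfsg.FusionSystem S₁} (hR' : ∀ P : Subgroup Ω, P ≤ S₁ → R'.Hom P = F.centralizerHom S₂ P) :
    R'.IsSaturated p := by
  have hfc : F.IsFullyCentralized S₂ := by
    refine ⟨h₂.1, ?_⟩
    rintro Q ⟨φ, hφ, rfl⟩
    have : Finite S₂ := finite_of_le h₂.1
    rw [range_eq_of_le (hom_inj hφ) (h₂.2 S₂ le_rfl φ hφ)]
  have : Finite (centralizerIn S S₂) := finite_of_le (centralizerIn_le S S₂)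
  exact isSaturated_restrict (G := centralizerSystem F S₂ h₂.1) (hS.to_le (centralizerIn_le S S₂))
    (isSaturated_centralizerSystem hS hF hfc (isCentralizerSystem_centralizerSystem F S₂ h₂.1))
    ⟨fun a ha => mem_centralizerIn_of_mem hprod ha, fun P hP φ hφ x => h₁.2 P hP φ hφ.1 x⟩
    (fun g hg => by
      obtain ⟨a, ha, b, hb, rfl⟩ := exists_mul hprod hg.1
      exact ⟨a, ha, fun x hx => conj_eq hprod ha hb hx⟩) hR'

theorem isWeaklyNormalIn_factor [Finite S] [Fact p.Prime] (hS : IsPGroup p S) (hF : F.IsSaturated p)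
    (hprod : IsInternalDirectProduct S₁ S₂ S) (h₁ : F.StronglyClosed S₁)
    {R : Cfsg.FusionSystem S₁} (hR : ∀ P : Subgroup Ω, P ≤ S₁ → R.Hom P = F.Hom P) :
    R.IsWeaklyNormalIn F p := by
  refine ⟨isSaturated_factor hS hF hprod h₁ hR, hF, fun P φ hφ => hR P (R.le_of_mem hφ).1 ▸ hφ, h₁,
    fun P hPT φ hφ α hα => ?_, fun P hP φ hφ => ?_⟩
  · have hφF : φ ∈ F.Hom P := hR P hPT ▸ hφ
    have hαF := autGroup_range h₁.1 hα
    obtain ⟨e, he, hex⟩ := exists_iso (Q := (P.subgroupOf S₁).map (S₁.subtype.comp α.toMonoidHom))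
      (restrict_mem hαF hPT) (range_comp_inclusion hPT)
    have hχ : (((S₁.subtype.comp α.toMonoidHom).comp (φ.codRestrict S₁ (R.le_of_mem hφ).2)).comp
        e.symm.toMonoidHom) ∈ F.Hom _ :=
      mem_of_comp he.symm (mem_of_comp hφF hαF (R.le_of_mem hφ).2
        ((S₁.subtype.comp α.toMonoidHom).comp (φ.codRestrict S₁ (R.le_of_mem hφ).2)) fun _ => rfl)
        (fun y => (e.symm y).2) _ fun _ => rfl
    have hle : (P.subgroupOf S₁).map (S₁.subtype.comp α.toMonoidHom) ≤ S₁ := by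
      rintro _ ⟨x, -, rfl⟩
      exact (α x).2
    refine ⟨_, (hR _ hle).symm ▸ hχ, fun x hφx hax => ?_⟩
    show ((α ⟨φ (e.symm ⟨_, hax⟩), _⟩ : S₁) : Ω) = _
    have : e.symm ⟨_, hax⟩ = x := e.injective (by
      rw [MulEquiv.apply_symm_apply]; exact Subtype.ext (hex x).symm)
    exact congrArg (fun z => ((α ⟨φ z, (R.le_of_mem hφ).2 z⟩ : S₁) : Ω)) this
  · exact ⟨1, (F.autGroup S₁).one_mem, φ, (hR P hP).symm ▸ hφ, fun x hx => rfl⟩

theorem isNormalIn_centralFactor [Finite S] [Fact p.Prime] (hS : IsPGroup p S) (hF : F.IsSaturated p)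
    (hprod : IsInternalDirectProduct S₁ S₂ S) (h₁ : F.StronglyClosed S₁) (h₂ : F.StronglyClosed S₂)
    {R R' : Cfsg.FusionSystem S₁} (hR : ∀ P : Subgroup Ω, P ≤ S₁ → R.Hom P = F.Hom P)
    (hR' : ∀ P : Subgroup Ω, P ≤ S₁ → R'.Hom P = F.centralizerHom S₂ P) :
    R'.IsNormalIn F p ∧ R'.IsNormalIn R p := by
  have hprod' : IsInternalDirectProduct S₂ S₁ S := ⟨hprod.2.1, hprod.1,
    fun a ha b hb => (hprod.2.2.1 b hb a ha).symm, inf_comm S₁ S₂ ▸ hprod.2.2.2.1,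
    sup_comm S₁ S₂ ▸ hprod.2.2.2.2⟩
  have hsub : ∀ P, R'.Hom P ⊆ F.Hom P := fun P φ hφ => (hR' P (R'.le_of_mem hφ).1 ▸ hφ :
    φ ∈ F.centralizerHom S₂ P).1
  have hsubR : R'.IsSubsystemOf R := fun P φ hφ => (hR P (R'.le_of_mem hφ).1).symm ▸ hsub P hφ
  have hmk : ∀ (P : Subgroup Ω) (φ : P →* Ω), P ≤ S₁ → φ ∈ F.Hom P →
      (∃ ψ ∈ F.Hom (P ⊔ S₂), (∀ x : P, ψ (Subgroup.inclusion le_sup_left x) = φ x) ∧
        ∀ x : S₂, ψ (Subgroup.inclusion le_sup_right x) = x) → φ ∈ R'.Hom P := fun P φ hP hφ h => by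
    rw [hR' P hP]
    exact ⟨hφ, fun x hx => mem_centralizerIn_of_mem hprod (hP hx),
      fun x => mem_centralizerIn_of_mem hprod (h₁.2 P hP φ hφ x), h⟩
  have hext : ∀ α ∈ F.autGroup S₁, ∃ a ∈ F.autGroup S, ∀ x : S₁,
      ((a ⟨x, hprod.1 x.2⟩ : S) : Ω) = ((α x : S₁) : Ω) := fun α hα => by
    obtain ⟨ψ, hψ, hag⟩ := exists_sup_extension hS hF hprod h₁ h₂ le_rfl (autGroup_range h₁.1 hα)
    have hψ' := restrict_mem hψ hprod.2.2.2.2.ge
    obtain ⟨a, ha, hax⟩ := exists_aut hψ' (range_eq_of_le (hom_inj hψ') fun x => map_mem hψ' x)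
    exact ⟨a, ha, fun x => (hax _).trans (hag x)⟩
  have hinv : IsAutInvariant R' F := by
    intro P hPT φ hφ α hα
    obtain ⟨-, -, hφS, ψ, hψ, hψP, hψ2⟩ := (hR' P hPT ▸ hφ : φ ∈ F.centralizerHom S₂ P)
    obtain ⟨a, ha, haα⟩ := hext α hα
    have haF := autGroup_range le_rfl ha
    set P' := (P.subgroupOf S₁).map (S₁.subtype.comp α.toMonoidHom) with hP'
    have hP'S : P' ≤ S₁ := by rintro _ ⟨x, -, rfl⟩; exact (α x).2
    have hPS : P ⊔ S₂ ≤ S := sup_le (hPT.trans hprod.1) hprod.2.1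
    obtain ⟨ainv, hainv, hinvx⟩ := exists_aut (F := F) (P := S)
      (autGroup_range le_rfl (inv_mem ha)) (range_subtype_comp (a⁻¹ : MulAut S))
    have hmem : ∀ y, (S.subtype.comp (a⁻¹ : MulAut S).toMonoidHom).comp
        (Subgroup.inclusion (sup_le (hP'S.trans hprod.1) hprod.2.1 : P' ⊔ S₂ ≤ S)) y ∈ P ⊔ S₂ := by
      refine forall_mem_of_sup (fun y => ?_) (fun y => ?_)
      · obtain ⟨⟨x, hxS⟩, hx, hxy⟩ := y.2
        refine le_sup_left (b := S₂) ?_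
        show ((a⁻¹ : MulAut S) ⟨(y : Ω), _⟩ : Ω) ∈ P
        rw [show (⟨(y : Ω), hprod.1 (hP'S y.2)⟩ : S) = a ⟨x, hprod.1 hxS⟩ from
          Subtype.ext ((haα ⟨x, hxS⟩).trans hxy).symm, MulAut.inv_apply_self]
        exact hx
      · exact le_sup_right (a := P) (h₂.2 S₂ le_rfl _
          (restrict_mem (autGroup_range le_rfl (inv_mem ha)) hprod.2.1) y)
    have hχ₀ := mem_of_comp (restrict_mem (autGroup_range le_rfl (inv_mem ha))
      (sup_le (hP'S.trans hprod.1) hprod.2.1 : P' ⊔ S₂ ≤ S))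
      (mem_of_comp hψ haF (map_mem hψ)
        ((S.subtype.comp a.toMonoidHom).comp (ψ.codRestrict S (map_mem hψ))) fun _ => rfl)
      hmem (((S.subtype.comp a.toMonoidHom).comp (ψ.codRestrict S (map_mem hψ))).comp
        (MonoidHom.codRestrict _ (P ⊔ S₂) hmem)) fun _ => rfl
    set χ₀ := ((S.subtype.comp a.toMonoidHom).comp (ψ.codRestrict S (map_mem hψ))).comp
        (MonoidHom.codRestrict _ (P ⊔ S₂) hmem)
    have hχP : χ₀.comp (Subgroup.inclusion le_sup_left) ∈ F.Hom P' := restrict_mem hχ₀ le_sup_left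
    refine ⟨_, hmk P' _ hP'S hχP ⟨χ₀, hχ₀, fun x => rfl, fun y => ?_⟩, fun x hφx hax => ?_⟩
    · show ((a ⟨ψ ⟨((a⁻¹ : MulAut S) ⟨(y : Ω), _⟩ : Ω), _⟩, _⟩ : S) : Ω) = y
      have h3 := hψ2 ⟨_, h₂.2 S₂ le_rfl _ (restrict_mem (autGroup_range le_rfl (inv_mem ha)) hprod.2.1) y⟩
      have h4 : (⟨ψ ⟨((a⁻¹ : MulAut S) ⟨(y : Ω), hprod.2.1 y.2⟩ : Ω),
          le_sup_right (a := P) (h₂.2 S₂ le_rfl _
            (restrict_mem (autGroup_range le_rfl (inv_mem ha)) hprod.2.1) y)⟩, map_mem hψ _⟩ : S) =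
          (a⁻¹ : MulAut S) ⟨(y : Ω), hprod.2.1 y.2⟩ := Subtype.ext h3
      rw [h4, MulAut.apply_inv_self]
    · show ((a ⟨ψ ⟨((a⁻¹ : MulAut S) ⟨((α ⟨x, _⟩ : S₁) : Ω), _⟩ : Ω), _⟩, _⟩ : S) : Ω) = _
      have h5 : (a⁻¹ : MulAut S) ⟨((α ⟨x, hPT x.2⟩ : S₁) : Ω), hprod.1 (α _).2⟩ =
          ⟨x, hprod.1 (hPT x.2)⟩ := by
        rw [show (⟨((α ⟨x, hPT x.2⟩ : S₁) : Ω), hprod.1 (α _).2⟩ : S) = a ⟨x, hprod.1 (hPT x.2)⟩ from
          Subtype.ext (haα _).symm, MulAut.inv_apply_self]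
      refine Eq.trans ?_ (haα ⟨φ x, hφx⟩)
      refine congrArg (fun z : S => ((a z : S) : Ω)) (Subtype.ext (Eq.trans ?_ (hψP x)))
      exact congrArg ψ (Subtype.ext (congrArg Subtype.val h5 :))
  have hfrat : ∀ (P : Subgroup Ω), P ≤ S₁ → ∀ (φ : P →* Ω), φ ∈ F.Hom P → Factors R' F φ := by
    intro P hP φ hφ
    obtain ⟨ψ, hψ, hψP⟩ := exists_sup_extension hS hF hprod h₁ h₂ hP hφ
    have hβ := restrict_mem hψ (le_sup_right (a := P))
    obtain ⟨ω, hω, hωx⟩ := exists_sup_extension hS hF hprod' h₂ h₁ le_rfl hβ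
    have hω' := restrict_mem hω hprod'.2.2.2.2.ge
    obtain ⟨b, hb, hbx⟩ := exists_aut hω' (range_eq_of_le (hom_inj hω') fun x => map_mem hω' x)
    have hbinv := autGroup_range le_rfl (inv_mem hb)
    have hb1 : ∀ z : S₁, ((b⁻¹ : MulAut S) ⟨z, hprod.1 z.2⟩ : Ω) ∈ S₁ :=
      fun z => h₁.2 S₁ le_rfl _ (restrict_mem hbinv hprod.1) z
    have hbS := restrict_mem (autGroup_range le_rfl hb) hprod.1
    have : Finite S₁ := finite_of_le hprod.1
    obtain ⟨α, hα, hαx⟩ := exists_aut hbS (range_eq_of_le (hom_inj hbS) fun x => h₁.2 S₁ le_rfl _ hbS x)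
    have hχ₀ := mem_of_comp hψ hbinv (map_mem hψ)
      ((S.subtype.comp (b⁻¹ : MulAut S).toMonoidHom).comp (ψ.codRestrict S (map_mem hψ))) fun _ => rfl
    refine ⟨α, hα, _, hmk P _ hP (restrict_mem hχ₀ le_sup_left) ⟨_, hχ₀, fun x => rfl, fun y => ?_⟩,
      fun x hx => ?_⟩
    · show ((b⁻¹ : MulAut S) ⟨ψ (Subgroup.inclusion le_sup_right y), map_mem hψ _⟩ : Ω) = y
      have h6 : b ⟨(y : Ω), hprod.2.1 y.2⟩ =
          ⟨ψ (Subgroup.inclusion le_sup_right y), map_mem hψ _⟩ :=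
        Subtype.ext ((hbx _).trans (hωx y))
      rw [← h6, MulAut.inv_apply_self]
    · rw [hαx]
      show φ x = ((b ((b⁻¹ : MulAut S) ⟨ψ (Subgroup.inclusion le_sup_left x), map_mem hψ _⟩) : S) : Ω)
      rw [MulAut.apply_inv_self]
      exact (hψP x).symm
  have hS' := isSaturated_centralFactor hS hF hprod h₁ h₂ hR'
  have hRS := isSaturated_factor hS hF hprod h₁ hR
  have hA : R.autGroup S₁ = F.autGroup S₁ := by
    show Subgroup.closure _ = Subgroup.closure _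
    rw [hR S₁ le_rfl]
  refine ⟨⟨⟨hS', hF, hsub, h₁, hinv, hfrat⟩, fun α hα => ?_⟩,
    ⟨⟨hS', hRS, hsubR, ⟨le_rfl, fun P hP φ hφ x => (R.le_of_mem hφ).2 x⟩,
      fun P hPT φ hφ γ hγ => hinv P hPT φ hφ γ (hA ▸ hγ), fun P hP φ hφ => ?_⟩, fun α hα => ?_⟩⟩
  · have hαR : S₁.subtype.comp α.toMonoidHom ∈ F.centralizerHom S₂ S₁ :=
      hR' S₁ le_rfl ▸ autGroup_range le_rfl hα
    obtain ⟨-, -, -, ψ, hψ, hψ1, hψ2⟩ := hαR
    have hU : S₁ ⊔ centralizerIn S S₁ = S := by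
      refine le_antisymm (sup_le hprod.1 (centralizerIn_le S S₁)) ?_
      conv_lhs => rw [← hprod.2.2.2.2]
      exact sup_le_sup le_rfl fun b hb => ⟨hprod.2.1 hb,
        Subgroup.mem_centralizer_iff.2 fun a ha => hprod.2.2.1 a ha b hb⟩
    have hψU := restrict_mem hψ (hU.trans hprod.2.2.2.2.symm).le
    have : Finite ↥(S₁ ⊔ centralizerIn S S₁) := finite_of_le hU.le
    obtain ⟨β, hβ, hβx⟩ := exists_aut hψU (range_eq_of_le (hom_inj hψU) fun x => hU.ge (map_mem hψU x))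
    refine ⟨β, hβ, fun x => (hβx _).trans (hψ1 x), fun c hc => ?_⟩
    rw [hβx]
    obtain ⟨a, ha, b, hb, hab⟩ := exists_mul hprod hc.1
    have hac : a ∈ Subgroup.centralizer (S₁ : Set Ω) := by
      have hbc : b ∈ Subgroup.centralizer (S₁ : Set Ω) :=
        Subgroup.mem_centralizer_iff.2 fun y hy => hprod.2.2.1 y hy b hb
      have := (Subgroup.centralizer _).mul_mem hc.2 ((Subgroup.centralizer _).inv_mem hbc)
      rwa [hab, mul_inv_cancel_right] at this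
    have hval : ψ.comp (Subgroup.inclusion (hU.trans hprod.2.2.2.2.symm).le) c =
        ((α ⟨a, ha⟩ : S₁) : Ω) * b := by
      show ψ _ = _
      rw [show Subgroup.inclusion (hU.trans hprod.2.2.2.2.symm).le c =
        Subgroup.inclusion le_sup_left ⟨a, ha⟩ * Subgroup.inclusion le_sup_right ⟨b, hb⟩ from
        Subtype.ext hab, map_mul, hψ1, hψ2]
      rfl
    rw [hval, hab, mul_inv_rev, mul_assoc, ← mul_assoc a⁻¹]
    have hz : a⁻¹ * ((α ⟨a, ha⟩ : S₁) : Ω) ∈ S₁ := S₁.mul_mem (S₁.inv_mem ha) (α _).2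
    rw [hprod.2.2.1 _ hz b hb, inv_mul_cancel_left]
    refine ⟨hz, (Subgroup.centralizer _).mul_mem ((Subgroup.centralizer _).inv_mem hac)
      (Subgroup.mem_centralizer_iff.2 fun y hy => ?_)⟩
    obtain ⟨w, hw⟩ := α.surjective ⟨y, hy⟩
    rw [show y = ((α w : S₁) : Ω) by rw [hw]]
    show ((α w * α ⟨a, ha⟩ : S₁) : Ω) = ((α ⟨a, ha⟩ * α w : S₁) : Ω)
    rw [← map_mul, ← map_mul]
    exact congrArg (fun z => ((α z : S₁) : Ω))
      (Subtype.ext (Subgroup.mem_centralizer_iff.1 hac w w.2))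
  · have hφF : φ ∈ F.Hom P := hR P hP ▸ hφ
    obtain ⟨α, hα, φ₀, hφ₀, hx⟩ := hfrat P hP φ hφF
    exact ⟨α, hA.symm ▸ hα, φ₀, hφ₀, hx⟩
  · have hαR : α ∈ R.autGroup S₁ :=
      hA.symm ▸ (mem_autGroup_iff_hom h₁.1).2 (hsub _ (autGroup_range le_rfl hα))
    have hU : S₁ ⊔ centralizerIn S₁ S₁ = S₁ := sup_eq_left.2 (centralizerIn_le _ _)
    have hαU := restrict_mem (autGroup_range le_rfl hαR) hU.le
    have : Finite S₁ := finite_of_le hprod.1
    have : Finite ↥(S₁ ⊔ centralizerIn S₁ S₁) := finite_of_le hU.le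
    obtain ⟨β, hβ, hβx⟩ := exists_aut hαU
      (range_eq_of_le (hom_inj hαU) fun x => hU.ge (α _).2)
    refine ⟨β, hβ, fun x => hβx _, fun c hc => ?_⟩
    rw [hβx]
    show (c : Ω)⁻¹ * ((α ⟨(c : Ω), hU.le c.2⟩ : S₁) : Ω) ∈ _
    refine ⟨S₁.mul_mem (S₁.inv_mem (hU.le c.2)) (α _).2, (Subgroup.centralizer _).mul_mem
      ((Subgroup.centralizer _).inv_mem hc.2) (Subgroup.mem_centralizer_iff.2 fun y hy => ?_)⟩
    obtain ⟨w, hw⟩ := α.surjective ⟨y, hy⟩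
    rw [show y = ((α w : S₁) : Ω) by rw [hw]]
    show ((α w * α ⟨(c : Ω), hU.le c.2⟩ : S₁) : Ω) = ((α ⟨(c : Ω), hU.le c.2⟩ * α w : S₁) : Ω)
    rw [← map_mul, ← map_mul]
    exact congrArg (fun z => ((α z : S₁) : Ω))
      (Subtype.ext (Subgroup.mem_centralizer_iff.1 hc.2 w w.2))

end CfsgLib.Fusion.DirectFactor
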