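import Cfsg.Agent.Lib.Fusion.PPrimeCentric
import Cfsg.Agent.Lib.Fusion.CentricExtend
import Cfsg.Agent.Lib.Fusion.SatCriterion.Main
import Cfsg.Prelude.Def_FusionComponents

/-!
# The `p'`-residual subsystem
-/

set_option autoImplicit false

namespace CfsgLib.Fusion

open Cfsg Cfsg.FusionSystem

variable {Ω : Type*} [Group Ω] {S : Subgroup Ω} {F : Cfsg.FusionSystem S}
variable {P Q : Subgroup Ω} {p : ℕ}

/-- A map of `F` lies in `E` as soon as its restriction to a centric subgroup does. -/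
def IsCentricClosed (F : Cfsg.FusionSystem S) (E : Cfsg.FusionSystem S) : Prop :=
  ∀ (Q R : Subgroup Ω) (hQR : Q ≤ R) (ψ : R →* Ω), ψ ∈ F.Hom R → F.IsCentric Q →
    ψ.comp (Subgroup.inclusion hQR) ∈ E.Hom Q → ψ ∈ E.Hom R

/-- The common maps of two systems over `S`. -/
def infSystem (E E' : Cfsg.FusionSystem S) : Cfsg.FusionSystem S where
  Hom P := {φ | φ ∈ E.Hom P ∧ φ ∈ E'.Hom P}
  le_of_mem h := E.le_of_mem h.1
  injective_of_mem h := E.injective_of_mem h.1
  conj_mem hP hg := ⟨E.conj_mem hP hg, E'.conj_mem hP hg⟩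
  comp_mem h h' hQ := ⟨E.comp_mem h.1 h'.1 hQ, E'.comp_mem h.2 h'.2 hQ⟩
  inv_mem := by
    intro P φ h
    obtain ⟨ψ, hψ, hx⟩ := E.inv_mem h.1
    refine ⟨ψ, ⟨hψ, ?_⟩, hx⟩
    obtain ⟨ψ', hψ', hx'⟩ := E'.inv_mem h.2
    have : ψ = ψ' := MonoidHom.ext fun ⟨_, x, rfl⟩ => (hx x).trans (hx' x).symm
    exact this ▸ hψ'

/-- The least subsystem containing `O^{p'}` of the automizers of centric subgroups and closed under
extension from centric subgroups. -/
def pPrimeResidualSystem (F : Cfsg.FusionSystem S) (p : ℕ) : Cfsg.FusionSystem S where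
  Hom P := {φ | φ ∈ F.Hom P ∧
    ∀ E : Cfsg.FusionSystem S, IsPPrimeGen F p E → IsCentricClosed F E → φ ∈ E.Hom P}
  le_of_mem h := F.le_of_mem h.1
  injective_of_mem h := F.injective_of_mem h.1
  conj_mem hP hg := ⟨F.conj_mem hP hg, fun E _ _ => E.conj_mem hP hg⟩
  comp_mem h h' hQ := ⟨F.comp_mem h.1 h'.1 hQ,
    fun E hE hE' => E.comp_mem (h.2 E hE hE') (h'.2 E hE hE') hQ⟩
  inv_mem := by
    intro P φ h
    obtain ⟨ψ, hψ, hx⟩ := F.inv_mem h.1
    refine ⟨ψ, ⟨hψ, fun E hE hE' => ?_⟩, hx⟩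
    obtain ⟨ψ', hψ', hx'⟩ := E.inv_mem (h.2 E hE hE')
    have : ψ = ψ' := MonoidHom.ext fun ⟨_, x, rfl⟩ => (hx x).trans (hx' x).symm
    exact this ▸ hψ'

theorem pPrimeResidualSystem_subsystem (F : Cfsg.FusionSystem S) (p : ℕ) :
    (pPrimeResidualSystem F p).IsSubsystemOf F := fun _ _ h => h.1

theorem pPrimeResidualSystem_gen (F : Cfsg.FusionSystem S) (p : ℕ) :
    IsPPrimeGen F p (pPrimeResidualSystem F p) := fun _ hP _ hα =>
  (mem_autGroup_iff_hom hP.1).2 ⟨(mem_autGroup_iff_hom hP.1).1 (oPAut_le F p _ hα),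
    fun _ hE _ => (mem_autGroup_iff_hom hP.1).1 (hE _ hP hα)⟩

theorem pPrimeResidualSystem_closed (F : Cfsg.FusionSystem S) (p : ℕ) :
    IsCentricClosed F (pPrimeResidualSystem F p) := fun Q R hQR ψ hψ hQ h =>
  ⟨hψ, fun E hE hE' => hE' Q R hQR ψ hψ hQ (h.2 E hE hE')⟩

theorem isCentricClosed_twist [Finite S] {E : Cfsg.FusionSystem S} (hE : IsCentricClosed F E)
    {a : MulAut S} (ha : a ∈ F.autGroup S) : IsCentricClosed F (twistSystem E a) := by
  rintro Q R hQR ψ hψ hQ ⟨-, -, hres, χ, hχ, hχx⟩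
  have hRS := dom_le hψ
  obtain ⟨e, he, hex⟩ := exists_autIso (P := R) ha hRS
  have hψ' : ((S.subtype.comp a.toMonoidHom).comp (ψ.codRestrict S (map_mem hψ))).comp
      e.symm.toMonoidHom ∈ F.Hom (autImg a R) :=
    mem_of_comp he.symm (mem_of_comp hψ ((mem_autGroup_iff_hom le_rfl).1 ha) (map_mem hψ)
      ((S.subtype.comp a.toMonoidHom).comp (ψ.codRestrict S (map_mem hψ))) fun _ => rfl)
      (fun y => (e.symm y).2) _ fun _ => rfl
  obtain ⟨eQ, heQ, -⟩ := exists_autIso (P := Q) ha (hQR.trans hRS)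
  have hle : autImg a Q ≤ autImg a R := Subgroup.map_mono fun x hx => hQR hx
  have hkey : ∀ (x : R) (hax : ((a ⟨x, hRS x.2⟩ : S) : Ω) ∈ autImg a R),
      (((S.subtype.comp a.toMonoidHom).comp (ψ.codRestrict S (map_mem hψ))).comp e.symm.toMonoidHom)
        ⟨_, hax⟩ = ((a ⟨ψ x, map_mem hψ x⟩ : S) : Ω) := by
    intro x hax
    show ((a ⟨ψ (e.symm ⟨_, hax⟩), _⟩ : S) : Ω) = _
    have : e.symm ⟨_, hax⟩ = x := e.injective (by
      rw [MulEquiv.apply_symm_apply]; exact Subtype.ext (hex x).symm)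
    simp [this]
  refine ⟨hRS, hom_inj hψ, map_mem hψ, _, hE _ _ hle _ hψ' (isCentric_of_isConj hQ heQ.isConj)
    (mem_of_restrict hχ le_rfl _ ?_), fun x hx hax => hkey x hax⟩
  rintro ⟨y, hy⟩
  obtain ⟨s, hs, rfl⟩ := mem_autImg.1 hy
  exact (hkey ⟨s, hQR hs⟩ (hle hy)).trans (hχx ⟨s, hs⟩ s.2 hy).symm

theorem pPrimeResidualSystem_autInvariant [Finite S] (F : Cfsg.FusionSystem S) (p : ℕ) :
    IsAutInvariant (pPrimeResidualSystem F p) F := by
  intro P hPS φ hφ a ha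
  obtain ⟨e, he, hex⟩ := exists_autIso (P := P) ha hPS
  have hχ0 : (((S.subtype.comp a.toMonoidHom).comp (φ.codRestrict S (map_mem hφ))).comp
      e.symm.toMonoidHom) ∈ F.Hom (autImg a P) :=
    mem_of_comp he.symm (mem_of_comp hφ.1 ((mem_autGroup_iff_hom le_rfl).1 ha) (map_mem hφ)
      ((S.subtype.comp a.toMonoidHom).comp (φ.codRestrict S (map_mem hφ))) fun _ => rfl)
      (fun y => (e.symm y).2) _ fun _ => rfl
  refine ⟨_, ⟨hχ0, fun E hE hE' => ?_⟩, fun x hφx hax => ?_⟩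
  · obtain ⟨-, -, hφS, χ, hχ, hχx⟩ :=
      hφ.2 _ (isPPrimeGen_twist hE ha) (isCentricClosed_twist hE' ha)
    refine mem_of_restrict hχ le_rfl _ fun y => ?_
    obtain ⟨x, rfl⟩ := e.surjective y
    have h2 : (⟨((e x : autImg a P) : Ω), (e x).2⟩ : autImg a P) =
        ⟨((a ⟨x, hPS x.2⟩ : S) : Ω), mem_autImg.2 ⟨_, x.2, rfl⟩⟩ := Subtype.ext (hex x)
    rw [h2, hχx x (hPS x.2)]
    show ((a ⟨φ (e.symm (e x)), _⟩ : S) : Ω) = _
    simp
  · show ((a ⟨φ (e.symm ⟨_, hax⟩), _⟩ : S) : Ω) = _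
    have : e.symm ⟨_, hax⟩ = x := e.injective (by
      rw [MulEquiv.apply_symm_apply]; exact Subtype.ext (hex x).symm)
    simp [this]

theorem pPrimeGenSystem_le_residual (F : Cfsg.FusionSystem S) (p : ℕ) (P : Subgroup Ω) :
    (pPrimeGenSystem F p).Hom P ⊆ (pPrimeResidualSystem F p).Hom P :=
  pPrimeGenSystem_le (pPrimeResidualSystem_gen F p) P

theorem pPrimeResidualSystem_factors [Finite S] [Fact p.Prime] (hS : IsPGroup p S)
    (hF : F.IsSaturated p) (P : Subgroup Ω) (φ : P →* Ω) (hφ : φ ∈ F.Hom P) :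
    Factors (pPrimeResidualSystem F p) F φ := by
  obtain ⟨α, hα, φ₀, hφ₀, hx⟩ := pPrimeGenSystem_factors hS hF P φ hφ
  exact ⟨α, hα, φ₀, pPrimeGenSystem_le_residual F p P hφ₀, hx⟩

theorem pPrimeResidualSystem_isInvariantIn [Finite S] [Fact p.Prime] (hS : IsPGroup p S)
    (hF : F.IsSaturated p) : (pPrimeResidualSystem F p).IsInvariantIn F :=
  ⟨pPrimeResidualSystem_subsystem F p, ⟨le_rfl, fun _ _ _ hχ => map_mem hχ⟩,
    pPrimeResidualSystem_autInvariant F p, fun P _ φ hφ => pPrimeResidualSystem_factors hS hF P φ hφ⟩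

theorem pPrimeResidualSystem_isSaturated [Finite S] [Fact p.Prime] (hS : IsPGroup p S)
    (hF : F.IsSaturated p) : (pPrimeResidualSystem F p).IsSaturated p := by
  set E := pPrimeResidualSystem F p
  have hEF := pPrimeResidualSystem_subsystem F p
  have hcent : ∀ {P}, E.IsCentric P ↔ F.IsCentric P :=
    isCentric_iff_of_factors hEF (pPrimeResidualSystem_factors hS hF)
  refine SatCriterion.isSaturated_of_family hS {P | F.IsCentric P}
    (fun P hP Q hQ => isCentric_of_isConj hP (CfsgLib.FusionQuot.isConj_of_subsystem hEF hQ))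
    (fun P hP => ?_) (fun E' hE' => ?_) (fun P hP hPn => (hPn (hcent.1 hP)).elim)
  · obtain ⟨Q, hPQ, hQ⟩ := exists_isFullyNormalized F hP.1
    obtain ⟨φ, hφ, hr⟩ := hPQ
    obtain ⟨a, ha, φ₀, hφ₀, hx⟩ := pPrimeResidualSystem_factors hS hF P φ hφ
    set R := autImg a⁻¹ Q with hRdef
    obtain ⟨e, he, hex⟩ : ∃ e : Q ≃* R, IsFIso F e ∧
        ∀ x : Q, (e x : Ω) = (((a⁻¹ : MulAut S) ⟨x, hQ.1 x.2⟩ : S) : Ω) :=
      exists_autIso ((F.autGroup S).inv_mem ha) hQ.1
    have hR : φ₀.range = R := by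
      subst hr
      ext y
      rw [hRdef, mem_autImg]
      constructor
      · rintro ⟨x, rfl⟩
        refine ⟨⟨φ x, map_mem hφ x⟩, ⟨x, rfl⟩, ?_⟩
        rw [show (⟨φ x, map_mem hφ x⟩ : S) = a ⟨φ₀ x, map_mem hφ₀ x⟩ from Subtype.ext (hx x _),
          MulAut.inv_apply_self]
      · rintro ⟨s, ⟨x, hxs⟩, rfl⟩
        refine ⟨x, ?_⟩
        rw [show s = a ⟨φ₀ x, map_mem hφ₀ x⟩ from Subtype.ext (hxs.symm.trans (hx x _)),
          MulAut.inv_apply_self]
    have hPR : E.IsConj P R := ⟨φ₀, hφ₀, hR⟩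
    have hPR' := CfsgLib.FusionQuot.isConj_of_subsystem hEF hPR
    have hRn : F.IsFullyNormalized R := by
      refine ⟨isConj_le_right hPR', fun R' hR' => ?_⟩
      refine le_trans (hQ.2 R' (isConj_trans he.isConj hR')) ?_
      have : Finite (normalizerIn S R) := finite_of_le (normalizerIn_le S R)
      exact Nat.card_le_card_of_injective (fun x => (⟨((a⁻¹ : MulAut S) ⟨x, x.2.1⟩ : S),
        ((a⁻¹ : MulAut S) _).2, map_mem_normalizer_of_extends
          (ψ := S.subtype.comp (a⁻¹ : MulAut S).toMonoidHom) (e := e) hQ.1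
          (fun z => (hex z).symm) x.2.1 x.2.2⟩ : normalizerIn S R))
        fun x y h => by
          have h1 := congrArg Subtype.val h
          have h2 := (a⁻¹ : MulAut S).injective (Subtype.ext h1)
          have h3 : (x : Ω) = y := congrArg (Subtype.val : S → Ω) h2
          exact Subtype.ext h3
    have hRc : F.IsCentric R := isCentric_of_isConj hP hPR'
    refine ⟨R, hPR, ⟨hRn.1, ?_⟩, hRn.1, fun X χ hχ hχr => ?_⟩
    · have : Finite R := finite_of_le hRn.1
      have : Finite (MulAut R) := finite_mulAut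
      have hsyl : IsSylowIn p (autInducedBy S R) (F.autGroup R) :=
        (isFullyAutomized_of_isFullyNormalized hS hF hRn).2
      exact isSylowIn_of_card_le (isPGroup_autInducedBy hS R) (autInducedBy_le_autGroup E hRn.1)
        fun U hU hUE => hsyl.card_le (autInducedBy_le_autGroup F hRn.1) hU
          (hUE.trans (CfsgLib.FusionQuot.autGroup_le_of_subsystem hEF R))
    · obtain ⟨ψ, hψ, hψx⟩ := (isReceptive_of_isFullyNormalized hS hF hRn).2 X χ (hEF X hχ) hχr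
      have hXle : X ≤ extender S X χ := le_extender (dom_le hχ) (map_mem hχ)
      refine ⟨ψ, pPrimeResidualSystem_closed F p X _ hXle ψ hψ
        (isCentric_of_isConj hRc (isConj_symm ⟨χ, hEF X hχ, hχr⟩))
        (mem_of_restrict hχ le_rfl _ fun x => hψx x x.2 (hXle x.2)), hψx⟩
  · intro P φ hφ
    refine (hφ.2 (infSystem E' E) ?_ ?_).1
    · intro Q hQ α hα
      have h1 := (mem_autGroup_iff_hom hQ.1).1 (pPrimeResidualSystem_gen F p Q hQ hα)
      exact (mem_autGroup_iff_hom hQ.1).2 ⟨hE' Q hQ h1, h1⟩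
    · intro Q R hQR ψ hψ hQ h
      have h1 := pPrimeResidualSystem_closed F p Q R hQR ψ hψ hQ h.2
      exact ⟨hE' R (isCentric_mono hQ hQR (dom_le hψ)) h1, h1⟩

theorem pPrimeResidualSystem_isPPrimeResidual [Finite S] [Fact p.Prime] (hS : IsPGroup p S)
    (hF : F.IsSaturated p) : F.IsPPrimeResidual p (pPrimeResidualSystem F p) := by
  refine ⟨pPrimeResidualSystem_isSaturated hS hF, ⟨pPrimeResidualSystem_subsystem F p, fun P hP =>
    oPAut_le_autGroup_of_invariant hS hF (pPrimeResidualSystem_isInvariantIn hS hF) hP⟩,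
    fun D hD hDi P φ hφ => hφ.2 D (fun Q hQ => hDi.2 Q hQ.1) ?_⟩
  intro Q R hQR ψ hψ hQ h
  exact CentricExtend.mem_of_restrict_centric hS hF hD hDi.1 (Nat.card S) Q (Nat.le_add_left _ _) hQ
    R ψ hQR hψ h

end CfsgLib.Fusion
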