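import Cfsg.Agent.Lib.Fusion.Stability
import Cfsg.Agent.Lib.MaxClassUniform.Basic
import Cfsg.Agent.Lib.PGroup.Basic

/-!
Essential subgroups of order at most `p ^ 3` for odd `p`: apart from the extraspecial groups of
exponent `p` and the elementary abelian groups of order `p ^ 2`, they are elementary abelian of
order `p ^ 3`.
-/

set_option autoImplicit false
set_option linter.unusedSectionVars false

namespace CfsgLib.Fusion.EssentialCube

open Cfsg Cfsg.FusionSystem CfsgLib.Fusion
open scoped commutatorElement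

section Aut

variable {G : Type*} [Group G]

/-- The stabiliser of `1 ≤ M₁ ≤ M₂ ≤ G`. -/
def serStab (M₁ M₂ : Subgroup G) : Subgroup (MulAut G) where
  carrier := {α | (∀ x ∈ M₁, α x = x) ∧ (∀ x ∈ M₂, x⁻¹ * α x ∈ M₁) ∧
    (∀ x, x⁻¹ * α x ∈ M₂) ∧ (∀ x ∈ M₂, α⁻¹ x ∈ M₂)}
  one_mem' := ⟨fun x _ => rfl, fun x _ => by simp, fun x => by simp, fun x hx => by simpa using hx⟩
  mul_mem' := by
    rintro a b ⟨a1, a2, a3, a4⟩ ⟨b1, b2, b3, b4⟩
    refine ⟨fun x hx => by rw [MulAut.mul_apply, b1 x hx, a1 x hx], fun x hx => ?_, fun x => ?_,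
      fun x hx => ?_⟩
    · have hb : b x ∈ M₂ := by simpa using M₂.mul_mem hx (b3 x)
      have := M₁.mul_mem (b2 x hx) (a2 _ hb)
      simpa [mul_assoc] using this
    · have := M₂.mul_mem (b3 x) (a3 (b x))
      simpa [mul_assoc] using this
    · rw [mul_inv_rev, MulAut.mul_apply]
      exact b4 _ (a4 x hx)
  inv_mem' := by
    rintro a ⟨a1, a2, a3, a4⟩
    refine ⟨fun x hx => ?_, fun x hx => ?_, fun x => ?_, fun x hx => ?_⟩
    · conv_lhs => rw [← a1 x hx]
      simp
    · have := M₁.inv_mem (a2 _ (a4 x hx))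
      simpa using this
    · have := M₂.inv_mem (a3 (a⁻¹ x))
      simpa using this
    · rw [inv_inv]
      simpa using M₂.mul_mem hx (a3 x)

theorem isPGroup_serStab [Finite G] {p : ℕ} [Fact p.Prime] (hG : IsPGroup p G)
    (M₁ M₂ : Subgroup G) : IsPGroup p (serStab M₁ M₂) := by
  have : Finite (MulAut G) := Finite.of_injective _ (DFunLike.coe_injective (F := MulAut G))
  refine Stability.isPGroup_of_coprime_eq_one fun a ha => ?_
  obtain ⟨α, h1, h2, h3, h4⟩ := a
  rw [← Subgroup.orderOf_coe] at ha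
  replace ha : (orderOf α).Coprime p := ha
  refine Subtype.ext (MulEquiv.ext fun x => ?_)
  have hfix2 : ∀ y ∈ M₂, α y = y := fun y hy =>
    Stability.eq_self_of_disp_fixed hG α ha (h1 _ (h2 y hy))
  exact Stability.eq_self_of_disp_fixed hG α ha (hfix2 _ (h3 x))

theorem serStab_normalized {M₁ M₂ : Subgroup G} {γ α : MulAut G}
    (h₁ : ∀ x, x ∈ M₁ ↔ γ x ∈ M₁) (h₂ : ∀ x, x ∈ M₂ ↔ γ x ∈ M₂) (hα : α ∈ serStab M₁ M₂) :
    γ * α * γ⁻¹ ∈ serStab M₁ M₂ := by
  obtain ⟨a1, a2, a3, a4⟩ := hα
  have e₁ : ∀ x ∈ M₁, γ⁻¹ x ∈ M₁ := fun x hx => by rw [h₁]; simpa using hx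
  have e₂ : ∀ x ∈ M₂, γ⁻¹ x ∈ M₂ := fun x hx => by rw [h₂]; simpa using hx
  refine ⟨fun x hx => ?_, fun x hx => ?_, fun x => ?_, fun x hx => ?_⟩
  · show γ (α (γ⁻¹ x)) = x
    rw [a1 _ (e₁ x hx), MulAut.apply_inv_self]
  · have := (h₁ _).1 (a2 _ (e₂ x hx))
    simpa using this
  · have := (h₂ _).1 (a3 (γ⁻¹ x))
    simpa using this
  · have := (h₂ _).1 (a4 _ (e₂ x hx))
    simpa [mul_assoc] using this

/-- An automorphism of `p`-power order fixes an invariant factor of order `p`. -/
theorem disp_mem_of_pow [Finite G] {p : ℕ} [Fact p.Prime] {M N : Subgroup G} (hMN : M ≤ N)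
    (hn : N ≤ Subgroup.normalizer (M : Set G)) (hcard : Nat.card N = p * Nat.card M) {α : MulAut G}
    {l : ℕ} (hα : α ^ p ^ l = 1) (hM : ∀ x ∈ M, α x ∈ M) (hN : ∀ x ∈ N, α x ∈ N) :
    ∀ x ∈ N, x⁻¹ * α x ∈ M := by
  intro x hx
  by_cases hxM : x ∈ M
  · exact M.mul_mem (M.inv_mem hxM) (hM x hxM)
  let M' := M.subgroupOf N
  have : M'.Normal := ⟨fun a ha g => (Subgroup.mem_normalizer_iff.1 (hn g.2) a).1 ha⟩
  have hQ : Nat.card (N ⧸ M') = p := by
    have := Subgroup.card_eq_card_quotient_mul_card_subgroup M'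
    rw [Nat.card_congr (Subgroup.subgroupOfEquivOfLe hMN).toEquiv, hcard] at this
    exact (Nat.eq_of_mul_eq_mul_right Nat.card_pos this).symm
  set q : N ⧸ M' := QuotientGroup.mk ⟨x, hx⟩
  have hq : q ≠ 1 := fun h => hxM ((QuotientGroup.eq_one_iff (N := M') ⟨x, hx⟩).1 h)
  have htop := zpowers_eq_top_of_prime_card hQ hq
  have hord : orderOf q = p := by rw [← Nat.card_zpowers, htop, Subgroup.card_top, hQ]
  obtain ⟨a, ha⟩ : (QuotientGroup.mk ⟨α x, hN x hx⟩ : N ⧸ M') ∈ Subgroup.zpowers q :=
    htop ▸ Subgroup.mem_top _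
  replace ha : q ^ a = QuotientGroup.mk ⟨α x, hN x hx⟩ := ha
  have hstep : ∀ k : ℕ, ∃ hk : (α ^ k) x ∈ N, q ^ (a ^ k) = QuotientGroup.mk ⟨(α ^ k) x, hk⟩ := by
    intro k
    induction k with
    | zero => exact ⟨by simpa using hx, by simp [q]⟩
    | succ k ih =>
      obtain ⟨hk, e⟩ := ih
      have hk1 : (α ^ (k + 1)) x ∈ N := by rw [pow_succ', MulAut.mul_apply]; exact hN _ hk
      refine ⟨hk1, ?_⟩
      have hr : ((⟨x, hx⟩ : N) ^ (a ^ k))⁻¹ * ⟨(α ^ k) x, hk⟩ ∈ M' := by
        rw [← QuotientGroup.eq_one_iff, QuotientGroup.mk_mul, QuotientGroup.mk_inv, QuotientGroup.mk_zpow,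
          show (QuotientGroup.mk ⟨x, hx⟩ : N ⧸ M') = q from rfl, e, inv_mul_cancel]
      have hr2 : α (((x : G) ^ (a ^ k))⁻¹ * (α ^ k) x) ∈ M := hM _ hr
      have hr3 : ((⟨α x, hN x hx⟩ : N) ^ (a ^ k))⁻¹ * ⟨(α ^ (k + 1)) x, hk1⟩ ∈ M' := by
        show ((α x) ^ (a ^ k))⁻¹ * (α ^ (k + 1)) x ∈ M
        rwa [pow_succ', MulAut.mul_apply, ← map_zpow, ← map_inv, ← map_mul]
      rw [← QuotientGroup.eq_one_iff, QuotientGroup.mk_mul, QuotientGroup.mk_inv, QuotientGroup.mk_zpow,
        inv_mul_eq_one, ← ha, ← zpow_mul] at hr3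
      rw [← hr3, pow_succ, mul_comm]
  obtain ⟨hk, e⟩ := hstep (p ^ l)
  have e' : q ^ (a ^ p ^ l) = q ^ (1 : ℤ) := by
    rw [e, zpow_one]
    exact congrArg QuotientGroup.mk (Subtype.ext (by show (α ^ p ^ l) x = x; rw [hα]; rfl))
  rw [zpow_eq_zpow_iff_modEq, hord, ← ZMod.intCast_eq_intCast_iff] at e'
  push_cast at e'
  rw [ZMod.pow_card_pow] at e'
  have ha1 : q ^ a = q := by
    conv_rhs => rw [← zpow_one q]
    rw [zpow_eq_zpow_iff_modEq, hord, ← ZMod.intCast_eq_intCast_iff]
    simpa using e'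
  have := QuotientGroup.eq.1 (ha1.symm.trans ha)
  exact this

end Aut

variable {Ω : Type*} [Group Ω] {S : Subgroup Ω} {p : ℕ} [Fact p.Prime] {F : Cfsg.FusionSystem S}

theorem aut_finite {E : Subgroup Ω} [Finite E] : Finite (MulAut E) := finite_mulAut

/-- An essential subgroup has no normal `p`-subgroup of automorphisms containing `Aut_S`. -/
theorem false_of_pGroup_sup [Finite S] (hS : IsPGroup p S) (hF : F.IsSaturated p) {E : Subgroup Ω}
    (hE : F.IsEssential p E) (hlt : E < S) (K : Subgroup (MulAut E)) (hK : IsPGroup p K)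
    (hKn : ∀ γ ∈ F.autGroup E, ∀ κ ∈ K, γ * κ * γ⁻¹ ∈ K) (hle : autInducedBy S E ≤ K) : False := by
  have : Finite E := finite_of_le hlt.le
  have : Finite (MulAut E) := finite_mulAut
  have hrad := isRadical_of_isEssential hS hF hE
  have hKG : (K.subgroupOf (F.autGroup E)).Normal := ⟨fun κ hκ γ => hKn _ γ.2 _ hκ⟩
  have hKp : IsPGroup p (K.subgroupOf (F.autGroup E)) := IsPGroup.comap_subtype hK
  have hInn : autInducedBy S E ≤ Cfsg.Inn E := fun α hα => by
    rw [← hrad.2]
    exact ⟨⟨α, autInducedBy_le_autGroup F hlt.le hα⟩, CfsgLib.Solvable.le_pCore hKG hKp (hle hα), rfl⟩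
  refine (lt_normalizerIn hS hlt).not_ge fun g hg => ?_
  exact mem_of_conjAut_mem_inn (centralizerIn_le_of_isCentric hE.1) hlt.le hg.1 hg.2
    (hInn (conjAut_mem_autInducedBy hg.1 hg.2))

/-- Three invariant layers of prime order (or trivial) exclude essentiality. -/
theorem false_of_char_series [Finite S] (hS : IsPGroup p S) (hF : F.IsSaturated p) {E : Subgroup Ω}
    (hE : F.IsEssential p E) (hlt : E < S) (M₁ M₂ : Subgroup E) [M₁.Normal] [M₂.Normal]
    (h₁ : ∀ (γ : MulAut E) x, x ∈ M₁ → γ x ∈ M₁) (h₂ : ∀ (γ : MulAut E) x, x ∈ M₂ → γ x ∈ M₂)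
    (h12 : M₁ ≤ M₂) (c1 : Nat.card M₁ = p) (c2 : M₂ = M₁ ∨ Nat.card M₂ = p * Nat.card M₁)
    (c3 : Nat.card E = p * Nat.card M₂) : False := by
  have : Finite E := finite_of_le hlt.le
  have : Finite (MulAut E) := finite_mulAut
  have h₁' : ∀ (γ : MulAut E) x, x ∈ M₁ ↔ γ x ∈ M₁ := fun γ x =>
    ⟨h₁ γ x, fun hx => by simpa using h₁ γ⁻¹ _ hx⟩
  have h₂' : ∀ (γ : MulAut E) x, x ∈ M₂ ↔ γ x ∈ M₂ := fun γ x =>
    ⟨h₂ γ x, fun hx => by simpa using h₂ γ⁻¹ _ hx⟩
  refine false_of_pGroup_sup hS hF hE hlt (serStab M₁ M₂)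
    (isPGroup_serStab (isPGroup_of_le hS hlt.le) M₁ M₂)
    (fun γ _ κ hκ => serStab_normalized (h₁' γ) (h₂' γ) hκ) fun α hα => ?_
  obtain ⟨l, hl⟩ := isPGroup_autInducedBy hS E ⟨α, hα⟩
  have hl' : α ^ p ^ l = 1 := congrArg Subtype.val hl
  have d1 : ∀ x ∈ M₁, x⁻¹ * α x ∈ (⊥ : Subgroup E) :=
    disp_mem_of_pow (N := M₁) bot_le (le_top.trans (Subgroup.normalizer_eq_top_iff.2 inferInstance).ge)
      (by rw [Subgroup.card_bot, mul_one, c1]) hl' (fun x hx => by simp_all) (h₁ α)
  have d2 : ∀ x ∈ M₂, x⁻¹ * α x ∈ M₁ := by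
    rcases c2 with e | e
    · intro x hx; exact M₁.mul_mem (M₁.inv_mem (e ▸ hx)) (h₁ α _ (e ▸ hx))
    · exact disp_mem_of_pow h12 (le_top.trans (Subgroup.normalizer_eq_top_iff.2 inferInstance).ge) e hl' (h₁ α) (h₂ α)
  have d3 : ∀ x, x⁻¹ * α x ∈ M₂ := fun x =>
    disp_mem_of_pow (N := ⊤) le_top (le_top.trans (Subgroup.normalizer_eq_top_iff.2 inferInstance).ge)
      (by rw [Subgroup.card_top, c3]) hl' (h₂ α) (fun x _ => Subgroup.mem_top _) x (Subgroup.mem_top x)
  exact ⟨fun x hx => (inv_mul_eq_one.1 (Subgroup.mem_bot.1 (d1 x hx))).symm, d2, d3,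
    fun x hx => h₂ _ _ hx⟩

/-- The `p`-th power map in class two. -/
theorem mul_pow_p {G : Type*} [Group G] [Finite G] (hp : 3 ≤ p) (hc : ∀ a b c : G, ⁅⁅a, b⁆, c⁆ = 1)
    (he : ∀ x ∈ commutator G, x ^ p = 1) (a b : G) : (a * b) ^ p = a ^ p * b ^ p := by
  have h2 : (⊤ : Subgroup G).lowerCentralSeries 2 ≤ ⊥ := by
    rw [Subgroup.lowerCentralSeries_succ, Subgroup.lowerCentralSeries_succ, Subgroup.lowerCentralSeries_zero]
    refine Subgroup.commutator_le.2 fun x hx g _ => ?_
    refine Subgroup.closure_induction (fun y hy => ?_) ?_ (fun y z _ _ hy hz => ?_) (fun y _ hy => ?_) hx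
    · obtain ⟨u, -, v, -, rfl⟩ := hy
      exact Subgroup.mem_bot.2 (hc u v g)
    · simp
    · rw [Subgroup.mem_bot, commutatorElement_eq_one_iff_commute] at *
      exact hy.mul_left hz
    · rw [Subgroup.mem_bot, commutatorElement_eq_one_iff_commute] at *
      exact hy.inv_left
  have := CfsgLib.MaxClassUniform.mul_pow_mem (p := p) (⊤ : Subgroup G) ⊥
    (le_trans (Subgroup.lowerCentralSeries_antitone _ (by omega : 2 ≤ p - 1)) h2)
    (fun x hx => Subgroup.mem_bot.2 (he x hx)) (Subgroup.mem_top a) (Subgroup.mem_top b)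
  exact (inv_mul_eq_one.1 (Subgroup.mem_bot.1 this)).symm

/-- A small essential subgroup. -/
theorem elementary_of_small [Finite S] (hp : 3 ≤ p) (hS : IsPGroup p S) (hF : F.IsSaturated p)
    {E : Subgroup Ω} (hE : F.IsEssential p E) (hlt : E < S) (hsmall : Nat.card E ≤ p ^ 3)
    (hnp : ¬ ((Nat.card E = p ^ 2 ∧ Cfsg.IsElementaryAbelian p E) ∨
      (Nat.card E = p ^ 3 ∧ Cfsg.IsExtraspecial p E ∧ Monoid.exponent E = p)))
    (hcen : ∀ z ∈ S, (∀ s ∈ S, s * z = z * s) → z ∈ E) (hcard : p ^ 3 ≤ Nat.card S) :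
    Nat.card E = p ^ 3 ∧ Cfsg.IsElementaryAbelian p E := by
  have hpp : p.Prime := Fact.out
  have : Finite E := finite_of_le hlt.le
  have hEp : IsPGroup p E := isPGroup_of_le hS hlt.le
  obtain ⟨m, hm⟩ := IsPGroup.iff_card.1 hEp
  have hm3 : m ≤ 3 := (Nat.pow_le_pow_iff_right hpp.one_lt).1 (hm ▸ hsmall)
  have hCS := centralizerIn_le_of_isCentric hE.1
  have hm2 : 2 ≤ m := by
    by_contra hh
    -- a cyclic group of order at most `p` is central
    have hnil := hS.isNilpotent
    have : Nontrivial S := Finite.one_lt_card_iff_nontrivial.1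
      (lt_of_lt_of_le (Nat.one_lt_pow three_ne_zero hpp.one_lt) hcard)
    have := hS.center_nontrivial
    obtain ⟨z, hz⟩ := exists_ne (1 : Subgroup.center S)
    have hzS : ∀ s ∈ S, s * ((z : S) : Ω) = ((z : S) : Ω) * s := fun s hs =>
      congrArg Subtype.val (Subgroup.mem_center_iff.1 z.2 ⟨s, hs⟩)
    have hzE := hcen _ (z : S).2 hzS
    have hm1 : m = 1 := by
      rcases Nat.eq_zero_or_pos m with rfl | h
      · rw [pow_zero, Subgroup.card_eq_one] at hm
        rw [hm, Subgroup.mem_bot] at hzE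
        exact absurd (Subtype.ext (Subtype.ext hzE)) hz
      · omega
    rw [hm1, pow_one] at hm
    have htop : Subgroup.zpowers (⟨_, hzE⟩ : E) = ⊤ := zpowers_eq_top_of_prime_card hm fun e =>
      hz (Subtype.ext (Subtype.ext (congrArg (fun t : E => (t : Ω)) e)))
    refine hlt.not_ge fun s hs => hCS ⟨hs, ?_⟩
    intro y hy
    obtain ⟨k, hk⟩ := Subgroup.mem_zpowers_iff.1 (htop ▸ Subgroup.mem_top (⟨y, hy⟩ : E))
    rw [show y = ((z : S) : Ω) ^ k from (congrArg (fun t : E => (t : Ω)) hk).symm.trans (by simp)]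
    exact ((show Commute s ((z : S) : Ω) from hzS s hs).zpow_right k).eq.symm
  -- commutators are central of exponent `p`
  obtain ⟨hc, he⟩ : (∀ a b c : E, ⁅⁅a, b⁆, c⁆ = 1) ∧ ∀ x ∈ commutator E, x ^ p = 1 := by
    by_cases hab : IsMulCommutative E
    · refine ⟨fun a b c => ?_, fun x hx => ?_⟩
      · rw [commutatorElement_eq_one_iff_mul_comm.2 (hab.1.comm a b), commutatorElement_one_left]
      · have : commutator E = ⊥ := by
          rw [commutator_def, Subgroup.commutator_eq_bot_iff_le_centralizer]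
          exact fun a _ b _ => hab.1.comm b a
        rw [this, Subgroup.mem_bot] at hx
        rw [hx, one_pow]
    · obtain ⟨hm', hZ⟩ : m = 3 ∧ Nat.card (Subgroup.center E) = p := by
        have : Nontrivial E := Finite.one_lt_card_iff_nontrivial.1
          (hm ▸ Nat.one_lt_pow (by omega) hpp.one_lt)
        have := hEp.center_nontrivial
        obtain ⟨j, hj⟩ := IsPGroup.iff_card.1 (hEp.to_subgroup (Subgroup.center E))
        have hj1 : 1 ≤ j := by
          rcases Nat.eq_zero_or_pos j with rfl | h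
          · have := Finite.one_lt_card (α := Subgroup.center E)
            rw [hj, pow_zero] at this
            omega
          · exact h
        obtain ⟨i, hi⟩ := hEp.index (Subgroup.center E)
        have hmul := (Subgroup.center E).card_mul_index
        rw [hj, hi, hm, ← pow_add] at hmul
        have hji : j + i = m := Nat.pow_right_injective hpp.two_le hmul
        have hi2 : 2 ≤ i := by
          by_contra hh
          refine hab (isMulCommutative_iff.2 fun a b => ?_)
          have hcyc : IsCyclic (E ⧸ Subgroup.center E) := by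
            rcases (show i = 0 ∨ i = 1 by omega) with rfl | rfl
            · have : Subsingleton (E ⧸ Subgroup.center E) := (Nat.card_eq_one_iff_unique.1
                (by rw [← Subgroup.index_eq_card, hi, pow_zero])).1
              infer_instance
            · exact isCyclic_of_prime_card (p := p) (by rw [← Subgroup.index_eq_card, hi, pow_one])
          exact commutative_of_cyclic_center_quotient (QuotientGroup.mk' (Subgroup.center E)) (QuotientGroup.ker_mk' _).le a b
        exact ⟨by omega, by rw [hj, show j = 1 by omega, pow_one]⟩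
      have hle : commutator E ≤ Subgroup.center E := by
        have hcomm : IsMulCommutative (E ⧸ Subgroup.center E) := by
          have hcard : Nat.card (E ⧸ Subgroup.center E) = p ^ 2 := by
            have hmul := (Subgroup.center E).card_mul_index
            rw [hZ, hm, hm', Subgroup.index_eq_card, show p ^ 3 = p * p ^ 2 by ring] at hmul
            exact Nat.eq_of_mul_eq_mul_left hpp.pos hmul
          exact isMulCommutative_iff.2 (IsPGroup.commutative_of_card_eq_prime_sq hcard)
        rw [commutator_def, Subgroup.commutator_le]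
        intro a _ b _
        rw [← QuotientGroup.eq_one_iff, ← QuotientGroup.mk'_apply, map_commutatorElement,
          commutatorElement_eq_one_iff_mul_comm]
        exact hcomm.1.comm _ _
      refine ⟨fun a b c => commutatorElement_eq_one_iff_mul_comm.2
        (Subgroup.mem_center_iff.1 (hle (by rw [commutator_def]; exact
          Subgroup.commutator_mem_commutator (Subgroup.mem_top a) (Subgroup.mem_top b))) c).symm,
        fun x hx => ?_⟩
      rw [← hZ]
      exact congrArg Subtype.val (pow_card_eq_one' (G := Subgroup.center E) (x := ⟨x, hle hx⟩))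
  let π : E →* E := MonoidHom.mk' (fun x => x ^ p) (mul_pow_p hp hc he)
  have hπ : ∀ (γ : MulAut E) x, γ (π x) = π (γ x) := fun γ x => map_pow γ x p
  have hcardπ : Nat.card π.ker * Nat.card π.range = p ^ m := by
    rw [← Subgroup.index_ker, Subgroup.card_mul_index, hm]
  by_cases hexp : ∀ x : E, x ^ p = 1
  · by_cases hab : IsMulCommutative E
    · refine ⟨?_, hab, fun x hx => congrArg Subtype.val (hexp ⟨x, hx⟩)⟩
      rcases (show m = 2 ∨ m = 3 by omega) with rfl | rfl
      · exact absurd (Or.inl ⟨hm, hab, fun x hx => congrArg Subtype.val (hexp ⟨x, hx⟩)⟩) hnp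
      · exact hm
    · -- extraspecial of exponent `p`
      exfalso
      have : Nontrivial E := Finite.one_lt_card_iff_nontrivial.1
        (hm ▸ Nat.one_lt_pow (by omega) hpp.one_lt)
      have := hEp.center_nontrivial
      obtain ⟨j, hj⟩ := IsPGroup.iff_card.1 (hEp.to_subgroup (Subgroup.center E))
      have hj1 : j ≠ 0 := by
        rintro rfl
        have := Finite.one_lt_card (α := Subgroup.center E)
        rw [hj, pow_zero] at this
        omega
      obtain ⟨i, hi⟩ := hEp.index (Subgroup.center E)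
      have hmul := (Subgroup.center E).card_mul_index
      rw [hj, hi, hm, ← pow_add] at hmul
      have hji : j + i = m := Nat.pow_right_injective hpp.two_le hmul
      have hi2 : 2 ≤ i := by
        by_contra hh
        refine hab (isMulCommutative_iff.2 fun a b => ?_)
        have hcyc : IsCyclic (E ⧸ Subgroup.center E) := by
          rcases (show i = 0 ∨ i = 1 by omega) with rfl | rfl
          · have : Subsingleton (E ⧸ Subgroup.center E) := (Nat.card_eq_one_iff_unique.1
              (by rw [← Subgroup.index_eq_card, hi, pow_zero])).1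
            infer_instance
          · exact isCyclic_of_prime_card (p := p) (by rw [← Subgroup.index_eq_card, hi, pow_one])
        exact commutative_of_cyclic_center_quotient (QuotientGroup.mk' (Subgroup.center E)) (QuotientGroup.ker_mk' _).le a b
      obtain ⟨rfl, rfl⟩ : j = 1 ∧ m = 3 := by omega
      rw [pow_one] at hj
      have hle : commutator E ≤ Subgroup.center E := by
        rw [commutator_def, Subgroup.commutator_le]
        exact fun a _ b _ => Subgroup.mem_center_iff.2 fun c =>
          (commutatorElement_eq_one_iff_mul_comm.1 (hc a b c)).symm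
      have hfr : frattini E ≤ Subgroup.center E :=
        CfsgLib.PGroup.frattini_le_of_elementary (p := p)
          (fun a b => hle (by rw [commutator_def]; exact
            Subgroup.commutator_mem_commutator (Subgroup.mem_top a) (Subgroup.mem_top b)))
          (fun x => by rw [hexp x]; exact one_mem _)
      have hne : commutator E ≠ ⊥ := fun h0 => hab (isMulCommutative_iff.2 fun a b =>
        commutatorElement_eq_one_iff_mul_comm.1 (Subgroup.mem_bot.1 (h0 ▸ (by
          rw [commutator_def]; exact Subgroup.commutator_mem_commutator (Subgroup.mem_top a) (Subgroup.mem_top b) :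
          ⁅a, b⁆ ∈ commutator E))))
      have heq : commutator E = Subgroup.center E := by
        refine Subgroup.eq_of_le_of_card_ge hle ?_
        obtain ⟨l, hl⟩ := IsPGroup.iff_card.1 (hEp.to_subgroup (commutator E))
        rcases Nat.eq_zero_or_pos l with rfl | hl1
        · exact absurd (Subgroup.card_eq_one.1 (by rw [hl, pow_zero])) hne
        · rw [hj, hl]; exact Nat.le_self_pow hl1.ne' p
      refine hnp (Or.inr ⟨hm, ⟨⟨hEp, le_antisymm hfr ?_, heq⟩, hj⟩, ?_⟩)
      · rw [← heq]
        exact CfsgLib.PGroup.commutator_le_frattini hEp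
      · refine Nat.dvd_antisymm (Monoid.exponent_dvd_of_forall_pow_eq_one hexp) ?_
        obtain ⟨x, hx⟩ := exists_ne (1 : E)
        exact (orderOf_eq_prime (hexp x) hx) ▸ Monoid.order_dvd_exponent x
  · exfalso
    -- the series given by the power map is invariant
    push Not at hexp
    obtain ⟨x₀, hx₀⟩ := hexp
    obtain ⟨r, hr⟩ := IsPGroup.iff_card.1 (hEp.to_subgroup π.range)
    obtain ⟨k, hk⟩ := IsPGroup.iff_card.1 (hEp.to_subgroup π.ker)
    have hrk : k + r = m := Nat.pow_right_injective hpp.two_le (by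
      show p ^ (k + r) = p ^ m
      rw [pow_add, ← hk, ← hr, hcardπ])
    have hr1 : 1 ≤ r := by
      rcases Nat.eq_zero_or_pos r with rfl | h
      · rw [pow_zero, Subgroup.card_eq_one] at hr
        exact absurd (Subgroup.mem_bot.1 (hr ▸ ⟨x₀, rfl⟩ : π x₀ ∈ (⊥ : Subgroup E))) hx₀
      · exact h
    have hk1 : 1 ≤ k := by
      rcases Nat.eq_zero_or_pos k with rfl | h
      · exfalso
        rw [pow_zero, Subgroup.card_eq_one] at hk
        have hinj : Function.Injective π := (MonoidHom.ker_eq_bot_iff π).1 hk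
        obtain ⟨y, hy⟩ := exists_prime_orderOf_dvd_card' (G := E) p
          (hm ▸ dvd_pow_self p (by omega))
        have : y = 1 := hinj (show y ^ p = (1 : E) ^ p by rw [one_pow, ← hy, pow_orderOf_eq_one])
        rw [this, orderOf_one] at hy
        exact hpp.one_lt.ne hy
      · exact h
    have hker : ∀ (γ : MulAut E) x, x ∈ π.ker → γ x ∈ π.ker := fun γ x hx => by
      rw [MonoidHom.mem_ker] at hx ⊢
      rw [← hπ, hx, map_one]
    have hran : ∀ (γ : MulAut E) x, x ∈ π.range → γ x ∈ π.range := by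
      rintro γ _ ⟨x, rfl⟩
      exact ⟨γ x, (hπ γ x).symm⟩
    have hnr : π.range.Normal := ⟨fun a ha g => hran (MulAut.conj g) a ha⟩
    rcases Nat.lt_or_ge r 2 with hr2 | hr2
    · -- range of order `p`
      obtain rfl : r = 1 := by omega
      rw [pow_one] at hr
      have hle : π.range ≤ π.ker := by
        intro y hy
        rw [MonoidHom.mem_ker]
        show y ^ p = 1
        rw [← hr]
        exact congrArg Subtype.val (pow_card_eq_one' (G := π.range) (x := ⟨y, hy⟩))
      refine false_of_char_series hS hF hE hlt π.range π.ker hran hker hle hr ?_ ?_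
      · rcases (show k = 1 ∨ k = 2 by omega) with rfl | rfl
        · left
          exact (Subgroup.eq_of_le_of_card_ge hle (by rw [hr, hk, pow_one])).symm
        · right; rw [hk, hr, pow_two]
      · rw [hk, hm, ← pow_succ', hrk]
    · obtain ⟨rfl, rfl, rfl⟩ : r = 2 ∧ k = 1 ∧ m = 3 := by omega
      rw [pow_one] at hk
      have hle : π.ker ≤ π.range := by
        intro y hy
        by_contra hy'
        have htop : π.range ⊔ Subgroup.zpowers y = ⊤ := by
          refine Subgroup.eq_top_of_le_card _ ?_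
          obtain ⟨l, hl⟩ := IsPGroup.iff_card.1 (hEp.to_subgroup (π.range ⊔ Subgroup.zpowers y))
          have hlt' : π.range < π.range ⊔ Subgroup.zpowers y :=
            lt_of_le_of_ne le_sup_left fun e => hy' (e ▸ Subgroup.mem_sup_right (Subgroup.mem_zpowers y))
          have := Set.ncard_lt_ncard (show (π.range : Set E) ⊂ _ from hlt') (Set.toFinite _)
          rw [← Nat.card_coe_set_eq, ← Nat.card_coe_set_eq] at this
          change Nat.card π.range < Nat.card ↥(π.range ⊔ Subgroup.zpowers y) at this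
          rw [hr, hl, Nat.pow_lt_pow_iff_right hpp.one_lt] at this
          rw [hm, hl]
          exact Nat.pow_le_pow_right hpp.pos (by omega)
        have hmap : π.range ≤ π.range.map π := by
          rintro _ ⟨u, rfl⟩
          have hu : u ∈ π.range ⊔ Subgroup.zpowers y := htop ▸ Subgroup.mem_top u
          have := Subgroup.mem_map_of_mem π hu
          rw [Subgroup.map_sup, MonoidHom.map_zpowers, (MonoidHom.mem_ker.1 hy), Subgroup.zpowers_one_eq_bot,
            sup_bot_eq] at this
          exact this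
        have hinj : Set.InjOn π (π.range : Set E) := by
          intro a ha b hb hab
          by_contra hne
          have : Nat.card (π.range.map π) < Nat.card π.range := by
            refine lt_of_le_of_ne (Nat.le_of_dvd Nat.card_pos ?_) fun e => ?_
            · exact Subgroup.card_map_dvd _ π
            · exact hne (by
                have hbij := (Nat.bijective_iff_surjective_and_card
                  (π.subgroupMap π.range)).2 ⟨π.subgroupMap_surjective _, e.symm⟩
                exact congrArg Subtype.val (hbij.1 (show π.subgroupMap π.range ⟨a, ha⟩ =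
                  π.subgroupMap π.range ⟨b, hb⟩ from Subtype.ext hab)))
          have := Subgroup.card_le_of_le hmap
          omega
        obtain ⟨w, hw⟩ := exists_prime_orderOf_dvd_card' (G := π.range) p (hr ▸ dvd_pow_self p two_ne_zero)
        have : (w : E) = 1 := hinj w.2 (one_mem _) (by
          show (w : E) ^ p = (1 : E) ^ p
          rw [one_pow, ← hw, ← Subgroup.orderOf_coe, pow_orderOf_eq_one])
        rw [← Subgroup.orderOf_coe, this, orderOf_one] at hw
        exact hpp.one_lt.ne hw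
      refine false_of_char_series hS hF hE hlt π.ker π.range hker hran hle hk
        (Or.inr ?_) (by rw [hr, hm]; ring)
      rw [hr, hk, pow_two]

end CfsgLib.Fusion.EssentialCube
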