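import Mathlib.GroupTheory.PGroup
import Mathlib.GroupTheory.Index
import Cfsg.Prelude.Def_KGroupFacts

/-!
# A `p`-group of automorphisms of a `p`-group stabilises a series
-/

set_option autoImplicit false

namespace CfsgLib.Fusion

variable {X : Type*} [Group X] {p : ℕ}

/-- The elements fixed modulo `Z` by every element of `A`. -/
def fixedMod (A : Subgroup (MulAut X)) (Z : Subgroup X) : Subgroup X :=
  Subgroup.closure {x : X | ∀ α ∈ A, x⁻¹ * α x ∈ Z}

theorem mem_fixedMod_iff {A : Subgroup (MulAut X)} (hInn : Cfsg.Inn X ≤ A) {Z : Subgroup X}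
    (hZ : ∀ α ∈ A, ∀ z ∈ Z, α z ∈ Z) {x : X} :
    x ∈ fixedMod A Z ↔ ∀ α ∈ A, x⁻¹ * α x ∈ Z := by
  refine ⟨fun h => ?_, fun h => Subgroup.subset_closure h⟩
  have hconj : ∀ (g : X) (z : X), z ∈ Z → g * z * g⁻¹ ∈ Z := fun g z hz =>
    hZ (MulAut.conj g) (hInn ⟨g, rfl⟩) z hz
  induction h using Subgroup.closure_induction with
  | mem y hy => exact hy
  | one =>
    intro α _
    simp
  | mul a b _ _ ha hb =>
    intro α hα
    have h1 := Z.mul_mem (hconj b⁻¹ _ (ha α hα)) (hb α hα)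
    simpa [mul_assoc] using h1
  | inv a _ ha =>
    intro α hα
    have h1 := hconj a _ (Z.inv_mem (ha α hα))
    simpa [mul_assoc] using h1

theorem fixedMod_invariant {A : Subgroup (MulAut X)} (hInn : Cfsg.Inn X ≤ A) {Z : Subgroup X}
    (hZ : ∀ α ∈ A, ∀ z ∈ Z, α z ∈ Z) :
    ∀ α ∈ A, ∀ z ∈ fixedMod A Z, α z ∈ fixedMod A Z := by
  intro β hβ x hx
  rw [mem_fixedMod_iff hInn hZ] at hx ⊢
  intro α hα
  have h1 := hZ β hβ _ (hx (β⁻¹ * α * β) (A.mul_mem (A.mul_mem (A.inv_mem hβ) hα) hβ))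
  simpa [map_mul, map_inv] using h1

theorem le_fixedMod {A : Subgroup (MulAut X)} {Z : Subgroup X}
    (hZ : ∀ α ∈ A, ∀ z ∈ Z, α z ∈ Z) : Z ≤ fixedMod A Z := fun z hz =>
  Subgroup.subset_closure fun α hα => Z.mul_mem (Z.inv_mem hz) (hZ α hα z hz)

/-- A `p`-group of automorphisms fixes a nontrivial coset of an invariant proper subgroup. -/
theorem exists_fixed_coset [Finite X] [Fact p.Prime] (hX : IsPGroup p X) {A : Subgroup (MulAut X)}
    (hA : IsPGroup p A) {Z : Subgroup X} (hZ : ∀ α ∈ A, ∀ z ∈ Z, α z ∈ Z) (hne : Z ≠ ⊤) :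
    ∃ x : X, x ∉ Z ∧ ∀ α ∈ A, x⁻¹ * α x ∈ Z := by
  let act : MulAction A (X ⧸ Z) :=
    { smul := fun α => Quotient.map' (fun x => (α : MulAut X) x) fun a b hab => by
        rw [QuotientGroup.leftRel_apply] at hab ⊢
        rw [← map_inv, ← map_mul]
        exact hZ α α.2 _ hab
      one_smul := fun q => Quotient.inductionOn' q fun x => rfl
      mul_smul := fun α β q => Quotient.inductionOn' q fun x => rfl }
  have hdvd : p ∣ Nat.card (X ⧸ Z) := by
    obtain ⟨k, hk⟩ := IsPGroup.iff_card.1 hX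
    have hne1 : Nat.card (X ⧸ Z) ≠ 1 := fun h => hne (Subgroup.index_eq_one.1 h)
    have hd : Nat.card (X ⧸ Z) ∣ p ^ k := hk ▸ Subgroup.card_quotient_dvd_card Z
    obtain ⟨j, -, hj⟩ := (Nat.dvd_prime_pow Fact.out).1 hd
    rw [hj]
    exact dvd_pow_self p fun h0 => hne1 (by rw [hj, h0, pow_zero])
  have h1 : ((1 : X) : X ⧸ Z) ∈ MulAction.fixedPoints A (X ⧸ Z) := fun α => by
    show (((α : MulAut X) 1 : X) : X ⧸ Z) = ((1 : X) : X ⧸ Z)
    rw [map_one]
  obtain ⟨b, hb, hne'⟩ := hA.exists_fixed_point_of_prime_dvd_card_of_fixed_point _ hdvd h1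
  obtain ⟨x, rfl⟩ := QuotientGroup.mk_surjective b
  refine ⟨x, fun hx => hne' (QuotientGroup.eq.2 (by simpa using hx)), fun α hα => ?_⟩
  exact QuotientGroup.eq.1 (hb ⟨α, hα⟩).symm

/-- The series. -/
theorem exists_fixed_series [Finite X] [Fact p.Prime] (hX : IsPGroup p X) {A : Subgroup (MulAut X)}
    (hA : IsPGroup p A) (hInn : Cfsg.Inn X ≤ A) :
    ∃ (n : ℕ) (B : ℕ → Subgroup X), B 0 = ⊥ ∧ B n = ⊤ ∧ Monotone B ∧
      (∀ i, ∀ α ∈ A, ∀ z ∈ B i, α z ∈ B i) ∧
      ∀ i, ∀ x ∈ B (i + 1), ∀ α ∈ A, x⁻¹ * α x ∈ B i := by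
  let B : ℕ → Subgroup X := fun i => (fixedMod A)^[i] ⊥
  have hsucc : ∀ i, B (i + 1) = fixedMod A (B i) := fun i => Function.iterate_succ_apply' _ _ _
  have hinv : ∀ i, ∀ α ∈ A, ∀ z ∈ B i, α z ∈ B i := by
    intro i
    induction i with
    | zero =>
      intro α _ z hz
      rw [show B 0 = ⊥ from rfl, Subgroup.mem_bot] at hz ⊢
      rw [hz, map_one]
    | succ i ih => rw [hsucc]; exact fixedMod_invariant hInn ih
  have hmono : Monotone B := monotone_nat_of_le_succ fun i => hsucc i ▸ le_fixedMod (hinv i)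
  have hgrow : ∀ i, B i = ⊤ ∨ i + 1 ≤ Nat.card (B i) := by
    intro i
    induction i with
    | zero => exact Or.inr Nat.card_pos
    | succ i ih =>
      by_cases htop : B i = ⊤
      · exact Or.inl (top_le_iff.1 (htop ▸ hmono (Nat.le_succ i)))
      obtain ⟨x, hx, hfix⟩ := exists_fixed_coset hX hA (hinv i) htop
      have hlt : Nat.card (B i) < Nat.card (B (i + 1)) := by
        refine lt_of_not_ge fun hge => hx ?_
        rw [Subgroup.eq_of_le_of_card_ge (hmono (Nat.le_succ i)) hge, hsucc]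
        exact Subgroup.subset_closure hfix
      have := ih.resolve_left htop
      exact Or.inr (by omega)
  refine ⟨Nat.card X, B, rfl, ?_, hmono, hinv, fun i x hx α hα => ?_⟩
  · refine (hgrow _).resolve_right fun h => ?_
    have := Subgroup.card_le_card_group (B (Nat.card X))
    omega
  · rw [hsucc, mem_fixedMod_iff hInn (hinv i)] at hx
    exact hx α hα

end CfsgLib.Fusion
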