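import Cfsg.Agent.Lib.Fusion.EssentialCube
import Cfsg.Agent.Lib.Fusion.Alperin
import Cfsg.Agent.Lib.LocalEven.StrongEmb
import Cfsg.Agent.Lib.FusionMaxClass.Basic
import Cfsg.Agent.Lib.Fusion.PGroupSeries
import Cfsg.Agent.Lib.Solvable.Basic

/-!
Automorphism groups of elementary abelian groups of order `p ^ 3` with a strongly `p`-embedded
subgroup: no Sylow subgroup of order `p ^ 2` or more, and transvections give a reflection-like
automorphism inverting two directions.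
-/

set_option autoImplicit false
set_option linter.unusedSectionVars false

namespace CfsgLib.Fusion.EssentialRankThree

open Cfsg CfsgLib.Fusion CfsgLib.Fusion.EssentialCube

/-- A strongly embedded subgroup around a prescribed Sylow subgroup. -/
theorem exists_around {X : Type*} [Group X] [Finite X] {p : ℕ} [Fact p.Prime] (T : Sylow p X)
    {E : Subgroup X} (hE : IsStronglyPEmbedded p E) :
    ∃ M : Subgroup X, M ≠ ⊤ ∧ (T : Subgroup X) ≤ M ∧ (T : Subgroup X) ≠ ⊥ ∧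
      (∀ Q : Subgroup X, IsPGroup p Q → (∃ a ∈ Q, a ∈ M ∧ a ≠ 1) → Q ≤ M) ∧
      ∀ h : X, ∀ τ ∈ (T : Subgroup X), τ ≠ 1 → h * τ * h⁻¹ ∈ M → h ∈ M := by
  obtain ⟨P, hPne, hPE⟩ := CfsgLib.LocalEven.se_sylow_le hE
  obtain ⟨g, hg⟩ := MulAction.exists_smul_eq X P T
  set φ := (MulAut.conj g).toMonoidHom
  set M := E.map φ with hM
  have hmem : ∀ x, x ∈ M ↔ g⁻¹ * x * g ∈ E := by
    intro x
    constructor
    · rintro ⟨y, hy, rfl⟩
      simpa [φ, mul_assoc] using hy
    · exact fun h => ⟨_, h, by simp [φ, mul_assoc]⟩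
  have hTM : (T : Subgroup X) ≤ M := by
    intro x hx
    rw [← hg, Sylow.coe_subgroup_smul] at hx
    obtain ⟨y, hy, rfl⟩ := hx
    exact ⟨y, hPE hy, rfl⟩
  have hQ : ∀ Q : Subgroup X, IsPGroup p Q → (∃ a ∈ Q, a ∈ M ∧ a ≠ 1) → Q ≤ M := by
    rintro Q hQp ⟨a, haQ, haM, ha1⟩ x hx
    rw [hmem]
    set Q' := Q.map (MulAut.conj g⁻¹).toMonoidHom with hQ'
    have hQ'p : IsPGroup p Q' := hQp.map _
    have hle : Q' ≤ E := by
      by_contra hne
      obtain ⟨y, hy, hy', hyn⟩ := CfsgLib.LocalEven.exists_normalizer_gt hQ'p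
        (lt_of_le_of_ne (inf_le_left : Q' ⊓ E ≤ Q') fun e => hne (inf_eq_left.1 e))
      refine hy' ⟨hy, CfsgLib.Even.normalizer_le_of_stronglyPEmbedded hE
        (hQ'p.to_le inf_le_left) inf_le_right (fun e => ha1 ?_) hyn⟩
      have : g⁻¹ * a * g ∈ Q' ⊓ E := ⟨⟨a, haQ, by simp⟩, (hmem a).1 haM⟩
      rw [e, Subgroup.mem_bot] at this
      simpa [mul_assoc] using congrArg (fun y => g * y * g⁻¹) this
    exact hle ⟨x, hx, by simp⟩
  have hTne : (T : Subgroup X) ≠ ⊥ := T.ne_bot_of_dvd_card hE.1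
  refine ⟨M, fun h => hE.2.1 ?_, hTM, hTne, hQ, fun h τ hτ hτ1 hh => ?_⟩
  · exact Subgroup.map_injective (f := φ) (MulAut.conj g).injective
      (h.trans (Subgroup.map_top_of_surjective φ (MulAut.conj g).surjective).symm)
  · have hle : ((h • T : Sylow p X) : Subgroup X) ≤ M := by
      refine hQ _ (h • T).2 ⟨_, ?_, hh, fun e => hτ1 (conj_eq_one_iff.1 e)⟩
      rw [Sylow.coe_subgroup_smul]
      exact ⟨τ, hτ, rfl⟩
    obtain ⟨m, hm⟩ := MulAction.exists_smul_eq M (T.subtype hTM) ((h • T).subtype hle)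
    have hTN : (h⁻¹ * (m : X)) ∈ Subgroup.normalizer ((T : Subgroup X) : Set X) := by
      refine Sylow.smul_eq_iff_mem_normalizer.1 ?_
      rw [mul_smul, inv_smul_eq_iff]
      refine Sylow.subtype_injective (hP := ?_) (hQ := hle) ?_
      · rw [Sylow.coe_subgroup_smul]
        rintro _ ⟨y, hy, rfl⟩
        exact M.mul_mem (M.mul_mem m.2 (hTM hy)) (M.inv_mem m.2)
      · rw [← hm]
        exact (Sylow.smul_subtype hTM m).symm
    have hNle : Subgroup.normalizer ((T : Subgroup X) : Set X) ≤ M := by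
      intro y hy
      rw [hmem]
      have hne : P.toSubgroup ≠ ⊥ := hPne
      refine CfsgLib.Even.normalizer_le_of_stronglyPEmbedded hE P.2 hPE hne ?_
      have hyT : y • T = T := Sylow.smul_eq_iff_mem_normalizer.2 hy
      refine Sylow.smul_eq_iff_mem_normalizer.1 ?_
      rw [mul_smul, mul_smul, hg, hyT, inv_smul_eq_iff, hg]
    have := M.mul_mem m.2 (M.inv_mem (hNle hTN))
    simpa using this

section Cube

variable {E : Type*} [Group E] [Finite E] {p : ℕ} [Fact p.Prime]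

/-- The data: an automorphism group with a strongly embedded subgroup around `U`. -/
structure Around (p : ℕ) (G U M : Subgroup (MulAut E)) : Prop where
  card : Nat.card E = p ^ 3
  comm : ∀ a b : E, a * b = b * a
  exp : ∀ a : E, a ^ p = 1
  U_le : U ≤ M
  M_le : M ≤ G
  U_p : IsPGroup p U
  U_ne : U ≠ ⊥
  lt : ∃ h ∈ G, h ∉ M
  pgroup : ∀ Q : Subgroup (MulAut E), Q ≤ G → IsPGroup p Q → (∃ a ∈ Q, a ∈ M ∧ a ≠ 1) → Q ≤ M
  conj : ∀ h ∈ G, ∀ τ ∈ U, τ ≠ 1 → h * τ * h⁻¹ ∈ M → h ∈ M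

variable {G U M : Subgroup (MulAut E)}

theorem Around.isPGroup (H : Around p G U M) : IsPGroup p E := IsPGroup.of_card H.card

theorem Around.card_zpowers (H : Around p G U M) {z : E} (hz : z ≠ 1) :
    Nat.card (Subgroup.zpowers z) = p := by
  rw [Nat.card_zpowers, orderOf_eq_prime (H.exp z) hz]

theorem Around.zpowers_eq (H : Around p G U M) {w z : E} (hw : w ∈ Subgroup.zpowers z) (hw1 : w ≠ 1) :
    Subgroup.zpowers w = Subgroup.zpowers z := by
  refine Subgroup.eq_of_le_of_card_ge (Subgroup.zpowers_le.2 hw) ?_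
  rw [H.card_zpowers hw1, H.card_zpowers (fun e => hw1 (by
    rw [e, Subgroup.zpowers_one_eq_bot, Subgroup.mem_bot] at hw; exact hw))]

theorem Around.sup_eq_top (H : Around p G U M) {A : Subgroup E} (hA : Nat.card A = p ^ 2) {v : E}
    (hv : v ∉ A) : A ⊔ Subgroup.zpowers v = ⊤ := by
  refine Subgroup.eq_top_of_le_card _ ?_
  have hlt : A < A ⊔ Subgroup.zpowers v :=
    lt_of_le_of_ne le_sup_left fun e => hv (e ▸ Subgroup.mem_sup_right (Subgroup.mem_zpowers v))
  have := CfsgLib.FusionMaxClass.mul_card_le H.card hlt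
  rwa [hA, ← pow_succ', ← H.card] at this

theorem Around.gen_pair (H : Around p G U M) {A : Subgroup E} (hA : Nat.card A = p ^ 2) {z c : E}
    (hz : z ∈ A) (hc : c ∈ A) (hz1 : z ≠ 1) (hcz : c ∉ Subgroup.zpowers z) :
    Subgroup.zpowers z ⊔ Subgroup.zpowers c = A := by
  refine Subgroup.eq_of_le_of_card_ge (sup_le (Subgroup.zpowers_le.2 hz) (Subgroup.zpowers_le.2 hc)) ?_
  have hlt : Subgroup.zpowers z < Subgroup.zpowers z ⊔ Subgroup.zpowers c :=
    lt_of_le_of_ne le_sup_left fun e => hcz (e ▸ Subgroup.mem_sup_right (Subgroup.mem_zpowers c))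
  have := CfsgLib.FusionMaxClass.mul_card_le H.card hlt
  rwa [H.card_zpowers hz1, ← pow_two, ← hA] at this

/-- A transvection and a conjugate outside `M` are in general position. -/
theorem Around.key (H : Around p G U M) {τ : MulAut E} (hτ : τ ∈ U) (hτ1 : τ ≠ 1) {W : Subgroup E}
    {z : E} (hz : z ∈ W) (hfix : ∀ w ∈ W, τ w = w)
    (hdisp : ∀ x, x⁻¹ * τ x ∈ Subgroup.zpowers z) {h : MulAut E} (hh : h ∈ G) (hhM : h ∉ M) :
    h z ∉ W := by
  intro hzW
  set M₁ := Subgroup.zpowers (h z)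
  set M₂ := Subgroup.zpowers z ⊔ Subgroup.zpowers (h z)
  have hM₂ : M₂ ≤ W := sup_le (Subgroup.zpowers_le.2 hz) (Subgroup.zpowers_le.2 hzW)
  have hτm : ∀ σ : MulAut E, (∀ w ∈ W, σ w = w) → (∀ x, x⁻¹ * σ x ∈ Subgroup.zpowers z) →
      σ ∈ serStab M₁ M₂ := by
    intro σ h1 h2
    refine ⟨fun x hx => h1 x (hM₂ (Subgroup.mem_sup_right hx)), fun x hx => ?_,
      fun x => Subgroup.mem_sup_left (h2 x), fun x hx => ?_⟩
    · rw [h1 x (hM₂ hx), inv_mul_cancel]; exact one_mem _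
    · conv => arg 2; rw [← h1 x (hM₂ hx)]
      simpa using hx
  have hτ' : h * τ * h⁻¹ ∈ serStab M₁ M₂ := by
    have d : ∀ x, x⁻¹ * (h * τ * h⁻¹) x ∈ M₁ := fun x => by
      have h1 := Subgroup.mem_map_of_mem h.toMonoidHom (hdisp (h⁻¹ x))
      rw [MonoidHom.map_zpowers] at h1
      simpa using h1
    have f : ∀ x ∈ M₁, (h * τ * h⁻¹) x = x := by
      intro x hx
      obtain ⟨k, rfl⟩ := Subgroup.mem_zpowers_iff.1 hx
      rw [map_zpow]
      congr 1
      show h (τ (h⁻¹ (h z))) = h z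
      rw [MulAut.inv_apply_self, hfix z hz]
    refine ⟨f, fun x _ => d x, fun x => Subgroup.mem_sup_right (d x), fun x hx => ?_⟩
    have h1 := d ((h * τ * h⁻¹)⁻¹ x)
    rw [MulAut.apply_inv_self] at h1
    have := M₂.mul_mem hx (M₂.inv_mem (Subgroup.mem_sup_right h1 : _ ∈ M₂))
    simpa using this
  have hQ := H.pgroup (serStab M₁ M₂ ⊓ G) inf_le_right
    ((isPGroup_serStab H.isPGroup M₁ M₂).to_le inf_le_left)
    ⟨τ, ⟨hτm τ hfix hdisp, H.M_le (H.U_le hτ)⟩, H.U_le hτ, hτ1⟩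
  exact hhM (H.conj h hh τ hτ hτ1 (hQ ⟨hτ', G.mul_mem (G.mul_mem hh (H.M_le (H.U_le hτ))) (G.inv_mem hh)⟩))

/-- The Sylow subgroup has order `p`. -/
theorem Around.card_eq (H : Around p G U M) : Nat.card U = p := by
  have hp : p.Prime := Fact.out
  have hfin : Finite (MulAut E) := finite_mulAut
  obtain ⟨m, hm⟩ := IsPGroup.iff_card.1 H.U_p
  have hm1 : 1 ≤ m := by
    rcases Nat.eq_zero_or_pos m with rfl | h
    · exact absurd (Subgroup.card_eq_one.1 (by rw [hm, pow_zero])) H.U_ne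
    · exact h
  by_contra hne
  have hm2 : 2 ≤ m := by
    by_contra hh
    exact hne (by rw [hm, show m = 1 by omega, pow_one])
  have hcom : IsMulCommutative E := isMulCommutative_iff.2 H.comm
  have hInn : Cfsg.Inn E ≤ U := by
    rintro _ ⟨a, rfl⟩
    have : MulAut.conj a = 1 := MulEquiv.ext fun b => by simp [H.comm a b]
    rw [this]; exact one_mem _
  -- an invariant series
  have hnorm : ∀ K : Subgroup E, K.Normal := fun K => ⟨fun a ha g => by
    rwa [H.comm g a, mul_inv_cancel_right]⟩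
  obtain ⟨z, hz, hzfix⟩ := exists_fixed_coset H.isPGroup H.U_p (Z := (⊥ : Subgroup E))
    (fun α _ x hx => by rw [Subgroup.mem_bot] at hx ⊢; rw [hx, map_one])
    (fun e => by
      have h1 := H.card
      rw [← Subgroup.card_top (G := E), ← e, Subgroup.card_bot] at h1
      exact (Nat.one_lt_pow three_ne_zero hp.one_lt).ne h1)
  have hz1 : z ≠ 1 := fun e => hz (by simp [e])
  have hfz : ∀ α ∈ U, α z = z := fun α hα => (inv_mul_eq_one.1 (Subgroup.mem_bot.1 (hzfix α hα))).symm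
  have hzinv : ∀ α ∈ U, ∀ x ∈ Subgroup.zpowers z, α x = x := fun α hα x hx => by
    obtain ⟨k, rfl⟩ := Subgroup.mem_zpowers_iff.1 hx
    rw [map_zpow, hfz α hα]
  obtain ⟨w, hw, hwfix⟩ := exists_fixed_coset H.isPGroup H.U_p (Z := Subgroup.zpowers z)
    (fun α hα x hx => by rw [hzinv α hα x hx]; exact hx)
    (fun e => by
      have h1 := H.card_zpowers hz1
      rw [e, Subgroup.card_top, H.card] at h1
      exact (lt_self_pow₀ hp.one_lt (by norm_num : 1 < 3)).ne' h1)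
  set W := Subgroup.zpowers z ⊔ Subgroup.zpowers w with hW
  have hzW : z ∈ W := Subgroup.mem_sup_left (Subgroup.mem_zpowers z)
  have hwW : w ∈ W := Subgroup.mem_sup_right (Subgroup.mem_zpowers w)
  have hWc : Nat.card W = p ^ 2 := by
    obtain ⟨k, hk⟩ := IsPGroup.iff_card.1 (H.isPGroup.to_subgroup W)
    have hlt : Subgroup.zpowers z < W :=
      lt_of_le_of_ne le_sup_left fun e => hw (e ▸ hwW)
    have h1 := CfsgLib.FusionMaxClass.mul_card_le H.card hlt
    rw [H.card_zpowers hz1, ← pow_two, hk, Nat.pow_le_pow_iff_right hp.one_lt] at h1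
    have hdvd : Nat.card W ∣ Nat.card (Subgroup.zpowers z) * Nat.card (Subgroup.zpowers w) := by
      have := hnorm (Subgroup.zpowers z)
      exact CfsgLib.Solvable.card_sup_dvd (le_top.trans (Subgroup.normalizer_eq_top_iff.2 this).ge)
    rw [hk, H.card_zpowers hz1, H.card_zpowers (fun e => hw (by rw [e]; exact one_mem _)), ← pow_two,
      Nat.pow_dvd_pow_iff_le_right hp.one_lt] at hdvd
    rw [hk, show k = 2 by omega]
  obtain ⟨x, hx⟩ : ∃ x, x ∉ W := by
    by_contra hh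
    push Not at hh
    have h1 := hWc
    rw [show W = ⊤ from eq_top_iff.2 fun y _ => hh y, Subgroup.card_top, H.card] at h1
    exact absurd (Nat.pow_right_injective hp.two_le h1) (by norm_num)
  have hWinv : ∀ α ∈ U, ∀ y ∈ W, α y ∈ W := by
    intro α hα
    have : W ≤ W.comap α.toMonoidHom := sup_le
      (Subgroup.zpowers_le.2 (by show α z ∈ W; rw [hfz α hα]; exact hzW))
      (Subgroup.zpowers_le.2 (by
        show α w ∈ W
        simpa using W.mul_mem hwW (Subgroup.mem_sup_left (hwfix α hα) : w⁻¹ * α w ∈ W)))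
    exact fun y hy => this hy
  have hWd : ∀ α ∈ U, ∀ y, y⁻¹ * α y ∈ W := by
    intro α hα y
    obtain ⟨l, hl⟩ := H.U_p ⟨α, hα⟩
    have := hnorm W
    exact disp_mem_of_pow (N := ⊤) (M := W) le_top (le_top.trans (Subgroup.normalizer_eq_top_iff.2 this).ge)
      (by rw [Subgroup.card_top, H.card, hWc]; ring) (congrArg Subtype.val hl) (hWinv α hα)
      (fun y _ => Subgroup.mem_top _) y (Subgroup.mem_top y)
  -- a transvection
  obtain ⟨τ, hτ, hτ1, hτw, hτx⟩ :
      ∃ τ ∈ U, τ ≠ 1 ∧ τ w = w ∧ x⁻¹ * τ x ∈ Subgroup.zpowers z := by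
    let fb : U →* E :=
      MonoidHom.mk' (fun α => w⁻¹ * (α : MulAut E) w) fun α β => by
        show w⁻¹ * (α : MulAut E) ((β : MulAut E) w) = _
        have hb := hzinv α α.2 _ (hwfix β β.2)
        rw [map_mul, map_inv, inv_mul_eq_iff_eq_mul] at hb
        rw [hb, mul_assoc]
    have := hnorm (Subgroup.zpowers z)
    let fa : U →* E ⧸ Subgroup.zpowers z :=
      MonoidHom.mk' (fun α => QuotientGroup.mk (x⁻¹ * (α : MulAut E) x)) fun α β => by
        rw [← QuotientGroup.mk_mul, QuotientGroup.eq]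
        show (x⁻¹ * (α : MulAut E) ((β : MulAut E) x))⁻¹ * (x⁻¹ * (α : MulAut E) x * (x⁻¹ * (β : MulAut E) x)) ∈ _
        have hW0 : ∀ y ∈ W, y⁻¹ * (α : MulAut E) y ∈ Subgroup.zpowers z := by
          intro y hy
          obtain ⟨a, ha, b, hb, rfl⟩ := Subgroup.mem_sup_of_normal_left.1 hy
          obtain ⟨k, rfl⟩ := Subgroup.mem_zpowers_iff.1 hb
          rw [map_mul, hzinv α α.2 a ha, map_zpow,
            show (a * w ^ k)⁻¹ * (a * (α : MulAut E) w ^ k) = (w ^ k)⁻¹ * (α : MulAut E) w ^ k by group]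
          have := Subgroup.zpow_mem _ (hwfix α α.2) k
          rwa [(show Commute w⁻¹ ((α : MulAut E) w) from H.comm _ _).mul_zpow, inv_zpow] at this
        have := Subgroup.inv_mem _ (hW0 _ (hWd β β.2 x))
        have e : (x⁻¹ * (α : MulAut E) ((β : MulAut E) x))⁻¹ *
            (x⁻¹ * (α : MulAut E) x * (x⁻¹ * (β : MulAut E) x)) =
            ((x⁻¹ * (β : MulAut E) x)⁻¹ * (α : MulAut E) (x⁻¹ * (β : MulAut E) x))⁻¹ := by
          rw [map_mul, map_inv]
          simp [mul_assoc]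
        rwa [e]
    have hrb : fb.range ≤ Subgroup.zpowers z := by rintro _ ⟨α, rfl⟩; exact hwfix α α.2
    have hra : fa.range ≤ W.map (QuotientGroup.mk' (Subgroup.zpowers z)) := by
      rintro _ ⟨α, rfl⟩; exact ⟨_, hWd α α.2 x, rfl⟩
    have cb : fb.ker.index ≤ p := by
      rw [Subgroup.index_ker]
      exact (Subgroup.card_le_of_le hrb).trans (H.card_zpowers hz1).le
    have ca : fa.ker.index ≤ p := by
      rw [Subgroup.index_ker]
      refine (Subgroup.card_le_of_le hra).trans ?_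
      have hmul := (((QuotientGroup.mk' (Subgroup.zpowers z)).comp W.subtype).ker).card_mul_index
      rw [Subgroup.index_ker, MonoidHom.range_comp, Subgroup.range_subtype, hWc] at hmul
      have hk : Nat.card (((QuotientGroup.mk' (Subgroup.zpowers z)).comp W.subtype).ker) = p := by
        rw [← MonoidHom.comap_ker, QuotientGroup.ker_mk', ← H.card_zpowers hz1]
        exact Nat.card_congr (Subgroup.subgroupOfEquivOfLe (le_sup_left : Subgroup.zpowers z ≤ W)).toEquiv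
      rw [hk, pow_two] at hmul
      exact (Nat.eq_of_mul_eq_mul_left hp.pos hmul).le
    by_contra hno
    push Not at hno
    have hbot : fa.ker ⊓ fb.ker = ⊥ := by
      rw [eq_bot_iff]
      rintro α ⟨ha, hb⟩
      rw [Subgroup.mem_bot]
      by_contra h1
      refine hno α α.2 (fun e => h1 (Subtype.ext e)) ?_ ((QuotientGroup.eq_one_iff _).1 ha)
      exact (inv_mul_eq_one.1 (show w⁻¹ * (α : MulAut E) w = 1 from hb)).symm
    have hidx : p ^ m ≤ fa.ker.index * fb.ker.index := by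
      rw [← hm, ← Subgroup.index_bot, ← hbot]
      exact Subgroup.index_inf_le
    have hle2 : p ^ m ≤ p ^ 2 := hidx.trans ((Nat.mul_le_mul ca cb).trans (pow_two p).symm.le)
    obtain rfl : m = 2 := le_antisymm ((Nat.pow_le_pow_iff_right hp.one_lt).1 hle2) hm2
    have hab : ∀ α β : U, α * β = β * α := fun α β =>
      IsPGroup.commutative_of_card_eq_prime_sq hm α β
    have hnk : ∀ K : Subgroup U, K.index ≤ p → K ≠ ⊥ := by
      intro K hK e
      rw [e, Subgroup.index_bot, hm] at hK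
      exact absurd hK (not_le.2 (lt_self_pow₀ hp.one_lt (by norm_num : 1 < 2)))
    obtain ⟨k, hk, hk1⟩ := (Subgroup.bot_or_exists_ne_one fa.ker).resolve_left (hnk _ ca)
    obtain ⟨l, hl, hl1⟩ := (Subgroup.bot_or_exists_ne_one fb.ker).resolve_left (hnk _ cb)
    have hkx : x⁻¹ * (k : MulAut E) x ∈ Subgroup.zpowers z := (QuotientGroup.eq_one_iff _).1 hk
    have hlw : (l : MulAut E) w = w := (inv_mul_eq_one.1 (show w⁻¹ * (l : MulAut E) w = 1 from hl)).symm
    obtain ⟨d, hd, hdl⟩ : ∃ d ∈ W, (l : MulAut E) x = x * d :=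
      ⟨_, hWd l l.2 x, (mul_inv_cancel_left _ _).symm⟩
    obtain ⟨z', hz', hzk⟩ : ∃ z' ∈ Subgroup.zpowers z, (k : MulAut E) x = x * z' :=
      ⟨_, hkx, (mul_inv_cancel_left _ _).symm⟩
    have hcm := congrArg (fun α : U => (α : MulAut E) x) (hab k l)
    change (k : MulAut E) ((l : MulAut E) x) = (l : MulAut E) ((k : MulAut E) x) at hcm
    rw [hdl, hzk, map_mul, map_mul, hzk, hdl, hzinv l l.2 z' hz', mul_assoc, mul_assoc,
      mul_left_cancel_iff, H.comm d z', mul_left_cancel_iff] at hcm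
    obtain ⟨a, ha, b, hb, rfl⟩ := Subgroup.mem_sup_of_normal_left.1 hd
    obtain ⟨i, rfl⟩ := Subgroup.mem_zpowers_iff.1 hb
    rw [map_mul, hzinv k k.2 a ha, mul_left_cancel_iff] at hcm
    by_cases hi : w ^ i = 1
    · refine hno l l.2 (fun e => hl1 (Subtype.ext e)) hlw ?_
      rw [hdl, hi, mul_one, inv_mul_cancel_left]
      exact ha
    · have hgen := H.zpowers_eq (Subgroup.zpow_mem _ (Subgroup.mem_zpowers w) i) hi
      obtain ⟨j, hj⟩ := Subgroup.mem_zpowers_iff.1 (hgen ▸ Subgroup.mem_zpowers w)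
      refine hno k k.2 (fun e => hk1 (Subtype.ext e)) ?_ hkx
      rw [← hj, map_zpow, hcm]
  -- the orbit of an element outside `W`
  have hfixW : ∀ y ∈ W, τ y = y := by
    have : W ≤ τ.toMonoidHom.eqLocus (MonoidHom.id E) :=
      sup_le (Subgroup.zpowers_le.2 (hfz τ hτ)) (Subgroup.zpowers_le.2 hτw)
    exact fun y hy => this hy
  have hdisp : ∀ y, y⁻¹ * τ y ∈ Subgroup.zpowers z := by
    intro y
    have := hnorm W
    obtain ⟨a, ha, b, hb, rfl⟩ := Subgroup.mem_sup_of_normal_left.1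
      (H.sup_eq_top hWc hx ▸ Subgroup.mem_top y)
    obtain ⟨k, rfl⟩ := Subgroup.mem_zpowers_iff.1 hb
    rw [map_mul, hfixW a ha, map_zpow, show (a * x ^ k)⁻¹ * (a * τ x ^ k) = (x ^ k)⁻¹ * τ x ^ k by group]
    have := Subgroup.zpow_mem _ hτx k
    rwa [(show Commute x⁻¹ (τ x) from H.comm _ _).mul_zpow, inv_zpow] at this
  obtain ⟨g, hg, hgM⟩ := H.lt
  set v := g z
  have hv : v ∉ W := H.key hτ hτ1 hzW hfixW hdisp hg hgM
  set W' := W.map g.toMonoidHom
  have hW' : ∀ u : MulAut E, u ∈ U → u ≠ 1 → u v ∉ W' := by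
    rintro u hu hu1 ⟨y, hy, hyu⟩
    refine H.key hτ hτ1 hzW hfixW hdisp (h := g⁻¹ * u * g)
      (G.mul_mem (G.mul_mem (G.inv_mem hg) (H.M_le (H.U_le hu))) hg) (fun hc => hgM ?_) ?_
    · have := H.conj g⁻¹ (G.inv_mem hg) u hu hu1 (by rwa [inv_inv])
      simpa using M.inv_mem this
    · show g⁻¹ (u (g z)) ∈ W
      rw [show u (g z) = g y from hyu.symm, MulAut.inv_apply_self]
      exact hy
  have hvW' : v ∈ W' := ⟨z, hzW, rfl⟩
  let f : U → W := fun u => ⟨v⁻¹ * (u : MulAut E) v, hWd u u.2 v⟩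
  have hf : Function.Injective f := by
    intro a b hab
    have h1 : (a : MulAut E) v = (b : MulAut E) v := mul_left_cancel (congrArg Subtype.val hab)
    by_contra hne
    refine hW' _ (b⁻¹ * a).2 (fun e => hne (inv_mul_eq_one.1 (Subtype.ext e)).symm) ?_
    show (b : MulAut E)⁻¹ ((a : MulAut E) v) ∈ W'
    rw [h1, MulAut.inv_apply_self]
    exact hvW'
  have hsurj : Function.Surjective f := by
    refine ((Nat.bijective_iff_injective_and_card f).2 ⟨hf, le_antisymm ?_ ?_⟩).2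
    · exact Nat.card_le_card_of_injective f hf
    · rw [hWc, hm]; exact Nat.pow_le_pow_right hp.pos hm2
  obtain ⟨y, ⟨hyW, hyW'⟩, hy1⟩ : ∃ y ∈ W ⊓ W', y ≠ 1 := by
    refine (Subgroup.bot_or_exists_ne_one _).resolve_left fun e => ?_
    have h1 := Subgroup.index_inf_le (H := W) (K := W')
    have hi : ∀ K : Subgroup E, Nat.card K = p ^ 2 → K.index = p := fun K hK => by
      have := K.card_mul_index
      rw [hK, H.card, pow_succ p 2] at this
      exact Nat.eq_of_mul_eq_mul_left (pow_pos hp.pos 2) this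
    rw [e, Subgroup.index_bot, H.card, hi W hWc, hi W' (by
      rw [Subgroup.card_map_of_injective g.injective, hWc]), ← pow_two,
      Nat.pow_le_pow_iff_right hp.one_lt] at h1
    omega
  obtain ⟨u, hu⟩ := hsurj ⟨y, hyW⟩
  have huv : (u : MulAut E) v = v * y := by
    rw [← show v⁻¹ * (u : MulAut E) v = y from congrArg Subtype.val hu, mul_inv_cancel_left]
  refine hW' u u.2 (fun e => hy1 ?_) (huv ▸ W'.mul_mem hvW' hyW')
  rw [← show v⁻¹ * (u : MulAut E) v = y from congrArg Subtype.val hu, e]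
  simp

/-- A transvection gives an element inverting two directions and centralizing it. -/
theorem Around.torus (H : Around p G U M) {τ : MulAut E} (hτ : τ ∈ U) (hτ1 : τ ≠ 1) {A : Subgroup E}
    (hA : Nat.card A = p ^ 2) (hfix : ∀ a ∈ A, τ a = a) (hdisp : ∀ x, x⁻¹ * τ x ∈ A) :
    ∃ (v z c : E) (d : MulAut E), v ∉ A ∧ z = v⁻¹ * τ v ∧ z ≠ 1 ∧ z ∈ A ∧ c ∈ A ∧
      c ∉ Subgroup.zpowers z ∧ d ∈ G ∧ d v = v⁻¹ ∧ d z = z⁻¹ ∧ d c = c ∧ d * τ = τ * d := by
  have hp : p.Prime := Fact.out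
  have hnorm : ∀ K : Subgroup E, K.Normal := fun K => ⟨fun a ha g => by
    rwa [H.comm g a, mul_inv_cancel_right]⟩
  have := hnorm A
  obtain ⟨e₀, he₀⟩ : ∃ e, e ∉ A := by
    by_contra hh
    push Not at hh
    have h1 := hA
    rw [show A = ⊤ from eq_top_iff.2 fun y _ => hh y, Subgroup.card_top, H.card] at h1
    exact absurd (Nat.pow_right_injective hp.two_le h1) (by norm_num)
  set z₀ := e₀⁻¹ * τ e₀
  have hdz : ∀ x, x⁻¹ * τ x ∈ Subgroup.zpowers z₀ := by
    intro x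
    obtain ⟨a, ha, b, hb, rfl⟩ := Subgroup.mem_sup_of_normal_left.1
      (H.sup_eq_top hA he₀ ▸ Subgroup.mem_top x)
    obtain ⟨k, rfl⟩ := Subgroup.mem_zpowers_iff.1 hb
    rw [map_mul, hfix a ha, map_zpow, show (a * e₀ ^ k)⁻¹ * (a * τ e₀ ^ k) = (e₀ ^ k)⁻¹ * τ e₀ ^ k by group]
    refine ⟨k, ?_⟩
    show z₀ ^ k = _
    rw [(show Commute e₀⁻¹ (τ e₀) from H.comm _ _).mul_zpow, inv_zpow]
  have hz₀A : z₀ ∈ A := hdisp e₀
  obtain ⟨g, hg, hgM⟩ := H.lt
  have hgM' : g⁻¹ ∉ M := fun h => hgM (by simpa using M.inv_mem h)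
  set v := g z₀ with hv
  have hvA : v ∉ A := H.key hτ hτ1 hz₀A hfix hdz hg hgM
  set z := v⁻¹ * τ v with hz
  have hz1 : z ≠ 1 := by
    intro e
    refine hτ1 (MulEquiv.ext fun y => ?_)
    have : A ⊔ Subgroup.zpowers v ≤ τ.toMonoidHom.eqLocus (MonoidHom.id E) :=
      sup_le hfix (Subgroup.zpowers_le.2 (inv_mul_eq_one.1 e).symm)
    exact this (H.sup_eq_top hA hvA ▸ Subgroup.mem_top y)
  have hzA : z ∈ A := hdisp v
  have hzz : Subgroup.zpowers z = Subgroup.zpowers z₀ := H.zpowers_eq (hdz v) hz1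
  have hkey : g⁻¹ z ∉ A :=
    H.key hτ hτ1 hzA hfix (fun x => hzz ▸ hdz x) (G.inv_mem hg) hgM'
  obtain ⟨c, ⟨hcA, hcA'⟩, hc1⟩ : ∃ c ∈ A ⊓ A.map g.toMonoidHom, c ≠ 1 := by
    refine (Subgroup.bot_or_exists_ne_one _).resolve_left fun e => ?_
    have h1 := Subgroup.index_inf_le (H := A) (K := A.map g.toMonoidHom)
    have hi : ∀ K : Subgroup E, Nat.card K = p ^ 2 → K.index = p := fun K hK => by
      have := K.card_mul_index
      rw [hK, H.card, pow_succ p 2] at this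
      exact Nat.eq_of_mul_eq_mul_left (pow_pos hp.pos 2) this
    rw [e, Subgroup.index_bot, H.card, hi A hA, hi _ (by
      rw [Subgroup.card_map_of_injective g.injective, hA]), ← pow_two,
      Nat.pow_le_pow_iff_right hp.one_lt] at h1
    omega
  have hcz : c ∉ Subgroup.zpowers z := by
    intro hc
    have hz' : z ∈ A.map g.toMonoidHom := by
      have := Subgroup.zpowers_le.2 hcA' (H.zpowers_eq hc hc1 ▸ Subgroup.mem_zpowers z)
      exact this
    obtain ⟨y, hy, hyz⟩ := hz'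
    exact hkey (by rw [← hyz]; simpa using hy)
  -- the second transvection
  set τ' := g * τ * g⁻¹ with hτ'
  have hτ'G : τ' ∈ G := G.mul_mem (G.mul_mem hg (H.M_le (H.U_le hτ))) (G.inv_mem hg)
  have hfix' : ∀ a ∈ A.map g.toMonoidHom, τ' a = a := by
    rintro _ ⟨a, ha, rfl⟩
    simp [τ', hfix a ha]
  have hτ'c : τ' c = c := hfix' c hcA'
  have hτ'v : τ' v = v := hfix' v ⟨z₀, hz₀A, rfl⟩
  have hw : z⁻¹ * τ' z ∈ Subgroup.zpowers v := by
    have h1 := Subgroup.mem_map_of_mem g.toMonoidHom (hdz (g⁻¹ z))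
    rw [MonoidHom.map_zpowers] at h1
    simpa [τ', v] using h1
  have hgen : A ⊔ Subgroup.zpowers v = ⊤ := H.sup_eq_top hA hvA
  have hApair := H.gen_pair hA hzA hcA hz1 hcz
  have hext : ∀ φ ψ : MulAut E, φ z = ψ z → φ c = ψ c → φ v = ψ v → φ = ψ := by
    intro φ ψ h1 h2 h3
    refine MulEquiv.ext fun y => ?_
    have : A ⊔ Subgroup.zpowers v ≤ φ.toMonoidHom.eqLocus ψ.toMonoidHom := by
      rw [← hApair]
      exact sup_le (sup_le (Subgroup.zpowers_le.2 h1) (Subgroup.zpowers_le.2 h2)) (Subgroup.zpowers_le.2 h3)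
    exact this (hgen ▸ Subgroup.mem_top y)
  have hw1 : z⁻¹ * τ' z ≠ 1 := by
    intro e
    refine hτ1 ?_
    have h1 : τ' = 1 := hext _ _ (inv_mul_eq_one.1 e).symm hτ'c hτ'v
    simpa [τ', mul_assoc] using congrArg (fun φ => g⁻¹ * φ * g) h1
  obtain ⟨k, hk⟩ := Subgroup.mem_zpowers_iff.1
    ((H.zpowers_eq hw hw1).symm ▸ Subgroup.inv_mem _ (Subgroup.mem_zpowers v) :
      v⁻¹ ∈ Subgroup.zpowers (z⁻¹ * τ' z))
  set σ := τ' ^ k
  have hσG : σ ∈ G := G.zpow_mem hτ'G k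
  let K : Subgroup (MulAut E) :=
    { carrier := {φ | φ v = v ∧ φ c = c}
      one_mem' := ⟨rfl, rfl⟩
      mul_mem' := fun {a b} ha hb => ⟨by rw [MulAut.mul_apply, hb.1, ha.1], by rw [MulAut.mul_apply, hb.2, ha.2]⟩
      inv_mem' := fun {a} ha => ⟨by conv_lhs => rw [← ha.1, MulAut.inv_apply_self],
        by conv_lhs => rw [← ha.2, MulAut.inv_apply_self]⟩ }
  obtain ⟨hσv, hσc⟩ : σ ∈ K := K.zpow_mem (⟨hτ'v, hτ'c⟩ : τ' ∈ K) k
  have hσz : σ z = z * v⁻¹ := by
    have hpow : ∀ j : ℕ, (τ' ^ j) z = z * (z⁻¹ * τ' z) ^ j := by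
      intro j
      induction j with
      | zero => simp
      | succ j ih =>
        have hτw : τ' (z⁻¹ * τ' z) = z⁻¹ * τ' z := by
          obtain ⟨i, hi⟩ := Subgroup.mem_zpowers_iff.1 hw
          rw [← hi, map_zpow, hτ'v]
        rw [pow_succ', MulAut.mul_apply, ih, map_mul, map_pow, hτw, pow_succ', ← mul_assoc,
          mul_inv_cancel_left]
    have hτp : τ' ^ p = 1 := hext _ _ (by
        rw [hpow p, H.exp, mul_one]; rfl) (K.pow_mem (⟨hτ'v, hτ'c⟩ : τ' ∈ K) p).2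
      (K.pow_mem (⟨hτ'v, hτ'c⟩ : τ' ∈ K) p).1
    have hkp : (0 : ℤ) ≤ k % p := Int.emod_nonneg _ (by exact_mod_cast hp.ne_zero)
    show (τ' ^ k) z = _
    rw [zpow_eq_zpow_emod' k hτp, ← Int.toNat_of_nonneg hkp, zpow_natCast, hpow,
      ← zpow_natCast (z⁻¹ * τ' z), Int.toNat_of_nonneg hkp, ← zpow_eq_zpow_emod' k (H.exp _), hk]
  have hτc : τ c = c := hfix c hcA
  have hτz : τ z = z := hfix z hzA
  have hτv : τ v = v * z := (mul_inv_cancel_left v (τ v)).symm
  set ω := τ * σ * τ with hω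
  have hωz : ω z = v⁻¹ := by
    show τ (σ (τ z)) = v⁻¹
    rw [hτz, hσz, map_mul, map_inv, hτz, hτv, mul_inv_rev, mul_inv_cancel_left]
  have hωv : ω v = z := by
    show τ (σ (τ v)) = z
    rw [hτv, map_mul, hσv, hσz, H.comm z v⁻¹, mul_inv_cancel_left, hτz]
  have hωc : ω c = c := by
    show τ (σ (τ c)) = c
    rw [hτc, hσc, hτc]
  have hωG : ω ∈ G := G.mul_mem (G.mul_mem (H.M_le (H.U_le hτ)) hσG) (H.M_le (H.U_le hτ))
  refine ⟨v, z, c, ω * ω, hvA, rfl, hz1, hzA, hcA, hcz, G.mul_mem hωG hωG, ?_, ?_, ?_, ?_⟩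
  · rw [MulAut.mul_apply, hωv, hωz]
  · rw [MulAut.mul_apply, hωz, map_inv, hωv]
  · rw [MulAut.mul_apply, hωc, hωc]
  · have d1 : (ω * ω) z = z⁻¹ := by rw [MulAut.mul_apply, hωz, map_inv, hωv]
    have d2 : (ω * ω) v = v⁻¹ := by rw [MulAut.mul_apply, hωv, hωz]
    have d3 : (ω * ω) c = c := by rw [MulAut.mul_apply, hωc, hωc]
    refine hext _ _ ?_ ?_ ?_
    · show (ω * ω) (τ z) = τ ((ω * ω) z)
      rw [hτz, d1, map_inv, hτz]
    · show (ω * ω) (τ c) = τ ((ω * ω) c)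
      rw [hτc, d3, hτc]
    · show (ω * ω) (τ v) = τ ((ω * ω) v)
      rw [hτv, map_mul (ω * ω), d1, d2, map_inv τ v, hτv]
      exact (H.comm _ _).trans (mul_inv_rev v z).symm

end Cube

end CfsgLib.Fusion.EssentialRankThree
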