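import Cfsg.Agent.Lib.Fusion.ConstrainedFactor
import Cfsg.Agent.Lib.FusionQuot.Product
import Cfsg.Agent.S5148
import Cfsg.Agent.S5153
import Cfsg.Agent.Lib.FusionConstrained.Basic
import Cfsg.Agent.S5256
import Cfsg.Agent.S5290
import Cfsg.Agent.S5342
import Cfsg.Prelude.Def_FusionFitting

/-!
Constrained systems have no components; the inner system of the core is a generalized Fitting
subsystem exactly when there is no component.
-/

set_option autoImplicit false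
open Cfsg Cfsg.FusionSystem CfsgLib.Fusion CfsgLib.FusionQuot

namespace CfsgLib.Fusion.FittingInner

variable {Ω : Type*} [Group Ω] {S : Subgroup Ω} {F : Cfsg.FusionSystem S} {p : ℕ}

theorem inner_isSubsystemOf {Q : Subgroup Ω} (hQ : Q ≤ S) :
    (Cfsg.innerFusionSystem Q).IsSubsystemOf F := by
  rintro P φ ⟨hP, g, hg, hv⟩
  exact mem_of_eq_conj (hP.trans hQ) (hQ hg) φ hv

theorem inner_isNormalIn [Finite S] [Fact p.Prime] (hS : IsPGroup p S) (hF : F.IsSaturated p)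
    {Q : Subgroup Ω} (hQ : F.IsNormal Q) : (Cfsg.innerFusionSystem Q).IsNormalIn F p := by
  refine ⟨(Cfsg.Agent.S5290.result p hS F hF Q hQ.1).1 hQ, fun α hα => ?_⟩
  obtain ⟨-, g, hg, hv⟩ := (mem_autGroup_iff_hom le_rfl).1 hα
  set W := Q ⊔ centralizerIn S Q
  have hgW : g ∈ W := Subgroup.mem_sup_left hg
  have hWS : W ≤ S := sup_le hQ.1 (centralizerIn_le S Q)
  refine ⟨conjAut W g (Subgroup.le_normalizer hgW), autInducedBy_le_autGroup F hWS
    (conjAut_mem_autInducedBy (hQ.1 hg) _), fun x => ?_, fun c hc => ?_⟩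
  · rw [conjAut_apply]
    exact (hv x).symm
  · rw [conjAut_apply, show g * (c : Ω) * g⁻¹ = c by
      rw [Subgroup.mem_centralizer_iff.1 hc.2 g hg, mul_inv_cancel_right], inv_mul_cancel]
    exact one_mem _

/-- A system whose maps are conjugations by elements of a `p`-group has trivial hyperfocal subgroup. -/
theorem hyperfocal_eq_bot [Finite S] [Fact p.Prime] {K : Subgroup Ω} [Finite K] (hK : IsPGroup p K)
    (h : ∀ (P : Subgroup Ω) (φ : P →* Ω), φ ∈ F.Hom P → ∃ g ∈ K, ∀ x : P, φ x = g * (x : Ω) * g⁻¹) :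
    F.hyperfocalSubgroup p = ⊥ := by
  rw [eq_bot_iff, Cfsg.FusionSystem.hyperfocalSubgroup, Subgroup.closure_le]
  rintro _ ⟨P, α, x, hP, hα, rfl⟩
  have hp : IsPGroup p (F.autGroup P) := by
    refine (isPGroup_autInducedBy hK P).to_le fun β hβ => ?_
    obtain ⟨g, hg, hv⟩ := h P _ ((mem_autGroup_iff_hom hP).1 hβ)
    exact mem_autInducedBy_iff.2 ⟨g, hg, hv⟩
  have : Finite P := finite_of_le hP
  have : Finite (MulAut P) := finite_mulAut
  have h1 : pResidual p (F.autGroup P) ≤ ⊥ := by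
    refine (Subgroup.closure_le _).2 fun a ha => Subgroup.mem_bot.2 ?_
    obtain ⟨k, hk⟩ := hp a
    exact orderOf_eq_one_iff.1 (Nat.eq_one_of_dvd_coprimes (Nat.Coprime.pow_right k ha) dvd_rfl
      (orderOf_dvd_of_pow_eq_one hk))
  rw [Subgroup.mem_bot.1 (h1 hα)]
  simp

theorem not_quasisimple_of_inner [Finite S] [Fact p.Prime] (hS : IsPGroup p S) {K : Subgroup Ω} [Finite K]
    (hK : IsPGroup p K)
    (h : ∀ (P : Subgroup Ω) (φ : P →* Ω), φ ∈ F.Hom P → ∃ g ∈ K, ∀ x : P, φ x = g * (x : Ω) * g⁻¹) :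
    ¬ F.Quasisimple p := by
  intro hq
  refine Cfsg.Agent.S5148.result p hS F hq ?_
  have hbot : S = ⊥ := hq.2.1.symm.trans (hyperfocal_eq_bot hK h)
  exact isMulCommutative_iff.2 fun a b => Subtype.ext (by
    rw [Subgroup.coe_mul, Subgroup.coe_mul, show (a : Ω) = 1 from Subgroup.mem_bot.1 (hbot.le a.2), one_mul, mul_one])

theorem not_quasisimple_of_constrained [Finite S] [Fact p.Prime] (hS : IsPGroup p S)
    (hF : F.IsConstrained p) : ¬ F.Quasisimple p := by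
  rintro ⟨hFs, hhyp, hsimp⟩
  have hsc : F.StronglyClosed F.center :=
    isNormal_stronglyClosed (CfsgLib.FusionConstrained.isNormal_of_isCentral (isCentral_center F))
  have := stronglyClosed_subgroupOf_normal hsc
  set θ := QuotientGroup.mk' ((F.center).subgroupOf S)
  obtain ⟨E, hE⟩ := exists_factorSystem_quotient F F.center hsc
  obtain ⟨hEs, hne, hEn⟩ := hsimp E hE
  have hV : IsPGroup p (⊤ : Subgroup (S ⧸ (F.center).subgroupOf S)) := (hS.to_quotient _).to_subgroup _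
  have : Finite (⊤ : Subgroup (S ⧸ (F.center).subgroupOf S)) := inferInstance
  obtain ⟨-, R, hR, hRc⟩ := isConstrained_factor_center hS hF le_rfl hsc hE
  rcases hEn R _ (inner_isNormalIn hV hEs hR) with rfl | ⟨rfl, hEeq⟩
  · refine hne (eq_bot_iff.2 fun x hx => ?_)
    exact centralizerIn_le_of_isCentric hRc ⟨hx, fun y hy => by simp [Subgroup.mem_bot.1 hy]⟩
  · refine hne ?_
    have h1 := Cfsg.Agent.S5256.result p hS F hFs F.center hsc θ E hE
    rw [hyperfocal_eq_bot hV fun P φ hφ => ((hEeq P).ge hφ).2, hhyp, Subgroup.subgroupOf_self,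
      Subgroup.map_top_of_surjective _ (QuotientGroup.mk'_surjective _)] at h1
    exact h1.symm

theorem not_component_of_constrained [Finite S] [Fact p.Prime] (hS : IsPGroup p S)
    (hF : F.IsConstrained p) {T : Subgroup Ω} (C : Cfsg.FusionSystem T) : ¬ C.IsComponentIn F p := by
  rintro ⟨hsub, hq⟩
  have hTS : T ≤ S := Cfsg.Agent.S5153.le_of_subnormal hsub
  have : Finite T := finite_of_le hTS
  exact not_quasisimple_of_constrained (hS.to_le hTS) (Cfsg.Agent.S5342.result p hS F hF C hsub) hq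

theorem inner_bot_isLayerOf [Finite S] [Fact p.Prime] (hS : IsPGroup p S) (hF : F.IsSaturated p)
    (hno : ∀ (U : Subgroup Ω) (C : Cfsg.FusionSystem U), ¬ C.IsComponentIn F p) :
    (Cfsg.innerFusionSystem (⊥ : Subgroup Ω)).IsLayerOf F p := by
  refine ⟨inner_isNormalIn hS hF (isNormal_bot F), fun U C hC => absurd hC (hno U C), ?_⟩
  rintro R D - - P φ ⟨hP, g, hg, hv⟩
  obtain rfl := Subgroup.mem_bot.1 hg
  exact mem_of_eq_conj (hP.trans bot_le) (one_mem R) φ hv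

theorem isProductSystem_inner (A B : Subgroup Ω) :
    IsProductSystem (Cfsg.innerFusionSystem A) (Cfsg.innerFusionSystem B) (Cfsg.innerFusionSystem (A.prod B)) := by
  intro P φ
  constructor
  · rintro ⟨hP, ⟨g, h⟩, ⟨hg, hh⟩, hv⟩
    refine ⟨hP, conjHom _ g, ⟨map_fst_le hP, g, hg, fun _ => rfl⟩, conjHom _ h,
      ⟨map_snd_le hP, h, hh, fun _ => rfl⟩, fun x h₁ h₂ => ?_⟩
    rw [hv]
    rfl
  · rintro ⟨hP, φ₁, ⟨-, g, hg, hv₁⟩, φ₂, ⟨-, h, hh, hv₂⟩, hv⟩
    refine ⟨hP, (g, h), ⟨hg, hh⟩, fun x => ?_⟩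
    rw [hv x (mem_fst_map x) (mem_snd_map x), hv₁, hv₂]
    rfl

theorem isCentralProduct_inner_bot (K : Subgroup Ω) :
    IsCentralProductOf (Cfsg.innerFusionSystem K) (Cfsg.innerFusionSystem (⊥ : Subgroup Ω))
      (Cfsg.innerFusionSystem K) := by
  let θ : ↥(K.prod (⊥ : Subgroup Ω)) →* Ω := (MonoidHom.fst Ω Ω).comp (K.prod ⊥).subtype
  refine ⟨_, isProductSystem_inner K ⊥, ⊥, θ, bot_le, by simp, by simp, fun x hx => rfl,
    fun y hy => (Subgroup.mem_bot.1 (Subgroup.mem_prod.1 hy).2).symm, bot_le, fun s => ?_, ?_, fun P' φ' => ?_⟩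
  · refine ⟨fun h => Subgroup.mem_bot.2 (Prod.ext h (Subgroup.mem_bot.1 (Subgroup.mem_prod.1 s.2).2)), fun h => ?_⟩
    show (s : Ω × Ω).1 = 1
    rw [Subgroup.mem_bot.1 h]
    rfl
  · ext a
    exact ⟨fun ⟨s, hs⟩ => hs ▸ (Subgroup.mem_prod.1 s.2).1, fun ha =>
      ⟨⟨(a, 1), Subgroup.mem_prod.2 ⟨ha, one_mem _⟩⟩, rfl⟩⟩
  · constructor
    · rintro ⟨hP, g, hg, hv⟩
      have hgS : ((g, 1) : Ω × Ω) ∈ K.prod ⊥ := Subgroup.mem_prod.2 ⟨hg, one_mem _⟩
      have hle := preimageAlong_le (α := θ) P'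
      refine ⟨hP, conjHom _ ((g, 1) : Ω × Ω), ⟨hle, _, hgS, fun _ => rfl⟩, hle,
        fun x => (K.prod ⊥).mul_mem ((K.prod ⊥).mul_mem hgS (hle x.2)) ((K.prod ⊥).inv_mem hgS),
        fun x => (mem_preimageAlong.1 x.2).2, fun x => ?_⟩
      rw [hv]
      rfl
    · rintro ⟨hP, φ, ⟨hle, ⟨g, h⟩, hgh, hv⟩, h1, h2, h3, h4⟩
      refine ⟨hP, g, (Subgroup.mem_prod.1 hgh).1, fun y => ?_⟩
      have hy : ((y : Ω), (1 : Ω)) ∈ preimageAlong θ P' :=
        mem_preimageAlong.2 ⟨Subgroup.mem_prod.2 ⟨hP y.2, one_mem _⟩, y.2⟩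
      refine (h4 ⟨_, hy⟩).trans ?_
      show (φ ⟨_, hy⟩).1 = _
      rw [hv]
      rfl

theorem hom_le_of_centralProduct {K T : Subgroup Ω} {E : Cfsg.FusionSystem T} [Finite K] [Finite T]
    (hD : IsCentralProductOf (Cfsg.innerFusionSystem K) E (Cfsg.innerFusionSystem K))
    (P : Subgroup Ω) (φ : P →* Ω) (hφ : φ ∈ E.Hom P) : ∃ g ∈ K, ∀ x : P, φ x = g * (x : Ω) * g⁻¹ := by
  obtain ⟨D₀, hD₀, Z, θ, hZ, -, -, hθ1, hθ2, hZS, hker, hrange, hfac⟩ := hD
  have hPT : P ≤ T := dom_le hφ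
  have hPK : P ≤ K := fun y hy => by
    rw [← hrange]
    exact ⟨⟨(1, y), Subgroup.mem_prod.2 ⟨one_mem _, hPT hy⟩⟩, hθ2 y _⟩
  set W := (⊥ : Subgroup Ω).prod P
  have hWS : W ≤ K.prod T := Subgroup.prod_mono bot_le hPT
  have hm : ∀ w : W, ((w : Ω × Ω).2 : Ω) ∈ P := fun w => (Subgroup.mem_prod.1 w.2).2
  let ψ : W →* Ω × Ω := MonoidHom.mk' (fun w => (1, φ ⟨_, hm w⟩)) fun a b => by
    refine Prod.ext (one_mul 1).symm ?_
    show φ ⟨_, hm (a * b)⟩ = φ ⟨_, hm a⟩ * φ ⟨_, hm b⟩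
    rw [← map_mul]
    rfl
  have hψ : ψ ∈ D₀.Hom W := by
    refine (hD₀ W ψ).2 ⟨hWS, conjHom _ 1, ⟨map_fst_le hWS, 1, one_mem _, fun _ => rfl⟩, ?_⟩
    have hle : W.map (MonoidHom.snd Ω Ω) ≤ P := by
      rintro _ ⟨w, hw, rfl⟩
      exact (Subgroup.mem_prod.1 hw).2
    refine ⟨φ.comp (Subgroup.inclusion hle), restrict_mem hφ hle, fun x h₁ h₂ => ?_⟩
    refine Prod.ext ?_ rfl
    show (1 : Ω) = 1 * (x : Ω × Ω).1 * 1⁻¹
    rw [Subgroup.mem_bot.1 (Subgroup.mem_prod.1 x.2).1]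
    simp
  have : Finite ↥(K.prod T) := Finite.of_equiv _ (Subgroup.prodEquiv K T).symm.toEquiv
  obtain ⟨χ, hχ, hag, hfixc⟩ := (isCentral_center D₀).2 W ψ hψ
  have hpre : preimageAlong θ P ≤ W ⊔ D₀.center := by
    intro s hs
    obtain ⟨hsS, hsP⟩ := mem_preimageAlong.1 hs
    set y := θ ⟨s, hsS⟩ with hy
    have hyW : ((1 : Ω), y) ∈ W := Subgroup.mem_prod.2 ⟨one_mem _, hsP⟩
    have h1 : θ ((⟨(1, y), hWS hyW⟩ : ↥(K.prod T))⁻¹ * ⟨s, hsS⟩) = 1 := by
      rw [map_mul, map_inv, hθ2, ← hy, inv_mul_cancel]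
    have h2 := hZ ((hker _).1 h1)
    have := mul_mem (Subgroup.mem_sup_left hyW : ((1 : Ω), y) ∈ W ⊔ D₀.center) (Subgroup.mem_sup_right h2)
    have e : s = ((1 : Ω), y) * (((1 : Ω), y)⁻¹ * s) := (mul_inv_cancel_left _ _).symm
    rw [e]
    exact this
  have hσ : χ.comp (Subgroup.inclusion hpre) ∈ D₀.Hom (preimageAlong θ P) := restrict_mem hχ hpre
  have hval : ∀ x : preimageAlong θ P, (χ (Subgroup.inclusion hpre x)) ∈ K.prod T := fun x => map_mem hσ x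
  have hmem : φ ∈ (Cfsg.innerFusionSystem K).Hom P := by
    refine (hfac P φ).2 ⟨hPK, _, hσ, preimageAlong_le P, hval, fun x => (mem_preimageAlong.1 x.2).2, fun s => ?_⟩
    set y := θ ⟨s, preimageAlong_le P s.2⟩ with hy
    have hyP : y ∈ P := (mem_preimageAlong.1 s.2).2
    have hyW : ((1 : Ω), y) ∈ W := Subgroup.mem_prod.2 ⟨one_mem _, hyP⟩
    have h1 : θ ((⟨(1, y), hWS hyW⟩ : ↥(K.prod T))⁻¹ * ⟨s, preimageAlong_le P s.2⟩) = 1 := by
      rw [map_mul, map_inv, hθ2, ← hy, inv_mul_cancel]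
    have h2 := hZ ((hker _).1 h1)
    have hdec : (Subgroup.inclusion hpre s) = Subgroup.inclusion le_sup_left (⟨_, hyW⟩ : W) *
        Subgroup.inclusion le_sup_right (⟨_, h2⟩ : D₀.center) := Subtype.ext (mul_inv_cancel_left _ _).symm
    have hval' : (⟨χ (Subgroup.inclusion hpre s), hval s⟩ : ↥(K.prod T)) =
        ⟨(1, φ ⟨y, hyP⟩), Subgroup.mem_prod.2 ⟨one_mem _, map_mem hφ _⟩⟩ *
          ((⟨(1, y), hWS hyW⟩ : ↥(K.prod T))⁻¹ * ⟨s, preimageAlong_le P s.2⟩) := Subtype.ext (by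
      show χ (Subgroup.inclusion hpre s) = _
      rw [hdec, map_mul, hag, hfixc]
      rfl)
    show φ ⟨y, _⟩ = θ ⟨χ (Subgroup.inclusion hpre s), _⟩
    rw [hval', map_mul, h1, mul_one, hθ2]
  exact hmem.2

theorem inner_core_isGeneralizedFitting_iff [Finite S] [Fact p.Prime] (hS : IsPGroup p S)
    (hF : F.IsSaturated p) :
    (Cfsg.innerFusionSystem F.core).IsGeneralizedFittingOf F p ↔
      ¬ ∃ (T : Subgroup Ω) (C : Cfsg.FusionSystem T), C.IsComponentIn F p := by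
  refine ⟨?_, fun h => ⟨⊥, _, inner_bot_isLayerOf hS hF fun U C hC => h ⟨U, C, hC⟩,
    isCentralProduct_inner_bot _⟩⟩
  rintro ⟨T, E, hE, hD⟩ ⟨U, C, hC⟩
  have hTS : T ≤ S := hE.1.1.2.2.2.1.1
  have hUS : U ≤ S := Cfsg.Agent.S5153.le_of_subnormal hC.1
  have : Finite U := finite_of_le hUS
  have : Finite T := finite_of_le hTS
  have : Finite F.core := finite_of_le (core_le F)
  exact not_quasisimple_of_inner (hS.to_le hUS) (hS.to_le (core_le F))
    (fun P φ hφ => hom_le_of_centralProduct hD P φ (hE.2.1 U C hC P hφ)) hC.2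

end CfsgLib.Fusion.FittingInner
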