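import Mathlib.GroupTheory.Sylow
import Mathlib.GroupTheory.GroupAction.Quotient
import Mathlib.GroupTheory.Nilpotent
import Mathlib.Algebra.BigOperators.Group.Finset.Basic
import Mathlib.Data.Nat.Choose.Basic
import Mathlib.Tactic.Group

/-!
# Fixed points of quadratically generated weakly closed subgroups

For odd `p`, a finite group acting on a finite abelian `p`-group has the same fixed points as the
normalizer of the subgroup generated by the quadratically acting elements of a Sylow `p`-subgroup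
(Glauberman's norm argument).  Consequently a derivation vanishing on that normalizer vanishes.
-/

set_option autoImplicit false

namespace CfsgLib.FixedQuad

open MulAction

variable {G : Type*} [Group G] {V : Type*} [CommGroup V] (act : G →* MulAut V)

/-- `a` acts quadratically: it fixes every `a v / v`. -/
def IsQuad (a : G) : Prop := ∀ v : V, act a (act a v / v) = act a v / v

variable {act}

theorem act_act (g h : G) (v : V) : act g (act h v) = act (g * h) v := by
  rw [map_mul]; rfl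

theorem act_one_apply (v : V) : act 1 v = v := by rw [map_one]; rfl

theorem act_inv_act (g : G) (v : V) : act g⁻¹ (act g v) = v := by
  rw [act_act, inv_mul_cancel, act_one_apply]

theorem IsQuad.conj {a : G} (ha : IsQuad act a) (g : G) : IsQuad act (g * a * g⁻¹) := by
  intro v
  have h := congrArg (act g) (ha (act g⁻¹ v))
  simp only [map_div, act_act] at h ⊢
  simpa [mul_assoc] using h

/-- Powers of a quadratic element. -/
theorem IsQuad.pow_apply {a : G} (ha : IsQuad act a) (v : V) (i : ℕ) :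
    act (a ^ i) v = v * (act a v / v) ^ i := by
  induction i with
  | zero => simp [act_one_apply]
  | succ i ih =>
    rw [pow_succ', ← act_act, ih, map_mul, map_pow, ha v, pow_succ', ← mul_assoc]
    simp

/-- The product of the first `L` translates. -/
theorem IsQuad.prod_pow_apply {a : G} (ha : IsQuad act a) (v : V) (L : ℕ) :
    ∏ i ∈ Finset.range L, act (a ^ i) v = v ^ L * (act a v / v) ^ L.choose 2 := by
  induction L with
  | zero => simp
  | succ L ih =>
    have hch : (L + 1).choose 2 = L + L.choose 2 := by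
      rw [Nat.choose_succ_succ' L 1, Nat.choose_one_right]
    rw [Finset.prod_range_succ, ih, ha.pow_apply v L, hch, pow_add (act a v / v) L (L.choose 2),
      pow_succ v L, mul_mul_mul_comm, mul_comm ((act a v / v) ^ L.choose 2)]

theorem dvd_choose_two {p L : ℕ} [Fact p.Prime] (hp : p ≠ 2) (hL : p ∣ L) : p ∣ L.choose 2 := by
  have h : 2 * L.choose 2 = L * (L - 1) := by
    rw [Nat.choose_two_right, Nat.mul_div_cancel' (Nat.even_mul_pred_self L).two_dvd]
  have hco : Nat.Coprime p 2 := (Nat.coprime_primes (Fact.out : p.Prime) Nat.prime_two).2 hp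
  exact hco.dvd_of_dvd_mul_left (h ▸ hL.mul_right (L - 1))

/-- The product over a family of a `J`-invariant finite set, all of whose points are moved by `J`, of
an equivariant function with constant `p`-th power `e` is a power of `e`. -/
theorem prod_moved_mem {p : ℕ} [Fact p.Prime] (hp : p ≠ 2) {X : Type*} [Finite X] [MulAction G X]
    (J : Subgroup G) [Finite J] (hJp : IsPGroup p J) (Qs : Set G) (hgen : J = Subgroup.closure Qs)
    (hQ : ∀ a ∈ Qs, IsQuad act a) (φ : X → V) (e : V)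
    (hφ : ∀ j ∈ J, ∀ c, φ (j • c) = act j (φ c)) (he : ∀ c, φ c ^ p = e) (s : Finset X)
    (hs : ∀ j ∈ J, ∀ c ∈ s, j • c ∈ s) (hmove : ∀ c ∈ s, ∃ j ∈ J, j • c ≠ c) :
    ∏ c ∈ s, φ c ∈ Subgroup.zpowers e := by
  classical
  induction s using Finset.strongInduction with
  | _ s ih =>
  rcases s.eq_empty_or_nonempty with rfl | ⟨c, hc⟩
  · simp
  have hO : (MulAction.orbit J c) ⊆ (s : Set X) := by
    rintro _ ⟨j, rfl⟩
    exact hs j j.2 c hc
  haveI : Fintype (MulAction.orbit J c) := Fintype.ofFinite _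
  set O : Finset X := (MulAction.orbit J c).toFinset with hOdef
  have hmem : ∀ d, d ∈ O ↔ ∃ j ∈ J, j • c = d := by
    intro d
    rw [hOdef, Set.mem_toFinset]
    exact ⟨fun ⟨j, h⟩ => ⟨j, j.2, h⟩, fun ⟨j, hj, h⟩ => ⟨⟨j, hj⟩, h⟩⟩
  have hOs : O ⊆ s := fun d hd => hO (Set.mem_toFinset.1 hd)
  have hcO : c ∈ O := (hmem c).2 ⟨1, one_mem J, one_smul _ _⟩
  have hOinv : ∀ j ∈ J, ∀ d ∈ O, j • d ∈ O := by
    intro j hj d hd
    obtain ⟨k, hk, rfl⟩ := (hmem d).1 hd
    exact (hmem _).2 ⟨j * k, mul_mem hj hk, mul_smul j k c⟩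
  rw [← Finset.prod_sdiff hOs]
  refine mul_mem (ih (s \ O) ?_ ?_ fun d hd => hmove d (Finset.mem_sdiff.1 hd).1) ?_
  · exact ⟨Finset.sdiff_subset, fun h => (Finset.mem_sdiff.1 (h hc)).2 hcO⟩
  · intro j hj d hd
    rw [Finset.mem_sdiff] at hd ⊢
    refine ⟨hs j hj d hd.1, fun h => hd.2 ?_⟩
    have := hOinv j⁻¹ (inv_mem hj) _ h
    rwa [inv_smul_smul] at this
  -- the orbit
  let W : Subgroup J := MulAction.stabilizer J c
  have hW : W ≠ ⊤ := by
    intro h
    obtain ⟨j, hj, hjc⟩ := hmove c hc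
    exact hjc ((MulAction.mem_stabilizer_iff).1 (h ▸ Subgroup.mem_top (⟨j, hj⟩ : J) :))
  obtain ⟨M, hM, hWM⟩ := (eq_top_or_exists_le_coatom W).resolve_left hW
  haveI : Group.IsNilpotent J := hJp.isNilpotent
  haveI hMn : M.Normal :=
    Subgroup.NormalizerCondition.normal_of_coatom M Group.normalizerCondition_of_isNilpotent hM
  obtain ⟨a₀, ha₀, ha₀M⟩ : ∃ a : J, (a : G) ∈ Qs ∧ a ∉ M := by
    by_contra h
    push Not at h
    refine hM.1 (top_unique fun j _ => ?_)
    have hle : J ≤ M.map J.subtype := by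
      conv_lhs => rw [hgen]
      refine (Subgroup.closure_le _).2 fun x hx => ?_
      have hxJ : x ∈ J := hgen ▸ Subgroup.subset_closure hx
      exact ⟨⟨x, hxJ⟩, h ⟨x, hxJ⟩ hx, rfl⟩
    obtain ⟨k, hk, hkj⟩ := hle j.2
    rwa [← Subtype.ext hkj]
  let q : J ⧸ M := QuotientGroup.mk a₀
  set L := orderOf q with hL
  have hqp : IsPGroup p (J ⧸ M) := hJp.to_quotient M
  have hpL : p ∣ L := by
    obtain ⟨k, hk⟩ := (IsPGroup.iff_orderOf.1 hqp) q
    rw [hL, hk]
    rcases Nat.eq_zero_or_pos k with rfl | hkpos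
    · exfalso
      exact ha₀M ((QuotientGroup.eq_one_iff _).1 (orderOf_eq_one_iff.1 (hk.trans (pow_zero p))))
    · exact dvd_pow_self p hkpos.ne'
  have htop : M ⊔ Subgroup.zpowers a₀ = ⊤ :=
    hM.2 _ (lt_of_le_of_ne le_sup_left fun h =>
      ha₀M (h ▸ Subgroup.mem_sup_right (Subgroup.mem_zpowers a₀)))
  -- the base block
  haveI : Fintype (MulAction.orbit M c) := Fintype.ofFinite _
  set B₀ : Finset X := (MulAction.orbit M c).toFinset with hB₀
  have hmem₀ : ∀ d, d ∈ B₀ ↔ ∃ m : J, m ∈ M ∧ m • c = d := by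
    intro d
    rw [hB₀, Set.mem_toFinset]
    exact ⟨fun ⟨m, h⟩ => ⟨m, m.2, h⟩, fun ⟨m, hm, h⟩ => ⟨⟨m, hm⟩, h⟩⟩
  let f : ℕ × X → X := fun ib => (a₀ ^ ib.1) • ib.2
  have himg : O = (Finset.range L ×ˢ B₀).image f := by
    ext d
    rw [Finset.mem_image, hmem]
    constructor
    · rintro ⟨j, hj, rfl⟩
      obtain ⟨m, hm, z, hz, hmz⟩ :=
        (Subgroup.mem_sup_of_normal_left (s := M)).1 (htop ▸ Subgroup.mem_top (⟨j, hj⟩ : J))
      obtain ⟨i, hi, hiz⟩ : ∃ i < L, (z : J ⧸ M) = q ^ i := by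
        have : (z : J ⧸ M) ∈ Subgroup.zpowers q := by
          obtain ⟨k, rfl⟩ := hz
          exact ⟨k, (QuotientGroup.mk_zpow M a₀ k).symm⟩
        obtain ⟨i, hi⟩ := (mem_powers_iff_mem_zpowers).2 this
        exact ⟨i % L, Nat.mod_lt _ (orderOf_pos q), by rw [pow_mod_orderOf]; exact hi.symm⟩
      have hm' : (a₀ ^ i)⁻¹ * ⟨j, hj⟩ ∈ M := by
        rw [← QuotientGroup.eq, QuotientGroup.mk_pow, ← hmz, QuotientGroup.mk_mul,
          (QuotientGroup.eq_one_iff m).2 hm, one_mul, hiz]
      refine ⟨(i, ((a₀ ^ i)⁻¹ * ⟨j, hj⟩ : J) • c), ?_, ?_⟩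
      · exact Finset.mem_product.2 ⟨Finset.mem_range.2 hi, (hmem₀ _).2 ⟨_, hm', rfl⟩⟩
      · show (a₀ ^ i) • (((a₀ ^ i)⁻¹ * ⟨j, hj⟩ : J) • c) = j • c
        rw [← mul_smul, mul_inv_cancel_left]
        rfl
    · rintro ⟨⟨i, b⟩, hib, rfl⟩
      obtain ⟨m, -, rfl⟩ := (hmem₀ b).1 (Finset.mem_product.1 hib).2
      exact ⟨((a₀ ^ i * m : J) : G), (a₀ ^ i * m).2, mul_smul (a₀ ^ i) m c⟩
  have hinj : Set.InjOn f ↑(Finset.range L ×ˢ B₀) := by
    rintro ⟨i, b⟩ hib ⟨i', b'⟩ hib' h
    rw [Finset.mem_coe, Finset.mem_product] at hib hib'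
    obtain ⟨m, hm, rfl⟩ := (hmem₀ b).1 hib.2
    obtain ⟨m', hm', rfl⟩ := (hmem₀ b').1 hib'.2
    simp only [f] at h
    have hst : (a₀ ^ i' * m')⁻¹ * (a₀ ^ i * m) ∈ W := by
      rw [MulAction.mem_stabilizer_iff, mul_smul, mul_smul, h, ← mul_smul (a₀ ^ i'), inv_smul_smul]
    have h1 := QuotientGroup.eq.2 (hWM hst)
    rw [QuotientGroup.mk_mul, QuotientGroup.mk_mul, (QuotientGroup.eq_one_iff m).2 hm,
      (QuotientGroup.eq_one_iff m').2 hm', mul_one, mul_one, QuotientGroup.mk_pow,
      QuotientGroup.mk_pow] at h1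
    obtain rfl : i' = i := pow_injOn_Iio_orderOf (Finset.mem_range.1 hib'.1)
      (Finset.mem_range.1 hib.1) h1
    exact Prod.ext rfl (smul_left_cancel (a₀ ^ i') h)
  rw [himg, Finset.prod_image hinj, Finset.prod_product]
  set w := ∏ b ∈ B₀, φ b with hw
  have heq : ∀ i, ∏ b ∈ B₀, φ (f (i, b)) = act ((a₀ : G) ^ i) w := by
    intro i
    rw [hw, map_prod]
    refine Finset.prod_congr rfl fun b _ => ?_
    rw [← SubmonoidClass.coe_pow]
    exact hφ _ (a₀ ^ i).2 b
  rw [Finset.prod_congr rfl fun i _ => heq i, (hQ _ ha₀).prod_pow_apply]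
  have hwp : w ^ p ∈ Subgroup.zpowers e := by
    rw [hw, ← Finset.prod_pow]
    exact prod_mem fun b _ => he b ▸ Subgroup.mem_zpowers _
  refine mul_mem ?_ ?_
  · obtain ⟨l, hl⟩ := hpL
    rw [hl, pow_mul]
    exact pow_mem hwp l
  · obtain ⟨l, hl⟩ := dvd_choose_two hp hpL
    have hfix : act (a₀ : G) (w ^ p) = w ^ p := by
      rw [hw, ← Finset.prod_pow, map_prod]
      refine Finset.prod_congr rfl fun b _ => ?_
      rw [map_pow, ← hφ _ a₀.2, he, he]
    rw [hl, pow_mul, div_pow, ← map_pow, hfix, div_self', one_pow]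
    exact one_mem _

/-- **Control of fixed points**: a point fixed by the normalizer of a subgroup generated by the
quadratic elements of a Sylow subgroup is fixed by the whole group. -/
theorem fixed_of_normalizer_fixed {p : ℕ} [Fact p.Prime] (hp : p ≠ 2) [Finite G]
    (S : Sylow p G) (Qs : Set G) (hQconj : ∀ a ∈ Qs, ∀ g : G, g * a * g⁻¹ ∈ Qs)
    (hQ : ∀ a ∈ Qs, IsQuad act a) (H : Subgroup G)
    (hH : Subgroup.normalizer (Subgroup.closure (Qs ∩ (S : Set G)) : Set G) ≤ H)
    (hV : ∀ v : V, ∃ k : ℕ, v ^ p ^ k = 1) :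
    ∀ d : V, (∀ h ∈ H, act h d = d) → ∀ g : G, act g d = d := by
  classical
  suffices ∀ (k : ℕ) (d : V), d ^ p ^ k = 1 → (∀ h ∈ H, act h d = d) → ∀ g : G, act g d = d from
    fun d hd => (hV d).elim fun k hk => this k d hk hd
  intro k
  induction k with
  | zero =>
    intro d hd _ g
    rw [pow_zero, pow_one] at hd
    rw [hd, map_one]
  | succ k ih =>
  intro d hd hdH g
  set J := Subgroup.closure (Qs ∩ (S : Set G)) with hJ
  have hJS : J ≤ (S : Subgroup G) := (Subgroup.closure_le _).2 fun x hx => hx.2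
  set N := Subgroup.normalizer (J : Set G) with hN
  have hdp : ∀ g : G, act g (d ^ p) = d ^ p :=
    ih (d ^ p) (by rw [← pow_mul, ← pow_succ']; exact hd) fun h hh => by rw [map_pow, hdH h hh]
  have hSN : (S : Subgroup G) ≤ N := by
    intro s hs
    rw [hN, Subgroup.mem_normalizer_iff]
    have hincl : ∀ t ∈ (S : Subgroup G), ∀ x ∈ J, t * x * t⁻¹ ∈ J := by
      intro t ht x hx
      have hmap : J.map (MulAut.conj t).toMonoidHom ≤ J := by
        rw [hJ, MonoidHom.map_closure]
        refine Subgroup.closure_mono ?_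
        rintro _ ⟨y, hy, rfl⟩
        exact ⟨hQconj y hy.1 t, mul_mem (mul_mem ht hy.2) (inv_mem ht)⟩
      exact hmap ⟨x, hx, rfl⟩
    refine fun x => ⟨hincl s hs x, fun h => ?_⟩
    have := hincl s⁻¹ (inv_mem hs) _ h
    simpa [mul_assoc] using this
  -- only the base coset is fixed by `J`
  have hbase : ∀ c : G ⧸ N, (∀ j ∈ J, j • c = c) → c = QuotientGroup.mk 1 := by
    intro c
    induction c using QuotientGroup.induction_on with
    | H x =>
    intro hx
    have hJN : ∀ j ∈ J, x⁻¹ * j * x ∈ N := by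
      intro j hj
      have h1 := QuotientGroup.eq.1 (hx j hj).symm
      simpa [mul_assoc] using h1
    set J' := J.map (MulAut.conj x⁻¹).toMonoidHom with hJ'
    have hJ'N : J' ≤ N := by
      rintro _ ⟨j, hj, rfl⟩
      simpa [mul_assoc] using hJN j hj
    have hp' : IsPGroup p (J'.subgroupOf N) :=
      ((S.isPGroup'.to_le hJS).map _).comap_subtype
    let T : Sylow p N := S.subtype hSN
    obtain ⟨T', hT'⟩ := hp'.exists_le_sylow
    obtain ⟨n, hn⟩ := MulAction.exists_smul_eq N T' T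
    have key : ∀ y ∈ J', (n : G) * y * (n : G)⁻¹ ∈ (S : Subgroup G) := by
      intro y hy
      have h1 : (⟨y, hJ'N hy⟩ : N) ∈ (T' : Subgroup N) := hT' hy
      have h2 : n * (⟨y, hJ'N hy⟩ : N) * n⁻¹ ∈ ((n • T' : Sylow p N) : Subgroup N) := by
        rw [Sylow.coe_subgroup_smul]
        exact ⟨_, h1, rfl⟩
      rw [hn] at h2
      exact h2
    have hle : J.map (MulAut.conj ((n : G) * x⁻¹)).toMonoidHom ≤ J := by
      conv_lhs => rw [hJ, MonoidHom.map_closure]
      refine Subgroup.closure_mono ?_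
      rintro _ ⟨y, hy, rfl⟩
      refine ⟨hQconj y hy.1 _, ?_⟩
      have := key _ ⟨y, Subgroup.subset_closure hy, rfl⟩
      show (n : G) * x⁻¹ * y * ((n : G) * x⁻¹)⁻¹ ∈ (S : Subgroup G)
      simpa [mul_assoc] using this
    have heq := Subgroup.eq_of_le_of_card_ge hle
      (le_of_eq (Subgroup.card_map_of_injective (MulAut.conj ((n : G) * x⁻¹)).injective).symm)
    have hmem : (n : G) * x⁻¹ ∈ N := by
      show (n : G) * x⁻¹ ∈ Subgroup.normalizer (J : Set G)
      rw [Subgroup.mem_normalizer_iff]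
      intro y
      refine ⟨fun hy => hle ⟨y, hy, rfl⟩, fun hy => ?_⟩
      rw [← heq] at hy
      obtain ⟨z, hz, hzy⟩ := hy
      rwa [← (MulAut.conj ((n : G) * x⁻¹)).injective hzy]
    have hxN : x ∈ N := by
      have := mul_mem (inv_mem hmem) n.2
      simpa using this
    exact QuotientGroup.eq.2 (by simpa using inv_mem hxN)
  haveI : Fintype (G ⧸ N) := Fintype.ofFinite _
  let φ : G ⧸ N → V := fun c => act c.out d
  have hφmk : ∀ x : G, φ (QuotientGroup.mk x) = act x d := by
    intro x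
    obtain ⟨n, hn⟩ := QuotientGroup.mk_out_eq_mul N x
    show act (QuotientGroup.mk x : G ⧸ N).out d = _
    rw [hn, ← act_act, hdH n (hH n.2)]
  have hφ : ∀ (j : G) (c : G ⧸ N), φ (j • c) = act j (φ c) := by
    intro j c
    induction c using QuotientGroup.induction_on with
    | H x =>
      rw [MulAction.Quotient.smul_mk, hφmk, hφmk, smul_eq_mul, act_act]
  set c₀ : G ⧸ N := QuotientGroup.mk 1
  have hτfix : ∀ g : G, act g (∏ c, φ c) = ∏ c, φ c := by
    intro g
    rw [map_prod]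
    exact Fintype.prod_equiv (MulAction.toPerm g) _ _ fun c => (hφ g c).symm
  have hc₀ : φ c₀ = d := by rw [hφmk, act_one_apply]
  have hjfix : ∀ j ∈ J, j • c₀ = c₀ := fun j hj => by
    rw [MulAction.Quotient.smul_mk, smul_eq_mul, mul_one]
    exact QuotientGroup.eq.2 (by simpa using inv_mem (hSN (hJS hj)))
  have hrest : ∏ c ∈ Finset.univ.erase c₀, φ c ∈ Subgroup.zpowers (d ^ p) := by
    refine prod_moved_mem hp J (S.isPGroup'.to_le hJS) (Qs ∩ (S : Set G)) hJ
      (fun a ha => hQ a ha.1) φ (d ^ p) (fun j _ c => hφ j c) ?_ _ ?_ ?_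
    · intro c
      induction c using QuotientGroup.induction_on with
      | H x => rw [hφmk, ← map_pow, hdp]
    · intro j hj c hc
      rw [Finset.mem_erase] at hc ⊢
      refine ⟨fun h => hc.1 ?_, Finset.mem_univ _⟩
      have := congrArg (fun z => j⁻¹ • z) h
      simpa [inv_smul_smul, hjfix _ (inv_mem hj)] using this
    · intro c hc
      by_contra h
      push Not at h
      exact (Finset.mem_erase.1 hc).1 (hbase c h)
  obtain ⟨m, hm⟩ := hrest
  have hτ : ∏ c, φ c = d * (d ^ p) ^ m := by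
    rw [← Finset.mul_prod_erase Finset.univ φ (Finset.mem_univ c₀), hc₀, ← hm]
  have := hτfix g
  rw [hτ, map_mul, map_zpow, hdp] at this
  exact mul_right_cancel this

/-- A derivation vanishing on the normalizer of the quadratically generated subgroup vanishes. -/
theorem derivation_eq_one {p : ℕ} [Fact p.Prime] (hp : p ≠ 2) [Finite G]
    (S : Sylow p G) (Qs : Set G) (hQconj : ∀ a ∈ Qs, ∀ g : G, g * a * g⁻¹ ∈ Qs)
    (hQ : ∀ a ∈ Qs, IsQuad act a) (H : Subgroup G) (hSH : (S : Subgroup G) ≤ H)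
    (hH : Subgroup.normalizer (Subgroup.closure (Qs ∩ (S : Set G)) : Set G) ≤ H)
    (hV : ∀ v : V, ∃ k : ℕ, v ^ p ^ k = 1) (f : G → V)
    (hf : ∀ g h, f (g * h) = f g * act g (f h)) (hfH : ∀ h ∈ H, f h = 1) (g : G) : f g = 1 := by
  classical
  haveI : Fintype (G ⧸ (S : Subgroup G)) := Fintype.ofFinite _
  have hfS : ∀ x, ∀ s ∈ (S : Subgroup G), f (x * s) = f x := fun x s hs => by
    rw [hf, hfH s (hSH hs), map_one, mul_one]
  let φ : G ⧸ (S : Subgroup G) → V := fun c => f c.out
  have hφ : ∀ x : G, φ (QuotientGroup.mk x) = f x := by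
    intro x
    obtain ⟨s, hs⟩ := QuotientGroup.mk_out_eq_mul (S : Subgroup G) x
    show f (QuotientGroup.mk x : G ⧸ (S : Subgroup G)).out = f x
    rw [hs, hfS x s s.2]
  set σ := ∏ c, φ c with hσ
  set n := Fintype.card (G ⧸ (S : Subgroup G)) with hn
  have key : ∀ g : G, σ = f g ^ n * act g σ := by
    intro g
    calc σ = ∏ c, φ (g • c) :=
          (Fintype.prod_equiv (MulAction.toPerm g) _ _ fun c => rfl).symm
      _ = ∏ c, f g * act g (φ c) := by
          refine Finset.prod_congr rfl fun c _ => ?_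
          induction c using QuotientGroup.induction_on with
          | H x => rw [MulAction.Quotient.smul_mk, hφ, hφ, smul_eq_mul, hf]
      _ = f g ^ n * act g σ := by
          rw [Finset.prod_mul_distrib, Finset.prod_const, Finset.card_univ, map_prod]
  have hσH : ∀ h ∈ H, act h σ = σ := fun h hh => by
    have := key h
    rw [hfH h hh, one_pow, one_mul] at this
    exact this.symm
  have hfix := fixed_of_normalizer_fixed hp S Qs hQconj hQ H hH hV σ hσH
  have h1 : f g ^ n = 1 := by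
    have h := key g
    rw [hfix g] at h
    exact (mul_eq_right.1 h.symm :)
  obtain ⟨k, hk⟩ := hV (f g)
  have hco : Nat.Coprime n (p ^ k) := by
    refine Nat.Coprime.pow_right _ ((Nat.Prime.coprime_iff_not_dvd Fact.out).2 ?_).symm
    rw [hn, ← Nat.card_eq_fintype_card]
    exact S.not_dvd_index
  exact orderOf_eq_one_iff.1 (Nat.eq_one_of_dvd_coprimes hco (orderOf_dvd_of_pow_eq_one h1)
    (orderOf_dvd_of_pow_eq_one hk))

end CfsgLib.FixedQuad
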