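import Cfsg.Agent.Lib.Fusion.Centralizer.Fix
import Cfsg.Agent.Lib.Fusion.PPrimeResidual

/-!
# Subsystems of index prime to `p` from characters of the automizer of a strongly closed subgroup

`E` is a weakly normal subsystem over `T`, and `χ` a character of `Aut_F(T)` into a group of order
prime to `p` killing `Aut_E(T)`.
-/

set_option autoImplicit false
set_option linter.unusedSectionVars false

namespace CfsgLib.Fusion.IndexChar

open Cfsg Cfsg.FusionSystem CfsgLib.Fusion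

universe u v

variable {Ω : Type u} [Group Ω] {S T P Q R : Subgroup Ω} {F : Cfsg.FusionSystem S}
  {E : Cfsg.FusionSystem T} {p : ℕ} {Δ : Type v} [Group Δ] {χ : ↥(F.autGroup T) →* Δ}

/-- The hypotheses. -/
structure Setup (E : Cfsg.FusionSystem T) (F : Cfsg.FusionSystem S) (p : ℕ)
    (χ : ↥(F.autGroup T) →* Δ) : Prop where
  pgroup : IsPGroup p S
  satF : F.IsSaturated p
  satE : E.IsSaturated p
  inv : E.IsInvariantIn F
  cop : (Nat.card Δ).Coprime p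
  ker : (E.autGroup T).subgroupOf (F.autGroup T) ≤ χ.ker

/-- The map is an automorphism of value `d` after a map of `E`. -/
def Val0 (E : Cfsg.FusionSystem T) (χ : ↥(F.autGroup T) →* Δ) (φ : R →* Ω) (d : Δ) : Prop :=
  ∃ α : F.autGroup T, χ α = d ∧ ∃ φ₀ ∈ E.Hom R, ∀ (x : R) (hx : φ₀ x ∈ T),
    φ x = (((α : MulAut T) ⟨φ₀ x, hx⟩ : T) : Ω)

/-- The value of the restriction to `T`. -/
def Val (E : Cfsg.FusionSystem T) (χ : ↥(F.autGroup T) →* Δ) (φ : P →* Ω) (d : Δ) : Prop :=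
  Val0 E χ (φ.comp (Subgroup.inclusion (inf_le_left : P ⊓ T ≤ P))) d

/-- Centric, with intersection with `T` centric in `E`. -/
def Good (E : Cfsg.FusionSystem T) (F : Cfsg.FusionSystem S) (P : Subgroup Ω) : Prop :=
  F.IsCentric P ∧ E.IsCentric (P ⊓ T)

theorem isCentric_conj (hs : Setup E F p χ) (hR : E.IsCentric R) {φ : R →* Ω} (hφ : φ ∈ F.Hom R) :
    E.IsCentric φ.range := by
  refine ⟨?_, ?_⟩
  · rintro _ ⟨x, rfl⟩
    exact stronglyClosed_apply_mem hs.inv.2.1 hφ x (hR.1 x.2)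
  · rintro Q ⟨ψ, hψ, rfl⟩
    have hm : ∀ x, φ x ∈ φ.range := fun x => ⟨x, rfl⟩
    have h1 := F.comp_mem hφ (hs.inv.1 _ hψ) hm
    have h2 := CenSub.centralizerIn_le_of_conj hs.inv hR h1
    rwa [show (ψ.comp (φ.codRestrict φ.range hm)).range = ψ.range by
      ext y
      constructor
      · rintro ⟨x, rfl⟩; exact ⟨_, rfl⟩
      · rintro ⟨⟨_, x, rfl⟩, rfl⟩; exact ⟨x, rfl⟩] at h2

theorem exists_val0 (hs : Setup E F p χ) (hR : R ≤ T) {φ : R →* Ω} (hφ : φ ∈ F.Hom R) :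
    ∃ d, Val0 E χ φ d := by
  obtain ⟨α, hα, φ₀, hφ₀, hx⟩ := hs.inv.2.2.2 R hR φ hφ
  exact ⟨χ ⟨α, hα⟩, ⟨α, hα⟩, rfl, φ₀, hφ₀, hx⟩

theorem exists_val (hs : Setup E F p χ) {φ : P →* Ω} (hφ : φ ∈ F.Hom P) : ∃ d, Val E χ φ d :=
  exists_val0 hs inf_le_right (restrict_mem hφ inf_le_left)

theorem val0_comp (hinv : IsAutInvariant E F) {φ : P →* Ω} {ψ : Q →* Ω} {d e : Δ}
    (hφQ : ∀ x, φ x ∈ Q) (f : P →* Ω) (hf : ∀ x, f x = ψ ⟨φ x, hφQ x⟩)
    (h₁ : Val0 E χ φ d) (h₂ : Val0 E χ ψ e) : Val0 E χ f (e * d) := by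
  obtain ⟨a, rfl, φ₀, hφ₀, hφx⟩ := h₁
  obtain ⟨b, rfl, ψ₀, hψ₀, hψx⟩ := h₂
  obtain ⟨η, hη, hηx⟩ := autInvariant_conj hinv hψ₀ (inv_mem a.2)
  have hm : ∀ x, φ₀ x ∈ (Q.subgroupOf T).map (T.subtype.comp ((a : MulAut T)⁻¹).toMonoidHom) := by
    intro x
    rw [autImage_eq _ (dom_le hψ₀)]
    refine ⟨⟨φ x, hφQ x⟩, ?_⟩
    have h1 : (⟨φ x, dom_le hψ₀ (hφQ x)⟩ : T) = (a : MulAut T) ⟨φ₀ x, map_mem hφ₀ x⟩ :=
      Subtype.ext (hφx x (map_mem hφ₀ x))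
    rw [h1, MulAut.inv_apply_self]
  refine ⟨b * a, map_mul χ b a, _, E.comp_mem hφ₀ hη hm, fun x hx => ?_⟩
  rw [hf x, hψx ⟨φ x, hφQ x⟩ (map_mem hψ₀ _)]
  show _ = (((b : MulAut T) ((a : MulAut T) ⟨_, hx⟩) : T) : Ω)
  congr 2
  have h1 : (((a : MulAut T)⁻¹ ⟨φ x, dom_le hψ₀ (hφQ x)⟩ : T) : Ω) = φ₀ x := by
    have h2 : (⟨φ x, dom_le hψ₀ (hφQ x)⟩ : T) = (a : MulAut T) ⟨φ₀ x, map_mem hφ₀ x⟩ :=
      Subtype.ext (hφx x (map_mem hφ₀ x))
    rw [h2, MulAut.inv_apply_self]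
  have h3 := hηx ⟨φ x, hφQ x⟩ (h1.symm ▸ hm x)
  have h4 : (⟨η ⟨φ₀ x, hm x⟩, map_mem hη _⟩ : T) =
      (a : MulAut T)⁻¹ ⟨ψ₀ ⟨φ x, hφQ x⟩, map_mem hψ₀ _⟩ := by
    refine Subtype.ext (Eq.trans ?_ h3)
    exact congrArg η (Subtype.ext h1.symm)
  have h5 : (⟨_, hx⟩ : T) = ⟨η ⟨φ₀ x, hm x⟩, map_mem hη _⟩ := rfl
  rw [h5, h4, MulAut.apply_inv_self]

theorem val_comp (hs : Setup E F p χ) {φ : P →* Ω} {ψ : Q →* Ω} {d e : Δ} (hφ : φ ∈ F.Hom P)
    (hφQ : ∀ x, φ x ∈ Q) (f : P →* Ω) (hf : ∀ x, f x = ψ ⟨φ x, hφQ x⟩)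
    (h₁ : Val E χ φ d) (h₂ : Val E χ ψ e) : Val E χ f (e * d) :=
  val0_comp (P := P ⊓ T) (Q := Q ⊓ T) (φ := φ.comp (Subgroup.inclusion inf_le_left))
    (ψ := ψ.comp (Subgroup.inclusion inf_le_left)) hs.inv.2.2.1
    (fun x : ↥(P ⊓ T) => Subgroup.mem_inf.2
      ⟨hφQ _, stronglyClosed_apply_mem hs.inv.2.1 hφ _ (Subgroup.mem_inf.1 x.2).2⟩)
    _ (fun x => hf _) h₁ h₂

theorem val0_subtype (hR : R ≤ T) : Val0 E χ R.subtype 1 :=
  ⟨1, map_one χ, R.subtype, subtype_mem E hR, fun _ _ => rfl⟩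

theorem eq_one_of_pow (hs : Setup E F p χ) [Finite Δ] {d : Δ} {k : ℕ} (h : d ^ p ^ k = 1) : d = 1 :=
  orderOf_eq_one_iff.1 (Nat.eq_one_of_dvd_coprimes (hs.cop.pow_right k) (orderOf_dvd_natCard d)
    (orderOf_dvd_of_pow_eq_one h))

/-- An automorphism of `T` agreeing on a centric subgroup of `E` with a map of `E` has trivial value. -/
theorem kill [Finite S] [Fact p.Prime] [Finite Δ] (hs : Setup E F p χ) :
    ∀ (R : Subgroup Ω), E.IsCentric R → ∀ (α : F.autGroup T), ∀ e ∈ E.Hom R,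
      (∀ (x : R) (hx : (x : Ω) ∈ T), e x = (((α : MulAut T) ⟨x, hx⟩ : T) : Ω)) → χ α = 1 := by
  have hTS : T ≤ S := hs.inv.2.1.1
  have : Finite T := finite_of_le hTS
  have hTp := hs.pgroup.to_le hTS
  intro R
  induction hn : Nat.card S - Nat.card R using Nat.strong_induction_on generalizing R with
  | _ n ih =>
  intro hR α e he hex
  rcases hR.1.eq_or_lt with rfl | hlt
  · refine hs.ker ?_
    show (α : MulAut R) ∈ E.autGroup R
    refine (mem_autGroup_iff_hom le_rfl).2 ?_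
    rwa [show R.subtype.comp (α : MulAut R).toMonoidHom = e from MonoidHom.ext fun x => (hex x x.2).symm]
  set N := normalizerIn T R with hNdef
  have hRN : R < N := lt_normalizerIn hTp hlt
  have hNT : N ≤ T := normalizerIn_le T R
  have hNS : N ≤ S := hNT.trans hTS
  have : Finite N := finite_of_le hNS
  have : Finite (MulAut N) := finite_mulAut
  have hNc : E.IsCentric N := isCentric_mono hR hRN.le hNT
  have hcard : ∀ M : Subgroup Ω, E.IsCentric M → Nat.card N ≤ Nat.card M →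
      ∀ (β : F.autGroup T), ∀ f ∈ E.Hom M,
        (∀ (x : M) (hx : (x : Ω) ∈ T), f x = (((β : MulAut T) ⟨x, hx⟩ : T) : Ω)) → χ β = 1 := by
    intro M hM hle
    have h1 := Descent.card_lt_card_of_lt hNS hRN
    have h2 := Descent.card_le_of_le (hM.1.trans hTS)
    exact ih (Nat.card S - Nat.card M) (by omega) M rfl hM
  have hR₁ : E.IsCentric e.range := isCentric_of_isConj hR (isConj_of_mem he)
  obtain ⟨ψ₀, hψ₀, hag⟩ := (isReceptive_of_isCentric hTp hs.satE hR₁).2 R e he rfl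
  have hNx : N ≤ extender T R e := fun g hg => mem_extender_iff.2 ⟨hg.1, hg.2,
    (((α : MulAut T) ⟨g, hg.1⟩ : T) : Ω), ((α : MulAut T) ⟨g, hg.1⟩).2, fun x hx => by
      rw [hex ⟨_, hx⟩ (hR.1 hx), hex x (hR.1 x.2)]
      rw [show (⟨g * (x : Ω) * g⁻¹, hR.1 hx⟩ : T) = ⟨g, hg.1⟩ * ⟨x, hR.1 x.2⟩ * ⟨g, hg.1⟩⁻¹ from
        Subtype.ext rfl, map_mul, map_mul, map_inv]
      rfl⟩
  set ψ := ψ₀.comp (Subgroup.inclusion hNx) with hψdef
  have hψ : ψ ∈ E.Hom N := restrict_mem hψ₀ hNx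
  have hψR : ∀ x : R, ψ ⟨x, hRN.le x.2⟩ = (((α : MulAut T) ⟨x, hR.1 x.2⟩ : T) : Ω) := fun x =>
    (hag x x.2 (hNx (hRN.le x.2))).trans (hex x _)
  set aN := (T.subtype.comp (α : MulAut T).toMonoidHom).comp (Subgroup.inclusion hNT) with haN
  have haNm : aN ∈ F.Hom N := restrict_mem ((mem_autGroup_iff_hom hTS).1 α.2) hNT
  -- `ψ` differs from `α` inside `R`
  have hdiff : ∀ n : N, ∃ r : R, ψ n = (((α : MulAut T) (⟨n, hNT n.2⟩ * ⟨r, hR.1 r.2⟩) : T) : Ω) := by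
    intro n
    set z := ((α : MulAut T) ⟨n, hNT n.2⟩)⁻¹ * ⟨ψ n, map_mem hψ n⟩ with hz
    have hzC : (z : Ω) ∈ centralizerIn T e.range := by
      refine ⟨z.2, Subgroup.mem_centralizer_iff.2 ?_⟩
      rintro _ ⟨x, rfl⟩
      have hx' : (n : Ω) * x * (n : Ω)⁻¹ ∈ R := conj_mem_of_mem_normalizer n.2.2 x.2
      have h1 := hψR ⟨_, hx'⟩
      have h2 : (⟨(n : Ω) * x * (n : Ω)⁻¹, hRN.le hx'⟩ : N) = n * ⟨x, hRN.le x.2⟩ * n⁻¹ :=
        Subtype.ext rfl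
      rw [h2, map_mul, map_mul, map_inv, hψR x] at h1
      rw [show (⟨(n : Ω) * x * (n : Ω)⁻¹, hR.1 hx'⟩ : T) =
        ⟨n, hNT n.2⟩ * ⟨x, hR.1 x.2⟩ * ⟨n, hNT n.2⟩⁻¹ from Subtype.ext rfl, map_mul, map_mul,
        map_inv] at h1
      simp only [Subgroup.coe_mul, InvMemClass.coe_inv] at h1
      rw [hex x (hR.1 x.2)]
      show _ * ((((α : MulAut T) ⟨n, hNT n.2⟩ : T) : Ω)⁻¹ * ψ n) =
        (((α : MulAut T) ⟨n, hNT n.2⟩ : T) : Ω)⁻¹ * ψ n * _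
      rw [mul_inv_eq_iff_eq_mul] at h1
      rw [mul_assoc _ (ψ n), h1]
      group
    obtain ⟨r, hr⟩ := hR.2 e.range (isConj_of_mem he) hzC
    refine ⟨r, ?_⟩
    rw [map_mul]
    show _ = (((α : MulAut T) ⟨n, hNT n.2⟩ : T) : Ω) * (((α : MulAut T) ⟨r, hR.1 r.2⟩ : T) : Ω)
    rw [← hex r, hr, hz]
    simp
  have hψm : ∀ n, ψ n ∈ aN.range := fun n => by
    obtain ⟨r, hr⟩ := hdiff n
    refine ⟨(n * ⟨(r : Ω), hRN.le r.2⟩ : N), Eq.trans ?_ hr.symm⟩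
    rfl
  obtain ⟨ρ, hρ, hρinv⟩ := F.inv_mem haNm
  have hθ₀ := F.comp_mem (hs.inv.1 _ hψ) hρ hψm
  obtain ⟨θ, hθ, hθx⟩ := exists_aut hθ₀ (range_eq_of_le (hom_inj hθ₀) fun n => by
    show ρ ⟨ψ n, hψm n⟩ ∈ N
    obtain ⟨z, hz⟩ := hψm n
    rw [show (⟨ψ n, hψm n⟩ : aN.range) = ⟨aN z, z, rfl⟩ from Subtype.ext hz.symm, hρinv]
    exact z.2)
  have hθn : ∀ n : N, ∃ r : R, θ n = n * ⟨r, hRN.le r.2⟩ := fun n => by
    obtain ⟨r, hr⟩ := hdiff n
    refine ⟨r, Subtype.ext ((hθx n).trans ?_)⟩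
    show ρ ⟨ψ n, hψm n⟩ = _
    rw [show (⟨ψ n, hψm n⟩ : aN.range) = ⟨aN (n * ⟨r, hRN.le r.2⟩), _, rfl⟩ from Subtype.ext hr, hρinv]
  have hαθ : ∀ n : N, (((α : MulAut T) ⟨θ n, hNT (θ n).2⟩ : T) : Ω) = ψ n := fun n => by
    obtain ⟨z, hz⟩ := hψm n
    have h1 : θ n = z := Subtype.ext ((hθx n).trans (by
      show ρ ⟨ψ n, hψm n⟩ = _
      rw [show (⟨ψ n, hψm n⟩ : aN.range) = ⟨aN z, z, rfl⟩ from Subtype.ext hz.symm, hρinv]))
    rw [h1]
    exact hz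
  have hθR : ∀ x : R, θ ⟨x, hRN.le x.2⟩ = ⟨x, hRN.le x.2⟩ := fun x => by
    have h1 := hαθ ⟨x, hRN.le x.2⟩
    rw [hψR] at h1
    exact Subtype.ext (congrArg Subtype.val ((α : MulAut T).injective (Subtype.ext h1)) :)
  -- values of powers
  have hθh := (mem_autGroup_iff_hom hNS).1 hθ
  obtain ⟨d, hd⟩ := exists_val0 hs hNT hθh
  have hpow : ∀ k : ℕ, Val0 E χ (N.subtype.comp (θ ^ k).toMonoidHom) (d ^ k) := by
    intro k
    induction k with
    | zero => rw [pow_zero, pow_zero]; exact val0_subtype hNT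
    | succ k ihk =>
      rw [pow_succ' d]
      exact val0_comp hs.inv.2.2.1 (fun x => ((θ ^ k) x).2) _
        (fun x => by rw [pow_succ' θ]; rfl) ihk hd
  obtain ⟨k, hk⟩ := IsPGroup.iff_card.1 (hs.pgroup.to_le hNS)
  have hθk : θ ^ p ^ k = 1 := MulEquiv.ext fun n => by
    obtain ⟨r, hr⟩ := hθn n
    rw [CfsgLib.FusionQuot.pow_apply_of_moves_to_fixed θ n (by
      rw [hr, inv_mul_cancel_left]; exact hθR r), ← hk, pow_card_eq_one', mul_one]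
    rfl
  have hd1 : d = 1 := by
    refine eq_one_of_pow hs (k := k) ?_
    obtain ⟨a, ha, f, hf, hfx⟩ := hpow (p ^ k)
    rw [hθk] at hfx
    obtain ⟨g, hg, hginv⟩ := E.inv_mem hf
    rw [← ha]
    refine hcard f.range (isCentric_of_isConj hNc (isConj_of_mem hf))
      (Nat.card_congr (MonoidHom.ofInjective (hom_inj hf)).toEquiv).le a g hg ?_
    rintro ⟨_, n, rfl⟩ hx
    rw [hginv, ← hfx n hx]
    rfl
  subst hd1
  obtain ⟨a, ha, f, hf, hfx⟩ := hd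
  obtain ⟨g, hg, hginv⟩ := E.inv_mem hf
  have hgm : ∀ y, g y ∈ N := by
    rintro ⟨_, n, rfl⟩
    rw [hginv]
    exact n.2
  have h1 := hcard f.range (isCentric_of_isConj hNc (isConj_of_mem hf))
    (Nat.card_congr (MonoidHom.ofInjective (hom_inj hf)).toEquiv).le (α * a) _
    (E.comp_mem hg hψ hgm) (by
      rintro ⟨_, n, rfl⟩ hx
      show ψ ⟨g ⟨f n, n, rfl⟩, _⟩ = (((α : MulAut T) ((a : MulAut T) ⟨f n, hx⟩) : T) : Ω)
      rw [show (⟨g ⟨f n, n, rfl⟩, hgm _⟩ : N) = n from Subtype.ext (hginv n), ← hαθ n]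
      exact congrArg (fun z : T => (((α : MulAut T) z : T) : Ω)) (Subtype.ext (hfx n hx)))
  rwa [map_mul, ha, mul_one] at h1

/-- The value is unique on centric subgroups of `E`. -/
theorem val0_unique [Finite S] [Fact p.Prime] [Finite Δ] (hs : Setup E F p χ) (hR : E.IsCentric R)
    {φ : R →* Ω} {d d' : Δ} (h : Val0 E χ φ d) (h' : Val0 E χ φ d') : d = d' := by
  obtain ⟨a, rfl, f, hf, hfx⟩ := h
  obtain ⟨b, rfl, g, hg, hgx⟩ := h'
  obtain ⟨ρ, hρ, hρinv⟩ := E.inv_mem hf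
  have hm : ∀ y, ρ y ∈ R := by
    rintro ⟨_, n, rfl⟩
    rw [hρinv]
    exact n.2
  have h1 := kill hs f.range (isCentric_of_isConj hR (isConj_of_mem hf)) (b⁻¹ * a) _
    (E.comp_mem hρ hg hm) (by
      rintro ⟨_, n, rfl⟩ hx
      show g ⟨ρ ⟨f n, n, rfl⟩, _⟩ = (((b : MulAut T)⁻¹ ((a : MulAut T) ⟨f n, hx⟩) : T) : Ω)
      rw [show (⟨ρ ⟨f n, n, rfl⟩, hm _⟩ : R) = n from Subtype.ext (hρinv n)]
      have h2 : (a : MulAut T) ⟨f n, hx⟩ = (b : MulAut T) ⟨g n, map_mem hg n⟩ :=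
        Subtype.ext ((hfx n hx).symm.trans (hgx n _))
      rw [h2, MulAut.inv_apply_self])
  rwa [map_mul, map_inv, inv_mul_eq_one, eq_comm] at h1

theorem val_unique [Finite S] [Fact p.Prime] [Finite Δ] (hs : Setup E F p χ) (hP : Good E F P)
    {φ : P →* Ω} {d d' : Δ} (h : Val E χ φ d) (h' : Val E χ φ d') : d = d' :=
  val0_unique hs hP.2 h h'

theorem val_conj [Finite S] [Fact p.Prime] [Finite Δ] (hs : Setup E F p χ) (hP : P ≤ S) {g : Ω}
    (hg : g ∈ S) (φ : P →* Ω) (hφ : ∀ x : P, φ x = g * x * g⁻¹) : Val E χ φ 1 := by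
  have hTS : T ≤ S := hs.inv.2.1.1
  have hgN : g ∈ Subgroup.normalizer (T : Set Ω) := stronglyClosed_le_normalizer hs.inv.2.1 hg
  have hc := autInducedBy_le_autGroup F hTS (conjAut_mem_autInducedBy hg hgN)
  refine ⟨⟨_, hc⟩, ?_, (P ⊓ T).subtype, subtype_mem E inf_le_right, fun x hx => hφ _⟩
  obtain ⟨k, hk⟩ := isPGroup_autInducedBy hs.pgroup T ⟨_, conjAut_mem_autInducedBy hg hgN⟩
  refine eq_one_of_pow hs (k := k) ?_
  have h1 : (⟨_, hc⟩ : F.autGroup T) ^ p ^ k = 1 := Subtype.ext (congrArg Subtype.val hk :)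
  rw [← map_pow, h1, map_one]

theorem good_conj (hs : Setup E F p χ) {φ : P →* Ω} (hP : Good E F P) (hφ : φ ∈ F.Hom P) :
    Good E F φ.range := by
  refine ⟨isCentric_of_isConj hP.1 (isConj_of_mem hφ), ?_⟩
  have h := isCentric_conj hs hP.2 (restrict_mem hφ (inf_le_left : P ⊓ T ≤ P))
  rwa [show (φ.comp (Subgroup.inclusion (inf_le_left : P ⊓ T ≤ P))).range = φ.range ⊓ T by
    ext y
    constructor
    · rintro ⟨x, rfl⟩
      exact ⟨⟨_, rfl⟩, stronglyClosed_apply_mem hs.inv.2.1 hφ _ x.2.2⟩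
    · rintro ⟨⟨x, rfl⟩, hyT⟩
      obtain ⟨ρ, hρ, hρinv⟩ := F.inv_mem hφ
      have hx := stronglyClosed_apply_mem hs.inv.2.1 hρ ⟨φ x, x, rfl⟩ hyT
      rw [hρinv] at hx
      exact ⟨⟨x, x.2, hx⟩, rfl⟩] at h

theorem good_mono [Finite S] (hP : Good E F P) (hPQ : P ≤ Q) (hQ : Q ≤ S) : Good E F Q :=
  ⟨isCentric_mono hP.1 hPQ hQ, isCentric_mono hP.2 (inf_le_inf_right T hPQ) inf_le_right⟩

theorem good_top [Finite S] (hs : Setup E F p χ) : Good E F S := by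
  have : Finite T := finite_of_le hs.inv.2.1.1
  refine ⟨isCentric_top F, ?_⟩
  rw [inf_eq_right.2 hs.inv.2.1.1]
  exact isCentric_top E

/-- A centric subgroup that is not good has, after conjugation, an outer element of `O_p` induced by `S`. -/
theorem exists_core_of_bad [Finite S] [Fact p.Prime] (hs : Setup E F p χ) (hQ : F.IsCentric Q)
    (hC : ¬ centralizerIn T (Q ⊓ T) ≤ Q ⊓ T) {G : Cfsg.FusionSystem S} (hG : G ≤ F) :
    ¬ (autInducedBy S Q ⊓ SatCriterion.coreAut G p Q ≤ Cfsg.Inn Q) := by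
  have hT := hs.inv.2.1
  have hTS := hT.1
  have hTn := stronglyClosed_le_normalizer hT
  have hQS := hQ.1
  set R := Q ⊓ T with hRdef
  set M := Q ⊔ centralizerIn T R with hM
  have hMS : M ≤ S := sup_le hQS ((centralizerIn_le T R).trans hTS)
  have : Finite M := finite_of_le hMS
  have : Finite Q := finite_of_le hQS
  have : Finite (MulAut Q) := finite_mulAut
  have hRN : ∀ z ∈ Q, z ∈ Subgroup.normalizer (R : Set Ω) := fun z hz =>
    Subgroup.mem_normalizer_iff.2 fun w => by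
      rw [hRdef, Subgroup.mem_inf, Subgroup.mem_inf]
      exact and_congr (Subgroup.mem_normalizer_iff.1 (Subgroup.le_normalizer hz) w)
        (Subgroup.mem_normalizer_iff.1 (hTn (hQS hz)) w)
  have hMn : M ≤ Subgroup.normalizer ((centralizerIn T R : Subgroup Ω) : Set Ω) := by
    refine sup_le (fun z hz => ?_) Subgroup.le_normalizer
    have key : ∀ z ∈ Q, ∀ c ∈ centralizerIn T R, z * c * z⁻¹ ∈ centralizerIn T R := fun z hz c hc =>
      ⟨(Subgroup.mem_normalizer_iff.1 (hTn (hQS hz)) c).1 hc.1,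
        Subgroup.mem_centralizer_iff.2 fun v hv => by
          have h1 : z⁻¹ * v * z ∈ R := by
            simpa using conj_mem_of_mem_normalizer (inv_mem (hRN z hz)) hv
          have h2 := Subgroup.mem_centralizer_iff.1 hc.2 _ h1
          calc v * (z * c * z⁻¹) = z * (z⁻¹ * v * z * c) * z⁻¹ := by group
            _ = z * (c * (z⁻¹ * v * z)) * z⁻¹ := by rw [h2]
            _ = _ := by group⟩
    exact Subgroup.mem_normalizer_iff.2 fun c => ⟨key z hz c, fun h => by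
      simpa [mul_assoc] using key z⁻¹ (inv_mem hz) _ h⟩
  intro hle
  refine hC (fun c hc => Subgroup.mem_inf.2 ⟨?_, hc.1⟩)
  refine le_of_normalizer_inf_le (S := M) (p := p) (hs.pgroup.to_le hMS) le_sup_left le_sup_right hMn
    (fun c hc hcN => ?_) hc
  have hcS : c ∈ S := hTS hc.1
  refine mem_of_conjAut_mem_inn (centralizerIn_le_of_isCentric hQ) hQS hcS hcN
    (hle ⟨conjAut_mem_autInducedBy hcS hcN, ?_⟩)
  have hpres : ∀ β ∈ G.autGroup Q, ∀ x : Q, (x : Ω) ∈ T → ((β x : Q) : Ω) ∈ T := fun β hβ x hx =>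
    stronglyClosed_apply_mem hT (hG Q ((mem_autGroup_iff_hom hQS).1 hβ)) x hx
  let K : Subgroup (G.autGroup Q) :=
    { carrier := {κ | (∀ y : Q, (y : Ω) ∈ T → (κ : MulAut Q) y = y) ∧
        ∀ y : Q, (y : Ω)⁻¹ * (((κ : MulAut Q) y : Q) : Ω) ∈ T}
      one_mem' := ⟨fun y _ => rfl, fun y => by simp [T.one_mem]⟩
      mul_mem' := fun {a b} ha hb => ⟨fun y hy => by
          show (a : MulAut Q) ((b : MulAut Q) y) = y
          rw [hb.1 y hy, ha.1 y hy],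
        fun y => by
          have := T.mul_mem (hb.2 y) (ha.2 ((b : MulAut Q) y))
          simpa [mul_assoc] using this⟩
      inv_mem' := fun {a} ha => ⟨fun y hy => (a : MulAut Q).injective (by
          show (a : MulAut Q) ((a : MulAut Q)⁻¹ y) = (a : MulAut Q) y
          rw [MulAut.apply_inv_self, ha.1 y hy]),
        fun y => by
          have := T.inv_mem (ha.2 ((a : MulAut Q)⁻¹ y))
          simpa [mul_inv_rev] using this⟩ }
  have hKn : K.Normal := ⟨fun κ hκ β => ⟨fun y hy => by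
      have h1 := hκ.1 ((β : MulAut Q)⁻¹ y) (hpres _ (inv_mem β.2) y hy)
      show (β : MulAut Q) ((κ : MulAut Q) ((β : MulAut Q)⁻¹ y)) = y
      rw [h1, MulAut.apply_inv_self],
    fun y => by
      have h1 := hκ.2 ((β : MulAut Q)⁻¹ y)
      set w : Q := ((β : MulAut Q)⁻¹ y)⁻¹ * (κ : MulAut Q) ((β : MulAut Q)⁻¹ y) with hw
      have h2 := hpres β β.2 w h1
      rw [hw, map_mul, map_inv, MulAut.apply_inv_self] at h2
      exact h2⟩⟩
  obtain ⟨e₀, he₀⟩ := IsPGroup.iff_card.1 (hs.pgroup.to_le hQS)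
  have hKp : IsPGroup p K := fun κ => ⟨e₀, Subtype.ext (Subtype.ext (MulEquiv.ext fun y => by
    have hfixw := κ.2.1 (y⁻¹ * ((κ : G.autGroup Q) : MulAut Q) y) (κ.2.2 y)
    show (((κ : G.autGroup Q) : MulAut Q) ^ p ^ e₀) y = y
    rw [CfsgLib.FusionQuot.pow_apply_of_moves_to_fixed _ y hfixw, ← he₀, pow_card_eq_one', mul_one]))⟩
  refine ⟨⟨conjAut Q c hcN, autInducedBy_le_autGroup G hQS (conjAut_mem_autInducedBy hcS hcN)⟩,
    CfsgLib.Solvable.le_pCore hKn hKp ?_, rfl⟩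
  refine ⟨fun y hy => Subtype.ext ?_, fun y => ?_⟩
  · show c * (y : Ω) * c⁻¹ = y
    rw [← Subgroup.mem_centralizer_iff.1 hc.2 y ⟨y.2, hy⟩, mul_inv_cancel_right]
  · show (y : Ω)⁻¹ * (c * y * c⁻¹) ∈ T
    have h1 := conj_mem_of_mem_normalizer (hTn (S.inv_mem (hQS y.2))) hc.1
    simpa [mul_assoc] using T.mul_mem h1 (T.inv_mem hc.1)

/-- A centric subgroup that is not good has a conjugate exposing it. -/
theorem exists_conj_bad [Finite S] [Fact p.Prime] (hs : Setup E F p χ) (hP : F.IsCentric P)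
    (hbad : ¬ Good E F P) :
    ∃ φ ∈ F.Hom P, ¬ centralizerIn T (φ.range ⊓ T) ≤ φ.range ⊓ T := by
  have hT := hs.inv.2.1
  have hRT : P ⊓ T ≤ T := inf_le_right
  have hRS : P ⊓ T ≤ S := hRT.trans hT.1
  obtain ⟨R', hRR', hR'n⟩ := exists_isFullyNormalized F hRS
  obtain ⟨e, he, ψ, hψ, -, hag⟩ := exists_normalizer_map hs.pgroup hs.satF hR'n hRR'
  have hPN : P ≤ normalizerIn S (P ⊓ T) := fun z hz => ⟨hP.1 hz, Subgroup.mem_normalizer_iff.2 fun w => by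
    rw [Subgroup.mem_inf, Subgroup.mem_inf]
    exact and_congr (Subgroup.mem_normalizer_iff.1 (Subgroup.le_normalizer hz) w)
      (Subgroup.mem_normalizer_iff.1 (stronglyClosed_le_normalizer hT (hP.1 hz)) w)⟩
  refine ⟨ψ.comp (Subgroup.inclusion hPN), restrict_mem hψ hPN, fun hle => hbad ⟨hP, hRT, ?_⟩⟩
  have hrT : ∀ y, y ∈ (ψ.comp (Subgroup.inclusion hPN)).range ⊓ T → y ∈ R' := by
    rintro _ ⟨⟨x, rfl⟩, hxT⟩
    obtain ⟨ρ, hρ, hρinv⟩ := F.inv_mem (restrict_mem hψ hPN)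
    have hx := stronglyClosed_apply_mem hT hρ ⟨_, x, rfl⟩ hxT
    rw [hρinv] at hx
    exact (hag ⟨x, x.2, hx⟩).symm ▸ (e _).2
  rintro R'' hR''
  obtain ⟨φ, hφ, rfl⟩ := hR''
  intro c hc
  obtain ⟨e', he', ψ', hψ', -, hag'⟩ := exists_normalizer_map hs.pgroup hs.satF hR'n
    (isConj_trans (isConj_symm (isConj_of_mem (hs.inv.1 _ hφ))) hRR')
  have hφS : φ.range ≤ S := (range_le hφ).trans hT.1
  have hcN : c ∈ normalizerIn S φ.range := centralizerIn_le_normalizerIn S _ ⟨hT.1 hc.1, hc.2⟩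
  have hcR' : ψ' ⟨c, hcN⟩ ∈ R' := by
    refine hrT _ (hle ⟨stronglyClosed_apply_mem hT hψ' ⟨c, hcN⟩ hc.1, Subgroup.mem_centralizer_iff.2 ?_⟩)
    intro y hy
    obtain ⟨z, hz⟩ := e'.surjective ⟨y, hrT y hy⟩
    rw [show y = ψ' ⟨z, le_normalizerIn hφS z.2⟩ from (congrArg Subtype.val hz).symm.trans (hag' z).symm,
      ← map_mul, ← map_mul]
    exact congrArg ψ' (Subtype.ext (Subgroup.mem_centralizer_iff.1 hc.2 z z.2))
  obtain ⟨z, hz⟩ := e'.surjective ⟨_, hcR'⟩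
  have h1 : ψ' ⟨z, le_normalizerIn hφS z.2⟩ = ψ' ⟨c, hcN⟩ :=
    (hag' z).trans (congrArg Subtype.val hz)
  have h2 : (z : Ω) = c := congrArg Subtype.val (hom_inj hψ' h1)
  rw [← h2]
  exact z.2

/-- A centric radical subgroup is good. -/
theorem good_of_radical [Finite S] [Fact p.Prime] (hs : Setup E F p χ) (hP : F.IsCentric P)
    (hPr : F.IsRadical p P) : Good E F P := by
  by_contra hbad
  obtain ⟨φ, hφ, hC⟩ := exists_conj_bad hs hP hbad
  obtain ⟨e, he, -⟩ := exists_iso hφ rfl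
  refine exists_core_of_bad hs (isCentric_of_isConj hP (isConj_of_mem hφ)) hC (G := F)
    (fun _ => Set.Subset.rfl) ?_
  rintro β ⟨-, γ, hγ, rfl⟩
  rw [SetLike.mem_coe, ← CfsgLib.Solvable.map_pCore_mulEquiv (p := p) he.autEquiv] at hγ
  obtain ⟨δ, hδ, rfl⟩ := hγ
  obtain ⟨q, hq⟩ : (δ : MulAut P) ∈ Cfsg.Inn P := hPr.2 ▸ ⟨δ, hδ, rfl⟩
  refine ⟨e q, MulEquiv.ext fun y => ?_⟩
  show e q * y * (e q)⁻¹ = ((he.autEquiv δ : F.autGroup φ.range) : MulAut φ.range) y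
  rw [IsFIso.autEquiv_apply, congr_apply, ← show MulAut.conj q (e.symm y) = (δ : MulAut P) (e.symm y)
    from congrArg (fun a : MulAut P => a (e.symm y)) hq, MulAut.conj_apply, map_mul, map_mul, map_inv,
    MulEquiv.apply_symm_apply]

end CfsgLib.Fusion.IndexChar
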