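import Cfsg.Agent.Lib.Fusion.IndexChar

/-!
# The subsystem defined by a character of index prime to `p`
-/

set_option autoImplicit false
set_option linter.unusedSectionVars false

namespace CfsgLib.Fusion.IndexChar

open Cfsg Cfsg.FusionSystem CfsgLib.Fusion

universe u v

variable {Ω : Type u} [Group Ω] {S T P Q R : Subgroup Ω} {F : Cfsg.FusionSystem S}
  {E : Cfsg.FusionSystem T} {p : ℕ} {Δ : Type v} [Group Δ] {χ : ↥(F.autGroup T) →* Δ}

/-- The system generated by the maps of value one on good subgroups. -/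
def genSystem (E : Cfsg.FusionSystem T) (F : Cfsg.FusionSystem S) (χ : ↥(F.autGroup T) →* Δ) :
    Cfsg.FusionSystem S where
  Hom P := {φ | φ ∈ F.Hom P ∧ ∀ D : Cfsg.FusionSystem S,
    (∀ Q, Good E F Q → ∀ ψ ∈ F.Hom Q, Val E χ ψ 1 → ψ ∈ D.Hom Q) → φ ∈ D.Hom P}
  le_of_mem h := F.le_of_mem h.1
  injective_of_mem h := F.injective_of_mem h.1
  conj_mem hP hg := ⟨F.conj_mem hP hg, fun D _ => D.conj_mem hP hg⟩
  comp_mem h h' hQ := ⟨F.comp_mem h.1 h'.1 hQ, fun D hD => D.comp_mem (h.2 D hD) (h'.2 D hD) hQ⟩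
  inv_mem := by
    intro P φ h
    obtain ⟨ψ, hψ, hx⟩ := F.inv_mem h.1
    refine ⟨ψ, ⟨hψ, fun D hD => ?_⟩, hx⟩
    obtain ⟨ψ', hψ', hx'⟩ := D.inv_mem (h.2 D hD)
    have : ψ = ψ' := MonoidHom.ext fun ⟨_, x, rfl⟩ => (hx x).trans (hx' x).symm
    exact this ▸ hψ'

theorem genSystem_le : genSystem E F χ ≤ F := fun _ _ h => h.1

theorem mem_genSystem (hP : Good E F P) {φ : P →* Ω} (hφ : φ ∈ F.Hom P) (h : Val E χ φ 1) :
    φ ∈ (genSystem E F χ).Hom P := ⟨hφ, fun _ hD => hD P hP φ hφ h⟩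

variable [Finite S] [Fact p.Prime] [Finite Δ]

theorem val_inv (hs : Setup E F p χ) {φ : P →* Ω} (hP : Good E F P) (hφ : φ ∈ F.Hom P)
    {ψ : φ.range →* Ω} (hψ : ψ ∈ F.Hom φ.range) (hinv : ∀ x : P, ψ ⟨φ x, x, rfl⟩ = x) {d : Δ}
    (h : Val E χ φ d) : Val E χ ψ d⁻¹ := by
  obtain ⟨e, he⟩ := exists_val hs hψ
  have h1 : e * d = 1 := val_unique hs hP
    (val_comp hs (Q := φ.range) hφ (fun x => (⟨x, rfl⟩ : φ x ∈ φ.range)) P.subtype (fun x => (hinv x).symm) h he)
    (val_conj hs hP.1.1 S.one_mem _ fun x => by simp)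
  rwa [eq_inv_of_mul_eq_one_left h1] at he

/-- On a good subgroup the system consists of the maps of value one. -/
theorem val_of_mem (hs : Setup E F p χ) (hP : Good E F P) {φ : P →* Ω}
    (hφ : φ ∈ (genSystem E F χ).Hom P) : Val E χ φ 1 := by
  let D : Cfsg.FusionSystem S :=
    { Hom := fun P => {φ | φ ∈ F.Hom P ∧ (Good E F P → Val E χ φ 1)}
      le_of_mem := fun h => F.le_of_mem h.1
      injective_of_mem := fun h => F.injective_of_mem h.1
      conj_mem := fun hP hg => ⟨F.conj_mem hP hg, fun _ => val_conj hs hP hg _ fun _ => rfl⟩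
      comp_mem := by
        rintro P Q φ ψ ⟨hφ, hφv⟩ ⟨hψ, hψv⟩ h
        refine ⟨F.comp_mem hφ hψ h, fun hP => ?_⟩
        have hQ : Good E F Q := good_mono (good_conj hs hP hφ) (by rintro _ ⟨x, rfl⟩; exact h x) (dom_le hψ)
        rw [← one_mul (1 : Δ)]
        exact val_comp hs hφ h _ (fun _ => rfl) (hφv hP) (hψv hQ)
      inv_mem := by
        rintro P φ ⟨hφ, hφv⟩
        obtain ⟨ψ, hψ, hinv⟩ := F.inv_mem hφ
        refine ⟨ψ, ⟨hψ, fun hr => ?_⟩, hinv⟩
        have hP : Good E F P := by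
          have h := good_conj hs hr hψ
          rwa [show ψ.range = P by
            ext y
            constructor
            · rintro ⟨⟨_, x, rfl⟩, rfl⟩; rw [hinv]; exact x.2
            · intro hy; exact ⟨⟨_, ⟨y, hy⟩, rfl⟩, hinv ⟨y, hy⟩⟩] at h
        rw [← inv_one]
        exact val_inv hs hP hφ hψ hinv (hφv hP) }
  exact (hφ.2 D fun Q _ ψ hψ hv => ⟨hψ, fun _ => hv⟩).2 hP

/-- Every value is taken on `Aut_F(S)`. -/
theorem exists_aut_val (hs : Setup E F p χ) (hχ : Function.Surjective χ) (d : Δ) :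
    ∃ γ ∈ F.autGroup S, Val E χ (S.subtype.comp γ.toMonoidHom) d := by
  have hT := hs.inv.2.1
  have hTS := hT.1
  have hTn := stronglyClosed_le_normalizer hT
  have : Finite T := finite_of_le hTS
  have : Finite (MulAut T) := finite_mulAut
  have heq : normalizerIn S T = S := inf_eq_left.2 hTn
  have hTfn : F.IsFullyNormalized T := ⟨hTS, fun R _ => by
    rw [heq]
    exact Nat.card_le_card_of_injective _
      (Subgroup.inclusion_injective (inf_le_left : normalizerIn S R ≤ S))⟩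
  obtain ⟨β, rfl⟩ := hχ d
  obtain ⟨-, PA, hPA⟩ := isFullyAutomized_of_isFullyNormalized hs.pgroup hs.satF hTfn
  have hPK : (PA : Subgroup (F.autGroup T)) ≤ χ.ker := by
    intro a ha
    obtain ⟨k, hk⟩ := PA.2 ⟨a, ha⟩
    refine eq_one_of_pow hs (k := k) ?_
    have h1 : a ^ p ^ k = 1 := congrArg Subtype.val hk
    rw [← map_pow, h1, map_one]
  have htop := Sylow.normalizer_sup_eq_top' PA hPK
  have hmem : β ∈ Subgroup.normalizer (PA : Set (F.autGroup T)) ⊔ χ.ker := by rw [htop]; trivial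
  obtain ⟨n, hn, k, hk, rfl⟩ := Subgroup.mem_sup_of_normal_right.1 hmem
  rw [map_mul, show χ k = 1 from hk, mul_one]
  have hiso : IsFIso F ((n : MulAut T) : T ≃* T) := (mem_autGroup_iff hTS).1 n.2
  obtain ⟨ψ, hψ, -, hag⟩ := hiso.exists_extension (isReceptive_of_isFullyNormalized hs.pgroup hs.satF hTfn)
    hTS (fun s hs' => ⟨hs', hTn hs'⟩) fun u hu => by
      have hc : (⟨conjAut T u (hTn hu), autInducedBy_le_autGroup F hTS
          (conjAut_mem_autInducedBy hu (hTn hu))⟩ : F.autGroup T) ∈ (PA : Subgroup (F.autGroup T)) := by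
        rw [hPA]
        exact conjAut_mem_autInducedBy hu (hTn hu)
      have h := (Subgroup.mem_normalizer_iff.1 hn _).1 hc
      rw [hPA] at h
      exact h
  obtain ⟨γ, hγ, hγx⟩ := exists_aut hψ (range_eq_of_le (hom_inj hψ) (map_mem hψ))
  refine ⟨γ, hγ, n, rfl, (S ⊓ T).subtype, subtype_mem E inf_le_right, fun x hx => ?_⟩
  show ((γ ⟨x, _⟩ : S) : Ω) = _
  rw [hγx]
  exact hag ⟨x, hx⟩

theorem genSystem_autInvariant (hs : Setup E F p χ) : IsAutInvariant (genSystem E F χ) F := by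
  intro P hPS φ hφ a ha
  obtain ⟨e, he, hex⟩ := exists_autIso (P := P) ha hPS
  have hah := (mem_autGroup_iff_hom le_rfl).1 ha
  have hχ0 : (((S.subtype.comp a.toMonoidHom).comp (φ.codRestrict S (map_mem hφ))).comp
      e.symm.toMonoidHom) ∈ F.Hom (autImg a P) :=
    mem_of_comp he.symm (mem_of_comp hφ.1 hah (map_mem hφ)
      ((S.subtype.comp a.toMonoidHom).comp (φ.codRestrict S (map_mem hφ))) fun _ => rfl)
      (fun y => (e.symm y).2) _ fun _ => rfl
  refine ⟨_, ⟨hχ0, fun D hD => ?_⟩, fun x hφx hax => ?_⟩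
  · obtain ⟨-, -, hφS, f, hf, hfx⟩ := hφ.2 (twistSystem D a) (by
      intro Q hQ ψ hψ hv
      have hQS := dom_le hψ
      obtain ⟨e', he', hex'⟩ := exists_autIso (P := Q) ha hQS
      have hgood : Good E F (autImg a Q) := by
        have h := good_conj hs hQ (show (autImg a Q).subtype.comp e'.toMonoidHom ∈ F.Hom Q from he')
        rwa [range_subtype_comp] at h
      have h1 : (S.subtype.comp a.toMonoidHom).comp (ψ.codRestrict S (map_mem hψ)) ∈ F.Hom Q :=
        mem_of_comp hψ hah (map_mem hψ) _ fun _ => rfl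
      have h2 := mem_of_comp he'.symm h1 (fun y => (e'.symm y).2)
        (((S.subtype.comp a.toMonoidHom).comp (ψ.codRestrict S (map_mem hψ))).comp e'.symm.toMonoidHom)
        fun _ => rfl
      refine ⟨hQS, hom_inj hψ, map_mem hψ, _, hD _ hgood _ h2 ?_, fun x hx hax => ?_⟩
      · obtain ⟨d₁, hd₁⟩ := exists_val hs hah
        obtain ⟨d₂, hd₂⟩ := exists_val hs (show Q.subtype.comp e'.symm.toMonoidHom ∈ F.Hom (autImg a Q)
          from he'.symm)
        have hQmono : Good E F S := good_top hs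
        have hd₁' : Val E χ ((S.subtype.comp a.toMonoidHom).comp (Subgroup.inclusion hQS)) d₁ := by
          have hi : Val E χ Q.subtype 1 := val_conj hs hQS S.one_mem _ fun x => by simp
          rw [← mul_one d₁]
          exact val_comp hs (subtype_mem F hQS) (fun x => hQS x.2) _ (fun _ => rfl) hi hd₁
        have h3 := val_comp hs he'.symm (fun y => (e'.symm y).2) (autImg a Q).subtype
          (fun y => by
            show (y : Ω) = ((a ⟨((e'.symm y : Q) : Ω), hQS (e'.symm y).2⟩ : S) : Ω)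
            rw [← hex', MulEquiv.apply_symm_apply]) hd₂ hd₁'
        have h4 : d₁ * d₂ = 1 := val_unique hs hgood h3 (val_conj hs (autImg_le a Q) S.one_mem _
          fun x => by simp)
        have h5 := val_comp hs he'.symm (fun y => (e'.symm y).2)
          (((S.subtype.comp a.toMonoidHom).comp (ψ.codRestrict S (map_mem hψ))).comp
            e'.symm.toMonoidHom) (fun _ => rfl) hd₂
          (val_comp hs hψ (map_mem hψ) ((S.subtype.comp a.toMonoidHom).comp (ψ.codRestrict S (map_mem hψ)))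
            (fun _ => rfl) hv hd₁)
        rwa [mul_one, h4] at h5
      · show ((a ⟨ψ (e'.symm ⟨_, hax⟩), _⟩ : S) : Ω) = _
        have : e'.symm ⟨_, hax⟩ = x := e'.injective (by
          rw [MulEquiv.apply_symm_apply]; exact Subtype.ext (hex' x).symm)
        simp [this])
    refine mem_of_restrict hf le_rfl _ fun y => ?_
    obtain ⟨x, rfl⟩ := e.surjective y
    have h2 : (⟨((e x : autImg a P) : Ω), (e x).2⟩ : autImg a P) =
        ⟨((a ⟨x, hPS x.2⟩ : S) : Ω), mem_autImg.2 ⟨_, x.2, rfl⟩⟩ := Subtype.ext (hex x)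
    rw [h2, hfx x (hPS x.2)]
    show ((a ⟨φ (e.symm (e x)), _⟩ : S) : Ω) = _
    simp
  · show ((a ⟨φ (e.symm ⟨_, hax⟩), _⟩ : S) : Ω) = _
    have : e.symm ⟨_, hax⟩ = x := e.injective (by
      rw [MulEquiv.apply_symm_apply]; exact Subtype.ext (hex x).symm)
    simp [this]

theorem factors_good (hs : Setup E F p χ) (hχ : Function.Surjective χ) (hP : Good E F P)
    {φ : P →* Ω} (hφ : φ ∈ F.Hom P) : Factors (genSystem E F χ) F φ := by
  obtain ⟨d, hd⟩ := exists_val hs hφ
  obtain ⟨γ, hγ, hγv⟩ := exists_aut_val hs hχ d⁻¹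
  have h1 : (S.subtype.comp γ.toMonoidHom).comp (φ.codRestrict S (map_mem hφ)) ∈ F.Hom P :=
    mem_of_comp hφ ((mem_autGroup_iff_hom le_rfl).1 hγ) (map_mem hφ) _ fun _ => rfl
  have h2 := val_comp hs hφ (map_mem hφ)
    ((S.subtype.comp γ.toMonoidHom).comp (φ.codRestrict S (map_mem hφ))) (fun _ => rfl) hd hγv
  rw [inv_mul_cancel] at h2
  refine ⟨γ⁻¹, inv_mem hγ, _, mem_genSystem hP h1 h2, fun x hx => ?_⟩
  show φ x = (((γ⁻¹ : MulAut S) (γ ⟨φ x, _⟩) : S) : Ω)
  rw [MulAut.inv_apply_self]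

theorem factors (hs : Setup E F p χ) (hχ : Function.Surjective χ) :
    ∀ (P : Subgroup Ω) (φ : P →* Ω), φ ∈ F.Hom P → Factors (genSystem E F χ) F φ := by
  have hinv := genSystem_autInvariant (E := E) hs
  have hscS : F.StronglyClosed S := ⟨le_rfl, fun R _ φ hφ => map_mem hφ⟩
  let D : Cfsg.FusionSystem S :=
    { Hom := fun P => {φ | φ ∈ F.Hom P ∧ Factors (genSystem E F χ) F φ}
      le_of_mem := fun h => F.le_of_mem h.1
      injective_of_mem := fun h => F.injective_of_mem h.1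
      conj_mem := fun hP hg => ⟨F.conj_mem hP hg, factors_of_mem le_rfl ((genSystem E F χ).conj_mem hP hg)⟩
      comp_mem := fun h h' hQ => ⟨F.comp_mem h.1 h'.1 hQ,
        factors_comp hinv le_rfl hQ _ (fun _ => rfl) h.2 h'.2⟩
      inv_mem := by
        rintro P φ ⟨hφ, hf⟩
        obtain ⟨e, he, hex⟩ := exists_iso hφ rfl
        refine ⟨P.subtype.comp e.symm.toMonoidHom, ⟨he.symm, ?_⟩, fun x => ?_⟩
        · refine factors_symm hinv le_rfl hscS he (dom_le hφ) ?_
          rwa [show φ.range.subtype.comp e.toMonoidHom = φ from MonoidHom.ext hex]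
        · show ((e.symm ⟨φ x, _⟩ : P) : Ω) = x
          rw [show (⟨φ x, x, rfl⟩ : φ.range) = e x from Subtype.ext (hex x).symm, MulEquiv.symm_apply_apply] }
  have hle := alperin hs.pgroup hs.satF D fun R hR α hα => by
    have hgood : Good E F R := by
      rcases hR with rfl | hR
      · exact good_top hs
      · exact good_of_radical hs hR.1 (isRadical_of_isEssential hs.pgroup hs.satF hR)
    have hαh := (mem_autGroup_iff_hom hgood.1.1).1 hα
    exact (mem_autGroup_iff_hom hgood.1.1).2 ⟨hαh, factors_good hs hχ hgood hαh⟩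
  exact fun P φ hφ => (hle P hφ).2

theorem genSystem_isInvariantIn (hs : Setup E F p χ) (hχ : Function.Surjective χ) :
    (genSystem E F χ).IsInvariantIn F :=
  ⟨genSystem_le, ⟨le_rfl, fun _ _ _ h => map_mem h⟩, genSystem_autInvariant hs,
    fun P _ φ hφ => factors hs hχ P φ hφ⟩

theorem genSystem_isSaturated (hs : Setup E F p χ) (hχ : Function.Surjective χ) :
    (genSystem E F χ).IsSaturated p := by
  set G := genSystem E F χ
  have hS := hs.pgroup
  have hF := hs.satF
  have hGF : G.IsSubsystemOf F := genSystem_le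
  have hcent : ∀ {P}, G.IsCentric P ↔ F.IsCentric P := isCentric_iff_of_factors hGF (factors hs hχ)
  have hconjG : ∀ {P Q : Subgroup Ω}, Good E F P → F.IsConj P Q → Good E F Q := by
    rintro P Q hP ⟨φ, hφ, rfl⟩
    exact good_conj hs hP hφ
  refine SatCriterion.isSaturated_of_family hS {P | Good E F P}
    (fun P hP Q hQ => hconjG hP (CfsgLib.FusionQuot.isConj_of_subsystem hGF hQ))
    (fun P hP => ?_) (fun D hD => ?_) (fun P hP hPn => ?_)
  · obtain ⟨Q, hPQ, hQ⟩ := exists_isFullyNormalized F hP.1.1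
    obtain ⟨φ, hφ, hr⟩ := hPQ
    obtain ⟨a, ha, φ₀, hφ₀, hx⟩ := factors hs hχ P φ hφ
    set R := autImg a⁻¹ Q with hRdef
    obtain ⟨e, he, hex⟩ : ∃ e : Q ≃* R, IsFIso F e ∧
        ∀ x : Q, (e x : Ω) = (((a⁻¹ : MulAut S) ⟨x, hQ.1 x.2⟩ : S) : Ω) :=
      exists_autIso ((F.autGroup S).inv_mem ha) hQ.1
    have hR : φ₀.range = R := by
      subst hr
      ext y
      rw [hRdef, mem_autImg]
      constructor
      · rintro ⟨x, rfl⟩
        refine ⟨⟨φ x, map_mem hφ x⟩, ⟨x, rfl⟩, ?_⟩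
        rw [show (⟨φ x, map_mem hφ x⟩ : S) = a ⟨φ₀ x, map_mem hφ₀ x⟩ from Subtype.ext (hx x _),
          MulAut.inv_apply_self]
      · rintro ⟨s, ⟨x, hxs⟩, rfl⟩
        refine ⟨x, ?_⟩
        rw [show s = a ⟨φ₀ x, map_mem hφ₀ x⟩ from Subtype.ext (hxs.symm.trans (hx x _)),
          MulAut.inv_apply_self]
    have hPR : G.IsConj P R := ⟨φ₀, hφ₀, hR⟩
    have hPR' := CfsgLib.FusionQuot.isConj_of_subsystem hGF hPR
    have hRn : F.IsFullyNormalized R := by
      refine ⟨isConj_le_right hPR', fun R' hR' => ?_⟩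
      refine le_trans (hQ.2 R' (isConj_trans he.isConj hR')) ?_
      have : Finite (normalizerIn S R) := finite_of_le (normalizerIn_le S R)
      exact Nat.card_le_card_of_injective (fun x => (⟨((a⁻¹ : MulAut S) ⟨x, x.2.1⟩ : S),
        ((a⁻¹ : MulAut S) _).2, map_mem_normalizer_of_extends
          (ψ := S.subtype.comp (a⁻¹ : MulAut S).toMonoidHom) (e := e) hQ.1
          (fun z => (hex z).symm) x.2.1 x.2.2⟩ : normalizerIn S R))
        fun x y h => by
          have h1 := congrArg Subtype.val h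
          have h2 := (a⁻¹ : MulAut S).injective (Subtype.ext h1)
          have h3 : (x : Ω) = y := congrArg (Subtype.val : S → Ω) h2
          exact Subtype.ext h3
    have hRg : Good E F R := hconjG hP hPR'
    refine ⟨R, hPR, ⟨hRn.1, ?_⟩, hRn.1, fun X f hf hfr => ?_⟩
    · have : Finite R := finite_of_le hRn.1
      have : Finite (MulAut R) := finite_mulAut
      have hsyl : IsSylowIn p (autInducedBy S R) (F.autGroup R) :=
        (isFullyAutomized_of_isFullyNormalized hS hF hRn).2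
      exact isSylowIn_of_card_le (isPGroup_autInducedBy hS R) (autInducedBy_le_autGroup G hRn.1)
        fun U hU hUG => hsyl.card_le (autInducedBy_le_autGroup F hRn.1) hU
          (hUG.trans (CfsgLib.FusionQuot.autGroup_le_of_subsystem hGF R))
    · obtain ⟨ψ, hψ, hψx⟩ := (isReceptive_of_isFullyNormalized hS hF hRn).2 X f (hGF X hf) hfr
      have hXle : X ≤ extender S X f := le_extender (dom_le hf) (map_mem hf)
      have hXg : Good E F X := hconjG hRg (isConj_symm ⟨f, hGF X hf, hfr⟩)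
      obtain ⟨d, hd⟩ := exists_val hs hψ
      have h1 := val_comp hs (subtype_mem F (dom_le hf)) (fun x => hXle x.2) f
        (fun x => (hψx x x.2 (hXle x.2)).symm)
        (val_conj hs (dom_le hf) S.one_mem _ fun x => by simp) hd
      have hd1 : d = 1 := by
        rw [← mul_one d]
        exact val_unique hs hXg h1 (val_of_mem hs hXg hf)
      exact ⟨ψ, mem_genSystem (good_mono hXg hXle (dom_le hψ)) hψ (hd1 ▸ hd), hψx⟩
  · intro P φ hφ
    refine (hφ.2 (infSystem D G) fun Q hQ ψ hψ hv => ?_).1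
    exact ⟨hD Q hQ (mem_genSystem hQ hψ hv), mem_genSystem hQ hψ hv⟩
  · have hPc := hcent.1 hP
    obtain ⟨φ, hφ, hC⟩ := exists_conj_bad hs hPc hPn
    obtain ⟨a, ha, φ₀, hφ₀, hx⟩ := factors hs hχ P φ hφ
    refine ⟨φ₀.range, isConj_of_mem hφ₀,
      exists_core_of_bad hs (isCentric_of_isConj hPc (isConj_of_mem hφ₀.1)) (fun hle => hC ?_) genSystem_le⟩
    intro c hc
    have hT := hs.inv.2.1
    have hahi := (mem_autGroup_iff_hom le_rfl).1 (inv_mem ha)
    have hah := (mem_autGroup_iff_hom le_rfl).1 ha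
    set c₀ := (a⁻¹ : MulAut S) ⟨c, hT.1 hc.1⟩ with hc₀
    have hcm : (c₀ : Ω) ∈ centralizerIn T (φ₀.range ⊓ T) := by
      refine ⟨stronglyClosed_apply_mem hT hahi ⟨c, hT.1 hc.1⟩ hc.1, Subgroup.mem_centralizer_iff.2 ?_⟩
      rintro _ ⟨⟨x, rfl⟩, hxT⟩
      have h1 : φ x ∈ φ.range ⊓ T := ⟨⟨x, rfl⟩, by
        rw [hx x (map_mem hφ₀ x)]
        exact stronglyClosed_apply_mem hT hah ⟨φ₀ x, map_mem hφ₀ x⟩ hxT⟩
      have h2 := Subgroup.mem_centralizer_iff.1 hc.2 _ h1
      rw [hx x (map_mem hφ₀ x)] at h2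
      have h3 : a ⟨φ₀ x, map_mem hφ₀ x⟩ * ⟨c, hT.1 hc.1⟩ = ⟨c, hT.1 hc.1⟩ * a ⟨φ₀ x, map_mem hφ₀ x⟩ :=
        Subtype.ext h2
      have h4 := congrArg (a⁻¹ : MulAut S) h3
      rw [map_mul, map_mul, MulAut.inv_apply_self] at h4
      exact congrArg Subtype.val h4
    obtain ⟨⟨x, hxc⟩, -⟩ := hle hcm
    refine ⟨⟨x, ?_⟩, hc.1⟩
    rw [hx x (map_mem hφ₀ x),
      show (⟨φ₀ x, map_mem hφ₀ x⟩ : S) = c₀ from Subtype.ext hxc, hc₀, MulAut.apply_inv_self]

/-- The system contains `E`. -/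
theorem le_genSystem (hs : Setup E F p χ) (hχ : Function.Surjective χ) :
    E.IsSubsystemOf (genSystem E F χ) := by
  have hT := hs.inv.2.1
  have hTS := hT.1
  have : Finite T := finite_of_le hTS
  have hTp := hs.pgroup.to_le hTS
  set G := genSystem E F χ
  have hstr := stronglyInvariant_of_isInvariantIn (genSystem_isInvariantIn hs hχ)
  let D : Cfsg.FusionSystem T :=
    { Hom := fun P => {φ | φ ∈ E.Hom P ∧ φ ∈ G.Hom P}
      le_of_mem := fun h => E.le_of_mem h.1
      injective_of_mem := fun h => E.injective_of_mem h.1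
      conj_mem := fun hP hg => ⟨E.conj_mem hP hg, G.conj_mem (hP.trans hTS) (hTS hg)⟩
      comp_mem := fun h h' hQ => ⟨E.comp_mem h.1 h'.1 hQ, G.comp_mem h.2 h'.2 hQ⟩
      inv_mem := by
        rintro P φ ⟨h, h'⟩
        obtain ⟨ψ, hψ, hx⟩ := E.inv_mem h
        obtain ⟨ψ', hψ', hx'⟩ := G.inv_mem h'
        have heq : ψ' = ψ := MonoidHom.ext fun ⟨_, x, rfl⟩ => (hx' x).trans (hx x).symm
        exact ⟨ψ, ⟨hψ, heq ▸ hψ'⟩, hx⟩ }
  have hle := Descent.hom_le_of_aut_centric (E := D) hTp hs.satE fun Q hQn hQc _ α hα => by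
    have hQT : Q ≤ T := hQn.1
    have hQS : Q ≤ S := hQT.trans hTS
    have hαE := (mem_autGroup_iff_hom hQT).1 hα
    refine (mem_autGroup_iff_hom hQT).2 ⟨hαE, ?_⟩
    obtain ⟨Q', hQQ', hQ'n⟩ := exists_isFullyNormalized F hQS
    obtain ⟨e, he⟩ := exists_iso_of_isConj hQQ'
    have hQ'T : Q' ≤ T := fun y hy => by
      have h := stronglyClosed_apply_mem hT he (e.symm ⟨y, hy⟩) (hQT (e.symm ⟨y, hy⟩).2)
      simpa using h
    set β := MulAut.congr e α with hβ
    obtain ⟨f, hf, hfx⟩ := stronglyInvariant_of_isInvariantIn hs.inv Q Q le_rfl hQT _ hαE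
      (fun x => (α x).2) _ he
    have hrange : (Q.subgroupOf Q).map (Q'.subtype.comp e.toMonoidHom) = Q' := by
      ext y
      constructor
      · rintro ⟨x, -, rfl⟩; exact (e x).2
      · intro hy; exact ⟨e.symm ⟨y, hy⟩, (e.symm ⟨y, hy⟩).2, by simp⟩
    have hβE : Q'.subtype.comp β.toMonoidHom ∈ E.Hom Q' := by
      refine mem_of_restrict hf hrange.ge _ fun y => ?_
      have h1 := hfx (e.symm y) (by rw [hrange]; simp)
      rw [show (⟨(y : Ω), hrange.ge y.2⟩ : (Q.subgroupOf Q).map (Q'.subtype.comp e.toMonoidHom)) =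
        ⟨(Q'.subtype.comp e.toMonoidHom) (Subgroup.inclusion le_rfl (e.symm y)), by
          rw [hrange]; simp⟩ from Subtype.ext (congrArg Subtype.val (e.apply_symm_apply y) :).symm]
      exact h1.symm
    have hQ'c : E.IsCentric Q' := by
      have h := isCentric_conj hs hQc (show Q'.subtype.comp e.toMonoidHom ∈ F.Hom Q from he)
      rwa [range_subtype_comp] at h
    have hrec := isReceptive_of_isFullyNormalized hs.pgroup hs.satF hQ'n
    have hβF := hs.inv.1 _ hβE
    obtain ⟨ψ, hψ, hψQ, hψC⟩ := CenSub.exists_ext_centralizer hrec hβF (range_subtype_comp β)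
    let U := Q' ⊔ centralizerIn S Q'
    have hUS : U ≤ S := sup_le hQ'n.1 (centralizerIn_le S Q')
    have hUg : Good E F U := by
      refine ⟨?_, isCentric_mono hQ'c (le_inf le_sup_left hQ'T) inf_le_right⟩
      have : Finite U := finite_of_le hUS
      refine ⟨hUS, ?_⟩
      rintro _ ⟨η, hη, rfl⟩ c hc
      -- pull back along a map extending the inverse of `η` on `Q'`
      obtain ⟨η', hη', hηinv⟩ := F.inv_mem (restrict_mem hη (le_sup_left (b := centralizerIn S Q')))
      set Q'' := (η.comp (Subgroup.inclusion (le_sup_left (b := centralizerIn S Q')))).range with hQ''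
      obtain ⟨χ', hχ', hχQ, hχC⟩ := CenSub.exists_ext_centralizer hrec hη' (by
        ext y
        constructor
        · rintro ⟨⟨_, q, rfl⟩, rfl⟩; rw [hηinv]; exact q.2
        · intro hy; exact ⟨⟨_, ⟨y, hy⟩, rfl⟩, hηinv ⟨y, hy⟩⟩)
      have hcQ : c ∈ centralizerIn S Q'' := ⟨hc.1, Subgroup.mem_centralizer_iff.2 fun y hy =>
        Subgroup.mem_centralizer_iff.1 hc.2 y (by obtain ⟨q, rfl⟩ := hy; exact ⟨_, rfl⟩)⟩
      -- the range of `η` lies in `Q'' C(Q'')` and both have the same order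
      have hsub : η.range ≤ Q'' ⊔ centralizerIn S Q'' := by
        have hall : ∀ z, η z ∈ Q'' ⊔ centralizerIn S Q'' := forall_mem_of_sup
          (fun q => le_sup_left (b := centralizerIn S Q'') ⟨q, rfl⟩)
          (fun z => le_sup_right (a := Q'') ⟨map_mem hη _, Subgroup.mem_centralizer_iff.2 (by
            rintro _ ⟨q, rfl⟩
            show η _ * η _ = η _ * η _
            rw [← map_mul, ← map_mul]
            exact congrArg η (Subtype.ext (Subgroup.mem_centralizer_iff.1 z.2.2 q q.2)))⟩)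
        rintro _ ⟨z, rfl⟩
        exact hall z
      have hWS : Q'' ⊔ centralizerIn S Q'' ≤ S := sup_le (range_le (restrict_mem hη le_sup_left))
        (centralizerIn_le S Q'')
      have : Finite ↥(Q'' ⊔ centralizerIn S Q'') := finite_of_le hWS
      have hWU : ∀ z, χ' z ∈ U := forall_mem_of_sup
        (fun q => le_sup_left (b := centralizerIn S Q') (by
          rw [hχQ]
          obtain ⟨_, q, rfl⟩ := q
          rw [hηinv]; exact q.2))
        (fun z => le_sup_right (a := Q') (hχC z))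
      have hcard : Nat.card ↥(Q'' ⊔ centralizerIn S Q'') ≤ Nat.card η.range := by
        rw [← Nat.card_congr (MonoidHom.ofInjective (hom_inj hη)).toEquiv]
        exact Nat.card_le_card_of_injective (fun z => (⟨χ' z, hWU z⟩ : U))
          fun a b h => hom_inj hχ' (congrArg Subtype.val h :)
      rw [Subgroup.eq_of_le_of_card_ge hsub hcard]
      exact le_sup_right (a := Q'') hcQ
    obtain ⟨d, hd⟩ := exists_val hs hψ
    have hβ1 : Val0 E χ (Q'.subtype.comp β.toMonoidHom) 1 :=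
      ⟨1, map_one χ, _, hβE, fun _ _ => rfl⟩
    have hi : Q' ≤ U ⊓ T := le_inf le_sup_left hQ'T
    have h0 := val0_comp hs.inv.2.2.1 (fun x : Q' => hi x.2) (Q'.subtype.comp β.toMonoidHom)
      (fun x => (hψQ x).symm) (val0_subtype hQ'T) hd
    rw [mul_one] at h0
    have hd1 : d = 1 := val0_unique hs hQ'c h0 hβ1
    have hψG : ψ ∈ G.Hom U := mem_genSystem hUg hψ (hd1 ▸ hd)
    have hβG : Q'.subtype.comp β.toMonoidHom ∈ G.Hom Q' :=
      mem_of_restrict hψG le_sup_left _ fun x => (hψQ x).symm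
    obtain ⟨g, hg, hgx⟩ := hstr Q' Q' le_rfl hQ'n.1 _ hβG (fun x => (β x).2) _ he.symm
    refine mem_of_restrict hg (fun y hy => ?_) _ fun y => ?_
    · exact ⟨e ⟨y, hy⟩, (e ⟨y, hy⟩).2, by simp⟩
    · have h1 := hgx (e y) ⟨e y, (e y).2, rfl⟩
      refine Eq.trans ?_ (Eq.trans h1.symm (congrArg g (Subtype.ext (congrArg Subtype.val (e.symm_apply_apply y) :))))
      show ((α y : Q) : Ω) = ((e.symm (β (e y)) : Q) : Ω)
      rw [hβ, congr_apply, MulEquiv.symm_apply_apply, MulEquiv.symm_apply_apply]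
  exact fun P φ hφ => (hle P hφ).2

end CfsgLib.Fusion.IndexChar
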