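import Cfsg.Agent.Lib.Fusion.Group
import Cfsg.Agent.Lib.Fusion.Normal
import Cfsg.Agent.Lib.FusionQuot.NormalClosed
import Cfsg.Agent.Lib.FusionQuot.SurjSat

/-!
# Systems realized by a finite group; models
-/

set_option autoImplicit false

namespace CfsgLib.Fusion

open Cfsg Cfsg.FusionSystem

variable {Ω : Type*} [Group Ω] {S : Subgroup Ω} {F : Cfsg.FusionSystem S} {p : ℕ}
variable {G : Type*} [Group G] {ι : S →* G}

theorem realized_inj (hι : F.IsRealizedBy ι) {x y : S} (h : ι x = ι y) : (x : Ω) = y :=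
  congrArg Subtype.val (hι.1 h)

/-- A map of a realized system is conjugation by an element of the group. -/
theorem realized_exists_conj (hι : F.IsRealizedBy ι) {P : Subgroup Ω} {φ : P →* Ω} (hφ : φ ∈ F.Hom P) :
    ∃ g : G, ∀ x : P, ι ⟨φ x, map_mem hφ x⟩ = g * ι ⟨x, dom_le hφ x.2⟩ * g⁻¹ :=
  (hι.2 P (dom_le hφ) φ (map_mem hφ)).1 hφ

theorem realized_subgroup_conj (hι : F.IsRealizedBy ι) {P : Subgroup Ω} (hP : P ≤ S) (g : G)
    (h : ∀ x : P, g * ι ⟨x, hP x.2⟩ * g⁻¹ ∈ ι.range) :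
    ∃ φ ∈ F.Hom P, ∀ (x : P) (hx : φ x ∈ S), ι ⟨φ x, hx⟩ = g * ι ⟨x, hP x.2⟩ * g⁻¹ := by
  let e : S ≃* ι.range := MonoidHom.ofInjective hι.1
  let φ : P →* Ω := S.subtype.comp (e.symm.toMonoidHom.comp
    (((MulAut.conj g).toMonoidHom.comp (ι.comp (Subgroup.inclusion hP))).codRestrict ι.range h))
  have key : ∀ (x : P) (hx : φ x ∈ S), ι ⟨φ x, hx⟩ = g * ι ⟨x, hP x.2⟩ * g⁻¹ := by
    intro x hx
    show ι (e.symm ⟨g * ι ⟨x, hP x.2⟩ * g⁻¹, h x⟩) = _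
    exact congrArg Subtype.val (e.apply_symm_apply ⟨g * ι ⟨x, hP x.2⟩ * g⁻¹, h x⟩)
  refine ⟨φ, (hι.2 P hP φ fun x => (e.symm _).2).2 ⟨g, fun x => key x _⟩, key⟩

theorem realized_conj_mem_range_of_sup (hι : F.IsRealizedBy ι) {P Q : Subgroup Ω} (hP : P ≤ S)
    (hQ : Q ≤ S) {g : G} (h₁ : ∀ x : P, g * ι ⟨x, hP x.2⟩ * g⁻¹ ∈ ι.range)
    (h₂ : ∀ x : Q, g * ι ⟨x, hQ x.2⟩ * g⁻¹ ∈ ι.range) (x : ↥(P ⊔ Q)) :
    g * ι ⟨x, sup_le hP hQ x.2⟩ * g⁻¹ ∈ ι.range := by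
  have hle : P ⊔ Q ≤ (ι.range.comap ((MulAut.conj g).toMonoidHom.comp ι)).map S.subtype :=
    sup_le (fun y hy => ⟨⟨y, hP hy⟩, h₁ ⟨y, hy⟩, rfl⟩) (fun y hy => ⟨⟨y, hQ hy⟩, h₂ ⟨y, hy⟩, rfl⟩)
  obtain ⟨y, hy, hyx⟩ := hle x.2
  have : y = ⟨x, sup_le hP hQ x.2⟩ := Subtype.ext hyx
  exact this ▸ hy

/-- A realized system over a Sylow subgroup is saturated. -/
theorem realized_isSaturated [Finite G] [Fact p.Prime] (hι : F.IsRealizedBy ι)
    (hT : ∃ T : Sylow p G, (T : Subgroup G) = ι.range) : F.IsSaturated p := by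
  obtain ⟨T, hT⟩ := hT
  let e : S ≃* ι.range := MonoidHom.ofInjective hι.1
  let θ : ι.range →* Ω := S.subtype.comp e.symm.toMonoidHom
  have hθ : ∀ (y : ι.range) (h : θ y ∈ S), ι ⟨θ y, h⟩ = y := fun y _ =>
    congrArg Subtype.val (e.apply_symm_apply y)
  have hTp : IsPGroup p ι.range := hT ▸ T.2
  have hsat : (groupFusionSystem ι.range).IsSaturated p := hT ▸ groupFusionSystem_isSaturated T
  refine CfsgLib.FusionQuot.isSaturated_of_isSurjectiveMorphism (α := θ) hTp hsat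
    ⟨⟨fun y => (e.symm y).2, fun P φ hφ => ?_⟩, ?_, fun P' hP' φ' hφ' => ?_⟩
  · obtain ⟨hP, hφr, g, hg⟩ := hφ
    have hX : imageAlong θ P ≤ S := fun y hy => by
      obtain ⟨x, hx, -, rfl⟩ := CfsgLib.FusionQuot.mem_imageAlong.1 hy
      exact (e.symm ⟨x, hx⟩).2
    have hxP : ∀ (y : imageAlong θ P), (ι ⟨y, hX y.2⟩) ∈ P := by
      rintro ⟨y, hy⟩
      obtain ⟨x, hx, hxP, rfl⟩ := CfsgLib.FusionQuot.mem_imageAlong.1 hy
      exact (hθ ⟨x, hx⟩ (hX hy)).symm ▸ hxP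
    obtain ⟨φ', hφ', hφ'g⟩ := realized_subgroup_conj hι hX g fun y => hg ⟨_, hxP y⟩ ▸ hφr _
    refine ⟨φ', hφ', hP, hφr, fun x => CfsgLib.FusionQuot.apply_mem_imageAlong _ x.2, fun x => ?_⟩
    have h1 := hφ'g ⟨θ ⟨x, hP x.2⟩, CfsgLib.FusionQuot.apply_mem_imageAlong _ x.2⟩ (map_mem hφ' _)
    refine realized_inj hι (x := ⟨_, map_mem hφ' _⟩) (y := ⟨_, (e.symm ⟨φ x, hφr x⟩).2⟩) ?_
    rw [h1]
    show g * ι ⟨θ ⟨x, hP x.2⟩, _⟩ * g⁻¹ = ι (e.symm ⟨φ x, hφr x⟩)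
    rw [hθ]
    exact ((hθ ⟨φ x, hφr x⟩ (e.symm ⟨φ x, hφr x⟩).2).trans (hg x)).symm
  · ext y
    constructor
    · rintro ⟨x, rfl⟩
      exact (e.symm x).2
    · intro hy
      exact ⟨e ⟨y, hy⟩, congrArg Subtype.val (e.symm_apply_apply ⟨y, hy⟩)⟩
  · obtain ⟨g, hg⟩ := realized_exists_conj hι hφ'
    set P := preimageAlong θ P' with hP
    have hPle : P ≤ ι.range := CfsgLib.FusionQuot.preimageAlong_le P'
    have hx : ∀ x : P, θ ⟨x, hPle x.2⟩ ∈ P' := fun x =>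
      (CfsgLib.FusionQuot.mem_preimageAlong.1 x.2).2
    have hval : ∀ x : P, ι ⟨φ' ⟨_, hx x⟩, map_mem hφ' _⟩ = g * x * g⁻¹ := fun x => by
      rw [hg ⟨_, hx x⟩]
      show g * ι ⟨θ ⟨x, hPle x.2⟩, _⟩ * g⁻¹ = _
      rw [hθ]
    refine ⟨conjHom P g, ⟨hPle, fun x => ⟨_, hval x⟩, g, fun _ => rfl⟩,
      hPle, fun x => ⟨_, hval x⟩, hx, fun x => ?_⟩
    refine realized_inj hι (x := ⟨_, map_mem hφ' _⟩)
      (y := ⟨_, (e.symm ⟨conjHom P g x, ⟨_, hval x⟩⟩).2⟩) ?_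
    rw [hval]
    exact (hθ ⟨conjHom P g x, ⟨_, hval x⟩⟩ (e.symm _).2).symm

/-! ### Models -/

/-- The preimage of `O_p` of a model. -/
def modelCore (p : ℕ) (ι : S →* G) : Subgroup Ω := ((pCore p G).comap ι).map S.subtype

theorem modelCore_le (p : ℕ) (ι : S →* G) : modelCore p ι ≤ S := Subgroup.map_subtype_le _

theorem mem_modelCore {x : Ω} : x ∈ modelCore p ι ↔ ∃ h : x ∈ S, ι ⟨x, h⟩ ∈ pCore p G := by
  constructor
  · rintro ⟨y, hy, rfl⟩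
    exact ⟨y.2, hy⟩
  · rintro ⟨h, hy⟩
    exact ⟨⟨x, h⟩, hy, rfl⟩

theorem pCore_le_range [Finite G] [Fact p.Prime] (hG : F.IsModel p G ι) : pCore p G ≤ ι.range := by
  obtain ⟨T, hT⟩ := hG.2.2.1
  exact hT ▸ CfsgLib.Solvable.pCore_le_sylow T

theorem model_isSaturated [Fact p.Prime] (hG : F.IsModel p G ι) : F.IsSaturated p :=
  have := hG.1
  realized_isSaturated hG.2.1 hG.2.2.1

theorem isNormal_modelCore [Fact p.Prime] (hG : F.IsModel p G ι) :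
    F.IsNormal (modelCore p ι) := by
  have hfin : Finite G := hG.1
  have hι := hG.2.1
  have hnorm : (pCore p G).Normal := CfsgLib.Solvable.pCore_normal p G
  refine ⟨modelCore_le p ι, fun P φ hφ => ?_⟩
  obtain ⟨g, hg⟩ := realized_exists_conj hι hφ
  have hPS := dom_le hφ
  have hQ : ∀ x : modelCore p ι, g * ι ⟨x, modelCore_le p ι x.2⟩ * g⁻¹ ∈ pCore p G := fun x =>
    hnorm.conj_mem _ (mem_modelCore.1 x.2).2 g
  obtain ⟨ψ, hψ, hψg⟩ := realized_subgroup_conj hι (sup_le hPS (modelCore_le p ι)) g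
    (realized_conj_mem_range_of_sup hι hPS (modelCore_le p ι) (fun x => ⟨_, hg x⟩)
      fun x => pCore_le_range hG (hQ x))
  refine ⟨ψ, hψ, fun x => realized_inj hι (x := ⟨_, map_mem hψ _⟩) (y := ⟨_, map_mem hφ x⟩) ?_, ?_⟩
  · rw [hψg, hg]
    rfl
  · ext y
    rw [mem_map_subgroupOf]
    constructor
    · rintro ⟨x, hx, hxQ, rfl⟩
      refine mem_modelCore.2 ⟨map_mem hψ _, ?_⟩
      rw [hψg]
      exact hQ ⟨x, hxQ⟩
    · intro hy
      obtain ⟨hyS, hyO⟩ := mem_modelCore.1 hy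
      have h1 : g⁻¹ * ι ⟨y, hyS⟩ * g ∈ pCore p G := by
        simpa using hnorm.conj_mem _ hyO g⁻¹
      obtain ⟨z, hz⟩ := pCore_le_range hG h1
      have hzQ : (z : Ω) ∈ modelCore p ι := mem_modelCore.2 ⟨z.2, hz.symm ▸ h1⟩
      refine ⟨z, le_sup_right (a := P) hzQ, hzQ,
        realized_inj hι (x := ⟨_, map_mem hψ _⟩) (y := ⟨y, hyS⟩) ?_⟩
      rw [hψg]
      show g * ι z * g⁻¹ = _
      rw [hz]
      simp [mul_assoc]

theorem isCentric_modelCore [Finite S] [Fact p.Prime] (hG : F.IsModel p G ι) :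
    F.IsCentric (modelCore p ι) := by
  have hfin : Finite G := hG.1
  refine ⟨modelCore_le p ι, fun R hR => ?_⟩
  rw [CfsgLib.FusionQuot.eq_of_isConj_of_stronglyClosed
    (isNormal_stronglyClosed (isNormal_modelCore hG)) hR]
  intro c hc
  refine mem_modelCore.2 ⟨hc.1, hG.2.2.2 (Subgroup.mem_centralizer_iff.2 fun o ho => ?_)⟩
  obtain ⟨x, rfl⟩ := pCore_le_range hG ho
  rw [← map_mul, ← map_mul]
  exact congrArg ι (Subtype.ext
    (Subgroup.mem_centralizer_iff.1 hc.2 x (mem_modelCore.2 ⟨x.2, ho⟩)))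

theorem model_isConstrained [Finite S] [Fact p.Prime] (hG : F.IsModel p G ι) : F.IsConstrained p :=
  ⟨model_isSaturated hG, _, isNormal_modelCore hG, isCentric_modelCore hG⟩

/-- A subgroup normal in the system is normal in a model. -/
theorem conj_mem_of_isNormal [Finite S] [Fact p.Prime] (hG : F.IsModel p G ι) {R : Subgroup Ω}
    (hR : F.IsNormal R) (g : G) {x : S} (hx : (x : Ω) ∈ R) :
    ∃ y : S, (y : Ω) ∈ R ∧ g * ι x * g⁻¹ = ι y := by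
  have hfin : Finite G := hG.1
  have hι := hG.2.1
  have hnorm : (pCore p G).Normal := CfsgLib.Solvable.pCore_normal p G
  set Q := modelCore p ι
  obtain ⟨φ, hφ, hφg⟩ := realized_subgroup_conj hι (modelCore_le p ι) g fun z =>
    pCore_le_range hG (hnorm.conj_mem _ (mem_modelCore.1 z.2).2 g)
  obtain ⟨ψ, hψ, hag, hmap⟩ := hR.2 Q φ hφ
  obtain ⟨g', hg'⟩ := realized_exists_conj hι hψ
  have hcen : g⁻¹ * g' ∈ pCore p G := by
    refine hG.2.2.2 (Subgroup.mem_centralizer_iff.2 fun o ho => ?_)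
    obtain ⟨z, rfl⟩ := pCore_le_range hG ho
    have hzQ : (z : Ω) ∈ Q := mem_modelCore.2 ⟨z.2, ho⟩
    have h1 := hg' (Subgroup.inclusion le_sup_left ⟨z, hzQ⟩)
    have h2 := hφg ⟨z, hzQ⟩ (map_mem hφ _)
    have h3 : g * ι z * g⁻¹ = g' * ι z * g'⁻¹ := by
      refine h2.symm.trans (Eq.trans ?_ h1)
      exact congrArg ι (Subtype.ext (hag ⟨z, hzQ⟩).symm)
    calc ι z * (g⁻¹ * g') = g⁻¹ * (g * ι z * g⁻¹) * g' := by simp [mul_assoc]
      _ = g⁻¹ * (g' * ι z * g'⁻¹) * g' := by rw [h3]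
      _ = g⁻¹ * g' * ι z := by simp [mul_assoc]
  obtain ⟨t, ht⟩ := pCore_le_range hG hcen
  have h4 : (t : Ω)⁻¹ * x * t ∈ R := by
    simpa using conj_mem_of_mem_normalizer
      (stronglyClosed_le_normalizer (isNormal_stronglyClosed hR) (S.inv_mem t.2)) hx
  refine ⟨⟨_, map_mem hψ ⟨_, le_sup_right (a := Q) h4⟩⟩,
    mem_of_map_subgroupOf_sup_eq hmap ⟨_, h4⟩, ?_⟩
  rw [hg']
  have h5 : ι ⟨(t : Ω)⁻¹ * x * t, hR.1 h4⟩ = ι t⁻¹ * ι x * ι t := by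
    rw [← map_mul, ← map_mul]
    rfl
  show _ = g' * ι ⟨(t : Ω)⁻¹ * x * t, _⟩ * g'⁻¹
  rw [h5, map_inv, ht]
  simp [mul_assoc]

theorem isNormal_le_modelCore [Finite S] [Fact p.Prime] (hS : IsPGroup p S) (hG : F.IsModel p G ι)
    {R : Subgroup Ω} (hR : F.IsNormal R) : R ≤ modelCore p ι := by
  have hle : (R.subgroupOf S).map ι ≤ pCore p G := by
    refine CfsgLib.Solvable.le_pCore ⟨?_⟩ ((IsPGroup.to_subgroup hS _).map _)
    rintro _ ⟨x, hx, rfl⟩ g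
    obtain ⟨y, hy, hgy⟩ := conj_mem_of_isNormal hG hR g hx
    exact ⟨y, hy, hgy.symm⟩
  exact fun x hx => mem_modelCore.2 ⟨hR.1 hx, hle ⟨⟨x, hR.1 hx⟩, hx, rfl⟩⟩

theorem modelCore_eq_core [Finite S] [Fact p.Prime] (hS : IsPGroup p S) (hG : F.IsModel p G ι) :
    modelCore p ι = F.core :=
  le_antisymm (le_sSup (isNormal_modelCore hG))
    (sSup_le fun _ hR => isNormal_le_modelCore hS hG hR)

theorem pCore_eq_map_modelCore [Finite G] [Fact p.Prime] (hG : F.IsModel p G ι) :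
    pCore p G = ((modelCore p ι).subgroupOf S).map ι := by
  ext o
  constructor
  · intro ho
    obtain ⟨x, rfl⟩ := pCore_le_range hG ho
    exact ⟨x, mem_modelCore.2 ⟨x.2, ho⟩, rfl⟩
  · rintro ⟨x, hx, rfl⟩
    exact (mem_modelCore.1 hx).2

end CfsgLib.Fusion
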