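import Cfsg.Agent.Lib.PLocal.Families
import Cfsg.Agent.Lib.Fusion.ZJCenter
import Cfsg.Agent.Lib.Fusion.GlaubermanThompson
import Cfsg.Agent.Lib.Fusion.Normal
import Cfsg.Agent.Lib.Fusion.Descent
import Cfsg.Agent.Lib.Fusion.LocalSaturation
import Cfsg.Agent.Lib.Fusion.Model
import Cfsg.Agent.Lib.Fusion.Realized
import Cfsg.Agent.Lib.FusionQuot.Solvable

/-!
The Glauberman–Thompson criterion for fusion systems, relative to a strongly closed subgroup `D`:
for odd `p` a saturated system is inner as soon as the normalizer system of `Z(J(D))` is inner.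
-/

namespace CfsgLib.FusionZJ

open Cfsg Cfsg.FusionSystem CfsgLib.Fusion CfsgLib.Fusion.Descent CfsgLib.FusionQuot CfsgLib.PLoc
  CfsgLib.ZJCenter

set_option maxHeartbeats 400000

universe u

variable {Ω : Type u} [Group Ω] {S : Subgroup Ω} {F : Cfsg.FusionSystem S} {p : ℕ}

/-- `α` carries the elements of `X` in its group to elements of `X`. -/
def Pres (X : Subgroup Ω) {R : Subgroup Ω} (α : MulAut R) : Prop :=
  ∀ x : R, (x : Ω) ∈ X → ((α x : R) : Ω) ∈ X

/-- All automorphisms of the system on subgroups between `X` and `N_S(X)` that preserve `X` have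
`p`-power order: for a fully normalized `X` this says that `N_F(X)` is inner. -/
def Good (F : Cfsg.FusionSystem S) (p : ℕ) (X : Subgroup Ω) : Prop :=
  ∀ R : Subgroup Ω, X ≤ R → R ≤ normalizerIn S X → ∀ α ∈ F.autGroup R, Pres X α →
    ∃ k : ℕ, α ^ p ^ k = 1

theorem Pres.map_eq {X R : Subgroup Ω} [Finite R] {α : MulAut R} (h : Pres X α) :
    (X.subgroupOf R).map α.toMonoidHom = X.subgroupOf R :=
  Subgroup.eq_of_le_of_card_ge (by rintro _ ⟨x, hx, rfl⟩; exact h x hx)
    (Subgroup.card_map_of_injective α.injective).ge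

/-- An injective map preserving `D` preserves `Z(J(D))`. -/
theorem zj_apply_mem {D R : Subgroup Ω} [Finite R] (hDR : D ≤ R) {φ : R →* Ω}
    (hφ : Function.Injective φ) (h : ∀ x : R, (x : Ω) ∈ D → φ x ∈ D) {x : R}
    (hx : (x : Ω) ∈ zj 0 D) : φ x ∈ zj 0 D := by
  have : Finite D := Finite.of_injective _ (Subgroup.inclusion_injective hDR)
  have hD : (D.subgroupOf R).map φ = D := by
    refine Subgroup.eq_of_le_of_card_ge (by rintro _ ⟨y, hy, rfl⟩; exact h y hy) ?_
    rw [Subgroup.card_map_of_injective hφ, Nat.card_congr (Subgroup.subgroupOfEquivOfLe hDR).toEquiv]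
  have hx' : x ∈ zj 0 (D.subgroupOf R) := by
    have h1 : (x : Ω) ∈ (zj 0 (D.subgroupOf R)).map R.subtype := by
      rw [zj_map R.subtype_injective, Subgroup.map_subgroupOf_eq_of_le hDR]
      exact hx
    obtain ⟨y, hy, hyx⟩ := h1
    rwa [Subtype.ext hyx] at hy
  have h2 := Subgroup.mem_map_of_mem φ hx'
  rwa [zj_map hφ, hD] at h2

theorem zj_ne_bot_sub [Finite S] [Fact p.Prime] (hS : IsPGroup p S) {D : Subgroup Ω} (hDS : D ≤ S)
    (hne : D ≠ ⊥) : zj 0 D ≠ ⊥ := by
  have hne' : D.subgroupOf S ≠ ⊥ := fun h => hne (eq_bot_iff.2 fun x hx => by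
    have h1 : (⟨x, hDS hx⟩ : S) ∈ D.subgroupOf S := hx
    rw [h, Subgroup.mem_bot] at h1
    exact congrArg Subtype.val h1)
  have h1 := zj_ne_bot (e := 0) (p := p) (Or.inl rfl) (hS.to_subgroup (D.subgroupOf S)) hne'
  intro h
  apply h1
  rw [← Subgroup.map_eq_bot_iff_of_injective _ S.subtype_injective, zj_map S.subtype_injective,
    Subgroup.map_subgroupOf_eq_of_le hDS, h]

/-- An element normalizing `D` and `T` normalizes `D ⊓ T`. -/
theorem normalizer_inf {D T : Subgroup Ω} {g : Ω} (hD : g ∈ Subgroup.normalizer (D : Set Ω))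
    (hT : g ∈ Subgroup.normalizer (T : Set Ω)) :
    g ∈ Subgroup.normalizer ((D ⊓ T : Subgroup Ω) : Set Ω) :=
  Subgroup.mem_normalizer_iff.2 fun x =>
    and_congr (Subgroup.mem_normalizer_iff.1 hD x) (Subgroup.mem_normalizer_iff.1 hT x)

/-- `Good` of a fully normalized conjugate passes to `X`. -/
theorem good_of_conj [Finite S] [Fact p.Prime] (hS : IsPGroup p S) (hF : F.IsSaturated p)
    {X Y : Subgroup Ω} (hXY : F.IsConj X Y) (hY : F.IsFullyNormalized Y) (h : Good F p Y) :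
    Good F p X := by
  obtain ⟨e, -, ψ, hψ, hψN, hag⟩ := exists_normalizer_map hS hF hY hXY
  intro R hXR hRN α hα hpres
  have : Finite R := finite_of_le (hRN.trans (normalizerIn_le S X))
  set φ := ψ.comp (Subgroup.inclusion hRN) with hφdef
  have hφ : φ ∈ F.Hom R := restrict_mem hψ hRN
  obtain ⟨f, hf, hfx⟩ := exists_iso hφ rfl
  have hφX : ∀ (x : R) (hx : (x : Ω) ∈ X), φ x = (e ⟨x, hx⟩ : Ω) := fun x hx => hag ⟨x, hx⟩
  have hYR : Y ≤ φ.range := by
    intro y hy
    refine ⟨⟨(e.symm ⟨y, hy⟩ : Ω), hXR (e.symm ⟨y, hy⟩).2⟩, ?_⟩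
    rw [hφX _ (e.symm ⟨y, hy⟩).2]
    simp
  have hRN' : φ.range ≤ normalizerIn S Y := by
    rintro _ ⟨x, rfl⟩
    exact hψN _
  have hpres' : Pres Y (MulAut.congr f α) := by
    intro y hy
    rw [congr_apply, hfx]
    have h1 : ((f.symm y : R) : Ω) ∈ X := by
      have h2 := hφX ⟨(e.symm ⟨y, hy⟩ : Ω), hXR (e.symm ⟨y, hy⟩).2⟩ (e.symm ⟨y, hy⟩).2
      simp only [Subtype.coe_eta, MulEquiv.apply_symm_apply] at h2
      have h3 : φ (f.symm y) = y := by rw [← hfx, MulEquiv.apply_symm_apply]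
      have h4 := hom_inj hφ (h3.trans h2.symm)
      rw [h4]
      exact (e.symm ⟨y, hy⟩).2
    rw [hφX _ (hpres _ h1)]
    exact (e _).2
  obtain ⟨k, hk⟩ := h φ.range hYR hRN' _ (hf.congr_mem hα) hpres'
  exact ⟨k, (MulAut.congr f).injective (by rw [map_pow, hk, map_one])⟩

/-- If the normalizer system of `X` is inner, then `X` is good. -/
theorem good_of_inner [Finite S] [Fact p.Prime] (hS : IsPGroup p S) {X : Subgroup Ω}
    (h : ∀ (R : Subgroup Ω) (φ : R →* Ω), φ ∈ F.normalizerHom X R →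
      φ ∈ (innerFusionSystem (normalizerIn S X)).Hom R) : Good F p X := by
  intro R hXR hRN α hα hpres
  have : Finite R := finite_of_le (hRN.trans (normalizerIn_le S X))
  obtain ⟨-, g, hg, hx⟩ := h R _ (mem_normalizerHom_of_aut hXR hRN hα hpres.map_eq)
  obtain ⟨k, hk⟩ := isPGroup_autInducedBy hS R ⟨α, mem_autInducedBy_iff.2 ⟨g, hg.1, hx⟩⟩
  exact ⟨k, congrArg Subtype.val hk⟩

/-- The measure in the maximal choice of a bad subgroup. -/
noncomputable def meas (S X : Subgroup Ω) : ℕ :=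
  Nat.card (normalizerIn S X) * (Nat.card S + 1) + Nat.card X

theorem meas_lt_of_normalizer_lt [Finite S] {X Y : Subgroup Ω} (hX : X ≤ S)
    (h : normalizerIn S X < Y) (hYS : Y ≤ S) {Z : Subgroup Ω} (hYZ : Y ≤ normalizerIn S Z) :
    meas S X < meas S Z := by
  have : Finite (normalizerIn S Z) := finite_of_le (normalizerIn_le S Z)
  have : Finite Y := finite_of_le hYS
  have h1 : Nat.card (normalizerIn S X) < Nat.card Y :=
    lt_of_not_ge fun hge => h.ne (Subgroup.eq_of_le_of_card_ge h.le hge)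
  have h2 : Nat.card Y ≤ Nat.card (normalizerIn S Z) := Subgroup.card_le_of_le hYZ
  have h3 : Nat.card X ≤ Nat.card S := Subgroup.card_le_of_le hX
  have h4 := Nat.mul_le_mul_right (Nat.card S + 1) (Nat.succ_le_of_lt (h1.trans_le h2))
  rw [Nat.succ_mul] at h4
  unfold meas
  omega

theorem meas_lt_of_lt [Finite S] {X Z : Subgroup Ω} (hZ : Z ≤ S) (hXZ : X < Z)
    (h : normalizerIn S X ≤ normalizerIn S Z) : meas S X < meas S Z := by
  have : Finite (normalizerIn S Z) := finite_of_le (normalizerIn_le S Z)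
  have : Finite Z := finite_of_le hZ
  have h1 : Nat.card X < Nat.card Z :=
    lt_of_not_ge fun hge => hXZ.ne (Subgroup.eq_of_le_of_card_ge hXZ.le hge)
  have h2 := Nat.mul_le_mul_right (Nat.card S + 1) (Subgroup.card_le_of_le h)
  unfold meas
  omega

/-- The coset action of an automorphism that is trivial on `U` and modulo `U`. -/
theorem pow_apply_of_fix {R : Subgroup Ω} {β : MulAut R} {x z : R} (h : β x = x * z) (hz : β z = z)
    (n : ℕ) : (β ^ n) x = x * z ^ n := by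
  induction n with
  | zero => simp
  | succ n ih => rw [pow_succ', MulAut.mul_apply, ih, map_mul, map_pow, h, hz, pow_succ', mul_assoc]

/-- A p-group has a normal p-complement. -/
theorem npc_of_isPGroup {H : Type*} [Group H] (h : IsPGroup p H) : Cfsg.HasNormalPComplement p H :=
  ⟨{ toSubgroup := ⊤, isPGroup' := h.to_subgroup ⊤, is_maximal' := fun _ hQ => top_le_iff.1 hQ },
    ⊥, inferInstance, Subgroup.isComplement'_bot_top⟩

/-- A group with normal p-complement in which `O_p` contains its centralizer is a p-group. -/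
theorem isPGroup_of_npc {L : Type*} [Group L] [Finite L] [Fact p.Prime]
    (h : Cfsg.HasNormalPComplement p L)
    (hc : Subgroup.centralizer ((pCore p L : Subgroup L) : Set L) ≤ pCore p L) : IsPGroup p L := by
  obtain ⟨P, K, hK, hKP⟩ := h
  have hKcard : Nat.card K = (P : Subgroup L).index := hKP.index_eq_card.symm
  have hco : (Nat.card K).Coprime p :=
    ((Fact.out (p := p.Prime)).coprime_iff_not_dvd.2 (hKcard ▸ P.not_dvd_index)).symm
  have hO : IsPGroup p (pCore p L) := CfsgLib.Solvable.pCore_isPGroup p L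
  have hdis : Disjoint K (pCore p L) := by
    rw [disjoint_iff, ← Subgroup.card_eq_one]
    obtain ⟨i, hi⟩ := IsPGroup.iff_card.1 (hO.to_le (inf_le_right : K ⊓ pCore p L ≤ _))
    have h1 : Nat.card (K ⊓ pCore p L : Subgroup L) ∣ Nat.card K :=
      Subgroup.card_dvd_of_le inf_le_left
    rw [hi] at h1 ⊢
    exact Nat.eq_one_of_dvd_coprimes (hco.pow_right i) h1 dvd_rfl
  have hKbot : K = ⊥ := by
    refine disjoint_iff.1 hdis ▸ le_antisymm (le_inf le_rfl ?_) inf_le_left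
    refine le_trans (fun k hk => Subgroup.mem_centralizer_iff.2 fun o ho => ?_) hc
    exact (Subgroup.commute_of_normal_of_disjoint K (pCore p L) hK
      (CfsgLib.Solvable.pCore_normal p L) hdis k o hk ho).symm
  subst hKbot
  exact P.isPGroup'.of_equiv
    ((MulEquiv.subgroupCongr (Subgroup.isComplement'_bot_left.1 hKP)).trans Subgroup.topEquiv)

/-- The automizer of `U` is a p-group once `U C_S(U)` is good. -/
theorem autGroup_pow_eq_one [Finite S] {U : Subgroup Ω} (hU : F.IsReceptive U)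
    (hgood : Good F p (U ⊔ centralizerIn S U)) {α : MulAut U} (hα : α ∈ F.autGroup U) :
    ∃ k : ℕ, α ^ p ^ k = 1 := by
  set C := centralizerIn S U with hC
  have hUS : U ≤ S := hU.1
  have hR0S : U ⊔ C ≤ S := sup_le hUS (centralizerIn_le S U)
  have : Finite ↥(U ⊔ C) := finite_of_le hR0S
  set φ := U.subtype.comp α.toMonoidHom with hφdef
  have hφ : φ ∈ F.Hom U := (mem_autGroup_iff_hom hUS).1 hα
  obtain ⟨ψ, hψ, hag⟩ := hU.2 U φ hφ (range_subtype_comp (α : U ≃* U))
  have hext : U ⊔ C ≤ extender S U φ :=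
    sup_le (le_extender hUS (map_mem hφ)) (centralizerIn_le_extender φ)
  set χ := ψ.comp (Subgroup.inclusion hext) with hχdef
  have hχU : ∀ u : U, χ (Subgroup.inclusion le_sup_left u) = (α u : Ω) := fun u => hag _ u.2 _
  have hχ : ∀ x, χ x ∈ U ⊔ C := by
    refine forall_mem_of_sup (fun u => ?_) (fun c => ?_)
    · rw [hχU]
      exact le_sup_left (b := C) (α u).2
    · refine le_sup_right (a := U) ⟨map_mem hψ _, Subgroup.mem_centralizer_iff.2 fun u hu => ?_⟩
      have h1 : u = χ (Subgroup.inclusion le_sup_left (α.symm ⟨u, hu⟩)) := by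
        rw [hχU, MulEquiv.apply_symm_apply]
      rw [h1, ← map_mul, ← map_mul]
      exact congrArg χ (Subtype.ext (Subgroup.mem_centralizer_iff.1 c.2.2 _ (α.symm ⟨u, hu⟩).2))
  obtain ⟨β, hβ, hβx⟩ := exists_aut (restrict_mem hψ hext)
    (range_eq_of_le (hom_inj (restrict_mem hψ hext)) hχ)
  obtain ⟨k, hk⟩ := hgood (U ⊔ C) le_rfl (le_normalizerIn hR0S) β hβ fun x _ => (β x).2
  have hpow : ∀ (n : ℕ) (u : U),
      (β ^ n) (Subgroup.inclusion le_sup_left u) = Subgroup.inclusion le_sup_left ((α ^ n) u) := by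
    intro n
    induction n with
    | zero => exact fun u => rfl
    | succ n ih =>
      intro u
      rw [pow_succ', MulAut.mul_apply, ih, pow_succ', MulAut.mul_apply]
      exact Subtype.ext ((hβx _).trans (hχU _))
  refine ⟨k, MulEquiv.ext fun u => Subgroup.inclusion_injective (le_sup_left (b := C)) ?_⟩
  rw [← hpow, hk]
  rfl

section Step

variable [Fact p.Prime]

/-- The quotient argument in the non-centric case. -/
theorem good_of_factor (hp2 : p ≠ 2) [Finite S] (hS : IsPGroup p S) (hF : F.IsSaturated p)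
    {D : Subgroup Ω} (hD : F.StronglyClosed D) {U : Subgroup Ω} (hU : F.IsFullyNormalized U)
    (hU1 : U ≠ ⊥)
    (hbig : ∀ X : Subgroup Ω, X ≤ S → X ≠ ⊥ → meas S U < meas S X → Good F p X)
    (hnot : ¬ D ⊓ normalizerIn S U ≤ U) (hAut : ∀ α ∈ F.autGroup U, ∃ k : ℕ, α ^ p ^ k = 1)
    (ih : ∀ {Ω' : Type u} [Group Ω'] {S' : Subgroup Ω'} [Finite S'] (E : Cfsg.FusionSystem S'),
      Nat.card S' < Nat.card S → IsPGroup p S' → E.IsSaturated p → ∀ D' : Subgroup Ω',
        E.StronglyClosed D' → Good E p (zj 0 D') →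
        ∀ R ≤ S', IsPGroup p (E.autGroup R)) : Good F p U := by
  set T := normalizerIn S U with hT
  have hTS : T ≤ S := normalizerIn_le S U
  have hUT : U ≤ T := le_normalizerIn hU.1
  have : Finite T := finite_of_le hTS
  have hTp : IsPGroup p T := hS.to_le hTS
  set N := normalizerSystem F U hU.1 with hN
  have hNsat : N.IsSaturated p :=
    isSaturated_normalizerSystem hS hF hU (isNormalizerSystem_normalizerSystem F U hU.1)
  have hUcl : N.StronglyClosed U := by
    refine ⟨hUT, fun R hR φ hφ x => ?_⟩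
    obtain ⟨-, -, -, ψ, -, hag, hUψ⟩ := hφ
    rw [← hag x]
    exact mem_of_map_subgroupOf_sup_eq hUψ ⟨x, hR x.2⟩
  have hDcl : N.StronglyClosed (D ⊓ T) :=
    ⟨inf_le_right, fun R hR φ hφ x =>
      ⟨hD.2 R (hR.trans inf_le_left) φ hφ.1 x, map_mem hφ x⟩⟩
  have hnorm : (U.subgroupOf T).Normal := stronglyClosed_subgroupOf_normal hUcl
  obtain ⟨E, hE⟩ := exists_factorSystem_quotient N U hUcl
  set θ := QuotientGroup.mk' (U.subgroupOf T) with hθdef
  have hθ : ∀ t : T, θ t = 1 ↔ (t : Ω) ∈ U := hE.2.1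
  have hθs : ∀ R' : Subgroup (T ⧸ U.subgroupOf T), R' ≤ θ.range := fun R' =>
    le_top.trans hE.2.2.1.ge
  have hEsat := isSaturated_factor hTp hNsat hUcl hE
  have hEp := isPGroup_of_isFactorSystem hTp hE
  set D' := imageAlong θ (D ⊓ T) with hD'def
  have hD' : E.StronglyClosed D' := stronglyClosed_imageAlong hUcl hE hDcl
  have hD'ne : D' ≠ ⊥ := fun h => hnot fun x hx => (hθ ⟨x, hx.2⟩).1
    (Subgroup.mem_bot.1 (h ▸ apply_mem_imageAlong hx.2 hx))
  set W := zj 0 D' with hW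
  have hWne : W ≠ ⊥ :=
    zj_ne_bot (p := p) (Or.inl rfl) ((hEp.of_equiv Subgroup.topEquiv).to_subgroup D') hD'ne
  have hWn : ∀ g : T ⧸ U.subgroupOf T, g ∈ Subgroup.normalizer (W : Set (T ⧸ U.subgroupOf T)) :=
    fun g => normalizer_le_normalizer_zj 0 D' (stronglyClosed_le_normalizer hD' (Subgroup.mem_top g))
  set X := preimageAlong θ W with hX
  have hXT : X ≤ T := preimageAlong_le _
  have hUX : U ≤ X := fun x hx => mem_preimageAlong_of_eq_one (hUT hx) ((hθ _).2 hx)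
  have hXU : U < X := by
    refine lt_of_le_of_ne hUX fun h => hWne (eq_bot_iff.2 ?_)
    rw [← imageAlong_preimageAlong (hθs W)]
    intro y hy
    obtain ⟨x, hx, hxX, rfl⟩ := mem_imageAlong.1 hy
    rw [← hX, ← h] at hxX
    exact Subgroup.mem_bot.2 ((hθ _).2 hxX)
  have hTN : T ≤ Subgroup.normalizer (X : Set Ω) := by
    intro g hg
    rw [Subgroup.mem_normalizer_iff]
    intro x
    constructor
    · intro hx
      obtain ⟨hxT, hxW⟩ := mem_preimageAlong.1 hx
      refine mem_preimageAlong.2 ⟨T.mul_mem (T.mul_mem hg hxT) (T.inv_mem hg), ?_⟩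
      have := (Subgroup.mem_normalizer_iff.1 (hWn (θ ⟨g, hg⟩)) _).1 hxW
      rw [← map_inv, ← map_mul, ← map_mul] at this
      exact this
    · intro hx
      obtain ⟨hxT, hxW⟩ := mem_preimageAlong.1 hx
      have hxT' : x ∈ T := by
        have := T.mul_mem (T.mul_mem (T.inv_mem hg) hxT) hg
        simpa [mul_assoc] using this
      refine mem_preimageAlong.2 ⟨hxT', (Subgroup.mem_normalizer_iff.1 (hWn (θ ⟨g, hg⟩)) _).2 ?_⟩
      rw [← map_inv, ← map_mul, ← map_mul]
      exact hxW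
  have hTNX : T ≤ normalizerIn S X := le_inf hTS hTN
  have hXgood : Good F p X := hbig X (hXT.trans hTS) (fun h => hU1 (le_bot_iff.1 (h ▸ hUX)))
    (meas_lt_of_lt (hXT.trans hTS) hXU hTNX)
  have hWgood : Good E p W := by
    intro R' hWR hR' α' hα' hpres
    obtain ⟨-, φ, hφ, hi⟩ := (hE.2.2.2 R' _).1 ((mem_autGroup_iff_hom le_top).1 hα')
    have : Finite ↥(preimageAlong θ R') := finite_of_le ((preimageAlong_le R').trans hTS)
    have hind : ∀ x : preimageAlong θ R', θ ⟨φ x, map_mem hφ x⟩ =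
        ((α' ⟨θ ⟨x, preimageAlong_le R' x.2⟩, (mem_preimageAlong.1 x.2).2⟩ : R') : _) :=
      fun x => (induced_apply hi x _ _ _).symm
    have hφR : ∀ x, φ x ∈ preimageAlong θ R' := fun x => mem_preimageAlong.2 ⟨map_mem hφ x, hind x ▸ (α' _).2⟩
    obtain ⟨β, hβ, hβx⟩ := exists_aut hφ.1 (range_eq_of_le (hom_inj hφ) hφR)
    have hind' : ∀ x : preimageAlong θ R', θ ⟨(β x : Ω), preimageAlong_le R' (β x).2⟩ =
        ((α' ⟨θ ⟨x, preimageAlong_le R' x.2⟩, (mem_preimageAlong.1 x.2).2⟩ : R') : _) := fun x => by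
      rw [← hind]
      exact congrArg θ (Subtype.ext (hβx x))
    have hβp : Pres X β := fun x hx => mem_preimageAlong.2 ⟨preimageAlong_le R' (β x).2,
      hind' x ▸ hpres _ (mem_preimageAlong.1 hx).2⟩
    obtain ⟨k, hk⟩ := hXgood _ (preimageAlong_mono hWR) ((preimageAlong_le R').trans hTNX) β hβ hβp
    have hpow : ∀ (n : ℕ) (x : preimageAlong θ R'), θ ⟨((β ^ n) x : Ω), preimageAlong_le R' ((β ^ n) x).2⟩ =
        (((α' ^ n) ⟨θ ⟨x, preimageAlong_le R' x.2⟩, (mem_preimageAlong.1 x.2).2⟩ : R') : _) := by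
      intro n
      induction n with
      | zero => exact fun x => rfl
      | succ n ihn =>
        intro x
        have h1 := hind' ((β ^ n) x)
        simp only [pow_succ', MulAut.mul_apply]
        rw [h1]
        exact congrArg (fun t : R' => (t : T ⧸ U.subgroupOf T)) (congrArg α' (Subtype.ext (ihn x)))
    refine ⟨k, MulEquiv.ext fun y => Subtype.ext ?_⟩
    obtain ⟨t, ht⟩ := hθs R' y.2
    have htR : (t : Ω) ∈ preimageAlong θ R' := mem_preimageAlong.2 ⟨t.2, ht ▸ y.2⟩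
    have h1 := hpow (p ^ k) ⟨t, htR⟩
    have hy : (⟨θ t, ht ▸ y.2⟩ : R') = y := Subtype.ext ht
    simp only [hk, MulAut.one_apply, Subtype.coe_eta, hy] at h1
    rw [← h1, MulAut.one_apply, ← ht]
  have hlt : Nat.card (⊤ : Subgroup (T ⧸ U.subgroupOf T)) < Nat.card S := by
    rw [Subgroup.card_top]
    have h1 := Subgroup.card_eq_card_quotient_mul_card_subgroup (U.subgroupOf T)
    have h2 : 1 < Nat.card (U.subgroupOf T) := by
      rw [Nat.card_congr (Subgroup.subgroupOfEquivOfLe hUT).toEquiv]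
      have : Finite U := finite_of_le hU.1
      exact Subgroup.one_lt_card_iff_ne_bot U |>.2 hU1
    have h3 : 0 < Nat.card (T ⧸ U.subgroupOf T) := Nat.card_pos
    have h4 := Nat.mul_lt_mul_of_pos_left h2 h3
    rw [mul_one, ← h1] at h4
    exact h4.trans_le (Subgroup.card_le_of_le hTS)
  intro R hUR hRN α hα hpres
  have : Finite R := finite_of_le (hRN.trans hTS)
  -- `α` has p-power order on `U`
  let r : MulAut U := restrictIso (α : R ≃* R) hUR hUR fun x => by
    refine ⟨fun hx => ?_, hpres x⟩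
    have h1 : α x ∈ (U.subgroupOf R).map α.toMonoidHom := hpres.map_eq.symm ▸ hx
    obtain ⟨y, hy, hyx⟩ := h1
    rwa [← α.injective hyx]
  obtain ⟨k₁, hk₁⟩ := hAut r ((mem_autGroup_iff hU.1).2
    (IsFIso.restrict ((mem_autGroup_iff (hRN.trans hTS)).1 hα) hUR _ fun _ => rfl))
  have hrpow : ∀ (n : ℕ) (u : U),
      (α ^ n) (Subgroup.inclusion hUR u) = Subgroup.inclusion hUR ((r ^ n) u) := by
    intro n
    induction n with
    | zero => exact fun u => rfl
    | succ n ihn =>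
      intro u
      simp only [pow_succ', MulAut.mul_apply]
      rw [ihn]
      rfl
  -- `α` has p-power order modulo `U`
  have hmem := mem_normalizerHom_of_aut hUR hRN hα hpres.map_eq
  obtain ⟨R', hR'⟩ : ∃ R', R = preimageAlong θ R' :=
    ⟨imageAlong θ R, (preimageAlong_imageAlong hRN fun x hx h => hUR ((hθ ⟨x, hx⟩).1 h)).symm⟩
  subst hR'
  set φ := (preimageAlong θ R').subtype.comp α.toMonoidHom with hφdef
  have hφ : φ ∈ N.Hom (preimageAlong θ R') := hmem
  have hker : ∀ x : preimageAlong θ R', θ ⟨x, hRN x.2⟩ = 1 → θ ⟨φ x, map_mem hφ x⟩ = 1 :=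
    fun x hx => (hθ _).2 (hpres x ((hθ _).1 hx))
  obtain ⟨φ', hi⟩ := exists_induced (α := θ) hRN (map_mem hφ) hker
  set χ := φ'.comp (Subgroup.inclusion (imageAlong_preimageAlong (hθs R')).ge) with hχdef
  have hiχ : InducedAlong θ φ χ := ⟨preimageAlong_le _, map_mem hφ,
    fun x => (mem_preimageAlong.1 x.2).2, fun x => induced_apply hi x _ _ _⟩
  have hχ : χ ∈ E.Hom R' := (hE.2.2.2 R' χ).2 ⟨le_top, φ, hφ, hiχ⟩
  have hχR : ∀ y, χ y ∈ R' := by
    intro y
    obtain ⟨t, ht⟩ := hθs R' y.2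
    have htR : (t : Ω) ∈ preimageAlong θ R' := mem_preimageAlong.2 ⟨t.2, ht ▸ y.2⟩
    have hy : y = ⟨θ t, ht ▸ y.2⟩ := Subtype.ext ht.symm
    rw [hy, induced_apply hiχ ⟨t, htR⟩ t.2 _ (map_mem hφ _)]
    exact (mem_preimageAlong.1 (α ⟨t, htR⟩).2).2
  obtain ⟨γ, hγ, hγx⟩ := exists_aut hχ (range_eq_of_le (hom_inj hχ) hχR)
  obtain ⟨k₂, hk₂⟩ := ih E hlt hEp hEsat D' hD' hWgood R' le_top ⟨γ, hγ⟩
  have hk₂' : γ ^ p ^ k₂ = 1 := congrArg Subtype.val hk₂
  have hγpow : ∀ (n : ℕ) (x : preimageAlong θ R'),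
      θ ⟨((α ^ n) x : Ω), hRN ((α ^ n) x).2⟩ =
        (((γ ^ n) ⟨θ ⟨x, hRN x.2⟩, (mem_preimageAlong.1 x.2).2⟩ : R') : _) := by
    intro n
    induction n with
    | zero => exact fun x => rfl
    | succ n ihn =>
      intro x
      simp only [pow_succ', MulAut.mul_apply]
      have e : (γ ^ n) ⟨θ ⟨x, hRN x.2⟩, (mem_preimageAlong.1 x.2).2⟩ =
          ⟨θ ⟨((α ^ n) x : Ω), hRN ((α ^ n) x).2⟩, (mem_preimageAlong.1 ((α ^ n) x).2).2⟩ :=
        Subtype.ext (ihn x).symm
      rw [e, hγx]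
      exact (induced_apply hiχ ((α ^ n) x) _ _ _).symm
  have : Finite U := finite_of_le hU.1
  obtain ⟨m, hm⟩ := IsPGroup.iff_card.1 (hS.to_le hU.1)
  refine ⟨k₁ + k₂ + m, MulEquiv.ext fun x => ?_⟩
  rw [pow_add, pow_mul, MulAut.one_apply]
  set β := α ^ p ^ (k₁ + k₂) with hβ
  have hβU : ∀ u : U, β (Subgroup.inclusion hUR u) = Subgroup.inclusion hUR u := fun u => by
    rw [hβ, hrpow, pow_add, pow_mul, hk₁, one_pow]
    rfl
  have hγ1 : γ ^ p ^ (k₁ + k₂) = 1 := by rw [pow_add, mul_comm, pow_mul, hk₂', one_pow]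
  have hz : ((x⁻¹ * β x : preimageAlong θ R') : Ω) ∈ U := by
    refine (hθ ⟨_, hRN (x⁻¹ * β x).2⟩).1 ?_
    have h1 := hγpow (p ^ (k₁ + k₂)) x
    rw [hγ1, MulAut.one_apply] at h1
    show θ (⟨x, hRN x.2⟩⁻¹ * ⟨(β x : Ω), hRN (β x).2⟩) = 1
    rw [map_mul, map_inv, h1, inv_mul_cancel]
  set z := x⁻¹ * β x with hzdef
  have hzU : z = Subgroup.inclusion hUR ⟨z, hz⟩ := rfl
  rw [pow_apply_of_fix (show β x = x * z by rw [hzdef, mul_inv_cancel_left])
    (by rw [hzU, hβU]) (p ^ m), hzU, ← map_pow, ← hm, pow_card_eq_one', map_one, mul_one]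

/-- The centric case: the model of `N_F(U)` is a p-group. -/
theorem good_of_centric (hp2 : p ≠ 2) [Finite S] (hS : IsPGroup p S) (hF : F.IsSaturated p)
    {D : Subgroup Ω} (hD : F.StronglyClosed D) {U : Subgroup Ω} (hU : F.IsFullyNormalized U)
    (hC : centralizerIn S U ≤ U) (hW1 : Good F p (zj 0 (D ⊓ normalizerIn S U)))
    (hTW : normalizerIn S U ≤ normalizerIn S (zj 0 (D ⊓ normalizerIn S U))) : Good F p U := by
  set T := normalizerIn S U with hT
  have hTS : T ≤ S := normalizerIn_le S U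
  have hUT : U ≤ T := le_normalizerIn hU.1
  have : Finite T := finite_of_le hTS
  have : Finite U := finite_of_le hU.1
  have hTp : IsPGroup p T := hS.to_le hTS
  set N := normalizerSystem F U hU.1 with hN
  have hc : F.IsCentric U :=
    isCentric_of_centralizerIn_le (isFullyCentralized_of_isFullyNormalized hS hF hU) hC
  obtain ⟨L, _, ι, τ, hmod, -, -, hequiv, hker⟩ := CfsgLib.FusionModel.exists_model hS hF hc hU hU.1 N
    (isNormalizerSystem_normalizerSystem F U hU.1)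
  have : Finite L := hmod.1
  have hι := hmod.2.1
  obtain ⟨P, hP⟩ := hmod.2.2.1
  have hcen := hmod.2.2.2
  set DT := D ⊓ T with hDT
  have hDTT : DT ≤ T := inf_le_right
  set W1 := zj 0 DT with hW1def
  have hW1T : W1 ≤ T := (zj_le 0 DT).trans hDTT
  have hDcl : N.StronglyClosed DT :=
    ⟨hDTT, fun R hR φ hφ x => ⟨hD.2 R (hR.trans inf_le_left) φ hφ.1 x, map_mem hφ x⟩⟩
  set DL := (DT.subgroupOf T).map ι with hDLdef
  have hDL : CfsgLib.ZJCenter.StronglyClosedIn (P : Subgroup L) DL := by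
    refine ⟨hP.symm ▸ Subgroup.map_le_range _ _, ?_⟩
    rintro _ ⟨x, hx, rfl⟩ g hg
    rw [hP] at hg
    have hZ : Subgroup.zpowers (x : Ω) ≤ T := Subgroup.zpowers_le.2 x.2
    have hmemr : ∀ y : Subgroup.zpowers (x : Ω), g * ι ⟨y, hZ y.2⟩ * g⁻¹ ∈ ι.range := by
      rintro ⟨_, j, rfl⟩
      have h1 : (⟨(x : Ω) ^ j, hZ ⟨j, rfl⟩⟩ : T) = x ^ j := Subtype.ext (by simp)
      show g * ι ⟨(x : Ω) ^ j, _⟩ * g⁻¹ ∈ _
      rw [h1, map_zpow, ← conj_zpow]
      exact zpow_mem hg j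
    obtain ⟨φ, hφ, hφx⟩ := realized_subgroup_conj hι hZ g hmemr
    have h1 := hφx ⟨x, Subgroup.mem_zpowers _⟩ (map_mem hφ _)
    rw [← h1]
    exact Subgroup.mem_map_of_mem ι (hDcl.2 _ (Subgroup.zpowers_le.2 hx) φ hφ _)
  have hWL : zj 0 DL = (W1.subgroupOf T).map ι := by
    rw [hDLdef, ← zj_map hι.1]
    congr 1
    apply Subgroup.map_injective T.subtype_injective
    rw [zj_map T.subtype_injective, Subgroup.map_subgroupOf_eq_of_le hDTT,
      Subgroup.map_subgroupOf_eq_of_le hW1T]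
  have hNL : IsPGroup p (Subgroup.normalizer (zj 0 DL : Set L)) := by
    rintro ⟨l, hl⟩
    rw [hWL] at hl
    have hRT : W1 ⊔ U ≤ T := sup_le hW1T hUT
    have : Finite ↥(W1 ⊔ U) := finite_of_le (hRT.trans hTS)
    have h1 : ∀ x : W1, ∃ y : T, (y : Ω) ∈ W1 ∧ l * ι ⟨x, hW1T x.2⟩ * l⁻¹ = ι y := fun x => by
      obtain ⟨y, hy, hyx⟩ := (Subgroup.mem_normalizer_iff.1 hl (ι ⟨x, hW1T x.2⟩)).1
        (Subgroup.mem_map_of_mem ι (show (⟨x, hW1T x.2⟩ : T) ∈ W1.subgroupOf T from x.2))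
      exact ⟨y, hy, hyx.symm⟩
    have h2 : ∀ x : U, ∃ y : T, (y : Ω) ∈ U ∧ l * ι ⟨x, hUT x.2⟩ * l⁻¹ = ι y := fun x =>
      ⟨_, ((τ l : MulAut U) x).2, hequiv l x⟩
    obtain ⟨φ, hφ, hφx⟩ := realized_subgroup_conj hι hRT l
      (realized_conj_mem_range_of_sup hι hW1T hUT
        (fun x => by obtain ⟨y, -, hy⟩ := h1 x; exact hy ▸ ⟨y, rfl⟩)
        (fun x => by obtain ⟨y, -, hy⟩ := h2 x; exact hy ▸ ⟨y, rfl⟩))
    have hφW : ∀ (x : ↥(W1 ⊔ U)), (x : Ω) ∈ W1 → φ x ∈ W1 := fun x hx => by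
      obtain ⟨y, hy, hyx⟩ := h1 ⟨x, hx⟩
      have := (hφx x (map_mem hφ x)).trans hyx
      rw [show φ x = (y : Ω) from congrArg Subtype.val (hι.1 this)]
      exact hy
    have hφU : ∀ (x : ↥(W1 ⊔ U)), (x : Ω) ∈ U → φ x ∈ U := fun x hx => by
      obtain ⟨y, hy, hyx⟩ := h2 ⟨x, hx⟩
      have := (hφx x (map_mem hφ x)).trans hyx
      rw [show φ x = (y : Ω) from congrArg Subtype.val (hι.1 this)]
      exact hy
    have hrange : φ.range = W1 ⊔ U := range_eq_of_le (hom_inj hφ) (forall_mem_of_sup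
      (fun x => le_sup_left (b := U) (hφW _ x.2)) (fun x => le_sup_right (a := W1) (hφU _ x.2)))
    obtain ⟨α, hα, hαx⟩ := exists_aut hφ.1 hrange
    obtain ⟨k, hk⟩ := hW1 (W1 ⊔ U) le_sup_left (hRT.trans hTW) α hα
      fun x hx => by rw [hαx]; exact hφW x hx
    have hpow : ∀ (n : ℕ) (x : ↥(W1 ⊔ U)), l ^ n * ι ⟨x, hRT x.2⟩ * (l ^ n)⁻¹ =
        ι ⟨((α ^ n) x : Ω), hRT ((α ^ n) x).2⟩ := by
      intro n
      induction n with
      | zero => intro x; simp
      | succ n ihn =>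
        intro x
        have h3 : ι ⟨((α ((α ^ n) x)) : Ω), hRT (α ((α ^ n) x)).2⟩ =
            l * ι ⟨((α ^ n) x : Ω), hRT ((α ^ n) x).2⟩ * l⁻¹ := by
          rw [← hφx ((α ^ n) x) (map_mem hφ _)]
          exact congrArg ι (Subtype.ext (hαx _))
        simp only [pow_succ', MulAut.mul_apply]
        rw [h3, ← ihn, mul_inv_rev]
        simp only [mul_assoc]
    have hτ : τ (l ^ p ^ k) = 1 := by
      refine Subtype.ext (MulEquiv.ext fun u => Subgroup.inclusion_injective hUT (hι.1 ?_))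
      have h3 := hpow (p ^ k) ⟨u, le_sup_right (a := W1) u.2⟩
      rw [hk] at h3
      exact (hequiv (l ^ p ^ k) u).symm.trans h3
    obtain ⟨z, -, hz⟩ := hker _ hτ
    obtain ⟨j, hj⟩ := (hS.to_le hU.1) z
    refine ⟨k + j, Subtype.ext ?_⟩
    rw [Subgroup.coe_pow, pow_add, pow_mul, ← hz, ← map_pow, ← map_pow, hj, map_one, map_one]
    rfl
  have hLp : IsPGroup p L := isPGroup_of_npc
    (CfsgLib.GlaubermanThompson.hasNormalPComplement_of_normalizer_zj_rel hp2 (Or.inl rfl) P hDL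
      (npc_of_isPGroup hNL)) hcen
  have hPtop : (P : Subgroup L) = ⊤ := (P.is_maximal' (hLp.to_subgroup ⊤) le_top).symm
  intro R hUR hRN α hα hpres
  have : Finite R := finite_of_le (hRN.trans hTS)
  have hφ : R.subtype.comp α.toMonoidHom ∈ N.Hom R :=
    mem_normalizerHom_of_aut hUR hRN hα hpres.map_eq
  obtain ⟨g, hg⟩ := realized_exists_conj hι hφ
  obtain ⟨t, rfl⟩ : g ∈ ι.range := by rw [← hP, hPtop]; exact Subgroup.mem_top g
  obtain ⟨k, hk⟩ := isPGroup_autInducedBy hS R ⟨α, mem_autInducedBy_iff.2 ⟨t, hTS t.2, fun x => by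
    have h1 := hg x
    rw [← map_inv, ← map_mul, ← map_mul] at h1
    exact congrArg Subtype.val (hι.1 h1)⟩⟩
  exact ⟨k, congrArg Subtype.val hk⟩

end Step

end CfsgLib.FusionZJ
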