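import Mathlib

/-!
Kronecker products of `2 × 2` matrices as `4 × 4` block matrices, and `(1 + r)(1 + s)/2` for square roots of `-1`.
-/

set_option autoImplicit false

namespace CfsgLib.Fusion.KronTwo

open Matrix

variable {F : Type*} [Field F]

local notation "M2" => Matrix (Fin 2) (Fin 2) F
local notation "M4" => Matrix (Fin 2 ⊕ Fin 2) (Fin 2 ⊕ Fin 2) F

/-- Kronecker product: `P` acts on the blocks, `Q` inside each block. -/
def kr (P Q : M2) : M4 :=
  fromBlocks (P 0 0 • Q) (P 0 1 • Q) (P 1 0 • Q) (P 1 1 • Q)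

theorem kr_mul (P Q P' Q' : M2) : kr P Q * kr P' Q' = kr (P * P') (Q * Q') := by
  simp [kr, fromBlocks_multiply, Matrix.mul_apply, Fin.sum_univ_two, smul_smul, add_smul, mul_comm]

theorem kr_transpose (P Q : M2) : (kr P Q)ᵀ = kr Pᵀ Qᵀ := by
  simp [kr, fromBlocks_transpose, transpose_smul]

theorem kr_one : kr (1 : M2) (1 : M2) = 1 := by simp [kr]

theorem kr_neg_left (P Q : M2) : kr (-P) Q = -kr P Q := by simp [kr, fromBlocks_neg]

theorem kr_neg_right (P Q : M2) : kr P (-Q) = -kr P Q := by simp [kr, fromBlocks_neg]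

theorem kr_zero_right (P : M2) : kr P (0 : M2) = 0 := by simp [kr]

theorem kr_add_right (P Q Q' : M2) : kr P (Q + Q') = kr P Q + kr P Q' := by
  simp [kr, fromBlocks_add, smul_add]

/-- The symplectic unit of degree two. -/
def omega : M2 := !![0, -1; 1, 0]

/-- The swap. -/
def swp : M2 := !![0, 1; 1, 0]

/-- The diagonal reflection. -/
def dgr : M2 := !![1, 0; 0, -1]

theorem J_eq : (Matrix.J (Fin 2) F) = kr omega (1 : M2) := by
  simp [Matrix.J, kr, omega]

/-- The first diagonal idempotent. -/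
def E0 : M2 := !![1, 0; 0, 0]

/-- The second diagonal idempotent. -/
def E1 : M2 := !![0, 0; 0, 1]

/-- Block diagonal pair. -/
def dg (a b : M2) : M4 := kr a E0 + kr b E1

theorem dg_self (a : M2) : dg a a = kr a 1 := by
  rw [dg, ← kr_add_right]
  congr 1
  ext i j; fin_cases i <;> fin_cases j <;> simp [E0, E1]

theorem dg_one_neg : dg (1 : M2) (-1) = kr 1 dgr := by
  rw [dg, kr_neg_left, ← kr_neg_right, ← kr_add_right]
  congr 1
  ext i j; fin_cases i <;> fin_cases j <;> simp [E0, E1, dgr]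

theorem dg_mul (a b a' b' : M2) : dg a b * dg a' b' = dg (a * a') (b * b') := by
  have h00 : (E0 : M2) * E0 = E0 := by ext i j; fin_cases i <;> fin_cases j <;> simp [E0]
  have h11 : (E1 : M2) * E1 = E1 := by ext i j; fin_cases i <;> fin_cases j <;> simp [E1]
  have h01 : (E0 : M2) * E1 = 0 := by ext i j; fin_cases i <;> fin_cases j <;> simp [E0, E1]
  have h10 : (E1 : M2) * E0 = 0 := by ext i j; fin_cases i <;> fin_cases j <;> simp [E0, E1]
  simp [dg, add_mul, mul_add, kr_mul, h00, h11, h01, h10, kr_zero_right]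

theorem dg_neg (a b : M2) : dg (-a) (-b) = -dg a b := by
  simp [dg, kr_neg_left]; abel

theorem dg_transpose (a b : M2) : (dg a b)ᵀ = dg aᵀ bᵀ := by
  have h0 : (E0 : M2)ᵀ = E0 := by ext i j; fin_cases i <;> fin_cases j <;> simp [E0]
  have h1 : (E1 : M2)ᵀ = E1 := by ext i j; fin_cases i <;> fin_cases j <;> simp [E1]
  simp [dg, kr_transpose, h0, h1]

theorem dg_injective {a b a' b' : M2} (h : dg a b = dg a' b') : a = a' ∧ b = b' := by
  rw [← Matrix.ext_iff] at h
  constructor <;> ext i j <;> fin_cases i <;> fin_cases j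
  · simpa [dg, kr, E0, E1] using h (.inl 0) (.inl 0)
  · simpa [dg, kr, E0, E1] using h (.inl 0) (.inr 0)
  · simpa [dg, kr, E0, E1] using h (.inr 0) (.inl 0)
  · simpa [dg, kr, E0, E1] using h (.inr 0) (.inr 0)
  · simpa [dg, kr, E0, E1] using h (.inl 1) (.inl 1)
  · simpa [dg, kr, E0, E1] using h (.inl 1) (.inr 1)
  · simpa [dg, kr, E0, E1] using h (.inr 1) (.inl 1)
  · simpa [dg, kr, E0, E1] using h (.inr 1) (.inr 1)

theorem swap_dg (a b : M2) : kr (1 : M2) swp * dg a b = dg b a * kr (1 : M2) swp := by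
  have h0 : (swp : M2) * E0 = E1 * swp := by ext i j; fin_cases i <;> fin_cases j <;> simp [E0, E1, swp]
  have h1 : (swp : M2) * E1 = E0 * swp := by ext i j; fin_cases i <;> fin_cases j <;> simp [E0, E1, swp]
  simp [dg, add_mul, mul_add, kr_mul, h0, h1]; abel

/-- `(1 + r)(1 + s)/2`. -/
noncomputable def rot (r s : M4) : M4 := (2 : F)⁻¹ • ((1 + r) * (1 + s))

theorem rot_symplectic (h2 : (2 : F) ≠ 0) (r s : M4) (hr : r * r = -1) (hs : s * s = -1)
    (hrJ : r * J (Fin 2) F * rᵀ = J (Fin 2) F) (hsJ : s * J (Fin 2) F * sᵀ = J (Fin 2) F) :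
    rot r s * J (Fin 2) F * (rot r s)ᵀ = J (Fin 2) F := by
  have key : ∀ x : M4, x * x = -1 → x * J (Fin 2) F * xᵀ = J (Fin 2) F →
      (1 + x) * J (Fin 2) F * (1 + x)ᵀ = (2 : F) • J (Fin 2) F := by
    intro x hx hxJ
    have h1 : x * J (Fin 2) F + J (Fin 2) F * xᵀ = 0 := by
      have h : x * (x * J (Fin 2) F * xᵀ) = -(J (Fin 2) F * xᵀ) := by
        rw [← mul_assoc, ← mul_assoc, hx]; simp
      rw [hxJ] at h
      rw [h, neg_add_cancel]
    calc (1 + x) * J (Fin 2) F * (1 + x)ᵀ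
        = J (Fin 2) F + (x * J (Fin 2) F + J (Fin 2) F * xᵀ) + x * J (Fin 2) F * xᵀ := by
          rw [transpose_add, transpose_one]; noncomm_ring
      _ = _ := by rw [h1, hxJ, two_smul, add_zero]
  simp only [rot, transpose_smul, transpose_mul, smul_mul_assoc, mul_smul_comm, smul_smul]
  rw [show (1 + r) * (1 + s) * J (Fin 2) F * ((1 + s)ᵀ * (1 + r)ᵀ) =
    (1 + r) * ((1 + s) * J (Fin 2) F * (1 + s)ᵀ) * (1 + r)ᵀ by noncomm_ring, key s hs hsJ]
  rw [mul_smul_comm, smul_mul_assoc, key r hr hrJ, smul_smul, smul_smul]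
  rw [show (2 : F)⁻¹ * (2 : F)⁻¹ * 2 * 2 = 1 by field_simp, one_smul]

theorem rot_pow_four (h2 : (2 : F) ≠ 0) (r s : M4) (hr : r * r = -1) (hs : s * s = -1)
    (hrs : r * s = s * r) : rot r s ^ 4 = 1 := by
  have hc : (1 + r) * (1 + s) = (1 + s) * (1 + r) := by
    rw [add_mul, mul_add, mul_add, add_mul, mul_add, mul_add, hrs]; noncomm_ring
  have h1 : rot r s * rot r s = r * s := by
    simp only [rot, smul_mul_assoc, mul_smul_comm, smul_smul]
    rw [show (1 + r) * (1 + s) * ((1 + r) * (1 + s)) = (1 + r) * ((1 + s) * (1 + r)) * (1 + s) by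
      noncomm_ring, ← hc,
      show (1 + r) * ((1 + r) * (1 + s)) * (1 + s) = ((1 + r) * (1 + r)) * ((1 + s) * (1 + s)) by noncomm_ring,
      show (1 + r) * (1 + r) = (2 : F) • r by
        rw [add_mul, mul_add, mul_add, hr, two_smul]; noncomm_ring,
      show (1 + s) * (1 + s) = (2 : F) • s by
        rw [add_mul, mul_add, mul_add, hs, two_smul]; noncomm_ring,
      smul_mul_assoc, mul_smul_comm, smul_smul, smul_smul,
      show (2 : F)⁻¹ * (2 : F)⁻¹ * 2 * 2 = 1 by field_simp, one_smul]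
  rw [show (4 : ℕ) = 2 * 2 from rfl, pow_mul, pow_two (rot r s), h1, pow_two,
    show r * s * (r * s) = r * (s * r) * s by noncomm_ring, ← hrs,
    show r * (r * s) * s = (r * r) * (s * s) by noncomm_ring, hr, hs]
  simp

theorem rot_mul_comm_comm (r s e : M4) (hr : r * e = e * r) (hs : s * e = e * s) :
    rot r s * e = e * rot r s := by
  have h1 : (1 + r) * e = e * (1 + r) := by rw [add_mul, mul_add, hr, one_mul, mul_one]
  have h2 : (1 + s) * e = e * (1 + s) := by rw [add_mul, mul_add, hs, one_mul, mul_one]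
  simp only [rot, smul_mul_assoc, mul_smul_comm]
  rw [mul_assoc, h2, ← mul_assoc, h1, mul_assoc]

theorem one_add_mul_anti (x e : M4) (hx : x * x = -1) (h : x * e = -(e * x)) :
    (1 + x) * e = x * e * (1 + x) := by
  rw [add_mul, one_mul, mul_add, mul_one, h, show -(e * x) * x = -(e * (x * x)) by noncomm_ring, hx]
  noncomm_ring

theorem rot_mul_comm_anti (r s e : M4) (hs2 : s * s = -1) (hrs : r * s = s * r) (hr : r * e = e * r)
    (hs : s * e = -(e * s)) : rot r s * e = s * e * rot r s := by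
  have h1 : (1 + r) * (s * e) = s * e * (1 + r) := by
    rw [add_mul, mul_add, one_mul, mul_one, ← mul_assoc, hrs, mul_assoc, hr, mul_assoc]
  simp only [rot, smul_mul_assoc, mul_smul_comm]
  rw [mul_assoc, one_add_mul_anti s e hs2 hs, ← mul_assoc, h1, mul_assoc]

theorem rot_mul_anti_comm (r s e : M4) (hr2 : r * r = -1) (hr : r * e = -(e * r)) (hs : s * e = e * s) :
    rot r s * e = r * e * rot r s := by
  have h2 : (1 + s) * e = e * (1 + s) := by rw [add_mul, mul_add, hs, one_mul, mul_one]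
  simp only [rot, smul_mul_assoc, mul_smul_comm]
  rw [mul_assoc, h2, ← mul_assoc, one_add_mul_anti r e hr2 hr, mul_assoc]

theorem rot_mul_rot (h2 : (2 : F) ≠ 0) (r w s : M4) (hw : w * w = -1) :
    rot r w * rot (-w) s = rot r s := by
  simp only [rot, smul_mul_assoc, mul_smul_comm, smul_smul]
  rw [show (1 + r) * (1 + w) * ((1 + -w) * (1 + s)) = (1 + r) * (1 - w * w) * (1 + s) by noncomm_ring,
    hw, sub_neg_eq_add, show (1 : M4) + 1 = (2 : F) • 1 by rw [two_smul],
    mul_smul_comm, mul_one, smul_mul_assoc, smul_smul,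
    show (2 : F)⁻¹ * (2 : F)⁻¹ * 2 = 2⁻¹ by field_simp]

end CfsgLib.Fusion.KronTwo
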