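import Cfsg.Agent.Lib.Fusion.ModelLift

/-!
# The embedding of `N_S(Q)` into the monomial extension
-/

set_option autoImplicit false

namespace CfsgLib.FusionModel

open Cfsg Cfsg.FusionSystem CfsgLib.Fusion

universe u
variable {Ω : Type u} [Group Ω] {S : Subgroup Ω} {F : Cfsg.FusionSystem S} {Q : Subgroup Ω}

/-- Stabilizer in `N_S(Q)` of a coset, as a subgroup of the ambient group. -/
noncomputable def stabIn (hQS : Q ≤ S) (x : Coset F Q hQS) : Subgroup Ω :=
  ((MulAction.stabilizer (F.autGroup Q) x).comap (actHom F Q hQS)).map (normalizerIn S Q).subtype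

theorem mem_stabIn (hQS : Q ≤ S) {x : Coset F Q hQS} {g : Ω} :
    g ∈ stabIn hQS x ↔ ∃ hg : g ∈ normalizerIn S Q, actHom F Q hQS ⟨g, hg⟩ • x = x := by
  constructor
  · rintro ⟨⟨g, hg⟩, h, rfl⟩
    exact ⟨hg, h⟩
  · rintro ⟨hg, h⟩
    exact ⟨⟨g, hg⟩, h, rfl⟩

theorem stabIn_le (hQS : Q ≤ S) (x : Coset F Q hQS) : stabIn hQS x ≤ normalizerIn S Q :=
  fun _ hg => ((mem_stabIn hQS).1 hg).1

theorem le_stabIn (hQS : Q ≤ S) (x : Coset F Q hQS) : Q ≤ stabIn hQS x := fun q hq =>
  (mem_stabIn hQS).2 ⟨le_normalizerIn hQS hq, innHom_smul hQS ⟨q, hq⟩ x⟩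

/-- The inverse of a transversal element extends to the stabilizer of its coset. -/
theorem exists_stab_extension (hQS : Q ≤ S) (hrec : F.IsReceptive Q) (x : Coset F Q hQS) :
    ∃ ψ : stabIn hQS x →* normalizerIn S Q,
      (normalizerIn S Q).subtype.comp ψ ∈ F.Hom (stabIn hQS x) ∧
      (∀ q : Q, (ψ ⟨q, le_stabIn hQS x q.2⟩ : Ω) =
        ((((trans' F Q hQS x)⁻¹ : F.autGroup Q) : MulAut Q) q : Ω)) ∧
      ∀ g : stabIn hQS x, actHom F Q hQS (ψ g) = (trans' F Q hQS x)⁻¹ *
        actHom F Q hQS (Subgroup.inclusion (stabIn_le hQS x) g) * trans' F Q hQS x := by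
  set e : MulAut Q := (((trans' F Q hQS x)⁻¹ : F.autGroup Q) : MulAut Q) with he_def
  have he : IsFIso F (e : Q ≃* Q) := (mem_autGroup_iff hQS).1 ((trans' F Q hQS x)⁻¹).2
  have hcongr : ∀ α : MulAut Q, MulAut.congr e α = e * α * e⁻¹ := fun α => MulEquiv.ext fun y => rfl
  obtain ⟨ψ, hψ, hψR, hext⟩ := he.exists_extension hrec (le_stabIn hQS x) (stabIn_le hQS x)
    (fun g hg => by
      obtain ⟨hgR, hfix⟩ := (mem_stabIn hQS).1 hg
      have hmem : (trans' F Q hQS x)⁻¹ * (actHom F Q hQS ⟨g, hgR⟩ * trans' F Q hQS x) ∈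
          (actHom F Q hQS).range := by
        rw [← QuotientGroup.eq, trans'_smul_one]
        show x = actHom F Q hQS ⟨g, hgR⟩ • ((trans' F Q hQS x : F.autGroup Q) : Coset F Q hQS)
        rw [trans'_smul_one, hfix]
      obtain ⟨r, hr⟩ := hmem
      refine mem_autInducedBy_iff.2 ⟨r, r.2.1, fun y => ?_⟩
      rw [← actHom_apply (F := F) hQS r, hr, hcongr, he_def]
      simp [MulAut.mul_apply]
      rfl)
  refine ⟨ψ.codRestrict _ hψR, hψ, hext, fun g => Subtype.ext (MulEquiv.ext fun y => Subtype.ext ?_)⟩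
  have := congr_conjAut_of_extends (le_stabIn hQS x) hext g.2 (stabIn_le hQS x g.2).2 y
  rw [hcongr, he_def] at this
  rw [actHom_apply]
  show ψ g * (y : Ω) * (ψ g)⁻¹ = _
  rw [show ψ ⟨(g : Ω), g.2⟩ = ψ g from rfl] at this
  rw [← this]
  simp [MulAut.mul_apply]
  rfl

/-- `N_S(Q)` embeds compatibly into the monomial extension. -/
theorem exists_embed (hQS : Q ≤ S) (hrec : F.IsReceptive Q) :
    ∃ ι : normalizerIn S Q →* bigExt F Q hQS,
      IsCompat hQS (le_normalizerIn hQS) ι 1 ∧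
      ∀ r, extProj F Q hQS (ι r) = actHom F Q hQS r := by
  classical
  choose e he heQ heact using exists_stab_extension (F := F) hQS hrec
  let π := actHom F Q hQS
  let rel : Setoid (Coset F Q hQS) :=
    { r := fun x y => ∃ g, π g • x = y
      iseqv :=
        { refl := fun x => ⟨1, by simp⟩
          symm := fun {x y} ⟨g, hg⟩ => ⟨g⁻¹, by rw [← hg, map_inv, inv_smul_smul]⟩
          trans := fun {x y z} ⟨g, hg⟩ ⟨g', hg'⟩ => ⟨g' * g, by rw [map_mul, mul_smul, hg, hg']⟩ } }
  set base : Coset F Q hQS → Coset F Q hQS := fun x => (Quotient.mk rel x).out with hbase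
  have hb : ∀ x, ∃ g, π g • base x = x := fun x =>
    Quotient.exact (Quotient.out_eq (Quotient.mk rel x))
  choose u hu using hb
  have hbg : ∀ g x, base (π g • x) = base x := fun g x => by
    show Quotient.out _ = Quotient.out _
    rw [Quotient.sound (s := rel) (⟨g, rfl⟩ : rel.r x (π g • x))]
  have hv : ∀ x, ∃ v, π v = (trans' F Q hQS x)⁻¹ * (π (u x) * trans' F Q hQS (base x)) := by
    intro x
    show (trans' F Q hQS x)⁻¹ * (π (u x) * trans' F Q hQS (base x)) ∈ π.range
    rw [← QuotientGroup.eq, trans'_smul_one]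
    show x = π (u x) • ((trans' F Q hQS (base x) : F.autGroup Q) : Coset F Q hQS)
    rw [trans'_smul_one, hu]
  choose v hv using hv
  set E : Coset F Q hQS → normalizerIn S Q → normalizerIn S Q :=
    fun b g => if h : (g : Ω) ∈ stabIn hQS b then e b ⟨g, h⟩ else 1 with hE
  have hmem : ∀ (b : Coset F Q hQS) (g : normalizerIn S Q), π g • b = b → (g : Ω) ∈ stabIn hQS b :=
    fun b g h => (mem_stabIn hQS).2 ⟨g.2, h⟩
  have hEmul : ∀ b g g', π g • b = b → π g' • b = b → E b (g * g') = E b g * E b g' := by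
    intro b g g' h h'
    have h'' : π (g * g') • b = b := by rw [map_mul, mul_smul, h', h]
    simp only [hE, dif_pos (hmem _ _ h), dif_pos (hmem _ _ h'), dif_pos (hmem _ _ h''), ← map_mul]
    rfl
  have hEact : ∀ b g, π g • b = b →
      π (E b g) = (trans' F Q hQS b)⁻¹ * π g * trans' F Q hQS b := by
    intro b g h
    simp only [hE, dif_pos (hmem _ _ h)]
    exact heact b _
  have hsmul : ∀ r x, π ((u x)⁻¹ * r * u ((π r)⁻¹ • x)) • base x = base x := by
    intro r x
    have h1 := hu ((π r)⁻¹ • x)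
    rw [← map_inv, hbg, map_inv] at h1
    rw [map_mul, mul_smul, h1, map_mul, mul_smul, smul_inv_smul, map_inv, inv_smul_eq_iff, hu]
  set L : normalizerIn S Q → Coset F Q hQS → normalizerIn S Q := fun r x =>
    v x * E (base x) ((u x)⁻¹ * r * u ((π r)⁻¹ • x)) * (v ((π r)⁻¹ • x))⁻¹ with hL
  have hgamma : ∀ r, (⟨L r, π r⟩ : Wreath F Q hQS) ∈ bigExt F Q hQS := by
    intro r x
    show trans' F Q hQS x * π (L r x) = π r * trans' F Q hQS ((π r)⁻¹ • x)
    have hbase' : base ((π r)⁻¹ • x) = base x := by rw [← map_inv, hbg]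
    simp only [hL]
    rw [map_mul, map_mul, hEact _ _ (hsmul r x), map_inv, hv, hv, hbase']
    simp only [map_mul, map_inv]
    group
  have hLmul : ∀ r r' x, L (r * r') x = L r x * L r' ((π r)⁻¹ • x) := by
    intro r r' x
    set y := (π r)⁻¹ • x with hy
    have hbase' : base y = base x := by rw [hy, ← map_inv, hbg]
    have hz : (π (r * r'))⁻¹ • x = (π r')⁻¹ • y := by rw [map_mul, mul_inv_rev, mul_smul]
    have h1 := hsmul r' y
    rw [hbase'] at h1
    simp only [hL]
    rw [hz, hbase', ← hy]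
    have hsplit : (u x)⁻¹ * (r * r') * u ((π r')⁻¹ • y) =
        ((u x)⁻¹ * r * u y) * ((u y)⁻¹ * r' * u ((π r')⁻¹ • y)) := by group
    have h0 : π ((u x)⁻¹ * r * u y) • base x = base x := hsmul r x
    rw [hsplit, hEmul _ _ _ h0 h1]
    group
  let ι : normalizerIn S Q →* bigExt F Q hQS := MonoidHom.mk'
    (fun r => ⟨⟨L r, π r⟩, hgamma r⟩) fun r r' =>
      Subtype.ext (SemidirectProduct.ext (funext fun x => hLmul r r' x) (map_mul π r r'))
  refine ⟨ι, ⟨fun q => ?_, fun x => ?_⟩, fun r => rfl⟩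
  · refine Subtype.ext (SemidirectProduct.ext (funext fun x => Subtype.ext ?_) rfl)
    show ((L (Subgroup.inclusion (le_normalizerIn hQS) q) x : normalizerIn S Q) : Ω) = _
    have hfix : (π (Subgroup.inclusion (le_normalizerIn hQS) q))⁻¹ • x = x :=
      inv_smul_eq_iff.2 (innHom_smul hQS q x).symm
    set w : Q := conjAut Q ((u x)⁻¹ : normalizerIn S Q).1 ((u x)⁻¹).2.2 q with hw
    have hwE : E (base x) ((u x)⁻¹ * Subgroup.inclusion (le_normalizerIn hQS) q * u x) =
        Subgroup.inclusion (le_normalizerIn hQS)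
          ((((trans' F Q hQS (base x))⁻¹ : F.autGroup Q) : MulAut Q) w) := by
      have : (u x)⁻¹ * Subgroup.inclusion (le_normalizerIn hQS) q * u x =
          Subgroup.inclusion (le_normalizerIn hQS) w :=
        Subtype.ext (by simp [hw, conjAut_apply])
      rw [this]
      simp only [hE, dif_pos (show ((Subgroup.inclusion (le_normalizerIn hQS) w : normalizerIn S Q) : Ω) ∈
        stabIn hQS (base x) from le_stabIn hQS _ w.2)]
      exact Subtype.ext (heQ (base x) w)
    rw [hL]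
    simp only [hfix, hwE, Subgroup.coe_mul, Subgroup.coe_inv, Subgroup.coe_inclusion]
    rw [← actHom_apply (F := F) hQS, hv]
    have hwq : ((π (u x) : F.autGroup Q) : MulAut Q) w = q := Subtype.ext (by
      rw [actHom_apply, hw, conjAut_apply]
      simp [mul_assoc])
    simp [MulAut.mul_apply, hwq, diagHom_left]
  · have hDle : ∀ g, g ∈ stabAt hQS ι x → ∃ hg : g ∈ normalizerIn S Q, π ⟨g, hg⟩ • x = x :=
      fun g hg => (mem_stabAt hQS).1 hg
    set b := base x
    have hmapu : ∀ g (hg : g ∈ stabAt hQS ι x),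
        conjHom (stabAt hQS ι x) ((u x : Ω)⁻¹) ⟨g, hg⟩ ∈ stabIn hQS b := by
      intro g hg
      obtain ⟨hgR, hfix⟩ := hDle g hg
      have h := hsmul ⟨g, hgR⟩ x
      rw [inv_smul_eq_iff.2 hfix.symm] at h
      have := hmem _ _ h
      simpa [conjHom_apply] using this
    have h1 : conjHom (stabAt hQS ι x) ((u x : Ω)⁻¹) ∈ F.Hom _ :=
      F.conj_mem (fun g hg => (hDle g hg).1.1) (S.inv_mem (u x).2.1)
    have h2 := conj_comp_mem (F.comp_mem h1 (he b) fun g => hmapu g g.2) (v x).2.1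
    refine ⟨_, h2, fun g hgR hg => ?_⟩
    have hfix : π ⟨g, hgR⟩ • x = x := (hDle g hg).2
    have hfix' := inv_smul_eq_iff.2 hfix.symm
    show (v x : Ω) * (e b ⟨_, hmapu g hg⟩ : Ω) * (v x : Ω)⁻¹ = ((L ⟨g, hgR⟩ x : normalizerIn S Q) : Ω)
    have hs := hsmul ⟨g, hgR⟩ x
    simp only [hL, hfix'] at hs ⊢
    simp only [Subgroup.coe_mul, Subgroup.coe_inv, hE, dif_pos (hmem _ _ hs)]
    congr 4
    simp [conjHom_apply]

end CfsgLib.FusionModel
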