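import Cfsg.Agent.Lib.Fusion.Basic
import Mathlib.GroupTheory.SemidirectProduct
import Mathlib.GroupTheory.GroupAction.Quotient
import Mathlib.GroupTheory.Subgroup.Center
import Mathlib.Algebra.BigOperators.Group.Finset.Basic
import Mathlib.GroupTheory.Index

/-!
# The monomial extension of `Aut_F(Q)` used for models

For `Q ≤ S` centric, `A = Aut_F(Q)`, `R = N_S(Q)`, `X = A / Aut_S(Q)` and a transversal `t`:
the group `bigExt` of pairs `(f, a)` with `f : X → R` and `t x * c(f x) = a * t (a⁻¹ x)` is an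
extension of `A` by `X → Z(Q)`; averaging over `X` retracts the kernel onto `Z(Q)`.
-/

set_option autoImplicit false

namespace CfsgLib.FusionModel

open Cfsg Cfsg.FusionSystem CfsgLib.Fusion

section
universe u
variable {Ω : Type u} [Group Ω] {S : Subgroup Ω} (F : Cfsg.FusionSystem S) (Q : Subgroup Ω)

theorem conjAut_mem_autGroup (hQS : Q ≤ S) (r : normalizerIn S Q) :
    conjAut Q (r : Ω) r.2.2 ∈ F.autGroup Q :=
  autInducedBy_le_autGroup F hQS (conjAut_mem_autInducedBy r.2.1 _)

/-- The conjugation map `N_S(Q) → Aut_F(Q)`. -/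
def actHom (hQS : Q ≤ S) : normalizerIn S Q →* F.autGroup Q where
  toFun r := ⟨conjAut Q (r : Ω) r.2.2, conjAut_mem_autGroup F Q hQS r⟩
  map_one' := Subtype.ext (MulEquiv.ext fun x => Subtype.ext (by simp [conjAut_apply]))
  map_mul' a b := Subtype.ext (MulEquiv.ext fun x => Subtype.ext (by
    simp [conjAut_apply, mul_assoc]))

variable {F Q}

theorem actHom_apply (hQS : Q ≤ S) (r : normalizerIn S Q) (q : Q) :
    (((actHom F Q hQS r : F.autGroup Q) : MulAut Q) q : Ω) = (r : Ω) * q * (r : Ω)⁻¹ := rfl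

variable (F Q)

/-- The set of cosets of `Aut_S(Q)` in `Aut_F(Q)`. -/
abbrev Coset (hQS : Q ≤ S) : Type u := F.autGroup Q ⧸ (actHom F Q hQS).range

/-- A transversal. -/
noncomputable def trans' (hQS : Q ≤ S) (x : Coset F Q hQS) : F.autGroup Q :=
  Quotient.out x

variable {F Q}

theorem trans'_smul_one (hQS : Q ≤ S) (x : Coset F Q hQS) :
    ((trans' F Q hQS x : F.autGroup Q) : Coset F Q hQS) = x := QuotientGroup.out_eq' x

theorem actHom_self_mem (hQS : Q ≤ S) (q : Q) : (q : Ω) ∈ normalizerIn S Q :=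
  le_normalizerIn hQS q.2

variable (F Q)

/-- Inner automorphisms of `Q` inside `Aut_F(Q)`. -/
def innHom (hQS : Q ≤ S) : Q →* F.autGroup Q :=
  (actHom F Q hQS).comp (Subgroup.inclusion (le_normalizerIn hQS))

variable {F Q}

theorem innHom_apply (hQS : Q ≤ S) (q x : Q) :
    ((innHom F Q hQS q : F.autGroup Q) : MulAut Q) x = q * x * q⁻¹ := Subtype.ext rfl

theorem innHom_conj (hQS : Q ≤ S) (a : F.autGroup Q) (q : Q) :
    a * innHom F Q hQS q * a⁻¹ = innHom F Q hQS ((a : MulAut Q) q) := by
  refine Subtype.ext (MulEquiv.ext fun x => ?_)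
  simp [MulAut.mul_apply, innHom_apply]

theorem innHom_smul (hQS : Q ≤ S) (q : Q) (x : Coset F Q hQS) : innHom F Q hQS q • x = x := by
  obtain ⟨a, rfl⟩ := QuotientGroup.mk_surjective x
  rw [MulAction.Quotient.smul_mk, QuotientGroup.eq]
  refine ⟨Subgroup.inclusion (le_normalizerIn hQS) (((a⁻¹ : F.autGroup Q) : MulAut Q) q⁻¹), ?_⟩
  show innHom F Q hQS _ = _
  rw [← innHom_conj, map_inv]
  simp [mul_assoc]

variable (F Q)

/-- The permutation action on functions on cosets. -/
def shiftHom (hQS : Q ≤ S) :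
    F.autGroup Q →* MulAut (Coset F Q hQS → normalizerIn S Q) where
  toFun a :=
    { toFun := fun f x => f (a⁻¹ • x)
      invFun := fun f x => f (a • x)
      left_inv := fun f => funext fun x => by simp
      right_inv := fun f => funext fun x => by simp
      map_mul' := fun f g => rfl }
  map_one' := MulEquiv.ext fun f => funext fun x => by simp
  map_mul' a b := MulEquiv.ext fun f => funext fun x => by
    show f ((a * b)⁻¹ • x) = f (b⁻¹ • a⁻¹ • x)
    rw [mul_inv_rev, mul_smul]

/-- The ambient monomial group. -/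
abbrev Wreath (hQS : Q ≤ S) : Type u :=
  (Coset F Q hQS → normalizerIn S Q) ⋊[shiftHom F Q hQS] F.autGroup Q

variable {F Q}

theorem wreath_mul_left (hQS : Q ≤ S) (g h : Wreath F Q hQS) (x : Coset F Q hQS) :
    (g * h).left x = g.left x * h.left (g.right⁻¹ • x) := rfl

theorem wreath_inv_left (hQS : Q ≤ S) (g : Wreath F Q hQS) (x : Coset F Q hQS) :
    (g⁻¹).left x = (g.left (g.right • x))⁻¹ := by
  show (shiftHom F Q hQS g.right⁻¹ g.left⁻¹) x = _
  simp [shiftHom]

variable (F Q)

/-- The monomial extension. -/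
noncomputable def bigExt (hQS : Q ≤ S) : Subgroup (Wreath F Q hQS) where
  carrier := {g | ∀ x, trans' F Q hQS x * actHom F Q hQS (g.left x) =
    g.right * trans' F Q hQS (g.right⁻¹ • x)}
  one_mem' x := by simp
  mul_mem' {g h} hg hh x := by
    rw [wreath_mul_left, map_mul, ← mul_assoc, hg x, mul_assoc, hh, SemidirectProduct.mul_right,
      mul_assoc, mul_inv_rev, mul_smul]
  inv_mem' {g} hg x := by
    have h1 := hg (g.right • x)
    rw [inv_smul_smul] at h1
    rw [wreath_inv_left, map_inv, SemidirectProduct.inv_right, inv_inv, mul_inv_eq_iff_eq_mul,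
      mul_assoc, h1, inv_mul_cancel_left]

variable {F Q}

theorem mem_bigExt (hQS : Q ≤ S) {g : Wreath F Q hQS} :
    g ∈ bigExt F Q hQS ↔ ∀ x, trans' F Q hQS x * actHom F Q hQS (g.left x) =
      g.right * trans' F Q hQS (g.right⁻¹ • x) := Iff.rfl

/-- The formula for the image of a component. -/
theorem act_left (hQS : Q ≤ S) (g : bigExt F Q hQS) (x : Coset F Q hQS) :
    actHom F Q hQS ((g : Wreath F Q hQS).left x) = (trans' F Q hQS x)⁻¹ *
      ((g : Wreath F Q hQS).right * trans' F Q hQS ((g : Wreath F Q hQS).right⁻¹ • x)) := by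
  rw [← g.2 x, inv_mul_cancel_left]

variable (F Q)

/-- The projection to `Aut_F(Q)`. -/
noncomputable def extProj (hQS : Q ≤ S) : bigExt F Q hQS →* F.autGroup Q :=
  SemidirectProduct.rightHom.comp (bigExt F Q hQS).subtype

theorem extProj_apply (hQS : Q ≤ S) (g : bigExt F Q hQS) :
    extProj F Q hQS g = (g : Wreath F Q hQS).right := rfl

theorem extProj_surjective (hQS : Q ≤ S) : Function.Surjective (extProj F Q hQS) := by
  intro a
  have h : ∀ x : Coset F Q hQS,
      (trans' F Q hQS x)⁻¹ * (a * trans' F Q hQS (a⁻¹ • x)) ∈ (actHom F Q hQS).range := by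
    intro x
    rw [← QuotientGroup.eq, trans'_smul_one]
    show x = a • ((trans' F Q hQS (a⁻¹ • x) : F.autGroup Q) : Coset F Q hQS)
    rw [trans'_smul_one, smul_inv_smul]
  choose f hf using h
  exact ⟨⟨⟨f, a⟩, fun x => by
    show _ * actHom F Q hQS (f x) = _
    rw [hf, mul_inv_cancel_left]⟩, rfl⟩

/-- The diagonal embedding of `Q`. -/
noncomputable def diagHom (hQS : Q ≤ S) : Q →* bigExt F Q hQS where
  toFun q := ⟨⟨fun x => Subgroup.inclusion (le_normalizerIn hQS)
      ((((trans' F Q hQS x)⁻¹ : F.autGroup Q) : MulAut Q) q), innHom F Q hQS q⟩, fun x => by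
    show trans' F Q hQS x * innHom F Q hQS _ = innHom F Q hQS q * trans' F Q hQS _
    rw [← innHom_conj, inv_inv, mul_assoc, mul_inv_cancel_left, ← map_inv, innHom_smul]⟩
  map_one' := Subtype.ext (SemidirectProduct.ext (funext fun x => by simp) (map_one _))
  map_mul' q r := Subtype.ext (SemidirectProduct.ext (funext fun x => by
    show _ = _ * Subgroup.inclusion (le_normalizerIn hQS)
      ((((trans' F Q hQS ((innHom F Q hQS q)⁻¹ • x))⁻¹ : F.autGroup Q) : MulAut Q) r)
    rw [show (innHom F Q hQS q)⁻¹ • x = x from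
      inv_smul_eq_iff.2 (innHom_smul hQS q x).symm]
    simp) (map_mul _ _ _))

variable {F Q}

theorem diagHom_left (hQS : Q ≤ S) (q : Q) (x : Coset F Q hQS) :
    ((diagHom F Q hQS q : Wreath F Q hQS).left x : Ω) =
      (((((trans' F Q hQS x)⁻¹ : F.autGroup Q) : MulAut Q) q : Q) : Ω) := rfl

theorem diagHom_right (hQS : Q ≤ S) (q : Q) :
    (diagHom F Q hQS q : Wreath F Q hQS).right = innHom F Q hQS q := rfl

theorem diagHom_injective (hQS : Q ≤ S) : Function.Injective (diagHom F Q hQS) := by
  intro q r h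
  let x : Coset F Q hQS := ((1 : F.autGroup Q) : Coset F Q hQS)
  have h1 := congrArg (fun g : bigExt F Q hQS => ((g : Wreath F Q hQS).left x : Ω)) h
  simp only [diagHom_left] at h1
  exact (((trans' F Q hQS x)⁻¹ : F.autGroup Q) : MulAut Q).injective (Subtype.ext h1)

/-- The diagonal embedding commutes with the action. -/
theorem diagHom_conj (hQS : Q ≤ S) (g : bigExt F Q hQS) (q : Q) :
    g * diagHom F Q hQS q * g⁻¹ =
      diagHom F Q hQS ((extProj F Q hQS g : MulAut Q) q) := by
  have hr : ∀ y : Coset F Q hQS, (g * diagHom F Q hQS q : Wreath F Q hQS).right⁻¹ • y =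
      (g : Wreath F Q hQS).right⁻¹ • y := by
    intro y
    show ((g : Wreath F Q hQS).right * innHom F Q hQS q)⁻¹ • y = _
    rw [mul_inv_rev, mul_smul, ← map_inv, innHom_smul]
  refine Subtype.ext (SemidirectProduct.ext (funext fun x => Subtype.ext ?_) ?_)
  · rw [Subgroup.coe_mul, Subgroup.coe_mul, Subgroup.coe_inv, wreath_mul_left, hr, wreath_inv_left,
      smul_inv_smul, wreath_mul_left]
    simp only [Subgroup.coe_mul, Subgroup.coe_inv]
    rw [diagHom_left, ← actHom_apply (F := F) hQS, act_left, extProj_apply]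
    simp [MulAut.mul_apply, diagHom_left]
  · exact innHom_conj hQS _ q

end

end CfsgLib.FusionModel
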