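import Cfsg.Agent.Lib.Fusion.ModelGroup
import Cfsg.Agent.Lib.Fusion.ModelAgree
import Cfsg.Agent.Lib.Fusion.Saturation

/-!
# Lifts of maps of the system to the monomial extension
-/

set_option autoImplicit false

namespace CfsgLib.FusionModel

open Cfsg Cfsg.FusionSystem CfsgLib.Fusion

universe u
variable {Ω : Type u} [Group Ω] {S : Subgroup Ω} {F : Cfsg.FusionSystem S} {Q : Subgroup Ω}

/-- The stabilizer of a coset for a homomorphism into the monomial extension. -/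
noncomputable def stabAt (hQS : Q ≤ S) {P : Subgroup Ω} (f : P →* bigExt F Q hQS)
    (x : Coset F Q hQS) : Subgroup Ω :=
  ((MulAction.stabilizer (F.autGroup Q) x).comap ((extProj F Q hQS).comp f)).map P.subtype

theorem mem_stabAt (hQS : Q ≤ S) {P : Subgroup Ω} {f : P →* bigExt F Q hQS}
    {x : Coset F Q hQS} {g : Ω} :
    g ∈ stabAt hQS f x ↔ ∃ hg : g ∈ P, extProj F Q hQS (f ⟨g, hg⟩) • x = x := by
  constructor
  · rintro ⟨⟨g, hg⟩, h, rfl⟩
    exact ⟨hg, h⟩
  · rintro ⟨hg, h⟩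
    exact ⟨⟨g, hg⟩, h, rfl⟩

/-- `f` is compatible with the system and restricts to the diagonal twisted by `β` on `Q`. -/
def IsCompat (hQS : Q ≤ S) {P : Subgroup Ω} (hQP : Q ≤ P) (f : P →* bigExt F Q hQS)
    (β : F.autGroup Q) : Prop :=
  (∀ q : Q, f (Subgroup.inclusion hQP q) = diagHom F Q hQS ((β : MulAut Q) q)) ∧
    ∀ x, ∃ ψ ∈ F.Hom (stabAt hQS f x), ∀ g (hg : g ∈ P) (hst : g ∈ stabAt hQS f x),
      ψ ⟨g, hst⟩ = (((f ⟨g, hg⟩ : Wreath F Q hQS).left x : normalizerIn S Q) : Ω)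

theorem IsCompat.extProj_eq {hQS : Q ≤ S} {P : Subgroup Ω} {hQP : Q ≤ P}
    {f : P →* bigExt F Q hQS} {β : F.autGroup Q} (h : IsCompat hQS hQP f β)
    (hPN : P ≤ normalizerIn S Q) (g : P) :
    extProj F Q hQS (f g) = β * actHom F Q hQS (Subgroup.inclusion hPN g) * β⁻¹ := by
  rw [eq_mul_inv_iff_mul_eq]
  refine Subtype.ext (MulEquiv.ext fun q => diagHom_injective (F := F) hQS ?_)
  simp only [Subgroup.coe_mul, MulAut.mul_apply]
  rw [← diagHom_conj, ← h.1, ← h.1, ← map_mul, ← map_inv, ← map_mul]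
  exact congrArg f (Subtype.ext rfl)

theorem one_right_mem_bigExt (hQS : Q ≤ S) {m : Coset F Q hQS → normalizerIn S Q}
    (h : ∀ x, actHom F Q hQS (m x) = 1) :
    (⟨m, 1⟩ : Wreath F Q hQS) ∈ bigExt F Q hQS := fun x => by simp [h x]

/-- Two compatible lifts with the same twist are conjugate by an element of the kernel. -/
theorem IsCompat.exists_conj [Finite S] {p : ℕ} [Fact p.Prime] (hS : IsPGroup p S)
    (hF : F.IsSaturated p) (hQ : F.IsCentric Q) {hQS : Q ≤ S} {P : Subgroup Ω} {hQP : Q ≤ P}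
    (hPN : P ≤ normalizerIn S Q) {f₁ f₂ : P →* bigExt F Q hQS} {β : F.autGroup Q}
    (h₁ : IsCompat hQS hQP f₁ β) (h₂ : IsCompat hQS hQP f₂ β) :
    ∃ m : bigExt F Q hQS, extProj F Q hQS m = 1 ∧ ∀ g, f₂ g = m * f₁ g * m⁻¹ := by
  classical
  set a : P →* F.autGroup Q := (extProj F Q hQS).comp f₁ with ha_def
  have ha : ∀ g, extProj F Q hQS (f₂ g) = a g := fun g => by
    rw [h₂.extProj_eq hPN, ha_def, MonoidHom.comp_apply, h₁.extProj_eq hPN]
  have hstab : ∀ x, stabAt hQS f₂ x = stabAt hQS f₁ x := fun x => by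
    have : (extProj F Q hQS).comp f₂ = (extProj F Q hQS).comp f₁ := MonoidHom.ext ha
    simp only [stabAt, this]
  set L₁ : P → Coset F Q hQS → normalizerIn S Q := fun g x => (f₁ g : Wreath F Q hQS).left x
  set L₂ : P → Coset F Q hQS → normalizerIn S Q := fun g x => (f₂ g : Wreath F Q hQS).left x
  have mul₁ : ∀ g g' x, L₁ (g * g') x = L₁ g x * L₁ g' ((a g)⁻¹ • x) := fun g g' x => by
    simp only [L₁, map_mul, Subgroup.coe_mul, wreath_mul_left]; rfl
  have mul₂ : ∀ g g' x, L₂ (g * g') x = L₂ g x * L₂ g' ((a g)⁻¹ • x) := fun g g' x => by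
    simp only [L₂, map_mul, Subgroup.coe_mul, wreath_mul_left]
    rw [← ha g]; rfl
  have act_eq : ∀ g x, actHom F Q hQS (L₂ g x) = actHom F Q hQS (L₁ g x) := fun g x => by
    simp only [L₁, L₂, act_left, ← extProj_apply, ha]
    rfl
  -- the central correction at a point
  have hloc : ∀ x, ∃ c : normalizerIn S Q, actHom F Q hQS c = 1 ∧
      ∀ g : P, a g • x = x → L₂ g x = c * L₁ g x * c⁻¹ := by
    intro x
    obtain ⟨ψ₁, hψ₁, e₁⟩ := h₁.2 x
    obtain ⟨ψ₂, hψ₂, e₂⟩ := h₂.2 x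
    have hQst : Q ≤ stabAt hQS f₁ x := fun q hq => by
      refine (mem_stabAt hQS).2 ⟨hQP hq, ?_⟩
      have := h₁.1 ⟨q, hq⟩
      rw [show (⟨q, hQP hq⟩ : P) = Subgroup.inclusion hQP ⟨q, hq⟩ from rfl, this, extProj_apply,
        diagHom_right, innHom_smul]
    have hstP : stabAt hQS f₁ x ≤ P := fun g hg => ((mem_stabAt hQS).1 hg).1
    obtain ⟨z, hzQ, hzc, hz⟩ := eq_conj_of_agree hS hF hQst
      (fun g hg => (hPN (hstP hg)).2) hQ hψ₁
      (φ₂ := ψ₂.comp (Subgroup.inclusion (hstab x).ge)) (restrict_mem hψ₂ (hstab x).ge)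
      (by
        rintro ⟨q, hq⟩ hqQ
        show ψ₂ ⟨q, _⟩ = _
        rw [e₂ q (hQP hqQ), e₁ q (hQP hqQ),
          show (⟨q, hQP hqQ⟩ : P) = Subgroup.inclusion hQP ⟨q, hqQ⟩ from rfl, h₁.1, h₂.1])
    refine ⟨L₁ ⟨z, hQP hzQ⟩ x, ?_, fun g hg => ?_⟩
    · rw [show (⟨z, hQP hzQ⟩ : P) = Subgroup.inclusion hQP ⟨z, hzQ⟩ from rfl]
      simp only [L₁, h₁.1]
      refine Subtype.ext (MulEquiv.ext fun y => Subtype.ext ?_)
      rw [actHom_apply, diagHom_left]
      set γ : MulAut Q := (((trans' F Q hQS x)⁻¹ : F.autGroup Q) : MulAut Q)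
      set δ : MulAut Q := (β : MulAut Q)
      have hcz : ∀ w : Q, ⟨z, hzQ⟩ * w * ⟨z, hzQ⟩⁻¹ = w := fun w => Subtype.ext (by
        show z * (w : Ω) * z⁻¹ = w
        rw [← Subgroup.mem_centralizer_iff.1 hzc w w.2, mul_inv_cancel_right])
      have := congrArg (fun t : Q => ((γ (δ t) : Q) : Ω)) (hcz (δ.symm (γ.symm y)))
      simpa only [map_mul, map_inv, Subgroup.coe_mul, Subgroup.coe_inv, MulEquiv.apply_symm_apply,
        OneMemClass.coe_one, MulAut.one_apply] using this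
    · have hzst : z ∈ stabAt hQS f₁ x := hQst hzQ
      have hgst : (g : Ω) ∈ stabAt hQS f₁ x := (mem_stabAt hQS).2 ⟨g.2, hg⟩
      have hcj : z * (g : Ω) * z⁻¹ ∈ stabAt hQS f₁ x :=
        mul_mem (mul_mem hzst hgst) (inv_mem hzst)
      have h3 := hz ⟨g, hgst⟩ hcj
      have e : (⟨z * (g : Ω) * z⁻¹, hcj⟩ : stabAt hQS f₁ x) = ⟨z, hzst⟩ * ⟨g, hgst⟩ * ⟨z, hzst⟩⁻¹ :=
        Subtype.ext rfl
      rw [e, map_mul, map_mul, map_inv, e₁ z (hQP hzQ), e₁ g g.2] at h3
      refine Subtype.ext ?_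
      rw [show ψ₂.comp (Subgroup.inclusion (hstab x).ge) ⟨g, hgst⟩ = (L₂ g x : Ω) from e₂ g g.2 _] at h3
      exact h3
  choose c hc hcc using hloc
  -- orbit representatives
  let rel : Setoid (Coset F Q hQS) :=
    { r := fun x y => ∃ g, a g • x = y
      iseqv :=
        { refl := fun x => ⟨1, by simp⟩
          symm := fun {x y} ⟨g, hg⟩ => ⟨g⁻¹, by rw [← hg, map_inv, inv_smul_smul]⟩
          trans := fun {x y z} ⟨g, hg⟩ ⟨g', hg'⟩ => ⟨g' * g, by rw [map_mul, mul_smul, hg, hg']⟩ } }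
  set base : Coset F Q hQS → Coset F Q hQS := fun x => (Quotient.mk rel x).out with hbase
  have hb : ∀ x, ∃ g, a g • base x = x := fun x =>
    Quotient.exact (Quotient.out_eq (Quotient.mk rel x))
  choose w hw using hb
  have hbg : ∀ g x, base (a g • x) = base x := fun g x => by
    show Quotient.out _ = Quotient.out _
    rw [Quotient.sound (s := rel) (⟨g, rfl⟩ : rel.r x (a g • x))]
  set m : Coset F Q hQS → normalizerIn S Q :=
    fun x => L₂ (w x) x * c (base x) * (L₁ (w x) x)⁻¹ with hm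
  refine ⟨⟨⟨m, 1⟩, one_right_mem_bigExt hQS fun x => ?_⟩, rfl, fun g => ?_⟩
  · rw [hm, map_mul, map_mul, map_inv, hc, act_eq, mul_one, mul_inv_cancel]
  refine Subtype.ext (SemidirectProduct.ext (funext fun x => ?_) ?_)
  · simp only [Subgroup.coe_mul, Subgroup.coe_inv, wreath_mul_left, wreath_inv_left,
      SemidirectProduct.mul_right, one_mul, inv_one, one_smul]
    show L₂ g x = m x * L₁ g x * (m ((a g)⁻¹ • x))⁻¹
    rw [eq_mul_inv_iff_mul_eq]
    set y := (a g)⁻¹ • x with hy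
    have hbxy : base y = base x := by rw [hy, ← map_inv, hbg]
    set b := base x
    have hwy : a (w y) • b = y := hbxy ▸ hw y
    have hwy' : (a (w y))⁻¹ • y = b := inv_smul_eq_iff.2 hwy.symm
    have hwx' : (a (w x))⁻¹ • x = b := inv_smul_eq_iff.2 (hw x).symm
    set s := (w x)⁻¹ * g * w y with hs
    have has : a s • b = b := by
      rw [hs, map_mul, map_mul, map_inv, mul_smul, mul_smul, hwy, hy, smul_inv_smul, hwx']
    have hgw : g * w y = w x * s := by simp [hs, mul_assoc]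
    show L₂ g x * (L₂ (w y) y * c (base y) * (L₁ (w y) y)⁻¹) =
      L₂ (w x) x * c b * (L₁ (w x) x)⁻¹ * L₁ g x
    have e2 := congrArg (L₂ · x) hgw
    have e1 := congrArg (L₁ · x) hgw
    simp only [mul₂, mul₁, hwx', ← hy] at e1 e2
    rw [hbxy, ← mul_assoc, ← mul_assoc, e2, hcc b s has, mul_inv_eq_iff_eq_mul]
    simp only [mul_assoc, inv_mul_cancel_left]
    rw [e1]
    simp
  · simp only [Subgroup.coe_mul, Subgroup.coe_inv, SemidirectProduct.mul_right,
      SemidirectProduct.inv_right, one_mul, inv_one, mul_one, ← extProj_apply, ha]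
    rfl

/-- Twisting a compatible lift by an inner automorphism of the extension. -/
theorem IsCompat.conj {hQS : Q ≤ S} {P : Subgroup Ω} {hQP : Q ≤ P} {f : P →* bigExt F Q hQS}
    {β : F.autGroup Q} (h : IsCompat hQS hQP f β) (γ : bigExt F Q hQS) :
    IsCompat hQS hQP ((MulAut.conj γ).toMonoidHom.comp f) (extProj F Q hQS γ * β) := by
  refine ⟨fun q => ?_, fun x => ?_⟩
  · show γ * f _ * γ⁻¹ = _
    rw [h.1, diagHom_conj]
    rfl
  · set a := extProj F Q hQS γ with ha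
    obtain ⟨ψ, hψ, e⟩ := h.2 (a⁻¹ • x)
    have hle : stabAt hQS ((MulAut.conj γ).toMonoidHom.comp f) x ≤ stabAt hQS f (a⁻¹ • x) := by
      intro g hg
      obtain ⟨hgP, hfix⟩ := (mem_stabAt hQS).1 hg
      refine (mem_stabAt hQS).2 ⟨hgP, ?_⟩
      simp only [MonoidHom.coe_comp, Function.comp_apply, MulEquiv.coe_toMonoidHom, MulAut.conj_apply,
        map_mul, map_inv, mul_smul, ← ha] at hfix
      exact (inv_smul_eq_iff.2 hfix.symm).symm
    refine ⟨_, conj_comp_mem (restrict_mem hψ hle)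
      ((γ : Wreath F Q hQS).left x).2.1, fun g hg hst => ?_⟩
    obtain ⟨hgP, hfix⟩ := (mem_stabAt hQS).1 (hle hst)
    show ((γ : Wreath F Q hQS).left x : Ω) * ψ ⟨g, hle hst⟩ * ((γ : Wreath F Q hQS).left x : Ω)⁻¹ =
      (((γ * f ⟨g, hg⟩ * γ⁻¹ : bigExt F Q hQS) : Wreath F Q hQS).left x : Ω)
    rw [e g hg, Subgroup.coe_mul, Subgroup.coe_mul, Subgroup.coe_inv, wreath_mul_left,
      wreath_mul_left, wreath_inv_left]
    have h1 : ((γ : Wreath F Q hQS) * (f ⟨g, hg⟩ : Wreath F Q hQS)).right⁻¹ • x = a⁻¹ • x := by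
      rw [SemidirectProduct.mul_right, mul_inv_rev, mul_smul, inv_smul_eq_iff]
      exact hfix.symm
    rw [h1]
    rw [show (γ : Wreath F Q hQS).right • a⁻¹ • x = x from smul_inv_smul a x]
    rfl

end CfsgLib.FusionModel
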