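import Cfsg.Agent.Lib.Fusion.TransportConstrained
import Cfsg.Agent.Lib.Fusion.NormalSubgroup
import Cfsg.Agent.S5342

/-!
The fusion systems of subnormal subgroups of a group with constrained fusion system are
constrained.
-/

set_option autoImplicit false
open Cfsg Cfsg.FusionSystem CfsgLib.Fusion

namespace CfsgLib.Fusion

theorem isPush_group {A B : Type*} [Group A] [Group B] {f : A →* B} (hf : Function.Injective f)
    (T : Subgroup A) {H' T' : Subgroup B} (hTH : T' ≤ H') (hH : f.range = H') (hT : T.map f = T') :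
    Transport.IsPush f (Cfsg.groupFusionSystem T) (Cfsg.fusionSystemOfSubgroup H' T' hTH) := by
  subst hH hT
  refine ⟨rfl, hf, fun {P φ P' φ'} hr => ⟨?_, ?_⟩⟩
  · rintro ⟨hP, hφ, g, hg⟩
    refine ⟨hr.1 ▸ Subgroup.map_mono hP, fun y => ?_, f g, ⟨g, rfl⟩, fun y => ?_⟩
    · obtain ⟨x, hx, hy⟩ : (y : B) ∈ P.map f := hr.1.symm ▸ y.2
      rw [show y = ⟨f x, hy ▸ y.2⟩ from Subtype.ext hy.symm, hr.2 ⟨x, hx⟩]
      exact ⟨_, hφ ⟨x, hx⟩, rfl⟩
    · obtain ⟨x, hx, hy⟩ : (y : B) ∈ P.map f := hr.1.symm ▸ y.2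
      rw [show y = ⟨f x, hy ▸ y.2⟩ from Subtype.ext hy.symm, hr.2 ⟨x, hx⟩, hg ⟨x, hx⟩]
      simp only [map_mul, map_inv]
  · rintro ⟨hP', hφ', _, ⟨g, rfl⟩, hg⟩
    refine ⟨(Transport.map_le_map hf).1 (hr.1.le.trans hP'), fun x => ?_, g, fun x => hf ?_⟩
    · refine (Transport.mem_map_inj hf).1 ?_
      have hx : f x ∈ P' := hr.1 ▸ ⟨x, x.2, rfl⟩
      rw [← hr.2 x hx]
      exact hφ' _
    · have hx : f x ∈ P' := hr.1 ▸ ⟨x, x.2, rfl⟩
      rw [← hr.2 x hx, hg]
      simp only [map_mul, map_inv]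

theorem isPush_group_surjective {A B : Type*} [Group A] [Group B] {f : A →* B}
    (hf : Function.Injective f) (hs : Function.Surjective f) (T : Subgroup A) {T' : Subgroup B}
    (hT : T.map f = T') :
    Transport.IsPush f (Cfsg.groupFusionSystem T) (Cfsg.groupFusionSystem T') := by
  have h := isPush_group hf T (le_top : T' ≤ ⊤) (MonoidHom.range_eq_top.2 hs) hT
  refine ⟨h.map_eq, h.inj, fun {P φ P' φ'} hr => (h.iff hr).trans ?_⟩
  exact ⟨fun ⟨a, b, g, _, c⟩ => ⟨a, b, g, c⟩, fun ⟨a, b, g, c⟩ => ⟨a, b, g, Subgroup.mem_top g, c⟩⟩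

variable {G : Type*} [Group G] [Finite G] {p : ℕ} [Fact p.Prime]

/-- One step: a normal subgroup. -/
theorem constrained_of_normal_subgroup (R : Sylow p G)
    (hF : (Cfsg.groupFusionSystem (R : Subgroup G)).IsConstrained p) {A : Type*} [Group A]
    {f : A →* G} (hf : Function.Injective f) (hn : f.range.Normal) :
    ∃ T : Sylow p A, (T : Subgroup A) = (R : Subgroup G).comap f ∧
      (Cfsg.groupFusionSystem ((R : Subgroup G).comap f)).IsConstrained p := by
  haveI : f.range.Normal := hn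
  obtain ⟨R', hR'⟩ := isSylowIn_inf_normal R f.range
  have hg : Function.Injective f.rangeRestrict := fun a b h => hf (congrArg Subtype.val h)
  refine ⟨R'.comapOfInjective f.rangeRestrict hg (by
    rw [MonoidHom.range_eq_top.2 f.rangeRestrict_surjective]; exact le_top), ?_, ?_⟩
  · rw [Sylow.coe_comapOfInjective, hR']
    ext x
    exact ⟨fun h => h.1, fun h => ⟨h, ⟨x, rfl⟩⟩⟩
  · have hnorm := fusionSystemOfSubgroup_isNormalIn R f.range
    have hc := Cfsg.Agent.S5342.constrained_of_normal R.2 hF hnorm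
    refine (isPush_group hf _ inf_le_right rfl ?_).isConstrained_left (R.2.to_le inf_le_left) hc
    rw [Subgroup.map_comap_eq, inf_comm]

theorem constrained_of_subnormal_subgroup (S : Sylow p G)
    (hF : (Cfsg.groupFusionSystem (S : Subgroup G)).IsConstrained p) (H : Subgroup G)
    (hH : H.IsSubnormal) :
    ∃ R : Sylow p H, (R : Subgroup H) = (S : Subgroup G).subgroupOf H ∧
      (Cfsg.groupFusionSystem ((S : Subgroup G).subgroupOf H)).IsConstrained p := by
  induction hH with
  | top =>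
    refine ⟨S.subtype le_top, Sylow.coe_subtype _ _, ?_⟩
    refine (isPush_group_surjective (f := (⊤ : Subgroup G).subtype) Subtype.coe_injective
      (fun x => ⟨⟨x, trivial⟩, rfl⟩) _ ?_).isConstrained_left S.2 hF
    exact Subgroup.map_subgroupOf_eq_of_le le_top
  | step H K hle _ hN ih =>
    obtain ⟨R, hR, hK⟩ := ih
    rw [← hR] at hK
    obtain ⟨T, hT, hc⟩ := constrained_of_normal_subgroup R hK
      (f := Subgroup.inclusion hle) (Subgroup.inclusion_injective hle)
      (by rwa [show (Subgroup.inclusion hle).range = H.subgroupOf K from Subgroup.inclusion_range hle])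
    have he : (R : Subgroup K).comap (Subgroup.inclusion hle) = (S : Subgroup G).subgroupOf H := by
      rw [hR]; rfl
    exact ⟨T, hT.trans he, he ▸ hc⟩

end CfsgLib.Fusion
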