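import Cfsg.Agent.Lib.Fusion.PPowerIndex.Build

/-!
# Tate's theorem for fusion systems

If a saturated subsystem over the same group has a smaller hyperfocal subgroup, then its focal
subgroup is smaller also modulo the Frattini subgroup.
-/

set_option autoImplicit false
set_option linter.unusedSectionVars false

namespace CfsgLib.Fusion.Tate

open Cfsg Cfsg.FusionSystem CfsgLib.Fusion CfsgLib.Marks CfsgLib.Fusion.Realize MulAction
  CfsgLib.Fusion.PPowerIndex

universe u v

section Quot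

variable {X : Type u} [Group X] {p : ℕ}

/-- A central section of order `p` above a normal subgroup. -/
theorem exists_central_section [Finite X] [Fact p.Prime] (hX : IsPGroup p X) {N W : Subgroup X}
    [N.Normal] [W.Normal] (hlt : N < W) :
    ∃ M : Subgroup X, N ≤ M ∧ M ≤ W ∧ (∀ x : X, ∀ w ∈ W, w⁻¹ * (x * w * x⁻¹) ∈ M) ∧
      Nat.card (W ⧸ M.subgroupOf W) = p := by
  obtain ⟨M, hNM, ⟨hMn, -, hMW⟩, hmax⟩ :=
    exists_ge_maximal_of_normal (N := N) (W := W) hlt
  have := hMn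
  set π := QuotientGroup.mk' M with hπ
  have hsurj := QuotientGroup.mk'_surjective M
  have hker : π.ker = M := QuotientGroup.ker_mk' M
  set Wb := W.map π with hWb
  have : Wb.Normal := Subgroup.Normal.map inferInstance π hsurj
  have hcomap : Wb.comap π = W := by rw [hWb, Subgroup.comap_map_eq, hker, sup_eq_left.2 hMW.le]
  have hne : Wb ≠ ⊥ := fun h => hMW.ne (by rw [← hcomap, h, MonoidHom.comap_bot, hker])
  have key : ∀ K : Subgroup (X ⧸ M), K.Normal → K ≤ Wb → K = ⊥ ∨ K = Wb := by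
    intro K hK hle
    rcases hle.eq_or_lt with h | h
    · exact Or.inr h
    · left
      have h1 : K.comap π < W := hcomap ▸ (Subgroup.comap_lt_comap_of_surjective hsurj).2 h
      have hM : M ≤ K.comap π := fun x hx => by
        rw [Subgroup.mem_comap, show π x = 1 from (QuotientGroup.eq_one_iff x).2 hx]
        exact one_mem K
      have h2 := hmax _ ⟨hK.comap π, hNM.trans hM, h1⟩ hM
      rw [← Subgroup.map_comap_eq_self_of_surjective hsurj K, h2, Subgroup.map_eq_bot_iff, hker]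
  have : Group.IsNilpotent (X ⧸ M) := (hX.to_quotient M).isNilpotent
  have hc : ⁅Wb, (⊤ : Subgroup (X ⧸ M))⁆ = ⊥ := by
    rcases key ⁅Wb, ⊤⁆ inferInstance (Subgroup.commutator_le_left Wb ⊤) with h | h
    · exact h
    · exfalso
      have hall : ∀ n, Wb ≤ (⊤ : Subgroup (X ⧸ M)).lowerCentralSeries n := by
        intro n
        induction n with
        | zero => exact le_top
        | succ n ih => exact h.symm.le.trans (Subgroup.commutator_mono ih le_rfl)
      obtain ⟨n, hn⟩ := (Subgroup.nilpotent_iff_lowerCentralSeries (G := X ⧸ M)).1 inferInstance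
      exact hne (le_bot_iff.1 (hn ▸ hall n))
  have hcen : ∀ z ∈ Wb, ∀ y : X ⧸ M, z * y = y * z := fun z hz y =>
    commutatorElement_eq_one_iff_mul_comm.1
      (Subgroup.mem_bot.1 (hc ▸ Subgroup.commutator_mem_commutator hz (Subgroup.mem_top y)))
  have hcen' : ∀ x : X, ∀ w ∈ W, w⁻¹ * (x * w * x⁻¹) ∈ M := by
    intro x w hw
    rw [← hker, MonoidHom.mem_ker, map_mul, map_inv, map_mul, map_mul, map_inv,
      ← hcen (π w) ⟨w, hw, rfl⟩, mul_inv_cancel_right, inv_mul_cancel]
  refine ⟨M, hNM, hMW.le, hcen', ?_⟩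
  have : Nontrivial Wb := (Subgroup.nontrivial_iff_ne_bot Wb).2 hne
  have hWp : IsPGroup p Wb := (hX.to_quotient M).to_subgroup Wb
  obtain ⟨k, hk, hcard⟩ := hWp.nontrivial_iff_card.1 this
  obtain ⟨z, hz⟩ := exists_prime_orderOf_dvd_card' (G := Wb) p (hcard ▸ dvd_pow_self p hk.ne')
  set K := Subgroup.zpowers ((z : Wb) : X ⧸ M) with hK
  have hKW : K ≤ Wb := Subgroup.zpowers_le.2 z.2
  have hKn : K.Normal := ⟨fun a ha y => by rwa [← hcen a (hKW ha) y, mul_inv_cancel_right]⟩
  have hKcard : Nat.card K = p := by rw [hK, Nat.card_zpowers, Subgroup.orderOf_coe, hz]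
  have hKeq : K = Wb := (key K hKn hKW).resolve_left fun h => by
    rw [h, Subgroup.card_bot] at hKcard
    exact (Fact.out : p.Prime).one_lt.ne hKcard
  let π' : W →* Wb := (π.comp W.subtype).codRestrict Wb fun w => ⟨w, w.2, rfl⟩
  have hker' : π'.ker = M.subgroupOf W := by
    ext w
    rw [MonoidHom.mem_ker, Subgroup.mem_subgroupOf]
    show π' w = 1 ↔ _
    rw [Subtype.ext_iff]
    show π w = 1 ↔ _
    rw [← MonoidHom.mem_ker, hker]
  have hsurj' : Function.Surjective π' := by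
    rintro ⟨_, w, hw, rfl⟩
    exact ⟨⟨w, hw⟩, rfl⟩
  rw [← hker', Nat.card_congr (QuotientGroup.quotientKerEquivOfSurjective π' hsurj').toEquiv, ← hKeq,
    hKcard]
where
  exists_ge_maximal_of_normal {X : Type u} [Group X] [Finite X] {N W : Subgroup X} [N.Normal]
      (hlt : N < W) : ∃ M, N ≤ M ∧ (M.Normal ∧ N ≤ M ∧ M < W) ∧
        ∀ M', (M'.Normal ∧ N ≤ M' ∧ M' < W) → M ≤ M' → M' = M := by
    obtain ⟨M, hM, hmax⟩ := Set.Finite.exists_le_maximal
      (s := {M : Subgroup X | M.Normal ∧ N ≤ M ∧ M < W}) (Set.toFinite _)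
      (a := N) ⟨inferInstance, le_rfl, hlt⟩
    exact ⟨M, hM, hmax.1, fun M' h hle => le_antisymm (hmax.2 h hle) hle⟩

end Quot

variable {Ω : Type u} [Group Ω] {S : Subgroup Ω} {F : Cfsg.FusionSystem S} {p : ℕ}
variable {A : Type v} [CommGroup A]

/-- A homomorphism on the hyperfocal subgroup invariant under `S` is the restriction, up to a power prime
to `p`, of a homomorphism on `S` modulo one that vanishes there. -/
theorem exists_extension_pow [Finite S] [hp : Fact p.Prime] (hS : IsPGroup p S) (hF : F.IsSaturated p)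
    (hA : ∀ a : A, a ^ p = 1) {W : Subgroup S} (hW : ∀ s : S, s ∈ W ↔ (s : Ω) ∈ F.hyperfocalSubgroup p)
    (f : W →* A) (hinv : ∀ (s : S) (u v : W), (v : S) = s * (u : S) * s⁻¹ → f v = f u) :
    ∃ n : ℕ, ¬ p ∣ n ∧ ∃ g : S →* A, ∀ u : W, g (u : S) = (f u ^ n)⁻¹ := by
  classical
  have hWn : W.Normal := ⟨fun n hn g => (hW _).2 (hyperfocalSubgroup_conj_mem F p g.2 ((hW _).1 hn))⟩
  obtain ⟨d⟩ := exists_data (lam := (1 : S →* A)) hS hF (fun _ _ _ _ => rfl) hA
  have := Fintype.ofFinite d.Orb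
  let π := QuotientGroup.mk' W
  have hπker : ∀ s : S, π s = 1 ↔ s ∈ W := fun s => QuotientGroup.eq_one_iff s
  have hlab : ∀ D : {D : Subgroup (S × S) // D ∈ graphSubs F}, ∃ a : S ⧸ W,
      ∀ z ∈ D.1, π z.1 * a * (π z.2)⁻¹ = a := by
    rintro ⟨D, P, φ, hφ, hg⟩
    obtain ⟨s, hs, hmod⟩ := exists_conj_mod_hyperfocal hS hF hφ
    refine ⟨π ⟨s, hs⟩, fun z hz => ?_⟩
    obtain ⟨hP, hv⟩ := hg z hz
    have h1 := hmod ⟨_, hP⟩
    rw [hv] at h1
    have h2 : π ((⟨s, hs⟩ * z.2 * ⟨s, hs⟩⁻¹)⁻¹ * z.1) = 1 := (hπker _).2 ((hW _).2 h1)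
    rw [map_mul, map_inv, inv_mul_eq_one, map_mul, map_mul, map_inv] at h2
    rw [← h2]
    group
  choose lab hlab using hlab
  have hD : ∀ ω : GSet d.c, (ω.1 : Subgroup (S × S)) ∈ graphSubs F := fun ω => d.mem _ fun h => by
    have := ω.2.1.2
    omega
  let P : GSet d.c → S ⧸ W := fun ω => π ω.2.2.out.1 * lab ⟨_, hD ω⟩ * (π ω.2.2.out.2)⁻¹
  have hP : ∀ (y : S × S) (ω : GSet d.c), P (y • ω) = π y.1 * P ω * (π y.2)⁻¹ := by
    intro y ω
    obtain ⟨D, i, q⟩ := ω
    have h1 : ((y * q.out : S × S) : (S × S) ⧸ D) = y • q := by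
      conv_rhs => rw [← QuotientGroup.out_eq' q]
      rfl
    obtain ⟨z, hz⟩ := QuotientGroup.mk_out_eq_mul D (y * q.out)
    rw [h1] at hz
    show π (y • q).out.1 * lab ⟨D, _⟩ * (π (y • q).out.2)⁻¹ = _
    rw [hz]
    simp only [Prod.fst_mul, Prod.snd_mul, map_mul, mul_inv_rev, mul_assoc]
    have h3 := hlab ⟨D, hD ⟨D, i, q⟩⟩ z z.2
    simp only [mul_assoc] at h3
    show _ = π y.1 * (π q.out.1 * lab ⟨D, _⟩ * (π q.out.2)⁻¹ * (π y.2)⁻¹)
    have h4 : ∀ X : S ⧸ W, π (z : S × S).1 * (lab ⟨D, hD ⟨D, i, q⟩⟩ * ((π (z : S × S).2)⁻¹ * X)) =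
        lab ⟨D, hD ⟨D, i, q⟩⟩ * X := fun X => by
      rw [← mul_assoc (lab _), ← mul_assoc, h3]
    rw [h4]
    simp only [mul_assoc]
  -- representatives with trivial label
  have hrep : ∀ o : d.Orb, ∃ ω, d.orb ω = o ∧ P ω = 1 := by
    intro o
    induction o using Quotient.inductionOn with
    | _ ω =>
      obtain ⟨r, hr⟩ := QuotientGroup.mk'_surjective W (P ω)
      refine ⟨((1, r) : S × S) • ω, Quotient.sound (s := d.rightRel) (Setoid.symm' d.rightRel ⟨r, rfl⟩), ?_⟩
      rw [hP, map_one, one_mul]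
      exact mul_inv_eq_one.2 hr.symm
  choose R hR hR1 using hrep
  -- coordinates
  have hrel : ∀ (g : d.Perms) (o : d.Orb), ∃ b : S,
      (g : Equiv.Perm (GSet d.c)) (R o) = ((1, b) : S × S) • R (g • o) := by
    intro g o
    have h : d.orb (R (g • o)) = d.orb ((g : Equiv.Perm (GSet d.c)) (R o)) := by
      rw [← d.smul_orb, hR, hR]
    obtain ⟨b, hb⟩ := Quotient.exact h
    exact ⟨b, hb.symm⟩
  choose e he using hrel
  have huniq : ∀ (o : d.Orb) (b b' : S), ((1, b) : S × S) • R o = ((1, b') : S × S) • R o → b = b' := by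
    intro o b b' h
    have h1 : ((1, b'⁻¹ * b) : S × S) • R o = R o := by
      rw [show ((1, b'⁻¹ * b) : S × S) = (1, b')⁻¹ * (1, b) by simp, mul_smul, h, inv_smul_smul]
    exact (inv_mul_eq_one.1 (d.free h1)).symm
  have hemul : ∀ (g g' : d.Perms) (o : d.Orb), e (g * g') o = e g' o * e g (g' • o) := by
    intro g g' o
    refine huniq ((g * g') • o) _ _ ?_
    rw [← he]
    show (g : Equiv.Perm (GSet d.c)) ((g' : Equiv.Perm (GSet d.c)) (R o)) = _
    rw [he g' o, d.comm_right, he g (g' • o), mul_smul g g', smul_smul, Prod.mk_mul_mk, one_mul]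
  have heS : ∀ (s : S) (o : d.Orb), π (e (leftHom d.c s) o) = (π s)⁻¹ := by
    intro s o
    have h1 := congrArg P (he (leftHom d.c s) o)
    change P (((s, 1) : S × S) • R o) = _ at h1
    rw [hP, hP, hR1, hR1, map_one, inv_one, mul_one, mul_one, one_mul, one_mul] at h1
    rw [h1, inv_inv]
  -- the function extending `f`
  let t : S ⧸ W → S := fun a => a.out
  have ht : ∀ a, π (t a) = a := fun a => QuotientGroup.out_eq' a
  have htW : ∀ s : S, (t (π s))⁻¹ * s ∈ W := fun s => by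
    rw [← hπker, map_mul, map_inv, ht, inv_mul_cancel]
  have ht1 : t (π 1) ∈ W := by rw [← hπker, ht, map_one]
  let h : S → A := fun s => f ⟨_, htW s⟩ * f ⟨_, ht1⟩
  have hh1 : h 1 = 1 := by
    show f _ * f _ = 1
    rw [← map_mul, ← map_one f]
    exact congrArg f (Subtype.ext (by simp))
  have hhmul : ∀ (s : S) (u : W), h (s * u) = h s * f u := by
    intro s u
    show f _ * f _ = f _ * f _ * f u
    rw [mul_right_comm, ← map_mul f ⟨_, htW s⟩ u]
    refine congrArg (· * _) (congrArg f (Subtype.ext ?_))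
    show (t (π (s * u)))⁻¹ * (s * u) = (t (π s))⁻¹ * s * u
    rw [map_mul, (hπker _).2 u.2, mul_one, mul_assoc]
  have hhW : ∀ u : W, h u = f u := fun u => by
    have := hhmul 1 u
    rwa [one_mul, hh1, one_mul] at this
  clear_value h
  let c : S ⧸ W → S ⧸ W → A := fun a b => h (t a * t b) * (h (t a))⁻¹ * (h (t b))⁻¹
  have hsplit : ∀ x y : S, h (x * y) = c (π x) (π y) * h x * h y := by
    intro x y
    obtain ⟨u, hu⟩ : ∃ u : W, x = t (π x) * u := ⟨⟨_, htW x⟩, (mul_inv_cancel_left _ _).symm⟩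
    obtain ⟨v, hv⟩ : ∃ v : W, y = t (π y) * v := ⟨⟨_, htW y⟩, (mul_inv_cancel_left _ _).symm⟩
    set a := t (π x)
    set b := t (π y)
    have hu' : b⁻¹ * (u : S) * b ∈ W := by simpa using hWn.conj_mem _ u.2 b⁻¹
    have e1 : x * y = a * b * ((⟨_, hu'⟩ * v : W) : S) := by
      rw [hu, hv]
      show _ = a * b * (b⁻¹ * (u : S) * b * v)
      group
    show h (x * y) = h (a * b) * (h a)⁻¹ * (h b)⁻¹ * h x * h y
    rw [e1, hhmul, map_mul, hinv b⁻¹ u ⟨_, hu'⟩ (by simp)]
    conv_rhs => rw [hu, hv, hhmul, hhmul]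
    calc h (a * b) * (f u * f v) = h (a * b) * ((h a)⁻¹ * h a) * ((h b)⁻¹ * h b) * (f u * f v) := by
          rw [inv_mul_cancel, inv_mul_cancel, mul_one, mul_one]
      _ = _ := by ac_rfl
  clear_value c
  set n := Nat.card d.Orb with hn
  -- the transfer
  let H' : S → A := fun s => ∏ o, h (e (leftHom d.c s) o)⁻¹
  have hperm : ∀ (g : d.Perms) (k : d.Orb → A), ∏ o, k (g • o) = ∏ o, k o := fun g k =>
    Equiv.prod_comp (MulAction.toPerm g) k
  have hH'mul : ∀ x y : S, H' (x * y) = c (π x) (π y) ^ n * H' x * H' y := by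
    intro x y
    show ∏ o, h (e (leftHom d.c (x * y)) o)⁻¹ = _
    rw [map_mul, Finset.prod_congr rfl fun o _ => by
      rw [hemul, mul_inv_rev, hsplit, map_inv, map_inv, heS, heS, inv_inv, inv_inv]]
    rw [Finset.prod_mul_distrib, Finset.prod_mul_distrib, Finset.prod_const, Finset.card_univ,
      ← Nat.card_eq_fintype_card, hperm (leftHom d.c y) fun o => h (e (leftHom d.c x) o)⁻¹]
  let f' : W →* A := MonoidHom.mk' (fun u => H' u) fun u v => by
    show H' ((u : S) * v) = H' u * H' v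
    rw [hH'mul, show c (π u) (π v) = 1 from ?_, one_pow, one_mul]
    rw [(hπker _).2 u.2, (hπker _).2 v.2, ← map_one π]
    have := hsplit 1 1
    rw [one_mul, hh1, mul_one, mul_one] at this
    exact this.symm
  have hstab : ∀ (Q : Subgroup Ω) (φ : Q →* Ω), φ ∈ F.Hom Q → ∀ (x : Q) (u v : W),
      ((u : S) : Ω) = x → ((v : S) : Ω) = φ x → f' v = f' u := by
    intro Q φ hφ x u v hu hv
    obtain ⟨g, hg⟩ := d.exists_inter hφ
    have hcomm : leftHom d.c (v : S) * g = g * leftHom d.c (u : S) := by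
      have h1 := hg x (dom_le hφ x.2) (map_mem hφ x)
      rwa [show (⟨φ x, map_mem hφ x⟩ : S) = v from Subtype.ext hv.symm,
        show (⟨(x : Ω), dom_le hφ x.2⟩ : S) = u from Subtype.ext hu.symm] at h1
    set lu := leftHom d.c (u : S)
    set lv := leftHom d.c (v : S)
    have hWu : ∀ o, e lu o ∈ W := fun o => by
      rw [← hπker, heS, (hπker _).2 u.2, inv_one]
    have hWv : ∀ o, e lv o ∈ W := fun o => by
      rw [← hπker, heS, (hπker _).2 v.2, inv_one]
    have key : ∀ o, h (e lv (g • o))⁻¹ * h (e g (lu • o)) = h (e lu o)⁻¹ * h (e g o) := by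
      intro o
      have h1 : e (lv * g) o = e (g * lu) o := by rw [hcomm]
      rw [hemul, hemul] at h1
      have h2 : e g (lu • o) =
          e g o * ((⟨_, W.inv_mem (hWn.conj_mem _ (hWu o) (e g o)⁻¹)⟩ * ⟨_, hWv (g • o)⟩ : W) : S) := by
        show _ = e g o * (((e g o)⁻¹ * e lu o * (e g o)⁻¹⁻¹)⁻¹ * e lv (g • o))
        rw [eq_inv_mul_of_mul_eq h1.symm]
        group
      rw [h2, hhmul, map_mul, hinv (e g o)⁻¹ ⟨_, W.inv_mem (hWu o)⟩ _ (by
        show _ = (e g o)⁻¹ * (e lu o)⁻¹ * (e g o)⁻¹⁻¹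
        simp [mul_assoc]),
        hhW ⟨_, W.inv_mem (hWu o)⟩ |>.symm, ← hhW ⟨_, hWv (g • o)⟩]
      show h (e lv (g • o))⁻¹ * (h (e g o) * (h (e lu o)⁻¹ * h (e lv (g • o)))) = _
      have h3 : h (e lv (g • o))⁻¹ * h (e lv (g • o)) = 1 := by
        rw [hhW ⟨_, hWv (g • o)⟩, show (e lv (g • o))⁻¹ = ((⟨_, hWv (g • o)⟩⁻¹ : W) : S) from rfl,
          hhW, map_inv, inv_mul_cancel]
      calc _ = h (e lv (g • o))⁻¹ * h (e lv (g • o)) * (h (e lu o)⁻¹ * h (e g o)) := by ac_rfl
        _ = _ := by rw [h3, one_mul]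
    have h4 := Finset.prod_congr rfl (fun o (_ : o ∈ (Finset.univ : Finset d.Orb)) => key o)
    rw [Finset.prod_mul_distrib, Finset.prod_mul_distrib, hperm g fun o => h (e lv o)⁻¹,
      hperm lu fun o => h (e g o)] at h4
    exact mul_right_cancel h4
  -- it vanishes
  have hf' : ∀ u : W, f' u = 1 := by
    have hgen : ∀ (Q : Subgroup Ω), Q ≤ S → ∀ α ∈ pResidual p (F.autGroup Q), ∀ (x : Q) (y : W),
        ((y : S) : Ω) = (x : Ω)⁻¹ * (((α : MulAut Q) x : Q) : Ω) → f' y = 1 := by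
      intro Q hQ α hα x y hy
      revert x y
      induction hα using Subgroup.closure_induction with
      | mem a ha =>
        intro x y hy
        have hpow : ∀ m : ℕ, ∀ z : W,
            ((z : S) : Ω) = (x : Ω)⁻¹ * ((((a : MulAut Q) ^ m) x : Q) : Ω) → f' z = f' y ^ m := by
          intro m
          induction m with
          | zero =>
            intro z hz
            simp only [pow_zero, MulAut.one_apply, inv_mul_cancel] at hz
            rw [show z = 1 from Subtype.ext (Subtype.ext hz), map_one, pow_zero]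
          | succ m ih =>
            intro z hz
            set w : Q := x⁻¹ * ((a : MulAut Q) ^ m) x with hw
            have hwW : (⟨w, hQ w.2⟩ : S) ∈ W :=
              (hW _).2 (mem_hyperfocal_of_pResidual hQ (Subgroup.pow_mem _ (Subgroup.subset_closure ha) m) x)
            have hawW : (⟨((a : MulAut Q) w : Q), hQ ((a : MulAut Q) w).2⟩ : S) ∈ W := by
              have := (F.hyperfocalSubgroup p).mul_mem ((hW _).1 hwW)
                (mem_hyperfocal_of_pResidual hQ (Subgroup.subset_closure ha) w)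
              rw [hW]
              change (((a : MulAut Q) w : Q) : Ω) ∈ F.hyperfocalSubgroup p
              rwa [mul_inv_cancel_left] at this
            have hz' : z = y * ⟨_, hawW⟩ := by
              refine Subtype.ext (Subtype.ext ?_)
              show ((z : S) : Ω) = ((y : S) : Ω) * (((a : MulAut Q) w : Q) : Ω)
              rw [hz, hy, hw, map_mul, map_inv, pow_succ', MulAut.mul_apply]
              simp [mul_assoc]
            rw [hz', map_mul, hstab Q _ ((mem_autGroup_iff_hom hQ).1 a.2) w ⟨_, hwW⟩ ⟨_, hawW⟩ rfl rfl,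
              ih ⟨_, hwW⟩ rfl, pow_succ']
        have h1 := hpow (orderOf a) 1 (by
          rw [← SubgroupClass.coe_pow, pow_orderOf_eq_one]
          simp)
        rw [map_one] at h1
        have h2 : (orderOf (f' y)) ∣ Nat.gcd (orderOf a) p := Nat.dvd_gcd
          (orderOf_dvd_of_pow_eq_one h1.symm) (orderOf_dvd_of_pow_eq_one (hA _))
        rw [show Nat.gcd (orderOf a) p = 1 from ha] at h2
        exact orderOf_eq_one_iff.1 (Nat.dvd_one.1 h2)
      | one =>
        intro x y hy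
        have : ((y : S) : Ω) = 1 := by rw [hy]; simp
        rw [show y = 1 from Subtype.ext (Subtype.ext this), map_one]
      | mul a b ha hb iha ihb =>
        intro x y hy
        set x' := (b : MulAut Q) x
        have h1 : (⟨_, hQ (x⁻¹ * x').2⟩ : S) ∈ W := (hW _).2 (mem_hyperfocal_of_pResidual hQ hb x)
        have h2 : (⟨_, hQ (x'⁻¹ * (a : MulAut Q) x').2⟩ : S) ∈ W := (hW _).2 (mem_hyperfocal_of_pResidual hQ ha x')
        rw [show y = ⟨_, h1⟩ * ⟨_, h2⟩ from Subtype.ext (Subtype.ext (by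
          show _ = ((x : Ω)⁻¹ * (x' : Ω)) * ((x' : Ω)⁻¹ * (((a : MulAut Q) x' : Q) : Ω))
          rw [hy]
          simp [mul_assoc]
          rfl)), map_mul, ihb x _ rfl, iha x' _ rfl, one_mul]
      | inv a ha iha =>
        intro x y hy
        set x' := ((a : MulAut Q))⁻¹ x with hx'
        rw [← inv_eq_one, ← map_inv]
        refine iha x' y⁻¹ ?_
        show ((y : S) : Ω)⁻¹ = _
        rw [hy, hx', MulAut.apply_inv_self, mul_inv_rev, inv_inv]
        rfl
    have hle : F.hyperfocalSubgroup p ≤ (f'.ker.map W.subtype).map S.subtype := by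
      refine (Subgroup.closure_le _).2 ?_
      rintro _ ⟨Q, α, x, hQ, hα, rfl⟩
      exact ⟨⟨_, hQ (x⁻¹ * (α : MulAut Q) x).2⟩,
        ⟨⟨_, (hW _).2 (mem_hyperfocal_of_pResidual hQ hα x)⟩, hgen Q hQ α hα x _ rfl, rfl⟩, rfl⟩
    intro u
    obtain ⟨s, ⟨w, hw, rfl⟩, hs⟩ := hle ((hW _).1 u.2)
    rwa [show w = u from Subtype.ext (Subtype.ext hs)] at hw
  refine ⟨n, d.not_dvd_card_orb, MonoidHom.mk' (fun s => H' s * (h s ^ n)⁻¹) (fun x y => ?_),
    fun u => ?_⟩
  · rw [hH'mul, hsplit, mul_pow, mul_pow, mul_inv, mul_inv]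
    calc c (π x) (π y) ^ n * H' x * H' y * ((c (π x) (π y) ^ n)⁻¹ * (h x ^ n)⁻¹ * (h y ^ n)⁻¹)
        = (c (π x) (π y) ^ n * (c (π x) (π y) ^ n)⁻¹) *
            (H' x * (h x ^ n)⁻¹ * (H' y * (h y ^ n)⁻¹)) := by ac_rfl
      _ = _ := by rw [mul_inv_cancel, one_mul]
  · show H' u * (h u ^ n)⁻¹ = _
    rw [show H' u = 1 from hf' u, one_mul, hhW]

/-- The Frattini subgroup lies in the kernel of a homomorphism to a group of exponent `p`. -/
theorem frattini_le_ker {X : Type u} [Group X] [Finite X] [hp : Fact p.Prime]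
    (hA : ∀ a : A, a ^ p = 1) (g : X →* A) : frattini X ≤ g.ker := by
  classical
  intro x hx
  by_contra hne
  obtain ⟨M, hM, hmax⟩ := Set.Finite.exists_le_maximal
    (s := {M : Subgroup X | g.ker ≤ M ∧ x ∉ M}) (Set.toFinite _) (a := g.ker) ⟨le_rfl, hne⟩
  have hMn : M.Normal := Subgroup.normal_of_le_ker_or_commutator_le fun a ha b => by
    have : g (b * a * b⁻¹ * a⁻¹) = 1 := by
      simp only [map_mul, map_inv]
      rw [mul_right_comm (g b), mul_inv_cancel, one_mul, mul_inv_cancel]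
    have h2 := M.mul_mem (hmax.1.1 this) ha
    simpa using h2
  have hcoa : IsCoatom M := by
    refine ⟨fun h => hmax.1.2 (h ▸ Subgroup.mem_top x), fun L hL => ?_⟩
    rw [eq_top_iff]
    intro y _
    have hxL : x ∈ L := by
      by_contra hxL
      exact hL.not_ge (hmax.2 ⟨hmax.1.1.trans hL.le, hxL⟩ hL.le)
    by_contra hyL
    obtain ⟨l, hl, hlM⟩ := SetLike.exists_of_lt hL
    -- `L` is the join of `M` and `x`, and every element above `M` generates it with `M`
    have key : ∀ z, z ∉ M → x ∈ M ⊔ Subgroup.zpowers z := fun z hz => by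
      by_contra h
      exact hz ((hmax.2 ⟨hmax.1.1.trans le_sup_left, h⟩ le_sup_left)
        (Subgroup.mem_sup_right (Subgroup.mem_zpowers z)))
    have hyM : y ∉ M := fun h => hyL (hL.le h)
    obtain ⟨m, hm, w, hw, hmw⟩ := Subgroup.mem_sup_of_normal_left.1 (key y hyM)
    obtain ⟨k, rfl⟩ := Subgroup.mem_zpowers_iff.1 hw
    have hk : ¬ (p : ℤ) ∣ k := by
      rintro ⟨j, rfl⟩
      refine hmax.1.2 (hmw ▸ M.mul_mem hm (hmax.1.1 ?_))
      rw [MonoidHom.mem_ker, map_zpow, zpow_mul, zpow_natCast, hA, one_zpow]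
    have hyp : y ^ p ∈ M := hmax.1.1 (by rw [MonoidHom.mem_ker, map_pow, hA])
    have hyk : y ^ k ∈ L := by
      have : y ^ k = m⁻¹ * x := by rw [← hmw, inv_mul_cancel_left]
      rw [this]
      exact L.mul_mem (hL.le (M.inv_mem hm)) hxL
    obtain ⟨a, b, hab⟩ : IsCoprime k (p : ℤ) :=
      (Int.prime_iff_natAbs_prime.2 (by simpa using hp.out)).coprime_iff_not_dvd.2 hk |>.symm
    refine hyL ?_
    rw [show y = (y ^ k) ^ a * (y ^ p) ^ b by
      rw [← zpow_natCast, ← zpow_mul, ← zpow_mul, ← zpow_add, mul_comm k, mul_comm (p : ℤ) b, hab, zpow_one]]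
    exact L.mul_mem (L.zpow_mem hyk a) (L.zpow_mem (hL.le hyp) b)
  exact hmax.1.2 (frattini_le_coatom hcoa hx)
where
  Subgroup.normal_of_le_ker_or_commutator_le {X : Type u} [Group X] {M : Subgroup X}
      (h : ∀ a ∈ M, ∀ b : X, b * a * b⁻¹ ∈ M) : M.Normal := ⟨h⟩

/-- The focal subgroup determines the hyperfocal subgroup. -/
theorem hyperfocal_le_of_focal_le [Finite S] [hp : Fact p.Prime] (hS : IsPGroup p S)
    (hF : F.IsSaturated p) {H : Cfsg.FusionSystem S} (hH : H.IsSaturated p)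
    (hHF : H.IsSubsystemOf F)
    (hfoc : F.focalSubgroup ≤ (frattini ↥S).map S.subtype ⊔ H.focalSubgroup) :
    F.hyperfocalSubgroup p ≤ H.hyperfocalSubgroup p := by
  classical
  by_contra hne
  set W := (F.hyperfocalSubgroup p).subgroupOf S
  set N := (H.hyperfocalSubgroup p).subgroupOf S
  have : W.Normal := ⟨fun n hn g => hyperfocalSubgroup_conj_mem F p g.2 hn⟩
  have : N.Normal := ⟨fun n hn g => hyperfocalSubgroup_conj_mem H p g.2 hn⟩
  have hlt : N < W := by
    refine lt_of_le_not_ge (fun x hx => hyperfocal_mono hHF le_rfl hx) fun h => hne fun x hx => ?_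
    exact h (show (⟨x, hyperfocalSubgroup_le_S F p hx⟩ : S) ∈ W from hx)
  obtain ⟨M, hNM, hMW, hcen, hcard⟩ := exists_central_section hS hlt
  have : (M.subgroupOf W).Normal := ⟨fun n hn g => by
    have h1 := M.mul_mem (show (n : S) ∈ M from hn) (hcen g n n.2)
    rw [mul_inv_cancel_left] at h1
    exact h1⟩
  have : IsCyclic (W ⧸ M.subgroupOf W) := isCyclic_of_prime_card hcard
  let : CommGroup (W ⧸ M.subgroupOf W) := IsCyclic.commGroup
  have hA : ∀ a : W ⧸ M.subgroupOf W, a ^ p = 1 := fun a => hcard ▸ pow_card_eq_one'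
  set f := QuotientGroup.mk' (M.subgroupOf W)
  obtain ⟨n, hn, g, hg⟩ := exists_extension_pow hS hF hA (W := W) (fun _ => Iff.rfl) f fun s u v hv => by
    refine (QuotientGroup.eq).2 ?_
    show ((v : S))⁻¹ * (u : S) ∈ M
    have h1 := M.inv_mem (hcen s u u.2)
    rw [← hv, mul_inv_rev, inv_inv] at h1
    exact h1
  have hfN : ∀ u : W, (u : S) ∈ M → f u = 1 := fun u hu => (QuotientGroup.eq_one_iff u).2 hu
  have hker : F.focalSubgroup ≤ g.ker.map S.subtype := by
    refine hfoc.trans (sup_le (Subgroup.map_mono (frattini_le_ker hA g)) ?_)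
    rw [focal_eq_hyperfocal_sup hS hH]
    refine sup_le (fun x hx => ⟨⟨x, hyperfocalSubgroup_le_S H p hx⟩, ?_, rfl⟩) ?_
    · have hxW : (⟨x, hyperfocalSubgroup_le_S H p hx⟩ : S) ∈ W := hlt.le hx
      show g ((⟨_, hxW⟩ : W) : S) = 1
      rw [hg, hfN ⟨_, hxW⟩ (hNM hx), one_pow, inv_one]
    · rw [Subgroup.commutator_le]
      intro a ha b hb
      exact ⟨(⟨a, ha⟩ : S) * ⟨b, hb⟩ * (⟨a, ha⟩ : S)⁻¹ * (⟨b, hb⟩ : S)⁻¹, (by
        show g _ = 1
        rw [map_mul, map_mul, map_mul, map_inv, map_inv, mul_right_comm (g _) (g _), mul_inv_cancel,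
          one_mul, mul_inv_cancel]), rfl⟩
  obtain ⟨u, huW, huM⟩ : ∃ u ∈ W, u ∉ M := by
    by_contra hall
    push Not at hall
    have : Nat.card (W ⧸ M.subgroupOf W) = 1 := Subgroup.index_eq_one.2
      (eq_top_iff.2 fun w _ => hall w w.2)
    exact hp.out.one_lt.ne' (hcard ▸ this)
  have huF : (u : Ω) ∈ F.focalSubgroup := by
    rw [focal_eq_hyperfocal_sup hS hF]
    exact Subgroup.mem_sup_left huW
  obtain ⟨s, hs, hsu⟩ := hker huF
  have h1 : g u = 1 := by rwa [show u = s from Subtype.ext hsu.symm]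
  rw [hg ⟨u, huW⟩, inv_eq_one] at h1
  have h2 : f ⟨u, huW⟩ = 1 := orderOf_eq_one_iff.1 (Nat.eq_one_of_dvd_coprimes
    (hp.out.coprime_iff_not_dvd.2 hn) (orderOf_dvd_of_pow_eq_one (hA _))
    (orderOf_dvd_of_pow_eq_one h1))
  exact huM ((QuotientGroup.eq_one_iff (⟨u, huW⟩ : W)).1 h2)

/-- Tate's equivalences. -/
theorem equivalences [Finite S] [Fact p.Prime] (hS : IsPGroup p S) (hF : F.IsSaturated p)
    {H : Cfsg.FusionSystem S} (hH : H.IsSaturated p) (hHF : H.IsSubsystemOf F) :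
    (((frattini ↥S).map S.subtype ⊔ F.focalSubgroup) = ((frattini ↥S).map S.subtype ⊔ H.focalSubgroup) ↔
      F.focalSubgroup = H.focalSubgroup) ∧
    (F.focalSubgroup = H.focalSubgroup ↔ F.hyperfocalSubgroup p = H.hyperfocalSubgroup p) := by
  have h13 : F.hyperfocalSubgroup p = H.hyperfocalSubgroup p → F.focalSubgroup = H.focalSubgroup :=
    fun h => by rw [focal_eq_hyperfocal_sup hS hF, focal_eq_hyperfocal_sup hS hH, h]
  have h31 : ((frattini ↥S).map S.subtype ⊔ F.focalSubgroup) =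
      ((frattini ↥S).map S.subtype ⊔ H.focalSubgroup) →
      F.hyperfocalSubgroup p = H.hyperfocalSubgroup p := fun h =>
    le_antisymm (hyperfocal_le_of_focal_le hS hF hH hHF (le_sup_right.trans h.le))
      (hyperfocal_mono hHF le_rfl)
  exact ⟨⟨fun h => h13 (h31 h), fun h => by rw [h]⟩, ⟨fun h => h31 (by rw [h]), h13⟩⟩

end CfsgLib.Fusion.Tate
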