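import Cfsg.Agent.S5329
import Cfsg.Agent.Lib.Fusion.Hyperfocal
import Cfsg.Agent.Lib.Fusion.Local
import Cfsg.Agent.Lib.PGroup.Basic

/-!
Tate's theorem for saturated fusion systems: a hyperfocal subgroup contained in the Frattini subgroup of
`S` is trivial. The proof uses the transfer of a characteristic biset whose points are graded by
`S / hyp(F)`.
-/

set_option autoImplicit false

namespace CfsgLib.Fusion.TateInner

open scoped commutatorElement
open Cfsg Cfsg.FusionSystem CfsgLib.Fusion CfsgLib.Fusion.Realize CfsgLib.Fusion.Biset CfsgLib.Marks MulAction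

universe u

variable {Ω : Type u} [Group Ω] {S : Subgroup Ω} {F : Cfsg.FusionSystem S} {p : ℕ}

/-- A biset with stable marks that realizes the system, with number of orbits prime to `p`. -/
theorem exists_realizing [Finite S] [Fact p.Prime] (hS : IsPGroup p S) (hF : F.IsSaturated p) :
    ∃ c : Subgroup (S × S) → ℕ, (∀ D, c D ≠ 0 → D ∈ relSubs F) ∧
      F.IsRealizedBy (leftHom c) ∧ ¬ p ∣ ∑ᶠ D, c D * (Nat.card S / Nat.card D) := by
  obtain ⟨c, f, hc, hf, hp⟩ := exists_char F hS hF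
  have hc' : ∀ D, c D ≠ 0 → D ∈ graphSubs F := fun D hD => (hc D hD).1
  have hfix : ∀ x : GSet c, dz F ≤ stabilizer (S × S) x := by
    rintro ⟨D, i, y⟩
    induction y using QuotientGroup.induction_on with
    | H g =>
      intro u hu
      have hD := (hc D (fun h => by exact (Fin.cast h i).elim0)).2
      show (⟨D, i, u • (g : (S × S) ⧸ D)⟩ : GSet c) = ⟨D, i, (g : (S × S) ⧸ D)⟩
      congr 2
      refine QuotientGroup.eq.2 ?_
      have h1 : g⁻¹ * u⁻¹ * g ∈ D := hD ((conjS_dz F g⁻¹).le ⟨u⁻¹, inv_mem hu, by simp⟩)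
      simpa [mul_assoc] using h1
  have hmarks : ∀ E ∈ graphSubs F, mark c E = f (sndImage E ⊔ zS F) ∧ 0 < f (sndImage E ⊔ zS F) := by
    intro E hE
    have heq : mark c E = mark c (E ⊔ dz F) := by
      rw [← card_fixSet_gset, ← card_fixSet_gset]
      exact Nat.card_congr (Equiv.setCongr (Set.ext fun x =>
        ⟨fun h => sup_le h (hfix x), fun h e he => h (Subgroup.mem_sup_left he)⟩))
    rw [heq, ← sndImage_dz F, ← sndImage_sup]
    exact hf _ (sup_dz_mem F hE)
  exact ⟨c, hc, isRealizedBy_leftHom F c hc' (fun Q => f (Q ⊔ zS F))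
    (fun E hE => (hmarks E hE).1) (fun E hE => by rw [(hmarks E hE).1]; exact (hmarks E hE).2), hp⟩

/-- A grading of the biset by a quotient modulo which all maps are conjugations. -/
theorem exists_grading [Finite S] {c : Subgroup (S × S) → ℕ}
    (hc : ∀ D, c D ≠ 0 → D ∈ graphSubs F) (N : Subgroup S) [N.Normal]
    (hmod : ∀ (P : Subgroup Ω) (φ : P →* Ω), φ ∈ F.Hom P → ∃ s : S, ∀ x : P, ∀ hx : (x : Ω) ∈ S,
      ∀ hy : φ x ∈ S, (QuotientGroup.mk (⟨φ x, hy⟩ : S) : S ⧸ N) =
        (s : S ⧸ N) * ((⟨x, hx⟩ : S) : S ⧸ N) * (s : S ⧸ N)⁻¹) :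
    ∃ θ : GSet c → S ⧸ N, ∀ (k : S × S) (x : GSet c),
      θ (k • x) = (k.2 : S ⧸ N) * θ x * (k.1 : S ⧸ N)⁻¹ := by
  classical
  have ht : ∀ x : GSet c, ∃ t : S ⧸ N, ∀ d ∈ stabilizer (S × S) x,
      (d.2 : S ⧸ N) * t * (d.1 : S ⧸ N)⁻¹ = t := by
    intro x
    obtain ⟨P, φ, hφ, hg⟩ := stabilizer_gset_mem F hc x
    obtain ⟨s, hs⟩ := hmod P φ hφ
    refine ⟨(s : S ⧸ N)⁻¹, fun d hd => ?_⟩
    obtain ⟨h, hv⟩ := hg d hd
    have h1 := hs ⟨(d.2 : Ω), h⟩ d.2.2 (by rw [hv]; exact d.1.2)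
    have e1 : (⟨φ ⟨(d.2 : Ω), h⟩, by rw [hv]; exact d.1.2⟩ : S) = d.1 := Subtype.ext hv
    rw [e1] at h1
    rw [h1]
    simp [mul_assoc]
  choose t ht using ht
  let O := MulAction.orbitRel (S × S) (GSet c)
  let r : GSet c → GSet c := fun x => (Quotient.mk O x).out
  have hr : ∀ x, ∃ g : S × S, g • r x = x := fun x => by
    obtain ⟨g, hg⟩ := Quotient.mk_out (s := O) x
    refine ⟨g⁻¹, ?_⟩
    show g⁻¹ • (Quotient.mk O x).out = x
    rw [show (Quotient.mk O x).out = g • x from hg.symm, inv_smul_smul]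
  choose g hg using hr
  refine ⟨fun x => ((g x).2 : S ⧸ N) * t (r x) * ((g x).1 : S ⧸ N)⁻¹, fun k x => ?_⟩
  have hreq : r (k • x) = r x := congrArg Quotient.out (Quotient.sound (⟨k, rfl⟩ : O.r (k • x) x))
  have hd : (g (k • x))⁻¹ * (k * g x) ∈ stabilizer (S × S) (r x) := by
    rw [mem_stabilizer_iff, mul_smul, mul_smul, hg, inv_smul_eq_iff]
    conv_lhs => rw [← hg (k • x), hreq]
  have h1 := ht (r x) _ hd
  show ((g (k • x)).2 : S ⧸ N) * t (r (k • x)) * ((g (k • x)).1 : S ⧸ N)⁻¹ =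
    (k.2 : S ⧸ N) * (((g x).2 : S ⧸ N) * t (r x) * ((g x).1 : S ⧸ N)⁻¹) * (k.1 : S ⧸ N)⁻¹
  rw [hreq]
  conv_lhs => rw [← h1]
  simp [mul_assoc]

/-- A central `p`-elementary quotient of the hyperfocal subgroup that is invariant under the system
kills it, when the hyperfocal subgroup lies in the Frattini subgroup. -/
theorem hyperfocal_le_of_central [Finite S] [Fact p.Prime] (hS : IsPGroup p S) (hF : F.IsSaturated p)
    (K : Subgroup S) [K.Normal]
    (hcent : ∀ h ∈ (F.hyperfocalSubgroup p).subgroupOf S, (h : S ⧸ K) ∈ Subgroup.center (S ⧸ K))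
    (hpow : ∀ h ∈ (F.hyperfocalSubgroup p).subgroupOf S, h ^ p ∈ K)
    (hΦ : (F.hyperfocalSubgroup p).subgroupOf S ≤ frattini S) :
    F.hyperfocalSubgroup p ≤ K.map S.subtype := by
  classical
  set H := F.hyperfocalSubgroup p with hHdef
  set N := H.subgroupOf S with hNdef
  have hNn : N.Normal := ⟨fun y hy s => hyperfocalSubgroup_conj_mem F p s.2 hy⟩
  have hmod : ∀ (P : Subgroup Ω) (φ : P →* Ω), φ ∈ F.Hom P → ∃ s : S, ∀ x : P, ∀ hx : (x : Ω) ∈ S,
      ∀ hy : φ x ∈ S, (QuotientGroup.mk (⟨φ x, hy⟩ : S) : S ⧸ N) =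
        (s : S ⧸ N) * ((⟨x, hx⟩ : S) : S ⧸ N) * (s : S ⧸ N)⁻¹ := by
    intro P φ hφ
    obtain ⟨s, hs, h⟩ := exists_conj_mod_hyperfocal hS hF hφ
    refine ⟨⟨s, hs⟩, fun x hx hy => ?_⟩
    rw [← QuotientGroup.mk_inv, ← QuotientGroup.mk_mul, ← QuotientGroup.mk_mul]
    exact (QuotientGroup.eq.2 (show ((⟨s, hs⟩ : S) * ⟨(x : Ω), hx⟩ * (⟨s, hs⟩ : S)⁻¹)⁻¹ * ⟨φ x, hy⟩ ∈ N
      from h x)).symm
  obtain ⟨c, hc, hreal, hp⟩ := exists_realizing hS hF
  obtain ⟨θ, hθ⟩ := exists_grading (fun D hD => (hc D hD).1) N hmod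
  obtain ⟨Q, hQ, e₀, he₀, hcardQ⟩ := Cfsg.Agent.S5329.exists_orbit_basis hc hS
  -- normalize the basis so that the grading is the coordinate
  let w : Q → S := fun q => (θ (e₀ (q, 1)))⁻¹.out
  let e : Q × S ≃ GSet c :=
    ((Equiv.prodShear (Equiv.refl Q) fun q => Equiv.mulRight (w q))).trans e₀
  have he : ∀ q (a b : S), e (q, a * b) = ((1, a) : S × S) • e (q, b) := by
    intro q a b
    show e₀ (q, a * b * w q) = ((1, a) : S × S) • e₀ (q, b * w q)
    rw [mul_assoc, he₀]
  have hgrade : ∀ q (b : S), θ (e (q, b)) = (b : S ⧸ N) := by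
    intro q b
    show θ (e₀ (q, b * w q)) = _
    have h1 := he₀ q (b * w q) 1
    rw [mul_one] at h1
    rw [h1, hθ, QuotientGroup.mk_mul, QuotientGroup.mk_one, inv_one, mul_one]
    show (b : S ⧸ N) * (((θ (e₀ (q, 1)))⁻¹.out : S) : S ⧸ N) * θ (e₀ (q, 1)) = _
    rw [QuotientGroup.out_eq', inv_mul_cancel_right]
  -- the monomial coordinates
  set G := rightCentralizer c
  have hcomm : ∀ (g : G) (b : S) (x : GSet c),
      g.1 (((1, b) : S × S) • x) = ((1, b) : S × S) • g.1 x := fun g b x =>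
    (Equiv.ext_iff.1 (Subgroup.mem_centralizer_iff.1 g.2 _ ⟨b, rfl⟩) x).symm
  let act : G → Q → Q × S := fun g q => e.symm (g.1 (e (q, 1)))
  have hact : ∀ (g : G) (q : Q) (b : S), g.1 (e (q, b)) = e ((act g q).1, b * (act g q).2) := by
    intro g q b
    have h1 := he q b 1
    rw [mul_one] at h1
    rw [h1, hcomm, he]
    congr 1
    exact (e.apply_symm_apply _).symm
  let σ : G → Q ≃ Q := fun g => Equiv.ofBijective (fun q => (act g q).1)
    ((Finite.injective_iff_bijective).1 fun q q' h => by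
      have h1 := hact g q (act g q).2⁻¹
      have h2 := hact g q' (act g q').2⁻¹
      rw [inv_mul_cancel] at h1 h2
      replace h : (act g q).1 = (act g q').1 := h
      rw [h, ← h2] at h1
      exact congrArg Prod.fst (e.injective (g.1.injective h1)))
  let a : G → Q → S := fun g q => (act g q).2⁻¹
  have hact2 : ∀ (g h : G) (q : Q),
      σ (g * h) q = σ g (σ h q) ∧ a (g * h) q = a g (σ h q) * a h q := by
    intro g h q
    have h1 : (g * h).1 (e (q, 1)) = g.1 (h.1 (e (q, 1))) := rfl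
    rw [hact h q 1, one_mul, hact g] at h1
    have h2 : act (g * h) q = ((act g (act h q).1).1, (act h q).2 * (act g (act h q).1).2) :=
      (congrArg e.symm h1).trans (e.symm_apply_apply _)
    refine ⟨show (act (g * h) q).1 = (act g (act h q).1).1 by rw [h2], ?_⟩
    show (act (g * h) q).2⁻¹ = (act g (act h q).1).2⁻¹ * (act h q).2⁻¹
    rw [h2, mul_inv_rev]
  set L := leftHom c with hL
  have hπa : ∀ (x : S) (q : Q), (a (L x) q : S ⧸ N) = (x : S ⧸ N) := by
    intro x q
    have h1 : θ ((L x).1 (e (q, 1))) =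
        ((1 : S) : S ⧸ N) * θ (e (q, 1)) * (x : S ⧸ N)⁻¹ := hθ (x, 1) (e (q, 1))
    rw [hact, one_mul, hgrade, hgrade, QuotientGroup.mk_one, one_mul, one_mul] at h1
    show (((act (L x) q).2⁻¹ : S) : S ⧸ N) = _
    rw [QuotientGroup.mk_inv, h1, inv_inv]
  -- the transfer
  let mk : S →* S ⧸ K := QuotientGroup.mk' K
  letI : CommGroup (Subgroup.center (S ⧸ K)) :=
    { (inferInstance : Group (Subgroup.center (S ⧸ K))) with
      mul_comm := fun a b => Subtype.ext (Subgroup.mem_center_iff.1 b.2 a) }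
  have hp1 : ∀ h ∈ N, mk h ^ p = 1 := fun h hh => by
    rw [← map_pow]
    exact (QuotientGroup.eq_one_iff _).2 (hpow h hh)
  have hdmem : ∀ (x : S) (q : Q), a (L x) q * x⁻¹ ∈ N := fun x q =>
    (QuotientGroup.eq_one_iff _).1 (by
      rw [QuotientGroup.mk_mul, hπa, QuotientGroup.mk_inv, mul_inv_cancel])
  let v : S → Q → Subgroup.center (S ⧸ K) := fun x q =>
    ⟨mk (a (L x) q * x⁻¹), hcent _ (hdmem x q)⟩
  have hv : ∀ (x y : S) (q : Q), v (x * y) q = v x (σ (L y) q) * v y q := by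
    intro x y q
    refine Subtype.ext ?_
    show mk (a (L (x * y)) q * (x * y)⁻¹) = mk (a (L x) (σ (L y) q) * x⁻¹) * mk (a (L y) q * y⁻¹)
    rw [map_mul L, (hact2 (L x) (L y) q).2]
    have hc1 : mk x * mk (a (L y) q * y⁻¹) = mk (a (L y) q * y⁻¹) * mk x :=
      Subgroup.mem_center_iff.1 (hcent _ (hdmem y q)) (mk x)
    calc mk (a (L x) (σ (L y) q) * a (L y) q * (x * y)⁻¹)
        = mk (a (L x) (σ (L y) q)) * (mk (a (L y) q * y⁻¹) * (mk x)⁻¹) := by
          simp [mul_inv_rev, mul_assoc]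
      _ = mk (a (L x) (σ (L y) q)) * ((mk x)⁻¹ * mk (a (L y) q * y⁻¹)) := by
          congr 1
          rw [eq_inv_mul_iff_mul_eq, ← mul_assoc, hc1, mul_assoc, mul_inv_cancel, mul_one]
      _ = _ := by simp [mul_assoc]
  let V : S →* Subgroup.center (S ⧸ K) := MonoidHom.mk' (fun x => ∏ q, v x q) (by
    intro x y
    show ∏ q, v (x * y) q = (∏ q, v x q) * ∏ q, v y q
    rw [← Equiv.prod_comp (σ (L y)) fun q => v x q, ← Finset.prod_mul_distrib]
    exact Finset.prod_congr rfl fun q _ => hv x y q)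
  have hVN : ∀ h ∈ N, V h = 1 := by
    intro h hh
    refine CfsgLib.PGroup.frattini_le_of_elementary (p := p) (N := V.ker) (fun x y => ?_) (fun x => ?_)
      (hΦ hh)
    · rw [MonoidHom.mem_ker, map_commutatorElement]
      exact commutatorElement_eq_one_iff_mul_comm.2 (mul_comm _ _)
    · rw [MonoidHom.mem_ker, map_pow]
      show (∏ q, v x q) ^ p = 1
      rw [← Finset.prod_pow]
      exact Finset.prod_eq_one fun q _ => Subtype.ext (hp1 _ (hdmem x q))
  -- stability
  let f : S → Subgroup.center (S ⧸ K) := fun b =>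
    ⟨mk (b * ((b : S ⧸ N)).out⁻¹), hcent _ ((QuotientGroup.eq_one_iff _).1 (by
      rw [QuotientGroup.mk_mul, QuotientGroup.mk_inv, QuotientGroup.out_eq', mul_inv_cancel]))⟩
  have hstab : ∀ (h h' : S), h ∈ N → h' ∈ N → (∃ g : G, L h' = g * L h * g⁻¹) → mk h = mk h' := by
    rintro h h' hh hh' ⟨g, hg⟩
    have hg' : L h' * g = g * L h := by rw [hg, inv_mul_cancel_right]
    have hamem : ∀ k ∈ N, ∀ q, a (L k) q ∈ N := fun k hk q => by
      rw [← QuotientGroup.eq_one_iff, hπa, QuotientGroup.eq_one_iff]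
      exact hk
    let r : Q → Subgroup.center (S ⧸ K) := fun q => ⟨mk (a (L h) q), hcent _ (hamem h hh q)⟩
    let r' : Q → Subgroup.center (S ⧸ K) := fun q => ⟨mk (a (L h') q), hcent _ (hamem h' hh' q)⟩
    have hid : ∀ q, r' (σ g q) * f (a g q) = f (a g (σ (L h) q)) * r q := by
      intro q
      have h1 : a (L h') (σ g q) * a g q = a g (σ (L h) q) * a (L h) q := by
        rw [← (hact2 (L h') g q).2, ← (hact2 g (L h) q).2, hg']
      have h2 : ((a g q : S) : S ⧸ N) = (a g (σ (L h) q) : S ⧸ N) := by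
        have := congrArg (QuotientGroup.mk (s := N)) h1
        rwa [QuotientGroup.mk_mul, QuotientGroup.mk_mul, hπa, hπa, (QuotientGroup.eq_one_iff _).2 hh,
          (QuotientGroup.eq_one_iff _).2 hh', one_mul, mul_one] at this
      refine Subtype.ext ?_
      show mk (a (L h') (σ g q)) * mk (a g q * ((a g q : S) : S ⧸ N).out⁻¹) =
        mk (a g (σ (L h) q) * ((a g (σ (L h) q) : S) : S ⧸ N).out⁻¹) * mk (a (L h) q)
      rw [← h2]
      have hc1 := Subgroup.mem_center_iff.1 (hcent _ (hamem h hh q))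
        (mk (((a g q : S) : S ⧸ N).out⁻¹))
      rw [map_mul, map_mul, ← mul_assoc, ← map_mul mk (a (L h') (σ g q)), h1, map_mul, mul_assoc,
        mul_assoc]
      exact congrArg (fun z => mk (a g (σ (L h) q)) * z) hc1.symm
    have hprod : ∏ q, r' q = ∏ q, r q := by
      have h3 : ∏ q, r' (σ g q) * f (a g q) = ∏ q, f (a g (σ (L h) q)) * r q :=
        Finset.prod_congr rfl fun q _ => hid q
      rw [Finset.prod_mul_distrib, Finset.prod_mul_distrib, Equiv.prod_comp (σ g) r',
        Equiv.prod_comp (σ (L h)) (fun q => f (a g q)), mul_comm _ (∏ q, r q)] at h3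
      exact mul_right_cancel h3
    let lam : Subgroup.center (S ⧸ K) := ⟨mk h, hcent _ hh⟩
    let lam' : Subgroup.center (S ⧸ K) := ⟨mk h', hcent _ hh'⟩
    have hV : ∏ q, r q * lam⁻¹ = 1 := by
      rw [← hVN h hh]
      exact Finset.prod_congr rfl fun q _ => Subtype.ext (by
        show mk (a (L h) q) * (mk h)⁻¹ = mk (a (L h) q * h⁻¹)
        exact ((map_mul mk _ _).trans (congrArg _ (map_inv mk _))).symm)
    have hV' : ∏ q, r' q * lam'⁻¹ = 1 := by
      rw [← hVN h' hh']
      exact Finset.prod_congr rfl fun q _ => Subtype.ext (by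
        show mk (a (L h') q) * (mk h')⁻¹ = mk (a (L h') q * h'⁻¹)
        exact ((map_mul mk _ _).trans (congrArg _ (map_inv mk _))).symm)
    rw [Finset.prod_mul_distrib, Finset.prod_const, inv_pow, mul_inv_eq_one] at hV hV'
    have hn : lam ^ Nat.card Q = lam' ^ Nat.card Q := by
      rw [Nat.card_eq_fintype_card, ← Finset.card_univ, ← hV, ← hV', hprod]
    have hd : (lam / lam') ^ Nat.card Q = 1 := by rw [div_pow, hn, div_self']
    have hdp : (lam / lam') ^ p = 1 := by
      rw [div_pow, show lam ^ p = 1 from Subtype.ext (hp1 h hh),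
        show lam' ^ p = 1 from Subtype.ext (hp1 h' hh'), div_self']
    rw [← hcardQ] at hp
    have hco : (Nat.card Q).Coprime p := ((Fact.out : p.Prime).coprime_iff_not_dvd.2 hp).symm
    have h1 : lam / lam' = 1 := orderOf_eq_one_iff.1
      (Nat.eq_one_of_dvd_coprimes hco (orderOf_dvd_of_pow_eq_one hd) (orderOf_dvd_of_pow_eq_one hdp))
    exact congrArg Subtype.val (div_eq_one.1 h1)
  -- automorphisms of order prime to `p`
  refine (Subgroup.closure_le _).2 ?_
  rintro _ ⟨P, α, x, hP, hα, rfl⟩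
  have : Finite P := finite_of_le hP
  let ι : P →* S := Subgroup.inclusion hP
  let M : Subgroup (F.autGroup P) :=
    { carrier := {β | ∀ u : P, mk (ι ((β : MulAut P) u)) = mk (ι u)}
      one_mem' := fun u => rfl
      mul_mem' := fun {β γ} hβ hγ u => by
        show mk (ι ((β : MulAut P) ((γ : MulAut P) u))) = mk (ι u)
        rw [hβ, hγ]
      inv_mem' := fun {β} hβ u => by
        have h1 := hβ (((β⁻¹ : F.autGroup P) : MulAut P) u)
        rw [show (β : MulAut P) (((β⁻¹ : F.autGroup P) : MulAut P) u) = u from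
          MulAut.apply_inv_self _ _ _] at h1
        exact h1.symm }
  have hres : pResidual p (F.autGroup P) ≤ M := by
    refine (Subgroup.closure_le _).2 fun β hβ => ?_
    have hβF := (mem_autGroup_iff_hom hP).1 β.2
    set m := orderOf β with hm
    have hpowm : ∀ u : P, ((β ^ m : F.autGroup P) : MulAut P) u = u := fun u => by
      rw [hm, pow_orderOf_eq_one]; rfl
    have hpow_succ : ∀ (k : ℕ) (u : P), ((β ^ (k + 1) : F.autGroup P) : MulAut P) u =
        (β : MulAut P) (((β ^ k : F.autGroup P) : MulAut P) u) := fun k u => by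
      rw [pow_succ']; rfl
    -- modulo the hyperfocal subgroup
    obtain ⟨s, hs⟩ := hmod P _ hβF
    have hsu : ∀ u : P, ((ι ((β : MulAut P) u) : S) : S ⧸ N) =
        (s : S ⧸ N) * (ι u : S ⧸ N) * (s : S ⧸ N)⁻¹ := fun u => hs u (hP u.2) _
    have hsk : ∀ (k : ℕ) (u : P), ((ι (((β ^ k : F.autGroup P) : MulAut P) u) : S) : S ⧸ N) =
        (s : S ⧸ N) ^ k * (ι u : S ⧸ N) * ((s : S ⧸ N) ^ k)⁻¹ := by
      intro k u
      induction k with
      | zero => simp
      | succ k ih => rw [hpow_succ, hsu, ih, pow_succ' (s : S ⧸ N)]; simp [mul_assoc]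
    have hfixN : ∀ u : P, ((ι ((β : MulAut P) u) : S) : S ⧸ N) = (ι u : S ⧸ N) := by
      intro u
      have h1 := hsk m u
      rw [hpowm, eq_mul_inv_iff_mul_eq] at h1
      have hcomm1 : Commute ((s : S ⧸ N) ^ m) (ι u : S ⧸ N) := h1.symm
      obtain ⟨k, hk⟩ := IsPGroup.iff_orderOf.1 (hS.to_quotient N) (s : S ⧸ N)
      obtain ⟨j, hj⟩ := exists_pow_eq_self_of_coprime
        (show m.Coprime (orderOf (s : S ⧸ N)) by rw [hk]; exact Nat.Coprime.pow_right k hβ)
      have hcomm2 := hcomm1.pow_left j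
      rw [hj] at hcomm2
      rw [hsu, hcomm2.eq, mul_inv_cancel_right]
    let d : P → S := fun u => (ι u)⁻¹ * ι ((β : MulAut P) u)
    have hdN : ∀ u, d u ∈ N := fun u => QuotientGroup.eq.1 (hfixN u).symm
    have hdstep : ∀ u, mk (d ((β : MulAut P) u)) = mk (d u) := by
      intro u
      set hu : P := u⁻¹ * (β : MulAut P) u with hhu
      have e1 : ι hu = d u := by simp [hhu, d]
      have e2 : ι ((β : MulAut P) hu) = d ((β : MulAut P) u) := by simp [hhu, d]
      obtain ⟨g, hg⟩ := (hreal.2 P hP _ (map_mem hβF)).1 hβF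
      rw [← e1, ← e2]
      exact ((hstab (ι hu) (ι ((β : MulAut P) hu)) (by rw [e1]; exact hdN u) (by rw [e2]; exact hdN _)
        ⟨g, hg hu⟩)).symm
    have hdk : ∀ (k : ℕ) (u : P), mk (d (((β ^ k : F.autGroup P) : MulAut P) u)) = mk (d u) := by
      intro k u
      induction k with
      | zero => simp
      | succ k ih => rw [hpow_succ, hdstep, ih]
    have hsum : ∀ (k : ℕ) (u : P),
        mk (ι (((β ^ k : F.autGroup P) : MulAut P) u)) = mk (ι u) * mk (d u) ^ k := by
      intro k u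
      induction k with
      | zero => simp
      | succ k ih =>
        have h1 := hdk k u
        rw [hpow_succ, pow_succ, ← mul_assoc, ← ih, ← h1]
        simp [d]
    intro u
    have h1 := hsum m u
    rw [hpowm] at h1
    have h2 : mk (d u) ^ m = 1 := mul_left_cancel (a := mk (ι u)) (h1.symm.trans (mul_one _).symm)
    have h3 : mk (d u) = 1 := orderOf_eq_one_iff.1 (Nat.eq_one_of_dvd_coprimes hβ
      (orderOf_dvd_of_pow_eq_one h2) (orderOf_dvd_of_pow_eq_one (hp1 _ (hdN u))))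
    have h4 := hsum 1 u
    rw [pow_one, pow_one, h3, mul_one] at h4
    exact h4
  refine ⟨(ι x)⁻¹ * ι ((α : MulAut P) x), QuotientGroup.eq.1 (hres hα x).symm, rfl⟩

/-- Tate's theorem: a hyperfocal subgroup inside the Frattini subgroup is trivial. -/
theorem hyperfocal_eq_bot [Finite S] [Fact p.Prime] (hS : IsPGroup p S) (hF : F.IsSaturated p)
    (hΦ : F.hyperfocalSubgroup p ≤ (frattini S).map S.subtype) : F.hyperfocalSubgroup p = ⊥ := by
  set N := (F.hyperfocalSubgroup p).subgroupOf S with hNdef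
  have hNn : N.Normal := ⟨fun y hy s => hyperfocalSubgroup_conj_mem F p s.2 hy⟩
  set K : Subgroup S := ⁅N, (⊤ : Subgroup S)⁆ ⊔ (frattini N).map N.subtype with hK
  have hKn : K.Normal := inferInstance
  have hNΦ : N ≤ frattini S := by
    intro h hh
    obtain ⟨y, hy, e⟩ := hΦ hh
    rwa [show y = h from Subtype.ext e] at hy
  have hle := hyperfocal_le_of_central hS hF K (fun h hh => Subgroup.mem_center_iff.2 fun y => by
      induction y using QuotientGroup.induction_on with
      | H y =>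
        rw [← QuotientGroup.mk_mul, ← QuotientGroup.mk_mul, QuotientGroup.eq]
        have h1 : ⁅h⁻¹, y⁻¹⁆ ∈ K :=
          Subgroup.mem_sup_left (Subgroup.commutator_mem_commutator (inv_mem hh) (Subgroup.mem_top _))
        simpa [commutatorElement_def, mul_assoc] using h1)
    (fun h hh => Subgroup.mem_sup_right ⟨⟨h, hh⟩ ^ p, CfsgLib.PGroup.pow_mem_frattini
      (hS.to_subgroup N) ⟨h, hh⟩, rfl⟩) hNΦ
  have hNK : N ≤ K := by
    intro h hh
    obtain ⟨y, hy, e⟩ := hle hh
    rwa [show y = h from Subtype.ext e] at hy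
  have hcomm : N ≤ ⁅N, (⊤ : Subgroup S)⁆ := by
    have h1 : (⁅N, (⊤ : Subgroup S)⁆).subgroupOf N ⊔ frattini N = ⊤ := by
      refine Subgroup.map_injective N.subtype_injective ?_
      rw [Subgroup.map_sup, Subgroup.map_subgroupOf_eq_of_le (Subgroup.commutator_le_left N ⊤),
        ← MonoidHom.range_eq_map, Subgroup.range_subtype]
      exact le_antisymm (sup_le (Subgroup.commutator_le_left N ⊤) (Subgroup.map_subtype_le _)) hNK
    exact Subgroup.subgroupOf_eq_top.1 (frattini_nongenerating h1)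
  have hbot : N = ⊥ := by
    have hlc : ∀ k, N ≤ (⊤ : Subgroup S).lowerCentralSeries k := by
      intro k
      induction k with
      | zero => exact le_top
      | succ k ih => exact hcomm.trans (Subgroup.commutator_mono ih le_rfl)
    obtain ⟨n, hn⟩ := (Subgroup.isNilpotent_iff_lowerCentralSeries (⊤ : Subgroup S)).1
      (Group.isNilpotent_top.2 hS.isNilpotent)
    exact le_bot_iff.1 (hn ▸ hlc n)
  rw [eq_bot_iff]
  intro y hy
  have h1 : (⟨y, hyperfocalSubgroup_le_S F p hy⟩ : S) ∈ N := hy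
  rw [hbot, Subgroup.mem_bot] at h1
  exact congrArg Subtype.val h1

end CfsgLib.Fusion.TateInner
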