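import Cfsg.Agent.Lib.Fusion.Tate
import Cfsg.Agent.Lib.FusionModelSub.Normalizer
import Cfsg.Agent.Lib.FusionControl.Step

/-!
# A system with a normal subgroup between the derived and the Frattini subgroup
-/

set_option autoImplicit false
set_option linter.unusedSectionVars false

namespace CfsgLib.Fusion.Tate

open Cfsg Cfsg.FusionSystem CfsgLib.Fusion

universe u

variable {Ω : Type u} [Group Ω] {S : Subgroup Ω} {F : Cfsg.FusionSystem S} {p : ℕ} {Q : Subgroup Ω}

/-- If `Aut_F(S)` is inner and `[S,S] ≤ Q ≤ Φ(S)` with `Q` normal in `F`, then `F` is inner. -/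
theorem eq_inner_of_normal [Finite S] [Fact p.Prime] (hS : IsPGroup p S) (hF : F.IsSaturated p)
    (hQ : F.IsNormal Q) (h1 : ⁅S, S⁆ ≤ Q) (h2 : Q ≤ (frattini ↥S).map S.subtype)
    (hinn : F.autGroup S ≤ Cfsg.Inn S) : ∀ P, F.Hom P = (Cfsg.innerFusionSystem S).Hom P := by
  classical
  have hQn := stronglyClosed_le_normalizer (isNormal_stronglyClosed hQ)
  have hconj : ∀ s ∈ S, ∀ x ∈ S, x⁻¹ * (s * x * s⁻¹) ∈ Q := fun s hs x hx => h1 (by
    have h := Subgroup.commutator_mem_commutator (S.inv_mem hx) hs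
    simpa [commutatorElement_def, mul_assoc] using h)
  have hQconj : ∀ s ∈ S, ∀ y ∈ Q, s * y * s⁻¹ ∈ Q := fun s hs y hy =>
    conj_mem_of_mem_normalizer (hQn hs) hy
  set E := modSystem F Q hQconj
  -- modulo `Q` nothing moves
  have hle := alperin hS hF E fun R hR α hα => by
    have hn : F.IsFullyNormalized R := by
      rcases hR with rfl | hR
      exacts [isFullyNormalized_top F, hR.2.1]
    have hRS : R ≤ S := hn.1
    have hQR : Q ≤ R := by
      rcases hR with rfl | hR
      exacts [hQ.1, isNormal_le_of_centric_radical hS hQ hR.1 (isRadical_of_isEssential hS hF hR)]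
    have : Finite R := finite_of_le hRS
    have : Finite (MulAut R) := finite_mulAut
    suffices hfix : ∀ x : R, (x : Ω)⁻¹ * ((α x : R) : Ω) ∈ Q from
      (mem_autGroup_iff_hom hRS).2 ⟨(mem_autGroup_iff_hom hRS).1 hα, 1, S.one_mem, fun x => by
        simpa using hfix x⟩
    have hRn : ∀ s ∈ S, s ∈ Subgroup.normalizer (R : Set Ω) := by
      have key : ∀ a ∈ S, ∀ m ∈ R, a * m * a⁻¹ ∈ R := fun a ha m hm => by
        have h := R.mul_mem hm (hQR (hconj a ha m (hRS hm)))
        rwa [mul_inv_cancel_left] at h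
      exact fun s hs => Subgroup.mem_normalizer_iff.2 fun m => ⟨key s hs m, fun h => by
        simpa [mul_assoc] using key s⁻¹ (S.inv_mem hs) _ h⟩
    have hQinv : ∀ β ∈ F.autGroup R, ∀ x : R, (x : Ω) ∈ Q → ((β x : R) : Ω) ∈ Q := fun β hβ x hx =>
      stronglyClosed_apply_mem (isNormal_stronglyClosed hQ) ((mem_autGroup_iff_hom hRS).1 hβ) x hx
    let K : Subgroup (F.autGroup R) :=
      { carrier := {κ | ∀ x : R, (x : Ω)⁻¹ * (((κ : MulAut R) x : R) : Ω) ∈ Q}
        one_mem' := fun x => by simp [Q.one_mem]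
        mul_mem' := fun {a b} ha hb x => by
          have h := Q.mul_mem (hb x) (ha ((b : MulAut R) x))
          simpa [mul_assoc] using h
        inv_mem' := fun {a} ha x => by
          have h := Q.inv_mem (ha ((a : MulAut R)⁻¹ x))
          simpa [mul_inv_rev] using h }
    have hKn : K.Normal := ⟨fun κ hκ β x => by
      set w : R := ((β : MulAut R)⁻¹ x)⁻¹ * (κ : MulAut R) ((β : MulAut R)⁻¹ x) with hw
      have h := hQinv β β.2 w (hκ _)
      rw [hw, map_mul, map_inv, MulAut.apply_inv_self] at h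
      exact h⟩
    obtain ⟨-, PA, hPA⟩ := isFullyAutomized_of_isFullyNormalized hS hF hn
    have hPK : (PA : Subgroup (F.autGroup R)) ≤ K := by
      rw [hPA]
      intro κ hκ x
      obtain ⟨s, hs, hsx⟩ := mem_autInducedBy_iff.1 (Subgroup.mem_subgroupOf.1 hκ)
      rw [hsx]
      exact hconj s hs x (hRS x.2)
    have htop := Sylow.normalizer_sup_eq_top' PA hPK
    have hmem : (⟨α, hα⟩ : F.autGroup R) ∈
        Subgroup.normalizer (PA : Set (F.autGroup R)) ⊔ K := by rw [htop]; trivial
    obtain ⟨n, hn', k, hk, hnk⟩ := Subgroup.mem_sup_of_normal_right.1 hmem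
    have hnK : n ∈ K := by
      intro x
      have hiso : IsFIso F ((n : MulAut R) : R ≃* R) := (mem_autGroup_iff hRS).1 n.2
      obtain ⟨ψ, hψ, -, hag⟩ := hiso.exists_extension (isReceptive_of_isFullyNormalized hS hF hn)
        hRS (fun s hs => ⟨hs, hRn s hs⟩) fun u hu => by
          have hc : (⟨conjAut R u (hRn u hu), autInducedBy_le_autGroup F hRS
              (conjAut_mem_autInducedBy hu (hRn u hu))⟩ : F.autGroup R) ∈
              (PA : Subgroup (F.autGroup R)) := by
            rw [hPA]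
            exact conjAut_mem_autInducedBy hu (hRn u hu)
          have h := (Subgroup.mem_normalizer_iff.1 hn' _).1 hc
          rw [hPA] at h
          exact h
      obtain ⟨γ, hγ, hγψ⟩ := exists_aut hψ (range_eq_of_le (hom_inj hψ) (map_mem hψ))
      obtain ⟨g, hg⟩ := hinn hγ
      have e1 : (((n : MulAut R) x : R) : Ω) = (g : Ω) * x * (g : Ω)⁻¹ := by
        refine (hag x).symm.trans ((hγψ _).symm.trans ?_)
        rw [← hg]
        rfl
      rw [e1]
      exact hconj g g.2 x (hRS x.2)
    have h := K.mul_mem hnK hk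
    rw [hnk] at h
    exact h
  have hfoc : F.focalSubgroup ≤ (frattini ↥S).map S.subtype := by
    refine (Subgroup.closure_le _).2 ?_
    rintro _ ⟨P, φ, x, hφ, rfl⟩
    obtain ⟨-, s, hs, hmod⟩ := hle P hφ
    have h := Q.mul_mem (hconj s hs x (dom_le hφ x.2)) (hmod x)
    exact h2 (by rwa [mul_assoc, mul_inv_cancel_left] at h)
  have hI := CfsgLib.FusionControl.inner_isSaturated (p := p) hS
  have hIF : (Cfsg.innerFusionSystem S).IsSubsystemOf F := fun P φ hφ => by
    obtain ⟨hP, g, hg, hv⟩ := hφ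
    exact mem_of_eq_conj hP hg φ hv
  have hhyp := hyperfocal_le_of_focal_le hS hF hI hIF (hfoc.trans le_sup_left)
  have hbot : (Cfsg.innerFusionSystem S).hyperfocalSubgroup p = ⊥ := by
    refine (Subgroup.closure_eq_bot_iff).2 ?_
    rintro _ ⟨P, α, x, hP, hα, rfl⟩
    have hA : ∀ β : (Cfsg.innerFusionSystem S).autGroup P, β ∈ pResidual p _ → (β : MulAut P) = 1 := by
      intro β hβ
      suffices pResidual p ((Cfsg.innerFusionSystem S).autGroup P) = ⊥ by
        rw [this] at hβ
        exact congrArg Subtype.val (Subgroup.mem_bot.1 hβ)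
      have : Finite P := finite_of_le hP
      have : Finite (MulAut P) := finite_mulAut
      refine (Subgroup.closure_eq_bot_iff).2 fun β hβ => ?_
      obtain ⟨-, g, hg, hv⟩ := (mem_autGroup_iff_hom hP).1 β.2
      have hp' : IsPGroup p ((Cfsg.innerFusionSystem S).autGroup P) := by
        refine (isPGroup_autInducedBy hS P).to_le fun δ hδ => ?_
        obtain ⟨-, g, hg, hv⟩ := (mem_autGroup_iff_hom hP).1 hδ
        exact mem_autInducedBy_iff.2 ⟨g, hg, hv⟩
      obtain ⟨k, hk⟩ := hp' β
      exact Set.mem_singleton_iff.2 (orderOf_eq_one_iff.1 (Nat.eq_one_of_dvd_coprimes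
        ((show (orderOf β).Coprime p from hβ).pow_right k) dvd_rfl (orderOf_dvd_of_pow_eq_one hk)))
    show (x : Ω)⁻¹ * (((α : MulAut P) x : P) : Ω) = 1
    rw [hA α hα]
    exact inv_mul_cancel _
  intro P
  refine Set.Subset.antisymm (fun φ hφ => ?_) (hIF P)
  obtain ⟨s, hs, hmod⟩ := exists_conj_mod_hyperfocal hS hF hφ
  refine ⟨dom_le hφ, s, hs, fun x => ?_⟩
  have h := (hbot ▸ hhyp) (hmod x)
  exact (inv_mul_eq_one.1 (Subgroup.mem_bot.1 h)).symm

end CfsgLib.Fusion.Tate
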