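import Cfsg.Agent.Lib.Fusion.PSolvAut
import Cfsg.Agent.Lib.Fusion.ResidualConstrained
import Cfsg.Agent.Lib.Fusion.Realized
import Cfsg.Agent.Lib.Fusion.PPowerIndex.Build
import Cfsg.Agent.S5342
import Cfsg.Agent.S5090
import Cfsg.Agent.S5124

/-!
Systems with a terminating residual series are the constrained systems with `p`-solvable models.
-/

set_option autoImplicit false
open Cfsg Cfsg.FusionSystem CfsgLib.Fusion

namespace CfsgLib.Fusion.Terminating

universe u

variable {Ω : Type u} [Group Ω] {S : Subgroup Ω} {F : Cfsg.FusionSystem S} {p : ℕ}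

theorem hyperfocal_stronglyClosed [Finite S] [Fact p.Prime] (hS : IsPGroup p S)
    (hF : F.IsSaturated p) : F.StronglyClosed (F.hyperfocalSubgroup p) :=
  stronglyClosed_of_hyperfocal_le hS hF (hyperfocalSubgroup_le_S F p) le_rfl
    fun _ hs _ hy => hyperfocalSubgroup_conj_mem F p hs hy

/-- Terminating series give constrained systems with `p`-solvable automizers. -/
theorem constrained_and_psolv (h : F.HasTerminatingResidualSeries p) :
    ∀ [Fact p.Prime] [Finite S], IsPGroup p S → F.IsSaturated p →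
      F.IsConstrained p ∧ ∀ P : Subgroup Ω, P ≤ S → Cfsg.IsPSolvable p (F.autGroup P) := by
  induction h with
  | @trivial S F p hb =>
    intro _ _ hS hF
    subst hb
    refine ⟨⟨hF, ⊥, CfsgLib.FusionQuot.isNormal_bot F, le_rfl, fun Q hQ => ?_⟩, fun P hP => ?_⟩
    · exact inf_le_left.trans bot_le
    · obtain rfl := le_bot_iff.1 hP
      have := PSolv.finite_autGroup (F := F) (le_refl (⊥ : Subgroup Ω))
      refine PSolv.isPSolvable_of_pGroup_or_coprime (Or.inr ?_)
      rw [Nat.card_eq_one_iff_unique.2 ⟨⟨fun a b => Subtype.ext (MulEquiv.ext fun x => ?_)⟩, ⟨1⟩⟩]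
      · exact Nat.coprime_one_left p
      · exact Subsingleton.elim _ _
  | @step S F E p D hE hD _ ih =>
    intro _ hfin hS hF
    have hEs := hE.1
    have hHS : E.hyperfocalSubgroup p ≤ S := hyperfocalSubgroup_le_S E p
    have := finite_of_le hHS
    obtain ⟨hDc, hDp⟩ := ih (hS.to_le hHS) hD.1
    have hEc : E.IsConstrained p := isConstrained_of_pPowerIndex hS hEs hHS le_rfl
      (fun s hs y hy => hyperfocalSubgroup_conj_mem E p hs hy) D hD.1 hD.2 hDc
    refine ⟨?_, fun P hP => PSolv.isPSolvable_autGroup_of_pPrime hE.2.1 hP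
      (PSolv.isPSolvable_autGroup_of_pPower hS hHS hD.2 (hyperfocal_stronglyClosed hS hEs) hP hDp)⟩
    obtain ⟨R, hRS, hR, hRc⟩ := exists_normal_of_constrained_weaklyNormal hS hF
      (pPrimeResidual_isNormalIn hS hF hE).1 hEc
    refine ⟨hF, R, hR, hRS, fun Q hQ => ?_⟩
    rw [CfsgLib.FusionQuot.eq_of_isConj_of_stronglyClosed
      (CfsgLib.FusionQuot.stronglyClosed_of_isNormal hR) hQ]
    exact hRc

/-- A model is `p`-solvable when the automizers are. -/
theorem psolv_model [Finite S] [Fact p.Prime] {G : Type*} [Group G] {ι : S →* G}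
    (hG : F.IsModel p G ι) (h : ∀ P : Subgroup Ω, P ≤ S → Cfsg.IsPSolvable p (F.autGroup P)) :
    Cfsg.IsPSolvable p G := by
  have := hG.1
  set R := modelCore p ι with hR
  have hRS : R ≤ S := modelCore_le p ι
  have hnorm : (pCore p G).Normal := CfsgLib.Solvable.pCore_normal p G
  let e : R →* pCore p G := (ι.comp (Subgroup.inclusion hRS)).codRestrict _ fun x =>
    (mem_modelCore.1 x.2).2
  have he : Function.Bijective e := by
    refine ⟨fun a b hab => Subtype.ext (realized_inj hG.2.1 (congrArg Subtype.val hab :)), fun o => ?_⟩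
    obtain ⟨x, hx⟩ := pCore_le_range hG o.2
    exact ⟨⟨x, mem_modelCore.2 ⟨x.2, hx.symm ▸ o.2⟩⟩, Subtype.ext hx⟩
  let eq : R ≃* pCore p G := MulEquiv.ofBijective e he
  let c : G →* MulAut R :=
    { toFun := fun g => (eq.trans (MulAut.conjNormal g)).trans eq.symm
      map_one' := MulEquiv.ext fun x => by simp
      map_mul' := fun g g' => MulEquiv.ext fun x => by simp }
  have hc : ∀ (g : G) (x : R), ι ⟨(c g x : R), hRS (c g x).2⟩ = g * ι ⟨x, hRS x.2⟩ * g⁻¹ := by
    intro g x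
    show ((eq (eq.symm (MulAut.conjNormal g (eq x))) : pCore p G) : G) = _
    rw [MulEquiv.apply_symm_apply]
    rfl
  have hcF : ∀ g, c g ∈ F.autGroup R := fun g =>
    (mem_autGroup_iff_hom hRS).2 ((hG.2.1.2 R hRS _ fun x => hRS (c g x).2).2 ⟨g, hc g⟩)
  let cF : G →* F.autGroup R := c.codRestrict _ hcF
  have hker : IsPGroup p cF.ker := by
    refine (CfsgLib.Solvable.pCore_isPGroup p G).to_le fun g hg => hG.2.2.2 ?_
    intro o ho
    obtain ⟨x, rfl⟩ : ∃ x : R, (eq x : G) = o := ⟨eq.symm ⟨o, ho⟩, by simp⟩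
    have h1 : c g = 1 := congrArg Subtype.val hg
    have h2 := hc g x
    rw [show (c g x : R) = x by rw [h1]; rfl] at h2
    show ι ⟨x, hRS x.2⟩ * g = g * ι ⟨x, hRS x.2⟩
    conv_lhs => rw [h2]
    group
  have := PSolv.finite_autGroup (F := F) hRS
  exact PSolv.isPSolvable_of_normal cF.ker (PSolv.isPSolvable_of_pGroup_or_coprime (Or.inl hker))
    (CfsgLib.PLocal.isPSolvable_of_injective (QuotientGroup.kerLift_injective cF) (h R hRS))

/-- Automizers of a system realized by a `p`-solvable group are `p`-solvable. -/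
theorem psolv_aut [Fact p.Prime] {G : Type*} [Group G] [Finite G] {ι : S →* G}
    (hι : F.IsRealizedBy ι) (hG : Cfsg.IsPSolvable p G) {P : Subgroup Ω} (hP : P ≤ S) :
    Cfsg.IsPSolvable p (F.autGroup P) := by
  set U := (P.subgroupOf S).map ι with hU
  let e : P ≃* U := ((Subgroup.subgroupOfEquivOfLe hP).symm).trans
    ((P.subgroupOf S).equivMapOfInjective ι hι.1)
  have he : ∀ x : P, (e x : G) = ι ⟨x, hP x.2⟩ := fun _ => rfl
  let ρ := U.normalizerMonoidHom
  have hmem : ∀ α : F.autGroup P, (e.symm.trans (α : MulAut P)).trans e ∈ ρ.range := by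
    intro α
    obtain ⟨g, hg⟩ := realized_exists_conj hι ((mem_autGroup_iff_hom hP).1 α.2)
    have hg' : ∀ x : P, (e ((α : MulAut P) x) : G) = g * e x * g⁻¹ := fun x => hg x
    have hn : g ∈ Subgroup.normalizer (U : Set G) := by
      refine Subgroup.mem_normalizer_iff.2 fun u => ⟨fun hu => ?_, fun hu => ?_⟩
      · obtain ⟨x, hx⟩ : ∃ x : P, (e x : G) = u := ⟨e.symm ⟨u, hu⟩, by simp⟩
        rw [← hx, ← hg' x]
        exact (e _).2
      · obtain ⟨x, hx⟩ : ∃ x : P, (e x : G) = g * u * g⁻¹ := ⟨e.symm ⟨_, hu⟩, by simp⟩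
        have h2 := hg' ((α : MulAut P).symm x)
        rw [MulEquiv.apply_symm_apply, hx] at h2
        rw [show u = (e ((α : MulAut P).symm x) : G) from mul_left_cancel (mul_right_cancel h2)]
        exact (e _).2
    refine ⟨⟨g, hn⟩, MulEquiv.ext fun u => Subtype.ext ?_⟩
    show g * (u : G) * g⁻¹ = (e ((α : MulAut P) (e.symm u)) : G)
    rw [hg', MulEquiv.apply_symm_apply]
  let f : F.autGroup P →* ρ.range :=
    { toFun := fun α => ⟨_, hmem α⟩
      map_one' := Subtype.ext (MulEquiv.ext fun u => by simp)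
      map_mul' := fun a b => Subtype.ext (MulEquiv.ext fun u => by simp) }
  refine CfsgLib.PLocal.isPSolvable_of_injective (f := f) ?_
    (CfsgLib.PLoc.isPSolvable_of_surjective ρ.rangeRestrict_surjective
      (CfsgLib.PLocal.isPSolvable_subgroup hG _))
  intro a b hab
  refine Subtype.ext (MulEquiv.ext fun x => ?_)
  have h1 := congrArg (fun γ : ρ.range => ((γ : MulAut U) (e x))) hab
  simpa [f] using h1

/-- The subsystem of a realized system given by a subgroup containing the image. -/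
def sub {G : Type*} [Group G] {ι : S →* G} (hι : F.IsRealizedBy ι) (M : Subgroup G)
    (hM : ι.range ≤ M) : Cfsg.FusionSystem S where
  Hom P := {φ | φ ∈ F.Hom P ∧ ∃ g ∈ M, ∀ (x : P) (hx : φ x ∈ S) (hx' : (x : Ω) ∈ S),
    ι ⟨φ x, hx⟩ = g * ι ⟨x, hx'⟩ * g⁻¹}
  le_of_mem h := F.le_of_mem h.1
  injective_of_mem h := F.injective_of_mem h.1
  conj_mem := fun {P g} hP hg => ⟨F.conj_mem hP hg, ι ⟨g, hg⟩, hM ⟨_, rfl⟩, fun x hx hx' => by
    rw [← map_inv, ← map_mul, ← map_mul]
    exact congrArg ι (Subtype.ext (conjHom_apply P g x))⟩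
  comp_mem := by
    rintro P Q φ ψ ⟨hφ, g, hg, hgx⟩ ⟨hψ, k, hk, hkx⟩ hc
    refine ⟨F.comp_mem hφ hψ hc, k * g, M.mul_mem hk hg, fun x hx hx' => ?_⟩
    refine (hkx ⟨φ x, hc x⟩ hx (map_mem hφ x)).trans ?_
    rw [hgx x (map_mem hφ x) hx']
    group
  inv_mem := by
    rintro P φ ⟨hφ, g, hg, hgx⟩
    obtain ⟨ψ, hψ, hinv⟩ := F.inv_mem hφ
    refine ⟨ψ, ⟨hψ, g⁻¹, M.inv_mem hg, ?_⟩, hinv⟩
    rintro ⟨_, x, rfl⟩ hx hx'
    have h1 : (⟨ψ ⟨φ x, x, rfl⟩, hx⟩ : S) = ⟨x, dom_le hφ x.2⟩ := Subtype.ext (hinv x)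
    rw [h1, show (⟨φ x, hx'⟩ : S) = ⟨φ x, map_mem hφ x⟩ from rfl,
      hgx x (map_mem hφ x) (dom_le hφ x.2)]
    group

theorem sub_saturated [Fact p.Prime] {G : Type*} [Group G] [Finite G] {ι : S →* G}
    (hι : F.IsRealizedBy ι) (T : Sylow p G) (hT : (T : Subgroup G) = ι.range) (M : Subgroup G)
    (hM : ι.range ≤ M) : (sub hι M hM).IsSaturated p := by
  let ι' : S →* M := ι.codRestrict M fun x => hM ⟨x, rfl⟩
  refine realized_isSaturated (ι := ι')
    ⟨fun a b h => hι.1 (congrArg Subtype.val h), fun P hP φ hφ => ⟨?_, ?_⟩⟩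
    ⟨T.subtype (hT.trans_le hM), ?_⟩
  · rintro ⟨-, g, hg, hgx⟩
    exact ⟨⟨g, hg⟩, fun x => Subtype.ext (hgx x (hφ x) (hP x.2))⟩
  · rintro ⟨g, hg⟩
    refine ⟨(hι.2 P hP φ hφ).2 ⟨g, fun x => congrArg Subtype.val (hg x)⟩, g, g.2,
      fun x hx hx' => congrArg Subtype.val (hg x)⟩
  · rw [Sylow.coe_subtype, hT]
    ext m
    exact ⟨fun ⟨x, hx⟩ => ⟨x, Subtype.ext hx⟩, fun ⟨x, hx⟩ => ⟨x, congrArg Subtype.val hx⟩⟩

/-- The hyperfocal subgroup of the `p'`-residual system is proper for a `p`-solvable model. -/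
theorem hyperfocal_residual_ne [Finite S] [Fact p.Prime] {G : Type*}
    [Group G] {ι : S →* G} (hG : F.IsModel p G ι) (hsolv : Cfsg.IsPSolvable p G) (hne : S ≠ ⊥)
    {E : Cfsg.FusionSystem S} (hE : F.IsPPrimeResidual p E) : E.hyperfocalSubgroup p ≠ S := by
  intro hhyp
  have := hG.1
  obtain ⟨-, hι, ⟨T, hT⟩, -⟩ := hG
  set M := Subgroup.closure {g : G | ∃ k : ℕ, orderOf g = p ^ k} with hMdef
  have hMn : M.Normal := PSolv.closure_pElements_normal
  have hMS : ι.range ≤ M := fun y hy =>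
    Subgroup.subset_closure (IsPGroup.iff_orderOf.1 T.2 ⟨y, hT.ge hy⟩ |>.imp fun k hk => by
      rw [← hk, ← Subgroup.orderOf_coe])
  set K := (pResidual p M).map M.subtype with hK
  have : (pResidual p M).Characteristic := by
    refine Subgroup.characteristic_iff_map_eq.2 fun e => CfsgLib.Transfer.map_pResidual_equiv e
  have hKn : K.Normal := ConjAct.normal_of_characteristic_of_normal
  have hidx : (sub hι M hMS).HasPrimeToPIndexIn F p := by
    refine ⟨fun P φ hφ => hφ.1, fun P hP => ?_⟩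
    rw [MonoidHom.map_closure, Subgroup.closure_le]
    rintro _ ⟨α, ⟨k, hk⟩, rfl⟩
    obtain ⟨g, hg⟩ := realized_exists_conj hι ((mem_autGroup_iff_hom hP).1 α.2)
    obtain ⟨j, hj, hjα⟩ := PSolv.exists_p_part g α hk
    have hpow : ∀ (n : ℕ) (x : P), ι ⟨((((α : F.autGroup P) ^ n : F.autGroup P) : MulAut P) x : P),
        hP ((((α : F.autGroup P) ^ n : F.autGroup P) : MulAut P) x).2⟩ =
        g ^ n * ι ⟨x, hP x.2⟩ * (g ^ n)⁻¹ := by
      intro n
      induction n with
      | zero => intro x; simp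
      | succ n ih =>
        intro x
        refine (congrArg ι (Subtype.ext ?_)).trans
          (((hg ((((α : F.autGroup P) ^ n : F.autGroup P) : MulAut P) x)).trans ?_))
        · exact congrArg (fun β : F.autGroup P => (((β : MulAut P) x : P) : Ω)) (pow_succ' α n)
        · rw [ih x, pow_succ']; group
    refine (mem_autGroup_iff_hom hP).2 ⟨(mem_autGroup_iff_hom hP).1 α.2, g ^ j,
      Subgroup.subset_closure hj, fun x hx hx' => ?_⟩
    have h1 := hpow j x
    rw [hjα] at h1
    exact h1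
  have hle := hE.2.2 _ (sub_saturated hι T hT M hMS) hidx
  -- the hyperfocal subgroup lands in `K`
  have hgen : E.hyperfocalSubgroup p ≤ (K.comap ι).map S.subtype := by
    refine (Subgroup.closure_le _).2 ?_
    rintro _ ⟨P, α, x, hP, hα, rfl⟩
    let B : Subgroup (E.autGroup P) :=
      { carrier := {β | ∃ g ∈ K, ∀ z : P, ι ⟨((β : MulAut P) z : P), hP ((β : MulAut P) z).2⟩ =
          g * ι ⟨z, hP z.2⟩ * g⁻¹}
        one_mem' := ⟨1, K.one_mem, fun z => by simp⟩
        mul_mem' := by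
          rintro a b ⟨g, hg, ha⟩ ⟨g', hg', hb⟩
          refine ⟨g * g', K.mul_mem hg hg', fun z => ?_⟩
          refine (ha ((b : MulAut P) z)).trans ?_
          rw [hb z]; group
        inv_mem' := by
          rintro a ⟨g, hg, ha⟩
          refine ⟨g⁻¹, K.inv_mem hg, fun z => ?_⟩
          have h1 := ha ((a : MulAut P)⁻¹ z)
          simp only [MulAut.apply_inv_self] at h1
          show ι ⟨((a : MulAut P)⁻¹ z : P), _⟩ = _
          rw [h1]; group }
    have hB : pResidual p (E.autGroup P) ≤ B := by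
      refine (Subgroup.closure_le _).2 fun β hβ => ?_
      have hβ' := hle P ((mem_autGroup_iff_hom hP).1 β.2)
      obtain ⟨-, g, hgM, hg⟩ := hβ'
      have hg' : ∀ z : P, ι ⟨((β : MulAut P) z : P), hP ((β : MulAut P) z).2⟩ =
          g * ι ⟨z, hP z.2⟩ * g⁻¹ := fun z => hg z _ _
      obtain ⟨j, hj, hjβ⟩ := PSolv.exists_pPrime_part g β hβ
      have hpow : ∀ (n : ℕ) (z : P), ι ⟨((((β : E.autGroup P) ^ n : E.autGroup P) : MulAut P) z : P),
          hP ((((β : E.autGroup P) ^ n : E.autGroup P) : MulAut P) z).2⟩ =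
          g ^ n * ι ⟨z, hP z.2⟩ * (g ^ n)⁻¹ := by
        intro n
        induction n with
        | zero => intro z; simp
        | succ n ih =>
          intro z
          refine (congrArg ι (Subtype.ext ?_)).trans
            (((hg' ((((β : E.autGroup P) ^ n : E.autGroup P) : MulAut P) z)).trans ?_))
          · exact congrArg (fun γ : E.autGroup P => (((γ : MulAut P) z : P) : Ω)) (pow_succ' β n)
          · rw [ih z, pow_succ']; group
      refine ⟨g ^ j, ⟨⟨g ^ j, M.pow_mem hgM j⟩, CfsgLib.Transfer.mem_pResidual_of_coprime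
        (by rwa [← Subgroup.orderOf_coe]), rfl⟩, fun z => ?_⟩
      have h1 := hpow j z
      rw [hjβ] at h1
      exact h1
    obtain ⟨g, hgK, hg⟩ := hB hα
    refine ⟨⟨x, hP x.2⟩⁻¹ * ⟨((α : MulAut P) x : P), hP ((α : MulAut P) x).2⟩, ?_, rfl⟩
    show ι _ ∈ K
    rw [map_mul, map_inv, hg x]
    rw [show (ι ⟨x, hP x.2⟩)⁻¹ * (g * ι ⟨x, hP x.2⟩ * g⁻¹) =
      (ι ⟨x, hP x.2⟩)⁻¹ * g * (ι ⟨x, hP x.2⟩)⁻¹⁻¹ * g⁻¹ by group]
    exact K.mul_mem (hKn.conj_mem g hgK _) (K.inv_mem hgK)
  have hTK : (T : Subgroup G) ≤ K := by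
    rw [hT]
    rintro _ ⟨s, rfl⟩
    obtain ⟨s', hs', he⟩ := hgen (hhyp.ge s.2)
    rwa [← (Subtype.ext he : s' = s)]
  have hMK : M ≤ K := by
    refine (Subgroup.closure_le _).2 fun g hg => ?_
    obtain ⟨k, hk⟩ := hg
    have hp : IsPGroup p (Subgroup.zpowers g) := IsPGroup.of_card (n := k) (by rw [Nat.card_zpowers, hk])
    obtain ⟨c, hc⟩ := CfsgLib.Fusion.exists_conj_le_sylow T hp
    have h1 := hKn.conj_mem _ (hTK (hc g (Subgroup.mem_zpowers g))) c⁻¹
    simpa [mul_assoc] using h1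
  have htop : pResidual p M = ⊤ := by
    refine eq_top_iff.2 fun m _ => ?_
    obtain ⟨m', hm', he⟩ := hMK m.2
    rwa [← (Subtype.ext he : m' = m)]
  obtain ⟨n, H, h0, hl, -, hHn, hf⟩ := CfsgLib.PLocal.isPSolvable_subgroup hsolv M
  have hMne : (⊤ : Subgroup M) ≠ ⊥ := by
    intro h
    obtain ⟨s, hs, hs1⟩ := (Subgroup.ne_bot_iff_exists_ne_one.1 hne : ∃ s : S, s ≠ 1) |>.elim
      fun s hs => (⟨ι s, hMS ⟨s, rfl⟩, fun h1 => hs (hι.1 (h1.trans (map_one ι).symm))⟩ :
        ∃ g : G, g ∈ M ∧ g ≠ 1)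
    have : (⟨s, hs⟩ : M) ∈ (⊥ : Subgroup M) := h ▸ Subgroup.mem_top _
    exact hs1 (congrArg Subtype.val (Subgroup.mem_bot.1 this))
  have hall : ∀ i, H i ≠ ⊤ := by
    refine Fin.induction (by rw [h0]; exact fun h => hMne h.symm) fun i hi hsucc => hi ?_
    have hcase := hf i
    rw [hsucc, Subgroup.relIndex_top_right] at hcase
    have := hHn i.castSucc
    rcases hcase with ⟨m, hm⟩ | hc
    · exact eq_top_iff.2 (htop ▸ CfsgLib.Transfer.pResidual_le_of_index_eq_pow _ hm)
    · refine eq_top_iff.2 fun x _ => ?_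
      have hgenM : ∀ (g : G) (hg : g ∈ M), (⟨g, hg⟩ : M) ∈ H i.castSucc := by
        intro g hg
        induction hg using Subgroup.closure_induction with
        | mem g hg =>
          obtain ⟨k, hk⟩ := hg
          have h1 : orderOf (QuotientGroup.mk' (H i.castSucc) ⟨g, Subgroup.subset_closure ⟨k, hk⟩⟩) = 1 := by
            refine Nat.eq_one_of_dvd_coprimes (hc.pow_right k) ?_ ?_
            · rw [Subgroup.index_eq_card]
              exact orderOf_dvd_natCard _
            · refine (orderOf_map_dvd _ _).trans ?_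
              rw [← Subgroup.orderOf_coe]
              exact hk.dvd
          exact (QuotientGroup.eq_one_iff _).1 (orderOf_eq_one_iff.1 h1)
        | one => exact (H i.castSucc).one_mem
        | mul a b _ _ ha hb => exact (H i.castSucc).mul_mem ha hb
        | inv a _ ha => exact (H i.castSucc).inv_mem ha
      exact hgenM x x.2
  exact hall (Fin.last n) hl

theorem terminating_of_constrained : ∀ (n : ℕ) (S : Subgroup Ω) (F : Cfsg.FusionSystem S)
    [Finite S] [Fact p.Prime], Nat.card S = n → IsPGroup p S → F.IsConstrained p →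
    (∀ P : Subgroup Ω, P ≤ S → Cfsg.IsPSolvable p (F.autGroup P)) →
    F.HasTerminatingResidualSeries p := by
  intro n
  induction n using Nat.strong_induction_on with
  | _ n ih =>
  intro S F _ _ hn hS hF hP
  by_cases hne : S = ⊥
  · exact .trivial F p hne
  obtain ⟨G, _, ι, hG⟩ := Cfsg.Agent.S5090.result p hS F hF
  have hres := pPrimeResidualSystem_isPPrimeResidual (p := p) hS hF.1
  set E := pPrimeResidualSystem F p
  have hHS : E.hyperfocalSubgroup p ≤ S := hyperfocalSubgroup_le_S E p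
  have hlt : E.hyperfocalSubgroup p < S :=
    lt_of_le_of_ne hHS (hyperfocal_residual_ne hG (psolv_model hG hP) hne hres)
  have := finite_of_le hHS
  obtain ⟨D, hDs, hDi, -⟩ := CfsgLib.Fusion.PPowerIndex.exists_pPowerIndex hS hres.1 hHS le_rfl
  have hHn : ((E.hyperfocalSubgroup p).subgroupOf S).Normal :=
    ⟨fun a ha s => hyperfocalSubgroup_conj_mem E p s.2 ha⟩
  have hEc := Cfsg.Agent.S5342.constrained_of_normal hS hF (pPrimeResidual_isNormalIn hS hF.1 hres)
  have hDc := Cfsg.Agent.S5342.constrained_of_normal hS hEc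
    (Cfsg.Agent.S5120.result p hS E hres.1 _ hHS hHn le_rfl D hDs hDi)
  refine .step F E p D hres ⟨hDs, hDi⟩ (ih _ ?_ _ D rfl (hS.to_le hHS) hDc fun P hP' => ?_)
  · rw [← hn]
    exact CfsgLib.FusionQuot.card_lt_of_lt hlt le_rfl
  · have hsub : D.autGroup P ≤ F.autGroup P :=
      (CfsgLib.FusionQuot.autGroup_le_of_subsystem hDi.1 P).trans
        (CfsgLib.FusionQuot.autGroup_le_of_subsystem hres.2.1.1 P)
    exact CfsgLib.PLocal.isPSolvable_of_injective (Subgroup.inclusion_injective hsub)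
      (hP P (hP'.trans hHS))

end CfsgLib.Fusion.Terminating
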