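import Mathlib

/-!
The torus `{!![x, e * y; y, x]}` of `GL₂` and the Sylow `2`-subgroup it gives in odd characteristic.
-/

set_option autoImplicit false

namespace CfsgLib.Fusion.TorusGLTwo

open Matrix

variable {F : Type*} [Field F]

local notation "GL2" => GL (Fin 2) F

theorem gl_ext {M N : GL2} (h00 : M.1 0 0 = N.1 0 0) (h01 : M.1 0 1 = N.1 0 1)
    (h10 : M.1 1 0 = N.1 1 0) (h11 : M.1 1 1 = N.1 1 1) : M = N := by
  refine Units.ext (Matrix.ext fun i j => ?_)
  fin_cases i <;> fin_cases j <;> assumption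

theorem mul_apply (M N : GL2) (i j : Fin 2) :
    (M * N).1 i j = M.1 i 0 * N.1 0 j + M.1 i 1 * N.1 1 j := by
  rw [Units.val_mul, Matrix.mul_apply, Fin.sum_univ_two]

variable (e : F)

/-- The torus. -/
def tor : Subgroup GL2 where
  carrier := {M | M.1 0 0 = M.1 1 1 ∧ M.1 0 1 = e * M.1 1 0}
  one_mem' := by simp
  mul_mem' := by
    rintro M N ⟨h1, h2⟩ ⟨h3, h4⟩
    constructor <;> simp only [mul_apply, h1, h2, h3, h4] <;> ring
  inv_mem' := by
    rintro M ⟨h1, h2⟩
    constructor <;> rw [Matrix.coe_units_inv, Matrix.inv_def, Matrix.adjugate_fin_two] <;>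
      simp [h1, h2] <;> ring

theorem mem_tor {M : GL2} : M ∈ tor e ↔ M.1 0 0 = M.1 1 1 ∧ M.1 0 1 = e * M.1 1 0 := Iff.rfl

variable {e}

theorem tor_comm {M N : GL2} (hM : M ∈ tor e) (hN : N ∈ tor e) : M * N = N * M := by
  obtain ⟨h1, h2⟩ := hM
  obtain ⟨h3, h4⟩ := hN
  apply gl_ext <;> simp only [mul_apply, h1, h2, h3, h4] <;> ring

theorem det_eq {M : GL2} (hM : M ∈ tor e) : M.1.det = M.1 0 0 ^ 2 - e * M.1 1 0 ^ 2 := by
  rw [det_fin_two, ← hM.1, hM.2]; ring

theorem scalar_mem (r : Fˣ) : GeneralLinearGroup.scalar (Fin 2) r ∈ tor e := by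
  simp [mem_tor]

theorem eq_scalar {M : GL2} (hM : M ∈ tor e) (hy : M.1 1 0 = 0) :
    ∃ r : Fˣ, GeneralLinearGroup.scalar (Fin 2) r = M := by
  have hd := M.det_ne_zero
  rw [det_eq hM, hy] at hd
  have hx : M.1 0 0 ≠ 0 := fun h => hd (by rw [h]; ring)
  refine ⟨Units.mk0 _ hx, ?_⟩
  apply gl_ext <;> simp [hM.2, hy, hM.1]

/-- Centralizer of a non-scalar element of the torus. -/
theorem mem_tor_of_commute {a M : GL2} (ha : a ∈ tor e) (hy : a.1 1 0 ≠ 0) (h : M * a = a * M) :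
    M ∈ tor e := by
  have h00 := congrArg (fun X : GL2 => X.1 0 0) h
  have h10 := congrArg (fun X : GL2 => X.1 1 0) h
  simp only [mul_apply, ← ha.1, ha.2] at h00 h10
  exact ⟨mul_right_cancel₀ hy (by linear_combination -h10), mul_right_cancel₀ hy (by linear_combination h00)⟩

variable (e) in
/-- The element `!![x, e * y; y, x]`. -/
def mk (x y : F) (h : x ^ 2 - e * y ^ 2 ≠ 0) : GL2 :=
  GeneralLinearGroup.mkOfDetNeZero !![x, e * y; y, x]
    (by rw [det_fin_two_of]; intro h'; exact h (by linear_combination h'))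

theorem mk_val (x y : F) (h : x ^ 2 - e * y ^ 2 ≠ 0) : (mk e x y h).1 = !![x, e * y; y, x] := rfl

theorem mk_mem (x y : F) (h : x ^ 2 - e * y ^ 2 ≠ 0) : mk e x y h ∈ tor e := by simp [mem_tor, mk_val]

/-- The torus in coordinates. -/
def torEquiv : tor e ≃ {p : F × F // p.1 ^ 2 - e * p.2 ^ 2 ≠ 0} where
  toFun M := ⟨(M.1.1 0 0, M.1.1 1 0), by
    have := M.1.det_ne_zero
    rwa [det_eq M.2] at this⟩
  invFun p := ⟨mk e p.1.1 p.1.2 p.2, mk_mem _ _ _⟩
  left_inv M := Subtype.ext (gl_ext (by simp [mk_val]) (by simp [mk_val, M.2.2]) (by simp [mk_val])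
    (by simp [mk_val, M.2.1]))
  right_inv p := by simp [mk_val]

/-- The reflection. -/
def sg : GL2 := GeneralLinearGroup.mkOfDetNeZero !![1, 0; 0, -1] (by rw [det_fin_two_of]; simp)

theorem sg_val : (sg : GL2).1 = !![1, 0; 0, -1] := rfl

theorem sg_mul_self : (sg : GL2) * sg = 1 := by
  apply gl_ext <;> simp [mul_apply, sg_val]

theorem sg_inv : (sg : GL2)⁻¹ = sg := inv_eq_of_mul_eq_one_right sg_mul_self

theorem bar_apply (M : GL2) :
    (sg * M * sg).1 0 0 = M.1 0 0 ∧ (sg * M * sg).1 0 1 = -M.1 0 1 ∧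
      (sg * M * sg).1 1 0 = -M.1 1 0 ∧ (sg * M * sg).1 1 1 = M.1 1 1 := by
  simp [mul_apply, sg_val]

theorem bar_mem {M : GL2} (hM : M ∈ tor e) : sg * M * sg ∈ tor e := by
  obtain ⟨h00, h01, h10, h11⟩ := bar_apply M
  exact ⟨by rw [h00, h11, hM.1], by rw [h01, h10, hM.2]; ring⟩

theorem sg_not_mem (h2 : (2 : F) ≠ 0) : (sg : GL2) ∉ tor e := fun h => by
  have h' := h.1
  simp [sg_val] at h'
  exact h2 (by linear_combination h')

theorem mul_sg_sq {M : GL2} (hM : M ∈ tor e) :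
    M * sg * (M * sg) = GeneralLinearGroup.scalar (Fin 2) (GeneralLinearGroup.det M) := by
  have hd : ((GeneralLinearGroup.det M : Fˣ) : F) = M.1 0 0 ^ 2 - e * M.1 1 0 ^ 2 := det_eq hM
  apply gl_ext <;> simp [mul_apply, sg_val, hd, ← hM.1, hM.2] <;> ring

/-- The `2`-part of the torus. -/
def twoPart : Subgroup GL2 where
  carrier := {M | M ∈ tor e ∧ ∃ k : ℕ, M ^ 2 ^ k = 1}
  one_mem' := ⟨one_mem _, 0, by simp⟩
  mul_mem' := by
    rintro M N ⟨hM, k, hk⟩ ⟨hN, l, hl⟩
    refine ⟨mul_mem hM hN, k + l, ?_⟩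
    rw [(show Commute M N from tor_comm hM hN).mul_pow, pow_add, pow_mul, hk, one_pow, one_mul,
      mul_comm, pow_mul, hl, one_pow]
  inv_mem' := by
    rintro M ⟨hM, k, hk⟩
    exact ⟨inv_mem hM, k, by rw [inv_pow, hk, inv_one]⟩

theorem mem_twoPart {M : GL2} :
    M ∈ twoPart (e := e) ↔ M ∈ tor e ∧ ∃ k : ℕ, M ^ 2 ^ k = 1 := Iff.rfl

theorem bar_twoPart {M : GL2} (hM : M ∈ twoPart (e := e)) : sg * M * sg ∈ twoPart (e := e) := by
  obtain ⟨k, hk⟩ := hM.2
  refine ⟨bar_mem hM.1, k, ?_⟩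
  conv_lhs => arg 1; arg 2; rw [← sg_inv]
  rw [conj_pow, hk, mul_one, mul_inv_cancel]

/-- The `2`-subgroup. -/
def syl : Subgroup GL2 where
  carrier := {M | M ∈ twoPart (e := e) ∨ M * sg ∈ twoPart (e := e)}
  one_mem' := Or.inl (one_mem _)
  mul_mem' := by
    rintro a b (ha | ha) (hb | hb)
    · exact Or.inl (mul_mem ha hb)
    · exact Or.inr (by rw [mul_assoc]; exact mul_mem ha hb)
    · refine Or.inr ?_
      rw [show a * b * sg = a * sg * (sg * b * sg) by
        rw [← mul_assoc (a * sg), ← mul_assoc, mul_assoc a sg sg, sg_mul_self, mul_one]]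
      exact mul_mem ha (bar_twoPart hb)
    · refine Or.inl ?_
      rw [show a * b = a * sg * (sg * (b * sg) * sg) by
        rw [← mul_assoc sg, mul_assoc (sg * b), sg_mul_self, mul_one, ← mul_assoc, mul_assoc a sg sg,
          sg_mul_self, mul_one]]
      exact mul_mem ha (bar_twoPart hb)
  inv_mem' := by
    rintro a (ha | ha)
    · exact Or.inl (inv_mem ha)
    · refine Or.inr ?_
      have h := bar_twoPart (inv_mem ha)
      rwa [_root_.mul_inv_rev, sg_inv, ← mul_assoc, sg_mul_self, one_mul] at h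

theorem mem_syl {M : GL2} :
    M ∈ syl (e := e) ↔ M ∈ twoPart (e := e) ∨ M * sg ∈ twoPart (e := e) := Iff.rfl

theorem twoPart_le_syl : twoPart (e := e) ≤ syl (e := e) := fun _ h => Or.inl h

theorem sg_mem_syl : (sg : GL2) ∈ syl (e := e) := Or.inr (by rw [sg_mul_self]; exact one_mem _)

theorem exists_pow_eq_one {M : GL2} (hM : M ∈ syl (e := e)) : ∃ k : ℕ, M ^ 2 ^ k = 1 := by
  rcases hM with h | h
  · exact h.2
  · obtain ⟨k, hk⟩ := h.2
    have h1 := mul_sg_sq h.1
    rw [mul_assoc M sg sg, sg_mul_self, mul_one] at h1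
    refine ⟨k + 1, ?_⟩
    rw [pow_succ', pow_mul, pow_two, h1, ← map_pow, ← map_pow, hk, map_one, map_one]

theorem isPGroup_syl : IsPGroup 2 (syl (e := e)) := fun M => by
  obtain ⟨k, hk⟩ := exists_pow_eq_one M.2
  exact ⟨k, Subtype.ext (by simpa using hk)⟩

theorem scalar_eq_one_of_mem {r : Fˣ} (hr : r ^ 3 = 1)
    (h : GeneralLinearGroup.scalar (Fin 2) r ∈ syl (e := e)) : r = 1 := by
  obtain ⟨k, hk⟩ := exists_pow_eq_one h
  rw [← map_pow] at hk
  have hk' : r ^ 2 ^ k = 1 := Units.ext (by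
    simpa [Matrix.diagonal_pow] using congrArg (fun X : GL2 => X.1 0 0) hk)
  have h2 := Nat.dvd_gcd (orderOf_dvd_of_pow_eq_one hk') (orderOf_dvd_of_pow_eq_one hr)
  rw [Nat.Coprime.gcd_eq_one (Nat.Coprime.pow_left k (by norm_num)), Nat.dvd_one,
    orderOf_eq_one_iff] at h2
  exact h2

variable [Fintype F]

theorem card_twoPart (h2 : (2 : F) ≠ 0) :
    Nat.card (syl (e := e)) = 2 * Nat.card (twoPart (e := e)) ∧
      Nat.card (twoPart (e := e)) = 2 ^ (Nat.card (tor e)).factorization 2 := by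
  classical
  have : Fact (Nat.Prime 2) := ⟨Nat.prime_two⟩
  constructor
  · let f : Bool × twoPart (e := e) → syl (e := e) := fun p =>
      if p.1 then ⟨(p.2 : GL2), Or.inl p.2.2⟩
      else ⟨(p.2 : GL2) * (sg : GL2), Or.inr (by rw [mul_assoc, sg_mul_self, mul_one]; exact p.2.2)⟩
    have hno : ∀ a b : twoPart (e := e), (a : GL2) ≠ (b : GL2) * (sg : GL2) := fun a b h => by
      refine sg_not_mem (e := e) h2 ?_
      rw [show (sg : GL2) = (b : GL2)⁻¹ * a by rw [h, inv_mul_cancel_left]]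
      exact mul_mem (inv_mem b.2.1) a.2.1
    have hf : Function.Bijective f := by
      constructor
      · rintro ⟨i, a⟩ ⟨j, b⟩ h
        have h' := congrArg Subtype.val h
        cases i <;> cases j <;> simp [f] at h'
        · exact Prod.ext rfl (by simpa using h')
        · exact absurd h'.symm (hno b a)
        · exact absurd h' (hno a b)
        · exact Prod.ext rfl (by simpa using h')
      · rintro ⟨M, hM | hM⟩
        · exact ⟨(true, ⟨M, hM⟩), rfl⟩
        · exact ⟨(false, ⟨_, hM⟩), Subtype.ext (show M * sg * sg = M by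
            rw [mul_assoc, sg_mul_self, mul_one])⟩
    rw [← Nat.card_eq_of_bijective f hf, Nat.card_prod, Nat.card_eq_fintype_card (α := Bool),
      Fintype.card_bool]
  · obtain ⟨Q⟩ : Nonempty (Sylow 2 (tor e)) := Sylow.nonempty
    have hQn : (Q : Subgroup (tor e)).Normal :=
      ⟨fun a ha b => by
        rwa [show b * a * b⁻¹ = a from Subtype.ext (by
          rw [Subgroup.coe_mul, Subgroup.coe_mul, tor_comm b.2 a.2, mul_assoc, Subgroup.coe_inv,
            mul_inv_cancel, mul_one])]⟩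
    have hA : twoPart (e := e) = (Q : Subgroup (tor e)).map (tor e).subtype := by
      ext M
      constructor
      · rintro ⟨hM, k, hk⟩
        have hp : IsPGroup 2 (Subgroup.zpowers (⟨M, hM⟩ : tor e)) :=
          fun ⟨_, i, hi⟩ => ⟨k, Subtype.ext (by
            subst hi
            show ((⟨M, hM⟩ : tor e) ^ i) ^ 2 ^ k = 1
            rw [← _root_.zpow_natCast, ← _root_.zpow_mul, mul_comm, _root_.zpow_mul, _root_.zpow_natCast,
              show (⟨M, hM⟩ : tor e) ^ 2 ^ k = 1 from Subtype.ext (by simpa using hk), _root_.one_zpow])⟩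
        obtain ⟨Q', hQ'⟩ := hp.exists_le_sylow
        have := (Sylow.unique_of_normal Q hQn).uniq Q'
        refine ⟨⟨M, hM⟩, ?_, rfl⟩
        have hQQ : Q' = Q := this.trans ((Sylow.unique_of_normal Q hQn).uniq Q).symm
        exact hQQ ▸ hQ' (Subgroup.mem_zpowers _)
      · rintro ⟨x, hx, rfl⟩
        obtain ⟨k, hk⟩ := Q.2 ⟨x, hx⟩
        exact ⟨x.2, k, by simpa using congrArg (fun y : Q => ((y : tor e) : GL2)) hk⟩
    rw [hA, Subgroup.card_map_of_injective Subtype.coe_injective, Q.card_eq_multiplicity]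

end CfsgLib.Fusion.TorusGLTwo
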