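import Cfsg.Agent.Lib.Fusion.TorusGLTwo

/-!
The torus of `GL₂` in eigen coordinates and its intersection with a unitary group `GU₂`.
-/

set_option autoImplicit false

namespace CfsgLib.Fusion.TorusGUTwo

open Matrix CfsgLib.Fusion.TorusGLTwo

variable {F : Type*} [Field F]

local notation "GL2" => GL (Fin 2) F

/-- The unitary group of the standard form of degree two. -/
def unitary (s : F →+* F) : Subgroup GL2 where
  carrier := {A | A.1ᵀ * A.1.map s = 1}
  one_mem' := by simp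
  mul_mem' := by
    intro A B hA hB
    show (A.1 * B.1)ᵀ * (A.1 * B.1).map s = 1
    rw [Matrix.transpose_mul, Matrix.map_mul, Matrix.mul_assoc, ← Matrix.mul_assoc A.1ᵀ,
      show A.1ᵀ * A.1.map s = 1 from hA, Matrix.one_mul]
    exact hB
  inv_mem' := by
    intro A hA
    show (A⁻¹ : GL2).1ᵀ * (A⁻¹ : GL2).1.map s = 1
    have h1 : (A⁻¹ : GL2).1ᵀ * A.1ᵀ = 1 := by
      rw [← Matrix.transpose_mul, ← Units.val_mul, mul_inv_cancel, Units.val_one, Matrix.transpose_one]
    have h2 : A.1.map s * (A⁻¹ : GL2).1.map s = 1 := by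
      rw [← Matrix.map_mul, ← Units.val_mul, mul_inv_cancel, Units.val_one]
      simp
    calc (A⁻¹ : GL2).1ᵀ * (A⁻¹ : GL2).1.map s
        = (A⁻¹ : GL2).1ᵀ * (A.1ᵀ * A.1.map s) * (A⁻¹ : GL2).1.map s := by
          rw [show A.1ᵀ * A.1.map s = 1 from hA, Matrix.mul_one]
      _ = ((A⁻¹ : GL2).1ᵀ * A.1ᵀ) * (A.1.map s * (A⁻¹ : GL2).1.map s) := by
          simp only [Matrix.mul_assoc]
      _ = 1 := by rw [h1, h2, Matrix.one_mul]

variable {s : F →+* F}

theorem mem_unitary {A : GL2} : A ∈ unitary s ↔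
    (A.1 0 0 * s (A.1 0 0) + A.1 1 0 * s (A.1 1 0) = 1 ∧
      A.1 0 0 * s (A.1 0 1) + A.1 1 0 * s (A.1 1 1) = 0) ∧
    A.1 0 1 * s (A.1 0 0) + A.1 1 1 * s (A.1 1 0) = 0 ∧
      A.1 0 1 * s (A.1 0 1) + A.1 1 1 * s (A.1 1 1) = 1 := by
  show A.1ᵀ * A.1.map s = 1 ↔ _
  rw [← Matrix.ext_iff]
  simp [Fin.forall_fin_two, Matrix.mul_apply, Fin.sum_univ_two]

theorem det_norm {A : GL2} (hA : A ∈ unitary s) : A.1.det * s A.1.det = 1 := by
  have h : (A.1ᵀ * A.1.map s).det = (1 : Matrix (Fin 2) (Fin 2) F).det :=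
    congrArg Matrix.det (show A.1ᵀ * A.1.map s = 1 from hA)
  rw [Matrix.det_mul, Matrix.det_transpose, Matrix.det_one] at h
  rwa [← RingHom.mapMatrix_apply, ← RingHom.map_det] at h

theorem sg_mem : (sg : GL2) ∈ unitary s := by simp [mem_unitary, sg_val]

theorem negone_mem : (GeneralLinearGroup.scalar (Fin 2) (-1 : Fˣ) : GL2) ∈ unitary s := by
  simp [mem_unitary]

/-- The parameters: `e = w²` is `1` or `-1`, `w` is fixed by `s`, and `w = 1` if `e = 1`. -/
structure Data (s : F →+* F) (e w : F) : Prop where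
  sq : w * w = e
  fixed : s w = w
  two : (2 : F) ≠ 0
  cases : (e = 1 ∧ w = 1) ∨ e = -1
  invol : ∀ x, s (s x) = x

variable {e w : F}

theorem Data.w_ne (hd : Data s e w) : w ≠ 0 := by
  intro h
  have := hd.sq
  rcases hd.cases with ⟨rfl, -⟩ | rfl <;> simp [h] at this

/-- The torus in eigen coordinates. -/
def spl (hd : Data s e w) : Fˣ × Fˣ →* GL2 where
  toFun p := mk e (((p.1 : F) + p.2) / 2) (((p.1 : F) - p.2) / (2 * w)) (by
    have := hd.two
    have := hd.w_ne
    rw [show (((p.1 : F) + p.2) / 2) ^ 2 - e * (((p.1 : F) - p.2) / (2 * w)) ^ 2 = p.1 * p.2 by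
      rw [← hd.sq]; field_simp; ring]
    exact mul_ne_zero p.1.ne_zero p.2.ne_zero)
  map_one' := by
    have := hd.two
    apply gl_ext <;> simp [mk_val, one_add_one_eq_two, this]
  map_mul' p q := by
    have := hd.two
    have := hd.w_ne
    apply gl_ext <;> simp [mk_val, TorusGLTwo.mul_apply, ← hd.sq] <;> field_simp <;> ring

theorem spl_val (hd : Data s e w) (p : Fˣ × Fˣ) :
    (spl hd p).1 = !![((p.1 : F) + p.2) / 2, e * (((p.1 : F) - p.2) / (2 * w));
      ((p.1 : F) - p.2) / (2 * w), ((p.1 : F) + p.2) / 2] := rfl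

theorem spl_mem (hd : Data s e w) (p : Fˣ × Fˣ) : spl hd p ∈ tor e := by simp [mem_tor, spl_val]

theorem spl_add (hd : Data s e w) (p : Fˣ × Fˣ) :
    (spl hd p).1 0 0 + w * (spl hd p).1 1 0 = p.1 ∧ (spl hd p).1 0 0 - w * (spl hd p).1 1 0 = p.2 := by
  have := hd.two
  have := hd.w_ne
  constructor <;> simp [spl_val] <;> field_simp <;> ring

theorem spl_injective (hd : Data s e w) : Function.Injective (spl hd) := fun p q h => by
  have h1 := spl_add hd p
  have h2 := spl_add hd q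
  rw [h] at h1
  exact Prod.ext (Units.ext (h1.1.symm.trans h2.1)) (Units.ext (h1.2.symm.trans h2.2))

theorem eq_spl (hd : Data s e w) {a : GL2} (ha : a ∈ tor e) : ∃ p : Fˣ × Fˣ, spl hd p = a := by
  have := hd.two
  have := hd.w_ne
  have hdet := a.det_ne_zero
  rw [det_eq ha, ← hd.sq] at hdet
  have h1 : a.1 0 0 + w * a.1 1 0 ≠ 0 := fun h =>
    hdet (by linear_combination (a.1 0 0 - w * a.1 1 0) * h)
  have h1' : a.1 0 0 - w * a.1 1 0 ≠ 0 := fun h =>
    hdet (by linear_combination (a.1 0 0 + w * a.1 1 0) * h)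
  refine ⟨(Units.mk0 _ h1, Units.mk0 _ h1'), ?_⟩
  have he0 : e ≠ 0 := hd.sq ▸ mul_ne_zero hd.w_ne hd.w_ne
  apply gl_ext <;> simp [spl_val, ← ha.1, ha.2] <;> field_simp <;> ring_nf <;> simp [he0]

theorem det_spl (hd : Data s e w) (p : Fˣ × Fˣ) :
    GeneralLinearGroup.det (spl hd p) = p.1 * p.2 := by
  apply Units.ext
  show (spl hd p).1.det = _
  rw [det_eq (spl_mem hd p), Units.val_mul]
  obtain ⟨h1, h2⟩ := spl_add hd p
  rw [← h1, ← h2]
  linear_combination ((spl hd p).1 1 0 ^ 2) * hd.sq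

theorem bar_spl (hd : Data s e w) (p : Fˣ × Fˣ) : sg * spl hd p * sg = spl hd (p.2, p.1) := by
  obtain ⟨h00, h01, h10, h11⟩ := bar_apply (spl hd p)
  apply gl_ext
  · rw [h00]; simp [spl_val]; ring
  · rw [h01]; simp [spl_val]; ring
  · rw [h10]; simp [spl_val]; ring
  · rw [h11]; simp [spl_val]; ring

/-- The eigenvalue condition for membership of the unitary group. -/
def Good (s : F →+* F) (e : F) (p : Fˣ × Fˣ) : Prop :=
  (e = 1 ∧ (p.1 : F) * s p.1 = 1 ∧ (p.2 : F) * s p.2 = 1) ∨ (e = -1 ∧ (p.1 : F) * s p.2 = 1)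

theorem tor_mem_unitary (hd : Data s e w) {a : GL2} (ha : a ∈ tor e) :
    a ∈ unitary s ↔ a.1 0 0 * s (a.1 0 0) + a.1 1 0 * s (a.1 1 0) = 1 ∧
      e * (a.1 0 0 * s (a.1 1 0)) + a.1 1 0 * s (a.1 0 0) = 0 := by
  have hse : s e = e := by rw [← hd.sq, map_mul, hd.fixed]
  have hee : e * e = 1 := by rcases hd.cases with ⟨rfl, -⟩ | rfl <;> simp
  rw [mem_unitary, ← ha.1, ha.2, map_mul, hse]
  constructor
  · rintro ⟨⟨h1, h2⟩, -⟩
    exact ⟨h1, by linear_combination h2⟩
  · rintro ⟨h1, h2⟩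
    exact ⟨⟨h1, by linear_combination h2⟩,
      by linear_combination e * h2 - a.1 0 0 * s (a.1 1 0) * hee + 0 * hee,
      by linear_combination h1 + a.1 1 0 * s (a.1 1 0) * hee⟩

theorem spl_mem_unitary_iff (hd : Data s e w) (p : Fˣ × Fˣ) :
    spl hd p ∈ unitary s ↔ Good s e p := by
  rw [tor_mem_unitary hd (spl_mem hd p)]
  obtain ⟨h1, h2⟩ := spl_add hd p
  unfold Good
  rw [← h1, ← h2]
  set x := (spl hd p).1 0 0 with hx
  set y := (spl hd p).1 1 0 with hy
  have h2ne := hd.two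
  have hw := hd.w_ne
  rcases hd.cases with ⟨rfl, rfl⟩ | rfl
  · have hne : ¬ ((1 : F) = -1) := fun h => h2ne (by linear_combination h)
    simp only [map_add, map_sub, map_mul, map_one, one_mul, hne, false_and, or_false, true_and]
    constructor
    · rintro ⟨hN, hZ⟩
      exact ⟨by linear_combination hN + hZ, by linear_combination hN - hZ⟩
    · rintro ⟨ha, hb⟩
      exact ⟨mul_left_cancel₀ h2ne (by linear_combination ha + hb),
        mul_left_cancel₀ h2ne (by linear_combination ha - hb)⟩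
  · have hne : ¬ ((-1 : F) = 1) := fun h => h2ne (by linear_combination -h)
    simp only [map_sub, map_mul, hd.fixed, hne, false_and, false_or, true_and]
    constructor
    · rintro ⟨hN, hZ⟩
      linear_combination hN + w * hZ - y * s y * hd.sq
    · intro h
      have h' := congrArg s h
      simp only [map_mul, map_add, map_sub, hd.fixed, hd.invol, map_one] at h'
      exact ⟨mul_left_cancel₀ h2ne (by linear_combination h + h' + 2 * (y * s y) * hd.sq),
        mul_left_cancel₀ (mul_ne_zero h2ne hw) (by linear_combination h - h')⟩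

end CfsgLib.Fusion.TorusGUTwo
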