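import Cfsg.Agent.Lib.FusionQuot.SurjSat
import Cfsg.Agent.Lib.Fusion.Normal

/-!
Transport of fusion systems along an injective homomorphism of the ambient groups.
-/

set_option autoImplicit false

namespace CfsgLib.Fusion.Transport

open Cfsg Cfsg.FusionSystem CfsgLib.Fusion

variable {A B : Type*} [Group A] [Group B] {f : A →* B}

theorem cg_apply {M N : Type*} [Group M] [Group N] (e : M ≃* N) (α : MulAut M) (y : N) :
    MulAut.congr e α y = e (α (e.symm y)) := rfl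

/-- `φ'` is the homomorphism `φ` read through `f`. -/
def Rel (f : A →* B) {P : Subgroup A} (φ : P →* A) {P' : Subgroup B} (φ' : P' →* B) : Prop :=
  P.map f = P' ∧ ∀ (x : P) (h : f x ∈ P'), φ' ⟨f x, h⟩ = f (φ x)

theorem exists_rel_right (hf : Function.Injective f) {P : Subgroup A} (φ : P →* A) :
    ∃ φ' : P.map f →* B, Rel f φ φ' := by
  refine ⟨(f.comp φ).comp (P.equivMapOfInjective f hf).symm.toMonoidHom, rfl, fun x h => ?_⟩
  show f (φ ((P.equivMapOfInjective f hf).symm ⟨f x, h⟩)) = f (φ x)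
  congr 2
  rw [MulEquiv.symm_apply_eq]
  rfl

theorem exists_rel_left (hf : Function.Injective f) {P' : Subgroup B} (φ' : P' →* B)
    (h1 : P' ≤ f.range) (h2 : ∀ y, φ' y ∈ f.range) :
    ∃ φ : P'.comap f →* A, Rel f φ φ' := by
  let e : A ≃* f.range := MonoidHom.ofInjective hf
  refine ⟨e.symm.toMonoidHom.comp ((φ'.codRestrict f.range h2).comp
    ((f.comp (P'.comap f).subtype).codRestrict P' fun x => x.2)), Subgroup.map_comap_eq_self h1,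
    fun x h => ?_⟩
  exact (congrArg Subtype.val (e.apply_symm_apply ⟨φ' ⟨f x, h⟩, h2 _⟩)).symm

theorem rel_left_unique (hf : Function.Injective f) {P : Subgroup A} {φ ψ : P →* A} {P' : Subgroup B}
    {φ' : P' →* B} (h : Rel f φ φ') (h' : Rel f ψ φ') : φ = ψ := by
  refine MonoidHom.ext fun x => hf ?_
  have hx : f x ∈ P' := h.1 ▸ ⟨x, x.2, rfl⟩
  rw [← h.2 x hx, h'.2 x hx]

theorem rel_right_unique {P : Subgroup A} {φ : P →* A} {P' : Subgroup B}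
    {φ' ψ' : P' →* B} (h : Rel f φ φ') (h' : Rel f φ ψ') : φ' = ψ' := by
  refine MonoidHom.ext fun y => ?_
  obtain ⟨x, hx, hy⟩ : (y : B) ∈ P.map f := h.1.symm ▸ y.2
  have : y = ⟨f x, hy ▸ y.2⟩ := Subtype.ext hy.symm
  rw [this, h.2 ⟨x, hx⟩, h'.2 ⟨x, hx⟩]

theorem rel_range {P : Subgroup A} {φ : P →* A} {P' : Subgroup B} {φ' : P' →* B}
    (h : Rel f φ φ') : φ.range.map f = φ'.range := by
  ext y
  constructor
  · rintro ⟨_, ⟨x, rfl⟩, rfl⟩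
    exact ⟨⟨f x, h.1 ▸ ⟨x, x.2, rfl⟩⟩, h.2 x _⟩
  · rintro ⟨z, rfl⟩
    obtain ⟨x, hx, hz⟩ : (z : B) ∈ P.map f := h.1.symm ▸ z.2
    have : z = ⟨f x, hz ▸ z.2⟩ := Subtype.ext hz.symm
    exact this ▸ ⟨φ ⟨x, hx⟩, ⟨_, rfl⟩, (h.2 ⟨x, hx⟩ _).symm⟩

theorem map_le_map (hf : Function.Injective f) {P Q : Subgroup A} : P.map f ≤ Q.map f ↔ P ≤ Q :=
  Subgroup.map_le_map_iff_of_injective hf

/-! ### Systems -/

variable {S T : Subgroup A} {S' T' : Subgroup B}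

/-- `F'` is the system `F` read through `f`. -/
structure IsPush (f : A →* B) (F : Cfsg.FusionSystem S) (F' : Cfsg.FusionSystem S') : Prop where
  map_eq : S.map f = S'
  inj : Function.Injective f
  iff : ∀ {P : Subgroup A} {φ : P →* A} {P' : Subgroup B} {φ' : P' →* B},
    Rel f φ φ' → (φ ∈ F.Hom P ↔ φ' ∈ F'.Hom P')

/-- The system `E` carried along `f`. -/
def pushSys (E : Cfsg.FusionSystem T) (f : A →* B) (hf : Function.Injective f) :
    Cfsg.FusionSystem (T.map f) where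
  Hom P' := {φ' | ∃ (P : Subgroup A) (φ : P →* A), φ ∈ E.Hom P ∧ Rel f φ φ'}
  le_of_mem := by
    rintro P' φ' ⟨P, φ, hφ, hP, h⟩
    refine ⟨hP ▸ Subgroup.map_mono (dom_le hφ), fun y => ?_⟩
    obtain ⟨x, hx, hy⟩ : (y : B) ∈ P.map f := hP.symm ▸ y.2
    rw [show y = ⟨f x, hy ▸ y.2⟩ from Subtype.ext hy.symm, h ⟨x, hx⟩]
    exact ⟨_, map_mem hφ _, rfl⟩
  injective_of_mem := by
    rintro P' φ' ⟨P, φ, hφ, hP, h⟩ a b hab
    obtain ⟨x, hx, ha⟩ : (a : B) ∈ P.map f := hP.symm ▸ a.2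
    obtain ⟨y, hy, hb⟩ : (b : B) ∈ P.map f := hP.symm ▸ b.2
    rw [show a = ⟨f x, ha ▸ a.2⟩ from Subtype.ext ha.symm,
      show b = ⟨f y, hb ▸ b.2⟩ from Subtype.ext hb.symm, h ⟨x, hx⟩, h ⟨y, hy⟩] at hab
    exact Subtype.ext (ha.symm.trans
      ((congrArg (fun z : P => f z) (E.injective_of_mem hφ (hf hab))).trans hb))
  conj_mem := by
    rintro P' _ hP' ⟨g, hg, rfl⟩
    refine ⟨P'.comap f, conjHom _ g, E.conj_mem ?_ hg,
      Subgroup.map_comap_eq_self (hP'.trans (Subgroup.map_le_range f T)), fun x h => ?_⟩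
    · exact (Subgroup.comap_mono hP').trans (Subgroup.comap_map_eq_self_of_injective hf T).le
    · simp [conjHom_apply]
  comp_mem := by
    rintro P' Q' φ' ψ' ⟨P, φ, hφ, hP, h⟩ ⟨Q, ψ, hψ, hQ, h'⟩ hc
    have hφQ : ∀ x, φ x ∈ Q := by
      intro x
      have h1 := hc ⟨f x, hP ▸ ⟨x, x.2, rfl⟩⟩
      rw [h x] at h1
      obtain ⟨q, hq, hqx⟩ : f (φ x) ∈ Q.map f := hQ.symm ▸ h1
      exact hf hqx ▸ hq
    refine ⟨P, _, E.comp_mem hφ hψ hφQ, hP, fun x hx => ?_⟩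
    show ψ' ⟨φ' ⟨f x, hx⟩, hc _⟩ = f (ψ ⟨φ x, hφQ x⟩)
    rw [← h' ⟨φ x, hφQ x⟩ (hQ ▸ ⟨_, hφQ x, rfl⟩)]
    exact congrArg ψ' (Subtype.ext (h x hx))
  inv_mem := by
    rintro P' φ' ⟨P, φ, hφ, hP, h⟩
    obtain ⟨ψ, hψ, hinv⟩ := E.inv_mem hφ
    obtain ⟨ψ', hψ'⟩ := exists_rel_right hf ψ
    have hr := rel_range (f := f) ⟨hP, h⟩
    refine ⟨ψ'.comp (Subgroup.inclusion hr.ge), ⟨_, ψ, hψ, hr, fun x hx => hψ'.2 x _⟩, fun y => ?_⟩
    obtain ⟨x, hx, hy⟩ : (y : B) ∈ P.map f := hP.symm ▸ y.2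
    have hy' : y = ⟨f x, hy ▸ y.2⟩ := Subtype.ext hy.symm
    show ψ' ⟨φ' y, _⟩ = (y : B)
    have h1 : φ' y = f (φ ⟨x, hx⟩) := by rw [hy']; exact h ⟨x, hx⟩ _
    have hm : f (φ ⟨x, hx⟩) ∈ φ.range.map f := ⟨_, ⟨_, rfl⟩, rfl⟩
    exact (congrArg ψ' (Subtype.ext h1 : _ = (⟨f (φ ⟨x, hx⟩), hm⟩ : φ.range.map f))).trans
      ((hψ'.2 ⟨φ ⟨x, hx⟩, ⟨_, rfl⟩⟩ hm).trans ((congrArg f (hinv ⟨x, hx⟩)).trans hy))

theorem isPush_pushSys (E : Cfsg.FusionSystem T) (hf : Function.Injective f) :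
    IsPush f E (pushSys E f hf) := by
  refine ⟨rfl, hf, fun {P φ P' φ'} h => ⟨fun hφ => ⟨P, φ, hφ, h⟩, ?_⟩⟩
  rintro ⟨Q, ψ, hψ, h'⟩
  obtain rfl : Q = P := Subgroup.map_injective hf (h'.1.trans h.1.symm)
  rwa [rel_left_unique hf h h']

/-- The system `E'` pulled back along `f`. -/
def pullSys (E' : Cfsg.FusionSystem T') (f : A →* B) (hf : Function.Injective f) (hT : T.map f = T') :
    Cfsg.FusionSystem T where
  Hom P := {φ | ∃ (P' : Subgroup B) (φ' : P' →* B), φ' ∈ E'.Hom P' ∧ Rel f φ φ'}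
  le_of_mem := by
    rintro P φ ⟨P', φ', hφ, hP, h⟩
    refine ⟨(map_le_map hf).1 (hP.trans_le ((dom_le hφ).trans hT.ge)), fun x => ?_⟩
    have h1 := map_mem hφ ⟨f x, hP ▸ ⟨x, x.2, rfl⟩⟩
    rw [h x] at h1
    obtain ⟨y, hy, hyx⟩ : f (φ x) ∈ T.map f := hT.symm ▸ h1
    exact hf hyx ▸ hy
  injective_of_mem := by
    rintro P φ ⟨P', φ', hφ, hP, h⟩ a b hab
    have h1 := E'.injective_of_mem hφ (show φ' ⟨f a, hP ▸ ⟨a, a.2, rfl⟩⟩ = φ' ⟨f b, hP ▸ ⟨b, b.2, rfl⟩⟩ by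
      rw [h a, h b, hab])
    exact Subtype.ext (hf (congrArg Subtype.val h1))
  conj_mem := by
    intro P g hP hg
    refine ⟨P.map f, conjHom _ (f g), E'.conj_mem (hT ▸ Subgroup.map_mono hP) (hT ▸ ⟨g, hg, rfl⟩),
      rfl, fun x h => ?_⟩
    simp [conjHom_apply]
  comp_mem := by
    rintro P Q φ ψ ⟨P', φ', hφ, hP, h⟩ ⟨Q', ψ', hψ, hQ, h'⟩ hc
    have hφQ : ∀ y, φ' y ∈ Q' := by
      intro y
      obtain ⟨x, hx, hy⟩ : (y : B) ∈ P.map f := hP.symm ▸ y.2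
      rw [show y = ⟨f x, hy ▸ y.2⟩ from Subtype.ext hy.symm, h ⟨x, hx⟩, ← hQ]
      exact ⟨_, hc _, rfl⟩
    refine ⟨P', _, E'.comp_mem hφ hψ hφQ, hP, fun x hx => ?_⟩
    show ψ' ⟨φ' ⟨f x, hx⟩, hφQ _⟩ = f (ψ ⟨φ x, hc x⟩)
    rw [← h' ⟨φ x, hc x⟩ (hQ ▸ ⟨_, hc x, rfl⟩)]
    exact congrArg ψ' (Subtype.ext (h x hx))
  inv_mem := by
    rintro P φ ⟨P', φ', hφ, hP, h⟩
    obtain ⟨ψ', hψ', hinv⟩ := E'.inv_mem hφ
    have hr := rel_range (f := f) ⟨hP, h⟩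
    obtain ⟨ψ, hψ⟩ := exists_rel_left hf ψ' (hr ▸ Subgroup.map_le_range f _) (by
      rintro ⟨_, z, rfl⟩
      rw [hinv z]
      exact Subgroup.map_le_range f P (hP.symm ▸ z.2))
    have hle : φ.range ≤ φ'.range.comap f := Subgroup.map_le_iff_le_comap.1 hr.le
    refine ⟨ψ.comp (Subgroup.inclusion hle), ⟨φ'.range, ψ', hψ', hr,
      fun y hy => hψ.2 (Subgroup.inclusion hle y) hy⟩, fun x => hf ?_⟩
    have hx : f x ∈ P' := hP ▸ ⟨x, x.2, rfl⟩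
    show f (ψ ⟨φ x, _⟩) = f x
    have hm : f (φ x) ∈ φ'.range := hle ⟨x, rfl⟩
    exact (hψ.2 ⟨φ x, hle ⟨x, rfl⟩⟩ hm).symm.trans
      ((congrArg ψ' (Subtype.ext (h x hx).symm)).trans (hinv ⟨f x, hx⟩))

theorem isPush_pullSys (E' : Cfsg.FusionSystem T') (hf : Function.Injective f) (hT : T.map f = T') :
    IsPush f (pullSys E' f hf hT) E' := by
  refine ⟨hT, hf, fun {P φ P' φ'} h => ⟨?_, fun hφ => ⟨P', φ', hφ, h⟩⟩⟩
  rintro ⟨Q', ψ', hψ, h'⟩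
  obtain rfl : Q' = P' := h'.1.symm.trans h.1
  rwa [rel_right_unique h h']

variable {F : Cfsg.FusionSystem S} {F' : Cfsg.FusionSystem S'}
variable {E : Cfsg.FusionSystem T} {E' : Cfsg.FusionSystem T'}

theorem IsPush.exists_right (h : IsPush f F F') {P : Subgroup A} {φ : P →* A} (hφ : φ ∈ F.Hom P) :
    ∃ φ' ∈ F'.Hom (P.map f), Rel f φ φ' := by
  obtain ⟨φ', hφ'⟩ := exists_rel_right h.inj φ
  exact ⟨φ', (h.iff hφ').1 hφ, hφ'⟩

theorem IsPush.exists_left (h : IsPush f F F') {P' : Subgroup B} {φ' : P' →* B}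
    (hφ' : φ' ∈ F'.Hom P') : ∃ φ ∈ F.Hom (P'.comap f), Rel f φ φ' := by
  have hr : S' ≤ f.range := h.map_eq ▸ Subgroup.map_le_range f S
  obtain ⟨φ, hφ⟩ := exists_rel_left h.inj φ' ((dom_le hφ').trans hr) fun y => hr (map_mem hφ' y)
  exact ⟨φ, (h.iff hφ).2 hφ', hφ⟩

theorem IsPush.isPGroup (h : IsPush f F F') {p : ℕ} : IsPGroup p S ↔ IsPGroup p S' :=
  ⟨fun hS => hS.of_equiv ((S.equivMapOfInjective f h.inj).trans (MulEquiv.subgroupCongr h.map_eq)),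
    fun hS => hS.of_equiv
      ((S.equivMapOfInjective f h.inj).trans (MulEquiv.subgroupCongr h.map_eq)).symm⟩

theorem IsPush.finite (h : IsPush f F F') [Finite S] : Finite S' :=
  Finite.of_equiv _ ((S.equivMapOfInjective f h.inj).trans (MulEquiv.subgroupCongr h.map_eq)).toEquiv

theorem IsPush.finite_left (h : IsPush f F F') [Finite S'] : Finite S :=
  Finite.of_equiv _
    ((S.equivMapOfInjective f h.inj).trans (MulEquiv.subgroupCongr h.map_eq)).symm.toEquiv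

theorem IsPush.isSaturated_right (h : IsPush f F F') [Finite S] {p : ℕ} [Fact p.Prime]
    (hS : IsPGroup p S) (hF : F.IsSaturated p) : F'.IsSaturated p := by
  have hrange : (f.comp S.subtype).range = S' := by
    rw [MonoidHom.range_comp, Subgroup.range_subtype, h.map_eq]
  refine CfsgLib.FusionQuot.isSaturated_of_isSurjectiveMorphism (α := f.comp S.subtype) hS hF
    ⟨⟨fun s => h.map_eq ▸ ⟨s, s.2, rfl⟩, fun P φ hφ => ?_⟩, hrange, fun P' hP' φ' hφ' => ?_⟩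
  · have hP := dom_le hφ
    obtain ⟨φ', hφ', hr⟩ := h.exists_right hφ
    have himg : imageAlong (f.comp S.subtype) P = P.map f := by
      rw [imageAlong, ← Subgroup.map_map, Subgroup.map_subgroupOf_eq_of_le hP]
    refine ⟨φ'.comp (Subgroup.inclusion himg.le),
      (h.iff (P' := imageAlong (f.comp S.subtype) P) ⟨himg.symm, fun x hx => hr.2 x _⟩).1 hφ,
      hP, fun x => map_mem hφ x, fun x => himg.ge ⟨x, x.2, rfl⟩, fun x => hr.2 x _⟩
  · obtain ⟨φ, hφ, hr⟩ := h.exists_left hφ'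
    have hpre : preimageAlong (f.comp S.subtype) P' = P'.comap f := by
      ext x
      rw [CfsgLib.FusionQuot.mem_preimageAlong]
      refine ⟨fun ⟨_, hx⟩ => hx, fun hx => ⟨?_, hx⟩⟩
      exact dom_le hφ hx
    refine ⟨_, restrict_mem hφ hpre.le, CfsgLib.FusionQuot.preimageAlong_le P',
      fun x => map_mem hφ _, fun x => hpre.le x.2, fun x => hr.2 (Subgroup.inclusion hpre.le x) _⟩

theorem IsPush.isSaturated_left (h : IsPush f F F') [Finite S'] {p : ℕ} [Fact p.Prime]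
    (hS : IsPGroup p S') (hF : F'.IsSaturated p) : F.IsSaturated p := by
  have hle : S' ≤ f.range := h.map_eq ▸ Subgroup.map_le_range f S
  let g : S' →* A := (MonoidHom.ofInjective h.inj).symm.toMonoidHom.comp (Subgroup.inclusion hle)
  have hg : ∀ y : S', f (g y) = y := fun y =>
    congrArg Subtype.val ((MonoidHom.ofInjective h.inj).apply_symm_apply ⟨y, hle y.2⟩)
  have hgS : ∀ y : S', g y ∈ S := fun y => by
    obtain ⟨x, hx, hxy⟩ : (y : B) ∈ S.map f := h.map_eq.symm ▸ y.2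
    exact h.inj (hxy.trans (hg y).symm) ▸ hx
  have hrange : g.range = S := le_antisymm (by rintro _ ⟨y, rfl⟩; exact hgS y) fun x hx =>
    ⟨⟨f x, h.map_eq ▸ ⟨x, hx, rfl⟩⟩, h.inj (hg _)⟩
  refine CfsgLib.FusionQuot.isSaturated_of_isSurjectiveMorphism (α := g) hS hF
    ⟨⟨hgS, fun P' φ' hφ' => ?_⟩, hrange, fun P hP φ hφ => ?_⟩
  · obtain ⟨φ, hφ, hr⟩ := h.exists_left hφ'
    have himg : imageAlong g P' = P'.comap f := by
      ext x
      rw [CfsgLib.FusionQuot.mem_imageAlong]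
      constructor
      · rintro ⟨y, hy, hyP, rfl⟩
        show f (g ⟨y, hy⟩) ∈ P'
        rwa [hg]
      · intro hx
        exact ⟨f x, dom_le hφ' hx, hx, h.inj (hg _)⟩
    refine ⟨_, restrict_mem hφ himg.le, dom_le hφ', map_mem hφ',
      fun y => CfsgLib.FusionQuot.apply_mem_imageAlong _ y.2, fun y => h.inj ?_⟩
    rw [hg]
    show f (φ ⟨g ⟨y, _⟩, _⟩) = φ' y
    rw [← hr.2 ⟨g ⟨y, dom_le hφ' y.2⟩, _⟩ ((hg ⟨y, dom_le hφ' y.2⟩).symm ▸ y.2)]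
    exact congrArg φ' (Subtype.ext (hg ⟨y, _⟩))
  · obtain ⟨φ', hφ', hr⟩ := h.exists_right hφ
    have hpre : preimageAlong g P = P.map f := by
      ext y
      rw [CfsgLib.FusionQuot.mem_preimageAlong]
      constructor
      · rintro ⟨hy, hyP⟩
        exact ⟨g ⟨y, hy⟩, hyP, hg _⟩
      · rintro ⟨x, hx, rfl⟩
        refine ⟨h.map_eq ▸ ⟨x, hP hx, rfl⟩, ?_⟩
        rwa [h.inj (hg ⟨f x, h.map_eq ▸ ⟨x, hP hx, rfl⟩⟩)]
    refine ⟨_, restrict_mem hφ' hpre.le, CfsgLib.FusionQuot.preimageAlong_le P,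
      fun x => map_mem hφ' _, ?_, ?_⟩
    · intro y
      obtain ⟨x, hx, hxy⟩ := hpre.le y.2
      exact (h.inj (hxy.trans (hg ⟨y, CfsgLib.FusionQuot.preimageAlong_le P y.2⟩).symm)) ▸ hx
    · rintro ⟨y, hy⟩
      obtain ⟨x, hx, rfl⟩ := hpre.le hy
      refine h.inj ?_
      rw [hg]
      show f (φ ⟨g ⟨f x, _⟩, _⟩) = φ' ⟨f x, _⟩
      have e : ∀ hh, (⟨g ⟨f x, CfsgLib.FusionQuot.preimageAlong_le P hy⟩, hh⟩ : P) = ⟨x, hx⟩ :=
        fun _ => Subtype.ext (h.inj (hg _))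
      rw [e, ← hr.2 ⟨x, hx⟩ ⟨x, hx, rfl⟩]

theorem IsPush.autGroup_iff (h : IsPush f F F') {P : Subgroup A} (hP : P ≤ S) {α : MulAut P} :
    α ∈ F.autGroup P ↔ MulAut.congr (P.equivMapOfInjective f h.inj) α ∈ F'.autGroup (P.map f) := by
  rw [mem_autGroup_iff_hom hP, mem_autGroup_iff_hom (h.map_eq ▸ Subgroup.map_mono hP)]
  refine h.iff ⟨rfl, fun x hx => ?_⟩
  show ((P.equivMapOfInjective f h.inj (α ((P.equivMapOfInjective f h.inj).symm ⟨f x, hx⟩)) :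
    P.map f) : B) = f (α x : P)
  rw [show (P.equivMapOfInjective f h.inj).symm ⟨f x, hx⟩ = x by rw [MulEquiv.symm_apply_eq]; rfl]
  rfl

theorem map_centralizerIn (hf : Function.Injective f) (S T : Subgroup A) :
    (centralizerIn S T).map f = centralizerIn (S.map f) (T.map f) := by
  ext y
  constructor
  · rintro ⟨x, hx, rfl⟩
    refine ⟨⟨x, hx.1, rfl⟩, ?_⟩
    rintro _ ⟨t, ht, rfl⟩
    rw [← map_mul, ← map_mul, Subgroup.mem_centralizer_iff.1 hx.2 t ht]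
  · rintro ⟨⟨x, hx, rfl⟩, hy⟩
    refine ⟨x, ⟨hx, fun t ht => hf ?_⟩, rfl⟩
    rw [map_mul, map_mul]
    exact hy _ ⟨t, ht, rfl⟩

theorem mem_map_inj (hf : Function.Injective f) {P : Subgroup A} {x : A} : f x ∈ P.map f ↔ x ∈ P :=
  ⟨fun ⟨_, hy, he⟩ => hf he ▸ hy, fun hx => ⟨x, hx, rfl⟩⟩

theorem IsPush.isSubsystemOf_iff (h : IsPush f F F') (hE : IsPush f E E') :
    E.IsSubsystemOf F ↔ E'.IsSubsystemOf F' := by
  constructor
  · intro hs P' φ' hφ'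
    obtain ⟨φ, hφ, hr⟩ := hE.exists_left hφ'
    exact (h.iff hr).1 (hs _ hφ)
  · intro hs P φ hφ
    obtain ⟨φ', hφ', hr⟩ := hE.exists_right hφ
    exact (h.iff hr).2 (hs _ hφ')

theorem IsPush.stronglyClosed_iff (h : IsPush f F F') {R : Subgroup A} :
    F.StronglyClosed R ↔ F'.StronglyClosed (R.map f) := by
  constructor
  · refine fun hR => ⟨h.map_eq ▸ Subgroup.map_mono hR.1, fun P' hP' φ' hφ' y => ?_⟩
    obtain ⟨φ, hφ, hr⟩ := h.exists_left hφ'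
    obtain ⟨x, hx, hy⟩ : (y : B) ∈ (P'.comap f).map f := hr.1.symm ▸ y.2
    rw [show y = ⟨f x, hy ▸ y.2⟩ from Subtype.ext hy.symm, hr.2 ⟨x, hx⟩]
    refine ⟨_, hR.2 _ ?_ φ hφ _, rfl⟩
    exact fun z hz => (mem_map_inj h.inj).1 (hP' hz)
  · refine fun hR => ⟨(map_le_map h.inj).1 (hR.1.trans h.map_eq.ge), fun P hP φ hφ x => ?_⟩
    obtain ⟨φ', hφ', hr⟩ := h.exists_right hφ
    have := hR.2 _ (Subgroup.map_mono hP) φ' hφ' ⟨f x, x, x.2, rfl⟩
    exact (mem_map_inj h.inj).1 (hr.2 x ⟨x, x.2, rfl⟩ ▸ this)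

theorem IsPush.isInvariantIn_iff (h : IsPush f F F') (hE : IsPush f E E') :
    E.IsInvariantIn F ↔ E'.IsInvariantIn F' := by
  obtain rfl := hE.map_eq
  have hf := h.inj
  set e := T.equivMapOfInjective f hf
  have he : ∀ (x : T) (hx : f (x : A) ∈ T.map f), (⟨f x, hx⟩ : T.map f) = e x :=
    fun _ _ => Subtype.ext rfl
  have hcongr : ∀ (α : MulAut T) (x : T) (hx : f (x : A) ∈ T.map f),
      ((MulAut.congr e α ⟨f x, hx⟩ : T.map f) : B) = f (α x : T) := fun α x hx => by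
    rw [he, cg_apply, MulEquiv.symm_apply_apply]; rfl
  have hcongr' : ∀ (α : MulAut T) (x : T) (y : T.map f), (y : B) = f (x : A) →
      ((MulAut.congr e α y : T.map f) : B) = f (α x : T) := by
    rintro α x ⟨y, hy⟩ (rfl : y = f x)
    exact hcongr α x hy
  have himg : ∀ (P : Subgroup A) (_ : P ≤ T) (α : MulAut T),
      ((P.subgroupOf T).map (T.subtype.comp α.toMonoidHom)).map f =
        ((P.map f).subgroupOf (T.map f)).map
          ((T.map f).subtype.comp (MulAut.congr e α).toMonoidHom) := by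
    intro P hP α
    ext y
    constructor
    · rintro ⟨_, ⟨x, hx, rfl⟩, rfl⟩
      exact ⟨⟨f x, x, x.2, rfl⟩, ⟨x, hx, rfl⟩, hcongr α x _⟩
    · rintro ⟨⟨_, x, hx, rfl⟩, ⟨z, hz, hzx⟩, rfl⟩
      exact ⟨_, ⟨⟨x, hx⟩, hf hzx ▸ hz, rfl⟩, (hcongr α ⟨x, hx⟩ _).symm⟩
  constructor
  · rintro ⟨hsub, hc, h3, h4⟩
    refine ⟨(h.isSubsystemOf_iff hE).1 hsub, h.stronglyClosed_iff.1 hc, ?_, ?_⟩
    · intro P' hP' φ' hφ' α' hα'
      obtain ⟨α, rfl⟩ := (MulAut.congr e).surjective α'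
      obtain ⟨φ, hφ, hr⟩ := hE.exists_left hφ'
      have hPT : P'.comap f ≤ T := dom_le hφ
      obtain ⟨χ, hχ, hχx⟩ := h3 _ hPT φ hφ α ((h.autGroup_iff hc.1).2 hα')
      obtain ⟨χ', hχ', hr'⟩ := hE.exists_right hχ
      have heq := himg _ hPT α
      rw [hr.1] at heq
      refine ⟨χ'.comp (Subgroup.inclusion heq.ge),
        (hE.iff (φ := χ) ⟨heq, fun x hx => hr'.2 x _⟩).1 hχ, fun y hφy hαy => ?_⟩
      obtain ⟨y, hyP⟩ := y
      obtain ⟨x, hx, rfl⟩ : y ∈ (P'.comap f).map f := hr.1.symm ▸ hyP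
      have hφx : φ ⟨x, hx⟩ ∈ T := map_mem hφ _
      refine Eq.trans ?_ (hcongr' α ⟨φ ⟨x, hx⟩, hφx⟩ _ (hr.2 ⟨x, hx⟩ _)).symm
      have hm : ((α ⟨x, hPT hx⟩ : T) : A) ∈
          ((P'.comap f).subgroupOf T).map (T.subtype.comp α.toMonoidHom) :=
        ⟨⟨x, hPT hx⟩, hx, rfl⟩
      exact ((congrArg χ' (Subtype.ext (hcongr' α ⟨x, hPT hx⟩ ⟨f x, ⟨x, hPT hx, rfl⟩⟩ rfl))).trans
        (hr'.2 ⟨_, hm⟩ ⟨_, hm, rfl⟩)).trans (congrArg f (hχx ⟨x, hx⟩ hφx hm))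
    · intro P' hP' φ' hφ'
      obtain ⟨φ, hφ, hr⟩ := h.exists_left hφ'
      have hPT : P'.comap f ≤ T := fun z hz => (mem_map_inj hf).1 (hP' hz)
      obtain ⟨α, hα, φ₀, hφ₀, hx₀⟩ := h4 _ hPT φ hφ
      obtain ⟨φ₀', hφ₀', hr'⟩ := hE.exists_right hφ₀
      refine ⟨MulAut.congr e α, (h.autGroup_iff hc.1).1 hα, φ₀'.comp (Subgroup.inclusion hr.1.ge),
        (hE.iff (φ := φ₀) ⟨hr.1, fun x hx => hr'.2 x _⟩).1 hφ₀, fun y hy0 => ?_⟩
      obtain ⟨y, hyP⟩ := y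
      obtain ⟨x, hx, rfl⟩ : y ∈ (P'.comap f).map f := hr.1.symm ▸ hyP
      have hφx : φ₀ ⟨x, hx⟩ ∈ T := map_mem hφ₀ _
      exact (hr.2 ⟨x, hx⟩ _).trans ((congrArg f (hx₀ ⟨x, hx⟩ hφx)).trans
        (hcongr' α ⟨_, hφx⟩ _ (hr'.2 ⟨x, hx⟩ ⟨x, hx, rfl⟩)).symm)
  · rintro ⟨hsub, hc, h3, h4⟩
    refine ⟨(h.isSubsystemOf_iff hE).2 hsub, h.stronglyClosed_iff.2 hc, ?_, ?_⟩
    · intro P hP φ hφ α hα
      have hcS := (h.stronglyClosed_iff.2 hc).1
      obtain ⟨φ', hφ', hr⟩ := hE.exists_right hφ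
      obtain ⟨χ', hχ', hχx⟩ := h3 _ (Subgroup.map_mono hP) φ' hφ' _ ((h.autGroup_iff hcS).1 hα)
      obtain ⟨χ, hχ, hr'⟩ := hE.exists_left hχ'
      have heq := himg P hP α
      have hle : (P.subgroupOf T).map (T.subtype.comp α.toMonoidHom) ≤ _ :=
        Subgroup.map_le_iff_le_comap.1 heq.le
      refine ⟨χ.comp (Subgroup.inclusion hle),
        (hE.iff (φ := χ.comp (Subgroup.inclusion hle)) (φ' := χ')
          ⟨heq, fun x hx => hr'.2 (Subgroup.inclusion hle x) hx⟩).2 hχ',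
        fun x hφx hαx => hf ?_⟩
      have hy : f (x : A) ∈ P.map f := ⟨x, x.2, rfl⟩
      have hφy : φ' ⟨f x, hy⟩ ∈ T.map f := by rw [hr.2 x]; exact ⟨_, hφx, rfl⟩
      have hm : ((MulAut.congr e α ⟨f x, x, hP x.2, rfl⟩ : T.map f) : B) ∈
          ((P.map f).subgroupOf (T.map f)).map
            ((T.map f).subtype.comp (MulAut.congr e α).toMonoidHom) :=
        ⟨⟨f x, x, hP x.2, rfl⟩, hy, rfl⟩
      have hz := hcongr' α ⟨x, hP x.2⟩ ⟨f x, x, hP x.2, rfl⟩ rfl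
      exact ((hr'.2 ⟨_, hle hαx⟩ (hle hαx)).symm.trans (congrArg χ' (Subtype.ext hz.symm))).trans
        ((hχx ⟨f x, hy⟩ hφy hm).trans (hcongr' α ⟨φ x, hφx⟩ _ (hr.2 x hy)))
    · intro P hP φ hφ
      have hcS := (h.stronglyClosed_iff.2 hc).1
      obtain ⟨φ', hφ', hr⟩ := h.exists_right hφ
      obtain ⟨α', hα', φ₀', hφ₀', hx₀⟩ := h4 _ (Subgroup.map_mono hP) φ' hφ'
      obtain ⟨α, rfl⟩ := (MulAut.congr e).surjective α'
      obtain ⟨φ₀, hφ₀, hr'⟩ := hE.exists_left hφ₀'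
      have hle : P ≤ (P.map f).comap f := Subgroup.le_comap_map f P
      refine ⟨α, (h.autGroup_iff hcS).2 hα', φ₀.comp (Subgroup.inclusion hle),
        (hE.iff (φ := φ₀.comp (Subgroup.inclusion hle)) (φ' := φ₀')
          ⟨rfl, fun x hx => hr'.2 (Subgroup.inclusion hle x) hx⟩).2 hφ₀',
        fun x hx0 => hf ?_⟩
      have hy : f (x : A) ∈ P.map f := ⟨x, x.2, rfl⟩
      have h6 := hr'.2 (Subgroup.inclusion hle x) hy
      have hy0 : φ₀' ⟨f x, hy⟩ ∈ T.map f := map_mem hφ₀' _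
      exact (hr.2 x hy).symm.trans ((hx₀ ⟨f x, hy⟩ hy0).trans (hcongr' α ⟨_, hx0⟩ _ h6))

theorem IsPush.isNormalIn_iff (h : IsPush f F F') (hE : IsPush f E E') [Finite S] [Finite T]
    {p : ℕ} [Fact p.Prime] (hS : IsPGroup p S) (hT : IsPGroup p T) :
    E.IsNormalIn F p ↔ E'.IsNormalIn F' p := by
  have := h.finite
  have := hE.finite
  have hf := h.inj
  obtain rfl := hE.map_eq
  obtain rfl := h.map_eq
  set C := centralizerIn S T with hC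
  set C' := centralizerIn (S.map f) (T.map f) with hC'
  have hCC : C.map f = C' := map_centralizerIn hf S T
  set eT := T.equivMapOfInjective f hf
  have hsup : (T ⊔ C).map f = T.map f ⊔ C' := by rw [Subgroup.map_sup, hCC]
  set eX := ((T ⊔ C).equivMapOfInjective f hf).trans (MulEquiv.subgroupCongr hsup)
  have heX : ∀ z : ↥(T ⊔ C), (eX z : B) = f z := fun z => rfl
  have heT : ∀ z : T, (eT z : B) = f z := fun z => rfl
  have hcentT : ∀ z, z ∈ T ⊓ Subgroup.centralizer (T : Set A) ↔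
      f z ∈ T.map f ⊓ Subgroup.centralizer ((T.map f : Subgroup B) : Set B) := by
    intro z
    constructor
    · rintro ⟨h1, h2⟩
      refine ⟨⟨z, h1, rfl⟩, ?_⟩
      rintro _ ⟨t, ht, rfl⟩
      rw [← map_mul, ← map_mul, Subgroup.mem_centralizer_iff.1 h2 t ht]
    · rintro ⟨h1, h2⟩
      refine ⟨(mem_map_inj hf).1 h1, fun t ht => hf ?_⟩
      rw [map_mul, map_mul]
      exact h2 _ ⟨t, ht, rfl⟩
  -- automorphisms of `T C_S(T)` correspond
  have hbeta : ∀ β : MulAut ↥(T ⊔ C), (T ⊔ C ≤ S) →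
      (β ∈ F.autGroup (T ⊔ C) ↔ MulAut.congr eX β ∈ F'.autGroup (T.map f ⊔ C')) := by
    intro β hTC
    rw [mem_autGroup_iff_hom hTC,
      mem_autGroup_iff_hom (hsup ▸ Subgroup.map_mono hTC : T.map f ⊔ C' ≤ S.map f)]
    refine h.iff ⟨hsup, fun x hx => ?_⟩
    show (MulAut.congr eX β ⟨f x, hx⟩ : B) = f (β x : ↥(T ⊔ C))
    rw [show (⟨f x, hx⟩ : ↥(T.map f ⊔ C')) = eX x from Subtype.ext rfl, cg_apply,
      MulEquiv.symm_apply_apply]
    rfl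
  constructor
  · rintro ⟨⟨hEs, hFs, hinv⟩, hext⟩
    refine ⟨⟨hE.isSaturated_right hT hEs, h.isSaturated_right hS hFs,
      (h.isInvariantIn_iff hE).1 hinv⟩, fun α' hα' => ?_⟩
    obtain ⟨α, rfl⟩ := (MulAut.congr eT).surjective α'
    obtain ⟨β, hβ, hβT, hβC⟩ := hext α ((hE.autGroup_iff le_rfl).2 hα')
    have hTC : T ⊔ C ≤ S := sup_le hinv.2.1.1 inf_le_left
    refine ⟨MulAut.congr eX β, (hbeta β hTC).1 hβ, fun x' => ?_, fun c' hc' => ?_⟩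
    · obtain ⟨x, rfl⟩ := eT.surjective x'
      rw [show Subgroup.inclusion (le_sup_left : T.map f ≤ T.map f ⊔ C') (eT x) =
          eX (Subgroup.inclusion le_sup_left x) from Subtype.ext rfl,
        cg_apply, MulEquiv.symm_apply_apply, cg_apply, MulEquiv.symm_apply_apply, heX, heT,
        hβT x]
    · obtain ⟨c, rfl⟩ := eX.surjective c'
      rw [cg_apply, MulEquiv.symm_apply_apply, heX, heX, ← map_inv, ← map_mul]
      exact (hcentT _).1 (hβC c ((mem_map_inj hf).1 (hCC.symm ▸ hc' : f (c : A) ∈ C.map f)))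
  · rintro ⟨⟨hEs, hFs, hinv⟩, hext⟩
    refine ⟨⟨hE.isSaturated_left (hE.isPGroup.1 hT) hEs,
      h.isSaturated_left (h.isPGroup.1 hS) hFs, (h.isInvariantIn_iff hE).2 hinv⟩, fun α hα => ?_⟩
    obtain ⟨β', hβ', hβT, hβC⟩ := hext _ ((hE.autGroup_iff le_rfl).1 hα)
    obtain ⟨β, rfl⟩ := (MulAut.congr eX).surjective β'
    have hTC : T ⊔ C ≤ S := sup_le ((h.stronglyClosed_iff.2 hinv.2.1).1) inf_le_left
    refine ⟨β, (hbeta β hTC).2 hβ', fun x => hf ?_, fun c hc => (hcentT _).2 ?_⟩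
    · have h1 := hβT (eT x)
      rw [show Subgroup.inclusion (le_sup_left : T.map f ≤ T.map f ⊔ C') (eT x) =
          eX (Subgroup.inclusion le_sup_left x) from Subtype.ext rfl,
        cg_apply, MulEquiv.symm_apply_apply, cg_apply, MulEquiv.symm_apply_apply, heX,
        heT] at h1
      exact h1
    · have h1 := hβC (eX c) (show f (c : A) ∈ C' from hCC ▸ ⟨_, hc, rfl⟩)
      rw [cg_apply, MulEquiv.symm_apply_apply, heX, heX, ← map_inv, ← map_mul] at h1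
      exact h1

end CfsgLib.Fusion.Transport
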