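import Cfsg.Agent.Lib.FusionQuot.GroupCriterion
import Cfsg.Agent.Lib.Solvable.CoprimeAction

/-!
Simplicity of the `2`-fusion system of a group whose Sylow `2`-subgroup has a unique central involution.
-/

set_option autoImplicit false

namespace CfsgLib.Fusion.TwoSimple

open Cfsg Cfsg.FusionSystem CfsgLib.Fusion

variable {G : Type*} [Group G] [Finite G]

theorem isSimple_of_central_involution [Fact (Nat.Prime 2)] (S : Sylow 2 G) (z : G) (hz : z ∈ S)
    (hz1 : z ≠ 1) (hz2 : z * z = 1) (hzc : ∀ y ∈ S, z * y = y * z)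
    (huniq : ∀ x ∈ S, x * x = 1 → x ≠ 1 → (∀ y ∈ S, x * y = y * x) → x = z)
    (hclosed : ∀ T : Subgroup G, T ≤ (S : Subgroup G) → z ∈ T →
      (∀ x ∈ T, ∀ g : G, g * x * g⁻¹ ∈ S → g * x * g⁻¹ ∈ T) → (S : Subgroup G) ≤ T)
    (haut : ∀ g : G, g * z = z * g → (∀ x ∈ S, g * x * g⁻¹ ∈ S) →
      ∃ s ∈ S, ∀ x ∈ S, g * x * g⁻¹ = s * x * s⁻¹) :
    (Cfsg.groupFusionSystem (S : Subgroup G)).IsSimple 2 := by
  refine CfsgLib.FusionQuot.isSimple_of_autInducedBy_top_le S ?_ (fun T hT => ?_) ?_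
  · intro h
    exact hz1 (by simpa [h] using (show z ∈ (S : Subgroup G) from hz))
  · refine or_iff_not_imp_left.2 fun hne => ?_
    have hTS : T ≤ (S : Subgroup G) := hT.1
    have hcl : ∀ x ∈ T, ∀ g : G, g * x * g⁻¹ ∈ S → g * x * g⁻¹ ∈ T := fun x hx g hgx =>
      CfsgLib.FusionQuot.conj_mem_of_stronglyClosed hT hx hgx
    refine le_antisymm hTS (hclosed T hTS ?_ hcl)
    set N := T.subgroupOf (S : Subgroup G) with hN
    have hn : N.Normal := ⟨fun x hx s => hcl _ hx (s : G) (s * x * s⁻¹).2⟩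
    have hNne : N ≠ ⊥ := by
      rw [hN, Ne, Subgroup.subgroupOf_eq_bot, disjoint_iff, inf_eq_left.2 hTS]
      exact hne
    obtain ⟨c, hc, hc1⟩ := CfsgLib.Solvable.exists_ne_one_mem_inf_center_of_normal S.2 hNne
    obtain ⟨k, hk⟩ := IsPGroup.iff_orderOf.1 S.2 c
    have hk0 : k ≠ 0 := fun h => hc1 (orderOf_eq_one_iff.1 (by rw [hk, h, pow_zero]))
    set w := c ^ 2 ^ (k - 1) with hw
    have hww : w * w = 1 := by
      rw [hw, ← pow_two, ← pow_mul, ← pow_succ, show k - 1 + 1 = k by omega, ← hk, pow_orderOf_eq_one]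
    have hw1 : w ≠ 1 := fun h => by
      have h' := orderOf_dvd_of_pow_eq_one h
      rw [hk, Nat.pow_dvd_pow_iff_le_right (by norm_num)] at h'
      omega
    have hwc : w ∈ N ⊓ Subgroup.center (S : Subgroup G) := Subgroup.pow_mem _ hc _
    have : (w : G) = z := huniq _ w.2 (congrArg Subtype.val hww) (fun h => hw1 (Subtype.ext h))
      fun y hy => (congrArg Subtype.val (Subgroup.mem_center_iff.1 hwc.2 ⟨y, hy⟩)).symm
    exact this ▸ hwc.1
  · intro α hα
    obtain ⟨g, hgN, -, rfl⟩ := exists_eq_conjAut hα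
    have hgS : ∀ x ∈ S, g * x * g⁻¹ ∈ S := fun x hx =>
      (Subgroup.mem_normalizer_iff.1 hgN x).1 hx
    have hgz : g * z * g⁻¹ = z := by
      refine huniq _ (hgS z hz) ?_ ?_ fun y hy => ?_
      · rw [show g * z * g⁻¹ * (g * z * g⁻¹) = g * (z * z) * g⁻¹ by group, hz2]
        group
      · intro h
        exact hz1 (by simpa using h)
      · have hy' : g⁻¹ * y * g ∈ S := by
          refine (Subgroup.mem_normalizer_iff.1 hgN _).2 ?_
          rwa [show g * (g⁻¹ * y * g) * g⁻¹ = y by group]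
        calc g * z * g⁻¹ * y = g * (z * (g⁻¹ * y * g)) * g⁻¹ := by group
          _ = g * (g⁻¹ * y * g * z) * g⁻¹ := by rw [hzc _ hy']
          _ = y * (g * z * g⁻¹) := by group
    obtain ⟨s, hs, hsx⟩ := haut g (by rwa [mul_inv_eq_iff_eq_mul] at hgz) hgS
    exact mem_autInducedBy_iff.2 ⟨s, hs, fun x => by rw [conjAut_apply, hsx _ x.2]⟩

/-- Products of conjugation maps on `S`. -/
theorem conjHom_mul_mem {S : Subgroup G} {E : Cfsg.FusionSystem S} {a b : G}
    (ha : conjHom S a ∈ E.Hom S) (hb : conjHom S b ∈ E.Hom S)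
    (hbS : ∀ x ∈ S, b * x * b⁻¹ ∈ S) : conjHom S (a * b) ∈ E.Hom S :=
  mem_of_comp hb ha (fun x => hbS x x.2) _ fun x => by
    rw [conjHom_apply, conjHom_apply]
    show a * b * (x : G) * (a * b)⁻¹ = a * (b * x * b⁻¹) * a⁻¹
    group

theorem isSimple_of_central_involution' [Fact (Nat.Prime 2)] (S : Sylow 2 G) (z : G) (hz : z ∈ S)
    (hz1 : z ≠ 1) (hz2 : z * z = 1) (hzc : ∀ y ∈ S, z * y = y * z)
    (huniq : ∀ x ∈ S, x * x = 1 → x ≠ 1 → (∀ y ∈ S, x * y = y * x) → x = z)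
    (hclosed : ∀ T : Subgroup G, T ≤ (S : Subgroup G) → z ∈ T →
      (∀ x ∈ T, ∀ g : G, g * x * g⁻¹ ∈ S → g * x * g⁻¹ ∈ T) → (S : Subgroup G) ≤ T)
    (haut : ∀ E : Cfsg.FusionSystem (S : Subgroup G), E.IsSaturated 2 →
      E.IsInvariantIn (groupFusionSystem (S : Subgroup G)) →
      ∀ g : G, g * z = z * g → (∀ x ∈ S, g * x * g⁻¹ ∈ S) →
        conjHom (S : Subgroup G) g ∈ E.Hom (S : Subgroup G)) :
    (Cfsg.groupFusionSystem (S : Subgroup G)).IsSimple 2 := by
  refine CfsgLib.FusionQuot.isSimple_of_conjHom S ?_ (fun T hT => ?_) fun E hE hinv g hgN => ?_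
  · intro h
    exact hz1 (by simpa [h] using (show z ∈ (S : Subgroup G) from hz))
  · refine or_iff_not_imp_left.2 fun hne => ?_
    have hTS : T ≤ (S : Subgroup G) := hT.1
    have hcl : ∀ x ∈ T, ∀ g : G, g * x * g⁻¹ ∈ S → g * x * g⁻¹ ∈ T := fun x hx g hgx =>
      CfsgLib.FusionQuot.conj_mem_of_stronglyClosed hT hx hgx
    refine le_antisymm hTS (hclosed T hTS ?_ hcl)
    set N := T.subgroupOf (S : Subgroup G) with hN
    have hn : N.Normal := ⟨fun x hx s => hcl _ hx (s : G) (s * x * s⁻¹).2⟩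
    have hNne : N ≠ ⊥ := by
      rw [hN, Ne, Subgroup.subgroupOf_eq_bot, disjoint_iff, inf_eq_left.2 hTS]
      exact hne
    obtain ⟨c, hc, hc1⟩ := CfsgLib.Solvable.exists_ne_one_mem_inf_center_of_normal S.2 hNne
    obtain ⟨k, hk⟩ := IsPGroup.iff_orderOf.1 S.2 c
    have hk0 : k ≠ 0 := fun h => hc1 (orderOf_eq_one_iff.1 (by rw [hk, h, pow_zero]))
    set w := c ^ 2 ^ (k - 1) with hw
    have hww : w * w = 1 := by
      rw [hw, ← pow_two, ← pow_mul, ← pow_succ, show k - 1 + 1 = k by omega, ← hk, pow_orderOf_eq_one]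
    have hw1 : w ≠ 1 := fun h => by
      have h' := orderOf_dvd_of_pow_eq_one h
      rw [hk, Nat.pow_dvd_pow_iff_le_right (by norm_num)] at h'
      omega
    have hwc : w ∈ N ⊓ Subgroup.center (S : Subgroup G) := Subgroup.pow_mem _ hc _
    have : (w : G) = z := huniq _ w.2 (congrArg Subtype.val hww) (fun h => hw1 (Subtype.ext h))
      fun y hy => (congrArg Subtype.val (Subgroup.mem_center_iff.1 hwc.2 ⟨y, hy⟩)).symm
    exact this ▸ hwc.1
  · have hgS : ∀ x ∈ S, g * x * g⁻¹ ∈ S := fun x hx => (Subgroup.mem_normalizer_iff.1 hgN x).1 hx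
    refine haut E hE hinv g (mul_inv_eq_iff_eq_mul.1 ?_) hgS
    refine huniq _ (hgS z hz) ?_ ?_ fun y hy => ?_
    · rw [show g * z * g⁻¹ * (g * z * g⁻¹) = g * (z * z) * g⁻¹ by group, hz2]
      group
    · intro h
      exact hz1 (by simpa using h)
    · have hy' : g⁻¹ * y * g ∈ S := by
        refine (Subgroup.mem_normalizer_iff.1 hgN _).2 ?_
        rwa [show g * (g⁻¹ * y * g) * g⁻¹ = y by group]
      calc g * z * g⁻¹ * y = g * (z * (g⁻¹ * y * g)) * g⁻¹ := by group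
        _ = g * (g⁻¹ * y * g * z) * g⁻¹ := by rw [hzc _ hy']
        _ = y * (g * z * g⁻¹) := by group

end CfsgLib.Fusion.TwoSimple
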