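import Cfsg.Agent.Lib.Fusion.Group
import Cfsg.Agent.Lib.Fusion.Normal
import Cfsg.Agent.Lib.FusionQuot.Joins
import Cfsg.Agent.Lib.Solvable.Core
import Cfsg.Agent.Lib.Invol.Isolated
import Cfsg.Prelude.Def_CaseTheorems
import Mathlib.GroupTheory.SchurZassenhaus

/-!
# The centre of the fusion system of a group at the prime 2

With the Z*-theorem for involutions as a hypothesis.
-/

set_option autoImplicit false

universe u

namespace CfsgLib.Fusion

open Cfsg Cfsg.FusionSystem

/-- The Z*-theorem for isolated involutions. -/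
def ZStarInvolution : Prop :=
  ∀ (G : Type u) [Group G] [Finite G] (x : G), Cfsg.IsIsolatedInvolution x →
    ∀ g : G, x * g * x⁻¹ * g⁻¹ ∈ Cfsg.pPrimeCore 2 G

variable {G : Type u} [Group G] [Finite G]

theorem pPrimeCore_quotient_central_two (hO : Cfsg.pPrimeCore 2 G = ⊥) (A : Subgroup G) [A.Normal]
    (hA : Nat.card A = 2) (hAc : A ≤ Subgroup.center G) : Cfsg.pPrimeCore 2 (G ⧸ A) = ⊥ := by
  set M := Cfsg.pPrimeCore 2 (G ⧸ A) with hM
  have hMn : M.Normal := CfsgLib.Solvable.pPrimeCore_normal 2 _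
  set N := M.comap (QuotientGroup.mk' A) with hN
  have hAN : A ≤ N := fun a ha => by
    show (QuotientGroup.mk' A) a ∈ M
    rw [QuotientGroup.mk'_apply, (QuotientGroup.eq_one_iff a).2 ha]
    exact M.one_mem
  have hodd : Odd (Nat.card M) :=
    Nat.coprime_two_right.1 (CfsgLib.Solvable.pPrimeCore_card_coprime 2 (G ⧸ A))
  have hidx : (A.subgroupOf N).index = Nat.card M := by
    show A.relIndex N = _
    have h1 : ((⊥ : Subgroup (G ⧸ A)).comap (QuotientGroup.mk' A)).relIndex N =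
        (⊥ : Subgroup (G ⧸ A)).relIndex (N.map (QuotientGroup.mk' A)) := Subgroup.relIndex_comap _ _ _
    rw [MonoidHom.comap_bot, QuotientGroup.ker_mk',
      Subgroup.map_comap_eq_self_of_surjective (QuotientGroup.mk'_surjective A),
      Subgroup.relIndex_bot_left] at h1
    exact h1
  have hcardA : Nat.card (A.subgroupOf N) = 2 :=
    (Nat.card_congr (Subgroup.subgroupOfEquivOfLe hAN).toEquiv).trans hA
  have hcop : (Nat.card (A.subgroupOf N)).Coprime (A.subgroupOf N).index := by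
    rw [hcardA, hidx]; exact Nat.coprime_two_left.2 hodd
  obtain ⟨K, hK⟩ := Subgroup.exists_right_complement'_of_coprime hcop
  have hm : Nat.card K = Nat.card M := hidx ▸ hK.symm.index_eq_card.symm
  have hmem : ∀ x : N, x ∈ K ↔ x ^ Nat.card M = 1 := by
    intro x
    refine ⟨fun hx => hm ▸ congrArg Subtype.val (pow_card_eq_one' (x := (⟨x, hx⟩ : K))), fun hx => ?_⟩
    obtain ⟨⟨⟨a, ha⟩, ⟨k, hk⟩⟩, rfl⟩ := hK.2 x
    have hca : Commute a k := (Subgroup.mem_center_iff.1 (show a ∈ Subgroup.center N from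
      Subgroup.mem_center_iff.2 fun y => Subtype.ext
        (Subgroup.mem_center_iff.1 (hAc (Subgroup.mem_subgroupOf.1 ha)) y)) k).symm
    have hkm : k ^ Nat.card M = 1 := hm ▸ congrArg Subtype.val (pow_card_eq_one' (x := (⟨k, hk⟩ : K)))
    rw [hca.mul_pow, hkm, mul_one] at hx
    have ha2 : a ^ 2 = 1 := hcardA ▸ congrArg Subtype.val
      (pow_card_eq_one' (x := (⟨a, ha⟩ : A.subgroupOf N)))
    obtain ⟨j, hj⟩ := hodd
    rw [hj, pow_add, pow_mul, ha2, one_pow, one_mul, pow_one] at hx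
    show a * k ∈ K
    rw [hx, one_mul]
    exact hk
  have hKn : (K.map N.subtype).Normal := by
    constructor
    rintro _ ⟨x, hx, rfl⟩ g
    have hgx : g * (x : G) * g⁻¹ ∈ N := (inferInstance : N.Normal).conj_mem _ x.2 g
    refine ⟨⟨_, hgx⟩, (hmem _).2 (Subtype.ext ?_), rfl⟩
    show (g * (x : G) * g⁻¹) ^ Nat.card M = 1
    rw [conj_pow, show (x : G) ^ Nat.card M = 1 from congrArg Subtype.val ((hmem x).1 hx)]
    simp
  have hle : K.map N.subtype ≤ Cfsg.pPrimeCore 2 G := CfsgLib.Solvable.le_pPrimeCore hKn (by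
    rw [Subgroup.card_map_of_injective N.subtype_injective, hm]
    exact Nat.coprime_two_right.2 hodd)
  rw [hO, le_bot_iff, Subgroup.map_eq_bot_iff_of_injective _ N.subtype_injective] at hle
  rw [hle, Subgroup.card_bot] at hm
  exact Subgroup.eq_bot_of_card_eq _ hm.symm

/-- An element whose powers are isolated in a Sylow 2-subgroup is central modulo the core. -/
theorem commutator_mem_of_isolated (hZ : ZStarInvolution.{u}) :
    ∀ (G : Type u) [Group G] [Finite G] (S : Sylow 2 G) (x : G), x ∈ S →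
      (∀ y ∈ Subgroup.zpowers x, ∀ g : G, g * y * g⁻¹ ∈ S → g * y * g⁻¹ = y) →
      ∀ g : G, g * x * g⁻¹ * x⁻¹ ∈ Cfsg.pPrimeCore 2 G := by
  have : Fact (Nat.Prime 2) := ⟨Nat.prime_two⟩
  intro G _ _
  induction hn : Nat.card G using Nat.strong_induction_on generalizing G with
  | _ n ih =>
  subst hn
  intro S x hxS hiso g
  have hOn : (Cfsg.pPrimeCore 2 G).Normal := CfsgLib.Solvable.pPrimeCore_normal 2 G
  by_cases hO : Cfsg.pPrimeCore 2 G = ⊥
  swap
  · set O := Cfsg.pPrimeCore 2 G with hOdef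
    set π := QuotientGroup.mk' O with hπ
    have hπs : Function.Surjective π := QuotientGroup.mk'_surjective O
    have hlt : Nat.card (G ⧸ O) < Nat.card G := by
      rw [Subgroup.card_eq_card_quotient_mul_card_subgroup O]
      have h2 : 1 < Nat.card O := Subgroup.one_lt_card_iff_ne_bot O |>.2 hO
      exact lt_mul_of_one_lt_right Nat.card_pos h2
    have hiso' : ∀ y ∈ Subgroup.zpowers (π x), ∀ h : G ⧸ O,
        h * y * h⁻¹ ∈ S.mapSurjective hπs → h * y * h⁻¹ = y := by
      intro y hy h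
      obtain ⟨i, rfl⟩ := Subgroup.mem_zpowers_iff.1 hy
      obtain ⟨a, rfl⟩ := hπs h
      intro hmem
      obtain ⟨s, hs, hsy⟩ : _ ∈ (S : Subgroup G).map π := hmem
      rw [← map_zpow, ← map_inv, ← map_mul, ← map_mul] at hsy ⊢
      set z := x ^ i
      have hzS : z ∈ (S : Subgroup G) := zpow_mem hxS i
      have hz : z ∈ Subgroup.zpowers x := ⟨i, rfl⟩
      have hdiff : s⁻¹ * (a * z * a⁻¹) ∈ O := QuotientGroup.eq.1 hsy
      have hM : a * z * a⁻¹ ∈ (S : Subgroup G) ⊔ O := by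
        have := mul_mem (Subgroup.mem_sup_left (T := O) hs)
          (Subgroup.mem_sup_right (S := (S : Subgroup G)) hdiff)
        simpa using this
      have hsyl : IsSylowIn 2 (S : Subgroup G) ((S : Subgroup G) ⊔ O) :=
        ⟨S.subtype le_sup_left, rfl⟩
      have hU : IsPGroup 2 (Subgroup.zpowers (a * z * a⁻¹)) := by
        have h1 : Subgroup.zpowers (a * z * a⁻¹) =
            (Subgroup.zpowers z).map (MulAut.conj a).toMonoidHom := by
          rw [MonoidHom.map_zpowers]; rfl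
        exact h1 ▸ (S.2.to_le (Subgroup.zpowers_le.2 hzS)).map _
      obtain ⟨m, hm, hmS⟩ := hsyl.exists_conj_le hU (Subgroup.zpowers_le.2 hM)
      have h1 : m * a * z * (m * a)⁻¹ = z := hiso z hz _
        (show m * a * z * (m * a)⁻¹ ∈ (S : Subgroup G) by
          simpa [mul_assoc] using hmS _ (Subgroup.mem_zpowers _))
      have hm' : m ∈ (↑((S : Subgroup G) ⊔ O) : Set G) := hm
      rw [Subgroup.mul_normal] at hm'
      obtain ⟨t, ht, o, ho, rfl⟩ := hm'
      have h2 : t⁻¹ * z * t = z := by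
        have hmem : t⁻¹ * z * t⁻¹⁻¹ ∈ (S : Subgroup G) :=
          mul_mem (mul_mem (inv_mem ht) hzS) (inv_mem (inv_mem ht))
        simpa using hiso z hz t⁻¹ hmem
      have h3 : a * z * a⁻¹ = o⁻¹ * (t⁻¹ * z * t) * o := by
        conv_rhs => rw [← h1]
        simp [mul_assoc]
      rw [h2] at h3
      have ho1 : π o = 1 := (QuotientGroup.eq_one_iff o).2 ho
      rw [h3, map_mul, map_mul, map_inv, ho1]
      simp
    have h1 := ih _ hlt (G ⧸ O) rfl (S.mapSurjective hπs) (π x)
      (show π x ∈ (S : Subgroup G).map π from ⟨x, hxS, rfl⟩) hiso' (π g)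
    rw [CfsgLib.Solvable.pPrimeCore_quotient_eq_bot O hOdef, Subgroup.mem_bot, ← map_inv, ← map_inv,
      ← map_mul, ← map_mul, ← map_mul] at h1
    exact (QuotientGroup.eq_one_iff _).1 h1
  · by_cases hx1 : x = 1
    · subst hx1; simp
    obtain ⟨k, hk⟩ := S.2 ⟨x, hxS⟩
    have hk' : orderOf x ∣ 2 ^ k := orderOf_dvd_of_pow_eq_one (congrArg Subtype.val hk)
    obtain ⟨j, -, hj⟩ := (Nat.dvd_prime_pow Nat.prime_two).1 hk'
    cases j with
    | zero => exact absurd (orderOf_eq_one_iff.1 hj) hx1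
    | succ j =>
    set z := x ^ (2 ^ j) with hz
    have hzo : orderOf z = 2 := by
      rw [hz, orderOf_pow' _ (pow_ne_zero _ two_ne_zero), hj,
        Nat.gcd_eq_right (pow_dvd_pow 2 j.le_succ), pow_succ,
        Nat.mul_div_cancel_left _ (Nat.two_pow_pos j)]
    have hzx : z ∈ Subgroup.zpowers x := Subgroup.pow_mem _ (Subgroup.mem_zpowers x) _
    have hzc : z ∈ Subgroup.center G := by
      refine Subgroup.mem_center_iff.2 fun a => ?_
      have h1 := hZ G z (CfsgLib.Invol.isIsolatedInvolution_of_sylow S hzo (hiso z hzx)) a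
      rw [hO, Subgroup.mem_bot] at h1
      have h2 : z * a * z⁻¹ = a := mul_inv_eq_one.1 h1
      calc a * z = z * a * z⁻¹ * z := by rw [h2]
        _ = z * a := by simp
    set A := Subgroup.zpowers z with hAdef
    have hAc : A ≤ Subgroup.center G := Subgroup.zpowers_le.2 hzc
    have hAn : A.Normal := ⟨fun a ha w => by
      rw [Subgroup.mem_center_iff.1 (hAc ha) w, mul_inv_cancel_right]
      exact ha⟩
    have hAcard : Nat.card A = 2 := by rw [hAdef, Nat.card_zpowers, hzo]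
    have hAS : A ≤ (S : Subgroup G) := Subgroup.zpowers_le.2 (pow_mem hxS _)
    set π := QuotientGroup.mk' A with hπ
    have hπs : Function.Surjective π := QuotientGroup.mk'_surjective A
    have hlt : Nat.card (G ⧸ A) < Nat.card G := by
      rw [Subgroup.card_eq_card_quotient_mul_card_subgroup A, hAcard]
      exact lt_mul_of_one_lt_right Nat.card_pos one_lt_two
    have hiso' : ∀ y ∈ Subgroup.zpowers (π x), ∀ h : G ⧸ A,
        h * y * h⁻¹ ∈ S.mapSurjective hπs → h * y * h⁻¹ = y := by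
      intro y hy h
      obtain ⟨i, rfl⟩ := Subgroup.mem_zpowers_iff.1 hy
      obtain ⟨a, rfl⟩ := hπs h
      intro hmem
      obtain ⟨s, hs, hsy⟩ : _ ∈ (S : Subgroup G).map π := hmem
      rw [← map_zpow, ← map_inv, ← map_mul, ← map_mul] at hsy ⊢
      have hdiff : s⁻¹ * (a * x ^ i * a⁻¹) ∈ A := QuotientGroup.eq.1 hsy
      rw [hiso (x ^ i) ⟨i, rfl⟩ a (show a * x ^ i * a⁻¹ ∈ (S : Subgroup G) by
        simpa using mul_mem hs (hAS hdiff))]
    have h1 := ih _ hlt (G ⧸ A) rfl (S.mapSurjective hπs) (π x)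
      (show π x ∈ (S : Subgroup G).map π from ⟨x, hxS, rfl⟩) hiso' (π g)
    rw [pPrimeCore_quotient_central_two hO A hAcard hAc, Subgroup.mem_bot, ← map_inv, ← map_inv,
      ← map_mul, ← map_mul, ← map_mul] at h1
    have h2 : g * x * g⁻¹ * x⁻¹ ∈ A := (QuotientGroup.eq_one_iff _).1 h1
    have h3 : g * x * g⁻¹ ∈ (S : Subgroup G) := by
      simpa [mul_assoc] using mul_mem (hAS h2) hxS
    rw [hiso x (Subgroup.mem_zpowers x) g h3]
    simp

theorem center_groupFusionSystem (hZ : ZStarInvolution.{u}) (S : Sylow 2 G)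
    [(Cfsg.oddCore G).Normal] :
    (Cfsg.groupFusionSystem (S : Subgroup G)).center =
      (S : Subgroup G) ⊓
        (Subgroup.center (G ⧸ Cfsg.oddCore G)).comap (QuotientGroup.mk' (Cfsg.oddCore G)) := by
  have : Fact (Nat.Prime 2) := ⟨Nat.prime_two⟩
  set F := groupFusionSystem (S : Subgroup G)
  have hF := groupFusionSystem_isSaturated S
  refine le_antisymm (fun x hx => ?_) (CfsgLib.FusionQuot.le_center F ?_)
  · have hc := (isCentral_iff_forall_conjElt S.2 hF).1 (CfsgLib.FusionQuot.isCentral_center F)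
    refine ⟨hc.1 hx, Subgroup.mem_comap.2 (Subgroup.mem_center_iff.2 fun q => ?_)⟩
    obtain ⟨g, rfl⟩ := QuotientGroup.mk'_surjective (Cfsg.oddCore G) q
    have h1 : g * x * g⁻¹ * x⁻¹ ∈ Cfsg.pPrimeCore 2 G := commutator_mem_of_isolated hZ G S x (hc.1 hx)
      (fun y hy g hg => by
        have hyC : y ∈ F.center := Subgroup.zpowers_le.2 hx hy
        refine hc.2 y hyC _ ⟨conjHom (Subgroup.zpowers y) g,
          ⟨Subgroup.zpowers_le.2 (hc.1 hyC), ?_, g, fun _ => rfl⟩, rfl⟩
        rintro ⟨w, hw⟩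
        obtain ⟨i, rfl⟩ := Subgroup.mem_zpowers_iff.1 hw
        show g * y ^ i * g⁻¹ ∈ (S : Subgroup G)
        rw [← conj_zpow]
        exact zpow_mem hg i) g
    have h2 := (QuotientGroup.eq_one_iff _).2 h1
    rw [← map_mul, ← map_mul]
    simp only [QuotientGroup.mk'_apply, QuotientGroup.mk_mul, QuotientGroup.mk_inv] at h2 ⊢
    calc (g : G ⧸ Cfsg.oddCore G) * x = (g * x * (g : G ⧸ Cfsg.oddCore G)⁻¹ * (x : G ⧸ Cfsg.oddCore G)⁻¹) * (x * g) := by simp [mul_assoc]
      _ = x * g := by rw [h2, one_mul]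
  · refine (isCentral_iff_forall_conjElt S.2 hF).2 ⟨inf_le_left, fun x hx y hy => ?_⟩
    obtain ⟨φ, ⟨-, hφS, g, hg⟩, rfl⟩ := hy
    have hyS := hφS ⟨x, Subgroup.mem_zpowers x⟩
    rw [hg] at hyS ⊢
    have h1 : g * x * g⁻¹ * x⁻¹ ∈ Cfsg.oddCore G := by
      refine (QuotientGroup.eq_one_iff _).1 ?_
      have h2 := Subgroup.mem_center_iff.1 (Subgroup.mem_comap.1 hx.2) g
      simp only [QuotientGroup.mk_mul, QuotientGroup.mk_inv]
      rw [show (g : G ⧸ Cfsg.oddCore G) * x = x * g from h2]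
      simp
    have h3 : g * x * g⁻¹ * x⁻¹ ∈ (S : Subgroup G) := mul_mem hyS (inv_mem hx.1)
    have hcop : (Nat.card (S : Subgroup G)).Coprime (Nat.card (Cfsg.oddCore G)) := by
      obtain ⟨k, hk⟩ := S.2.exists_card_eq
      rw [hk]
      exact Nat.Coprime.pow_left k (CfsgLib.Solvable.pPrimeCore_card_coprime 2 G).symm
    have hbot := (Subgroup.disjoint_of_coprime_natCard hcop).eq_bot
    have h4 : g * x * g⁻¹ * x⁻¹ ∈ (⊥ : Subgroup G) := hbot ▸ ⟨h3, h1⟩
    exact mul_inv_eq_one.1 (Subgroup.mem_bot.1 h4)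

end CfsgLib.Fusion
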